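import Mathlib.AlgebraicGeometry.Morphisms.QuasiCompact
import Mathlib.AlgebraicGeometry.PullbackCarrier

set_option autoImplicit false
universe u

namespace Groth.Agent.Lib.Helper41

open AlgebraicGeometry CategoryTheory CategoryTheory.Limits

theorem exists_comap_specializes_of_mem_closure_range {R S : Type*} [CommRing R] [CommRing S]
    (φ : R →+* S) (x : PrimeSpectrum R)
    (hx : x ∈ closure (Set.range (PrimeSpectrum.comap φ))) :
    ∃ p : PrimeSpectrum S, PrimeSpectrum.comap φ p ⤳ x := by
  rw [PrimeSpectrum.closure_range_comap] at hx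
  obtain ⟨q, hq₁, hq₂⟩ := Ideal.exists_minimalPrimes_le (show RingHom.ker φ ≤ x.asIdeal from hx)
  obtain ⟨p', hp', hp'', rfl⟩ := Ideal.exists_comap_eq_of_mem_minimalPrimes φ (I := ⊥) q hq₁
  exact ⟨⟨p', hp'⟩, (PrimeSpectrum.le_iff_specializes _ x).mp hq₂⟩

theorem exists_specializes_of_mem_closure_range {X S : Scheme.{u}} (f : X ⟶ S) [QuasiCompact f]
    (s : S) (hs : s ∈ closure (Set.range f.base)) : ∃ x : X, f.base x ⤳ s := by
  wlog hS : ∃ R, S = Spec R
  · obtain ⟨i, y, rfl⟩ := S.affineCover.exists_eq s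
    let ι := S.affineCover.f i
    have hy : y ∈ closure (Set.range (pullback.snd f ι).base) := by
      rw [Scheme.Pullback.range_snd,
        ← ι.isOpenEmbedding.isOpenMap.preimage_closure_eq_closure_preimage ι.continuous]
      exact hs
    obtain ⟨x, hx⟩ := this (pullback.snd f ι) y hy ⟨_, rfl⟩
    refine ⟨(pullback.fst f ι).base x, ?_⟩
    have h2 : f.base ((pullback.fst f ι).base x) = ι.base ((pullback.snd f ι).base x) := by
      rw [← Scheme.Hom.comp_apply, pullback.condition, Scheme.Hom.comp_apply]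
    rw [h2]
    exact hx.map ι.continuous
  obtain ⟨R, rfl⟩ := hS
  have : CompactSpace X := QuasiCompact.compactSpace_of_compactSpace f
  obtain ⟨A, g, hg⟩ := compactSpace_iff_exists.mp this
  obtain ⟨φ, hφ⟩ := Spec.map_surjective (g ≫ f)
  have hr : Set.range (g ≫ f).base = Set.range f.base := by
    rw [Scheme.Hom.comp_base, TopCat.coe_comp, Set.range_comp, hg.range_eq, Set.image_univ]
  rw [← hr, ← hφ] at hs
  obtain ⟨p, hp⟩ := exists_comap_specializes_of_mem_closure_range φ.hom s hs
  refine ⟨g.base p, ?_⟩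
  have : f.base (g.base p) = (Spec.map φ).base p := by
    rw [hφ, Scheme.Hom.comp_apply]
  rw [this]
  exact hp

end Groth.Agent.Lib.Helper41
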