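import Mathlib
import Groth.Prelude.Def_Rees

/-!
# Charts of `Proj` of the Rees algebra: ring-level facts

For an ideal `I` of `A` and `a ∈ I`, the degree-zero localization `B_a` of the Rees algebra at
`a·t` satisfies: `I · B_a = a · B_a`, `a` is a nonzerodivisor of `B_a`, and every element of `B_a`
becomes an element of `A` after multiplication by a power of `a`.
-/

set_option autoImplicit false
universe u
open Polynomial HomogeneousLocalization

namespace Groth.Agent.Lib.Helper41.ReesChart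

variable {A : Type u} [CommRing A] (I : Ideal A)

/-- The element `x·tⁿ` of the Rees algebra. -/
noncomputable def tmn (n : ℕ) (x : A) (hx : x ∈ I ^ n) : reesAlgebra I :=
  ⟨monomial n x, reesAlgebra.monomial_mem.mpr hx⟩

theorem tmn_mem_deg (n : ℕ) (x : A) (hx : x ∈ I ^ n) :
    tmn I n x hx ∈ Rees.deg (reesAlgebra I) n := by
  rw [Rees.mem_deg_iff]
  intro m hm
  change (monomial n x).coeff m = 0
  rw [coeff_monomial]
  exact if_neg fun h => hm h.symm

theorem eq_tmn_of_mem_deg (n : ℕ) (p : reesAlgebra I) (hp : p ∈ Rees.deg (reesAlgebra I) n) :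
    p = tmn I n ((p : A[X]).coeff n) (p.2 n) := by
  apply Subtype.ext
  ext m
  change _ = (monomial n ((p : A[X]).coeff n)).coeff m
  rw [coeff_monomial]
  split_ifs with h
  · rw [h]
  · exact (Rees.mem_deg_iff _ n p).mp hp m (Ne.symm h)

theorem tmn_mul (m n : ℕ) (x y : A) (hx : x ∈ I ^ m) (hy : y ∈ I ^ n)
    (hxy : x * y ∈ I ^ (m + n)) :
    tmn I m x hx * tmn I n y hy = tmn I (m + n) (x * y) hxy := by
  apply Subtype.ext
  change monomial m x * monomial n y = monomial (m + n) (x * y)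
  rw [monomial_mul_monomial]

theorem tmn_add (n : ℕ) (x y : A) (hx : x ∈ I ^ n) (hy : y ∈ I ^ n) (hxy : x + y ∈ I ^ n) :
    tmn I n (x + y) hxy = tmn I n x hx + tmn I n y hy := by
  apply Subtype.ext
  change monomial n (x + y) = monomial n x + monomial n y
  rw [map_add]

/-- The element `a·t`. -/
noncomputable def tm (a : A) (ha : a ∈ I) : reesAlgebra I :=
  tmn I 1 a (by rwa [pow_one])

theorem tm_mem_deg (a : A) (ha : a ∈ I) : tm I a ha ∈ Rees.deg (reesAlgebra I) 1 :=
  tmn_mem_deg I 1 a _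

theorem coe_tm (a : A) (ha : a ∈ I) : ((tm I a ha : reesAlgebra I) : A[X]) = monomial 1 a := rfl

theorem coe_tmn (n : ℕ) (x : A) (hx : x ∈ I ^ n) :
    ((tmn I n x hx : reesAlgebra I) : A[X]) = monomial n x := rfl

theorem coe_algebraMap (r : A) :
    ((algebraMap A (reesAlgebra I) r : reesAlgebra I) : A[X]) = C r := rfl

/-- The irrelevant ideal of the Rees algebra is generated by the `a·t`, `a ∈ I`. -/
theorem tmn_mem_span (n : ℕ) (hn : 0 < n) (x : A) (hx : x ∈ I ^ n) :
    tmn I n x hx ∈ Ideal.span (Set.range fun a : I => tm I a.1 a.2) := by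
  obtain ⟨k, rfl⟩ : ∃ k, n = k + 1 := ⟨n - 1, by omega⟩
  have hx' : x ∈ I ^ k * I := by rwa [← pow_succ]
  have hle : ∀ y, y ∈ I ^ k * I → y ∈ I ^ (k + 1) := fun y hy => by rwa [pow_succ]
  refine Submodule.mul_induction_on'
    (C := fun y hy => tmn I (k + 1) y (hle y hy) ∈
      Ideal.span (Set.range fun a : I => tm I a.1 a.2)) ?_ ?_ hx'
  · intro z hz a ha
    rw [← tmn_mul I k 1 z a hz (by rwa [pow_one]) _]
    exact Ideal.mul_mem_left _ _ (Ideal.subset_span ⟨⟨a, ha⟩, rfl⟩)
  · intro y₁ h₁ y₂ h₂ ih₁ ih₂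
    rw [tmn_add I (k + 1) y₁ y₂ (hle _ h₁) (hle _ h₂)]
    exact Ideal.add_mem _ ih₁ ih₂

theorem irrelevant_le_span :
    (HomogeneousIdeal.irrelevant (Rees.deg (reesAlgebra I))).toIdeal ≤
      Ideal.span (Set.range fun a : I => tm I a.1 a.2) := by
  classical
  intro p hp
  rw [← DirectSum.sum_support_decompose (Rees.deg (reesAlgebra I)) p]
  refine Ideal.sum_mem _ fun n _ => ?_
  by_cases hn0 : n = 0
  · subst hn0
    have h0 : (DirectSum.decompose (Rees.deg (reesAlgebra I)) p 0 : reesAlgebra I) = 0 :=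
      (HomogeneousIdeal.mem_irrelevant_iff _ _).mp hp
    rw [h0]; exact Ideal.zero_mem _
  · have hmem := (DirectSum.decompose (Rees.deg (reesAlgebra I)) p n).2
    rw [eq_tmn_of_mem_deg I n _ hmem]
    exact tmn_mem_span I n (Nat.pos_of_ne_zero hn0) _ _

section Away

/-- `A → (Rees)₀`. -/
noncomputable def ι₀ : A →+* ↥(Rees.deg (reesAlgebra I) 0) where
  toFun r := ⟨algebraMap A (reesAlgebra I) r, SetLike.algebraMap_mem_graded _ r⟩
  map_one' := Subtype.ext (map_one _)
  map_mul' x y := Subtype.ext (map_mul _ x y)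
  map_zero' := Subtype.ext (map_zero _)
  map_add' x y := Subtype.ext (map_add _ x y)

variable (a : A) (ha : a ∈ I)

/-- The structure map `A → B_a` of the chart ring `B_a = (Rees_{a t})₀`. -/
noncomputable def ιB : A →+* Away (Rees.deg (reesAlgebra I)) (tm I a ha) :=
  (fromZeroRingHom (Rees.deg (reesAlgebra I)) (Submonoid.powers (tm I a ha))).comp (ι₀ I)

theorem val_ιB (r : A) :
    (ιB I a ha r).val = algebraMap (reesAlgebra I) (Localization.Away (tm I a ha))
      (algebraMap A (reesAlgebra I) r) := by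
  change Localization.mk _ _ = _
  rw [Localization.mk_eq_mk']
  exact IsLocalization.mk'_one _ _

theorem ιB_pow_mul_mk (n : ℕ) (p : reesAlgebra I)
    (hp : p ∈ Rees.deg (reesAlgebra I) (n • 1)) (y : A)
    (h : algebraMap A (reesAlgebra I) (a ^ n) * p =
      algebraMap A (reesAlgebra I) y * (tm I a ha) ^ n) :
    ιB I a ha a ^ n * Away.mk (Rees.deg (reesAlgebra I)) (tm_mem_deg I a ha) n p hp =
      ιB I a ha y := by
  apply val_injective
  rw [val_mul, val_pow, val_ιB, val_ιB, Away.val_mk, Localization.mk_eq_mk', ← map_pow,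
    ← map_pow, IsLocalization.mul_mk'_eq_mk'_of_mul, IsLocalization.mk'_eq_iff_eq_mul,
    ← map_mul]
  exact congrArg _ h

theorem ιB_pow_mul_mk_tmn (n : ℕ) (x : A) (hx : x ∈ I ^ n)
    (hp : tmn I n x hx ∈ Rees.deg (reesAlgebra I) (n • 1)) :
    ιB I a ha a ^ n * Away.mk (Rees.deg (reesAlgebra I)) (tm_mem_deg I a ha) n (tmn I n x hx) hp =
      ιB I a ha x := by
  apply ιB_pow_mul_mk
  apply Subtype.ext
  change C (a ^ n) * monomial n x = C x * (monomial 1 a) ^ n
  rw [C_mul_monomial, monomial_pow, one_mul, C_mul_monomial, mul_comm]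

/-- Every element of `B_a` becomes an element of `Iⁿ ⊆ A` after multiplication by `aⁿ`. -/
theorem exists_pow_mul_eq (β : Away (Rees.deg (reesAlgebra I)) (tm I a ha)) :
    ∃ (n : ℕ) (x : A), x ∈ I ^ n ∧ ιB I a ha a ^ n * β = ιB I a ha x := by
  obtain ⟨n, p, hp, rfl⟩ :=
    Away.mk_surjective (Rees.deg (reesAlgebra I)) (tm_mem_deg I a ha) β
  have hp' : p ∈ Rees.deg (reesAlgebra I) n := by simpa using hp
  have hpn := eq_tmn_of_mem_deg I n p hp'
  refine ⟨n, (p : A[X]).coeff n, p.2 n, ?_⟩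
  have := ιB_pow_mul_mk_tmn I a ha n ((p : A[X]).coeff n) (p.2 n) (by rw [← hpn]; exact hp)
  rw [← this]
  congr 2

/-- `I · B_a ⊆ a · B_a`. -/
theorem exists_mul_eq (x : A) (hx : x ∈ I) :
    ∃ y : Away (Rees.deg (reesAlgebra I)) (tm I a ha), ιB I a ha x = ιB I a ha a * y := by
  have h := ιB_pow_mul_mk_tmn I a ha 1 x (by rwa [pow_one])
    (by simpa using tmn_mem_deg I 1 x (by rwa [pow_one]))
  rw [pow_one (ιB I a ha a)] at h
  exact ⟨_, h.symm⟩

theorem map_ιB_eq_span : I.map (ιB I a ha) = Ideal.span {ιB I a ha a} := by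
  apply le_antisymm
  · rw [Ideal.map_le_iff_le_comap]
    intro x hx
    obtain ⟨y, hy⟩ := exists_mul_eq I a ha x hx
    rw [Ideal.mem_comap, hy]
    exact Ideal.mul_mem_right _ _ (Ideal.mem_span_singleton_self _)
  · rw [Ideal.span_singleton_le_iff_mem]
    exact Ideal.mem_map_of_mem _ ha

/-- `a` is a nonzerodivisor of `B_a`. -/
theorem ιB_mem_nonZeroDivisors :
    ιB I a ha a ∈ nonZeroDivisors (Away (Rees.deg (reesAlgebra I)) (tm I a ha)) := by
  refine (mem_nonZeroDivisors_iff_right
    (M₀ := Away (Rees.deg (reesAlgebra I)) (tm I a ha))).mpr fun β hβ => ?_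
  obtain ⟨n, p, hp, rfl⟩ :=
    Away.mk_surjective (Rees.deg (reesAlgebra I)) (tm_mem_deg I a ha) β
  have h1 := congrArg HomogeneousLocalization.val hβ
  rw [val_mul, val_zero, val_ιB, Away.val_mk, Localization.mk_eq_mk', mul_comm,
    IsLocalization.mul_mk'_eq_mk'_of_mul, IsLocalization.mk'_eq_zero_iff] at h1
  obtain ⟨⟨_, k, rfl⟩, hk⟩ := h1
  apply val_injective
  rw [val_zero, Away.val_mk, Localization.mk_eq_mk', IsLocalization.mk'_eq_zero_iff]
  refine ⟨⟨tm I a ha ^ (k + 1), k + 1, rfl⟩, ?_⟩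
  apply Subtype.ext
  have hk' := congrArg (Subtype.val : reesAlgebra I → A[X]) hk
  change (monomial 1 a) ^ k * (C a * (p : A[X])) = 0 at hk'
  change (monomial 1 a) ^ (k + 1) * (p : A[X]) = 0
  have hmon : (monomial 1 a : A[X]) = C a * X := by
    rw [← monomial_one_one_eq_X, C_mul_monomial, mul_one]
  calc (monomial 1 a) ^ (k + 1) * (p : A[X])
      = X * ((monomial 1 a) ^ k * (C a * (p : A[X]))) := by
        rw [pow_succ, hmon]; ring
    _ = 0 := by rw [hk', mul_zero]

end Away

section Overlap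

variable (a b : A) (ha : a ∈ I) (hb : b ∈ I)

/-- In `B_b`, `b · (a t / b t) = a`. -/
theorem ιB_mul_isLocalizationElem :
    ιB I b hb b * Away.isLocalizationElem (tm_mem_deg I b hb) (tm_mem_deg I a ha) =
      ιB I b hb a := by
  have h := ιB_pow_mul_mk I b hb 1 (tm I a ha ^ 1)
    (by simpa using tm_mem_deg I a ha) a (by
      apply Subtype.ext
      change C (b ^ 1) * (monomial 1 a) ^ 1 = C a * (monomial 1 b) ^ 1
      rw [pow_one, pow_one, pow_one, C_mul_monomial, C_mul_monomial, mul_comm])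
  rw [pow_one (ιB I b hb b)] at h
  exact h

end Overlap

section Theta

variable {C : Type u} [CommRing C] (φ : A →+* C) (c : C)

/-- The evaluation `x tⁿ ↦ φ x / cⁿ` with values in `C[1/c]`. -/
noncomputable def ΘL : reesAlgebra I →+* Localization.Away c :=
  (Polynomial.eval₂RingHom ((algebraMap C (Localization.Away c)).comp φ)
    (IsLocalization.Away.invSelf c)).comp (reesAlgebra I).val.toRingHom

theorem ΘL_apply (p : reesAlgebra I) :
    ΘL I φ c p = Polynomial.eval₂ ((algebraMap C (Localization.Away c)).comp φ)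
      (IsLocalization.Away.invSelf c) (p : A[X]) := rfl

variable (hIc : I.map φ = Ideal.span {c})

include hIc in
theorem ΘL_mem_range (p : reesAlgebra I) :
    ΘL I φ c p ∈ (algebraMap C (Localization.Away c)).range := by
  rw [ΘL_apply, eval₂_eq_sum_range]
  refine Subring.sum_mem _ fun i _ => ?_
  have h1 : φ ((p : A[X]).coeff i) ∈ Ideal.span {c ^ i} := by
    rw [← Ideal.span_singleton_pow, ← hIc, ← Ideal.map_pow]
    exact Ideal.mem_map_of_mem _ (p.2 i)
  obtain ⟨y, hy⟩ := Ideal.mem_span_singleton'.mp h1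
  refine ⟨y, ?_⟩
  rw [RingHom.comp_apply, ← hy, map_mul, map_pow, mul_assoc, ← mul_pow,
    IsLocalization.Away.mul_invSelf, one_pow, mul_one]

variable (hc : c ∈ nonZeroDivisors C)

include hc in
theorem algebraMap_injective : Function.Injective (algebraMap C (Localization.Away c)) :=
  IsLocalization.injective (Localization.Away c)
    (Submonoid.powers_le.mpr hc)

/-- The ring homomorphism `Rees(I) → C`, `x tⁿ ↦ φ x / cⁿ`, for a nonzerodivisor `c` with
`I · C = c · C`. -/
noncomputable def Θ : reesAlgebra I →+* C :=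
  ((RingEquiv.ofBijective (algebraMap C (Localization.Away c)).rangeRestrict
    ⟨fun _ _ h => algebraMap_injective c hc (congrArg Subtype.val h),
      (algebraMap C (Localization.Away c)).rangeRestrict_surjective⟩).symm : _ →+* C).comp
    ((ΘL I φ c).codRestrict (algebraMap C (Localization.Away c)).range
      (ΘL_mem_range I φ c hIc))

theorem algebraMap_Θ (p : reesAlgebra I) :
    algebraMap C (Localization.Away c) (Θ I φ c hIc hc p) = ΘL I φ c p := by
  have h := (RingEquiv.ofBijective (algebraMap C (Localization.Away c)).rangeRestrict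
    ⟨fun _ _ h => algebraMap_injective c hc (congrArg Subtype.val h),
      (algebraMap C (Localization.Away c)).rangeRestrict_surjective⟩).apply_symm_apply
    ((ΘL I φ c).codRestrict (algebraMap C (Localization.Away c)).range
      (ΘL_mem_range I φ c hIc) p)
  exact congrArg Subtype.val h

theorem Θ_algebraMap (r : A) : Θ I φ c hIc hc (algebraMap A (reesAlgebra I) r) = φ r := by
  apply algebraMap_injective c hc
  rw [algebraMap_Θ, ΘL_apply, coe_algebraMap, eval₂_C]
  rfl

theorem pow_mul_Θ_tmn (n : ℕ) (x : A) (hx : x ∈ I ^ n) :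
    c ^ n * Θ I φ c hIc hc (tmn I n x hx) = φ x := by
  apply algebraMap_injective c hc
  rw [map_mul, map_pow, algebraMap_Θ, ΘL_apply, coe_tmn, eval₂_monomial, RingHom.comp_apply,
    mul_left_comm, ← mul_pow, IsLocalization.Away.mul_invSelf, one_pow, mul_one]

theorem mul_Θ_tm (x : A) (hx : x ∈ I) : c * Θ I φ c hIc hc (tm I x hx) = φ x := by
  have := pow_mul_Θ_tmn I φ c hIc hc 1 x (by rwa [pow_one])
  rwa [pow_one] at this

/-- The image of the irrelevant ideal generates the unit ideal. -/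
theorem map_Θ_irrelevant :
    (HomogeneousIdeal.irrelevant (Rees.deg (reesAlgebra I))).toIdeal.map (Θ I φ c hIc hc) = ⊤ := by
  set K := (HomogeneousIdeal.irrelevant (Rees.deg (reesAlgebra I))).toIdeal.map
    (Θ I φ c hIc hc) with hK
  have hle : I.map φ ≤ Ideal.span {c} * K := by
    rw [Ideal.map_le_iff_le_comap]
    intro x hx
    rw [Ideal.mem_comap, ← mul_Θ_tm I φ c hIc hc x hx]
    refine Ideal.mul_mem_mul (Ideal.mem_span_singleton_self c) ?_
    apply Ideal.mem_map_of_mem
    refine (HomogeneousIdeal.mem_irrelevant_iff _ _).mpr ?_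
    exact DirectSum.decompose_of_mem_ne _ (tm_mem_deg I x hx) one_ne_zero
  have hcmem : c ∈ Ideal.span {c} * K := hle (hIc ▸ Ideal.mem_span_singleton_self c)
  obtain ⟨k, hk, hck⟩ := Ideal.mem_span_singleton_mul.mp hcmem
  have hk1 : k = 1 := by
    have h0 : c * (k - 1) = 0 := by rw [mul_sub, hck, mul_one, sub_self]
    have := (mem_nonZeroDivisors_iff.mp hc).1 _ h0
    exact sub_eq_zero.mp this
  rw [Ideal.eq_top_iff_one, ← hk1]
  exact hk

end Theta

end Groth.Agent.Lib.Helper41.ReesChart
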