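import Mathlib
import Groth.Agent.Lib.Helper41.ReesChart
import Groth.Agent.Lib.Helper82.BlowUpPullback
import Groth.Prelude.Def_BlowUp2

/-!
# Existence of blow-ups of affine schemes: `Proj` of the Rees algebra
-/

set_option autoImplicit false
universe u
open CategoryTheory CategoryTheory.Limits AlgebraicGeometry HomogeneousLocalization

namespace Groth.Agent.Lib.Helper41.BlowUpAffine

open Groth.Agent.Lib.Helper82 Groth.Agent.Lib.Helper41.ReesChart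

/-- Effective Cartier-ness at a point can be checked after pulling back along an open immersion. -/
theorem effCartierAt_of_comap_openImmersion {P V : Scheme.{u}} (K : P.IdealSheafData)
    (j : V ⟶ P) [IsOpenImmersion j] (U : V.affineOpens) (x : V) (hx : x ∈ U.1)
    (h : IsPrincipalNZD ((K.comap j).ideal U)) :
    ∃ W : P.affineOpens, j x ∈ W.1 ∧
      ∃ f : Γ(P, W.1), f ∈ nonZeroDivisors Γ(P, W.1) ∧ K.ideal W = Ideal.span {f} := by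
  rw [Scheme.IdealSheafData.ideal_comap_of_isOpenImmersion] at h
  refine ⟨⟨j ''ᵁ U.1, U.2.image_of_isOpenImmersion j⟩, ⟨x, hx, rfl⟩, ?_⟩
  exact IsPrincipalNZD.of_comap_iso_inv (j.appIso U.1) h

theorem appTop_SpecMap_comp_isoSpec_inv {X : Scheme.{u}} [IsAffine X] {B : CommRingCat.{u}}
    (ψ : Γ(X, ⊤) ⟶ B) :
    (Spec.map ψ ≫ X.isoSpec.inv).appTop = ψ ≫ (Scheme.ΓSpecIso B).inv := by
  have h1 : X.isoSpec.inv.appTop = (Scheme.ΓSpecIso Γ(X, ⊤)).inv := by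
    have h2 : X.isoSpec.hom.appTop ≫ X.isoSpec.inv.appTop = 𝟙 _ := by
      rw [← Scheme.Hom.comp_appTop, Iso.inv_hom_id]
      rfl
    rw [Scheme.isoSpec_hom, Scheme.toSpecΓ_appTop] at h2
    rw [← cancel_epi (Scheme.ΓSpecIso Γ(X, ⊤)).hom, h2, Iso.hom_inv_id]
  rw [Scheme.Hom.comp_appTop, h1, ← cancel_mono (Scheme.ΓSpecIso B).hom, Category.assoc,
    Scheme.ΓSpecIso_naturality, Iso.inv_hom_id_assoc, Category.assoc, Iso.inv_hom_id,
    Category.comp_id]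

/-- The ring map `B ⟶ Γ(N, ⊤)` of a morphism `N ⟶ Spec B`. -/
noncomputable def ringMapOf {N : Scheme.{u}} {B : CommRingCat.{u}} (k : N ⟶ Spec B) :
    B ⟶ Γ(N, ⊤) :=
  (Scheme.ΓSpecIso B).inv ≫ k.appTop

theorem ringMapOf_comp {N X : Scheme.{u}} [IsAffine X] {B : CommRingCat.{u}} (k : N ⟶ Spec B)
    (ψ : Γ(X, ⊤) ⟶ B) : ψ ≫ ringMapOf k = (k ≫ Spec.map ψ ≫ X.isoSpec.inv).appTop := by
  rw [Scheme.Hom.comp_appTop, appTop_SpecMap_comp_isoSpec_inv, Category.assoc]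
  rfl

theorem ringMapOf_injective {N : Scheme.{u}} {B : CommRingCat.{u}} (k₁ k₂ : N ⟶ Spec B)
    (h : ringMapOf k₁ = ringMapOf k₂) : k₁ = k₂ := by
  apply ext_of_isAffine
  rwa [ringMapOf, ringMapOf, cancel_epi] at h

theorem preimage_basicOpen_eq_top {N : Scheme.{u}} {B : CommRingCat.{u}} (k : N ⟶ Spec B) (r : B)
    (hr : IsUnit ((ringMapOf k).hom r)) :
    k ⁻¹ᵁ (PrimeSpectrum.basicOpen r) = ⊤ := by
  rw [← basicOpen_eq_of_affine, Scheme.preimage_basicOpen]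
  exact Scheme.basicOpen_of_isUnit _ hr

theorem mem_nonZeroDivisors_of_span_eq {R : Type*} [CommRing R] {J : Ideal R}
    (hJ : IsPrincipalNZD J) (r : R) (hr : J = Ideal.span {r}) : r ∈ nonZeroDivisors R := by
  obtain ⟨c, hc, rfl⟩ := hJ
  have h3 : c ∈ Ideal.span {r} := by rw [← hr]; exact Ideal.mem_span_singleton_self _
  obtain ⟨b, hb⟩ := Ideal.mem_span_singleton'.mp h3
  rw [mem_nonZeroDivisors_iff_right]
  intro x hx
  apply (mem_nonZeroDivisors_iff_right.mp hc)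
  rw [← hb, mul_left_comm, hx, mul_zero]

theorem hom_ext_of_forall_exists_open {Y Z : Scheme.{u}} (h₁ h₂ : Y ⟶ Z)
    (h : ∀ y : Y, ∃ N : Y.Opens, y ∈ N ∧ N.ι ≫ h₁ = N.ι ≫ h₂) : h₁ = h₂ := by
  choose N hN hN' using h
  have hcov : TopologicalSpace.IsOpenCover N := by
    rw [TopologicalSpace.IsOpenCover, eq_top_iff]
    intro y _
    exact TopologicalSpace.Opens.mem_iSup.mpr ⟨y, hN y⟩
  exact (Y.openCoverOfIsOpenCover N hcov).hom_ext _ _ (fun y => hN' y)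

variable {X : Scheme.{u}} [IsAffine X] (𝓘 : X.IdealSheafData)

/-- The ideal of global sections. -/
abbrev topIdeal : Ideal Γ(X, ⊤) := 𝓘.ideal ⟨⊤, isAffineOpen_top X⟩

/-- The blow-up of an affine scheme: `Proj` of the Rees algebra. -/
noncomputable abbrev Bl : Scheme.{u} := Proj (Rees.deg (reesAlgebra (topIdeal 𝓘)))

/-- The structure morphism of the blow-up. -/
noncomputable def π : Bl 𝓘 ⟶ X :=
  Proj.toSpecZero (Rees.deg (reesAlgebra (topIdeal 𝓘))) ≫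
    Spec.map (CommRingCat.ofHom (ι₀ (topIdeal 𝓘))) ≫ X.isoSpec.inv

/-- The chart `Spec B_a ⟶ Bl`. -/
noncomputable abbrev chart (a : Γ(X, ⊤)) (ha : a ∈ topIdeal 𝓘) :
    Spec (CommRingCat.of (Away (Rees.deg (reesAlgebra (topIdeal 𝓘))) (tm (topIdeal 𝓘) a ha))) ⟶
      Bl 𝓘 :=
  Proj.awayι (Rees.deg (reesAlgebra (topIdeal 𝓘))) (tm (topIdeal 𝓘) a ha)
    (tm_mem_deg (topIdeal 𝓘) a ha) one_pos

theorem chart_π (a : Γ(X, ⊤)) (ha : a ∈ topIdeal 𝓘) :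
    chart 𝓘 a ha ≫ π 𝓘 =
      Spec.map (CommRingCat.ofHom (ιB (topIdeal 𝓘) a ha)) ≫ X.isoSpec.inv := by
  rw [π, Proj.awayι_toSpecZero_assoc, ← Spec.map_comp_assoc, ← CommRingCat.ofHom_comp]
  rfl

theorem exists_mem_range_chart (p : Bl 𝓘) :
    ∃ (a : Γ(X, ⊤)) (ha : a ∈ topIdeal 𝓘), p ∈ (chart 𝓘 a ha).opensRange := by
  have h := Proj.iSup_basicOpen_eq_top (Rees.deg (reesAlgebra (topIdeal 𝓘)))
    (fun a : topIdeal 𝓘 => tm (topIdeal 𝓘) a.1 a.2) (irrelevant_le_span (topIdeal 𝓘))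
  have hp : p ∈ (⊤ : (Bl 𝓘).Opens) := trivial
  rw [← h] at hp
  obtain ⟨a, ha⟩ := TopologicalSpace.Opens.mem_iSup.mp hp
  refine ⟨a.1, a.2, ?_⟩
  rw [Proj.opensRange_awayι]
  exact ha

/-- `𝓘 · 𝒪_{Bl}` is an effective Cartier divisor. -/
theorem isEffCartierIdeal_comap_π : BlowUp.IsEffCartierIdeal (𝓘.comap (π 𝓘)) := by
  intro p
  obtain ⟨a, ha, x, rfl⟩ := exists_mem_range_chart 𝓘 p
  refine effCartierAt_of_comap_openImmersion (𝓘.comap (π 𝓘)) (chart 𝓘 a ha)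
    ⟨⊤, isAffineOpen_top _⟩ x trivial ?_
  rw [← Scheme.IdealSheafData.comap_comp, chart_π, ideal_comap_top_of_isAffine,
    appTop_SpecMap_comp_isoSpec_inv, CommRingCat.hom_comp, ← Ideal.map_map]
  refine IsPrincipalNZD.map_of_flat _ (RingHom.Flat.of_bijective
    (ConcreteCategory.bijective_of_isIso (Scheme.ΓSpecIso _).inv)) ?_
  exact ⟨ιB (topIdeal 𝓘) a ha a, ιB_mem_nonZeroDivisors (topIdeal 𝓘) a ha,
    map_ιB_eq_span (topIdeal 𝓘) a ha⟩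

/-- Local existence of the lift: affine source on which `𝓘` becomes principal, generated by a
nonzerodivisor. -/
theorem exists_lift_of_isAffine {Y : Scheme.{u}} [IsAffine Y] (g : Y ⟶ X)
    (h : IsPrincipalNZD ((𝓘.comap g).ideal ⟨⊤, isAffineOpen_top Y⟩)) :
    ∃ h : Y ⟶ Bl 𝓘, h ≫ π 𝓘 = g := by
  obtain ⟨c, hc, hIc⟩ := h
  rw [ideal_comap_top_of_isAffine] at hIc
  refine ⟨Proj.fromOfGlobalSections _ (Θ (topIdeal 𝓘) g.appTop.hom c hIc hc)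
    (map_Θ_irrelevant _ _ _ hIc hc), ?_⟩
  rw [π, Proj.fromOfGlobalSections_toSpecZero_assoc, ← Spec.map_comp_assoc,
    ← CommRingCat.ofHom_comp]
  have h1 : ((Θ (topIdeal 𝓘) g.appTop.hom c hIc hc).comp
      (algebraMap _ _)).comp (ι₀ (topIdeal 𝓘)) = g.appTop.hom := by
    ext r
    exact Θ_algebraMap _ _ _ hIc hc r
  rw [h1]
  change Y.toSpecΓ ≫ Spec.map g.appTop ≫ X.isoSpec.inv = g
  rw [← Scheme.toSpecΓ_naturality_assoc, Scheme.toSpecΓ_isoSpec_inv, Category.comp_id]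

section Unique

variable {N : Scheme.{u}} (a : Γ(X, ⊤)) (ha : a ∈ topIdeal 𝓘)
  (k : N ⟶ Spec (CommRingCat.of
    (Away (Rees.deg (reesAlgebra (topIdeal 𝓘))) (tm (topIdeal 𝓘) a ha))))

theorem ringMapOf_ιB (r : Γ(X, ⊤)) :
    (ringMapOf k).hom (ιB (topIdeal 𝓘) a ha r) = (k ≫ chart 𝓘 a ha ≫ π 𝓘).appTop.hom r := by
  rw [chart_π, ← ringMapOf_comp]
  rfl

/-- On a scheme mapping to the chart `D₊(a t)`, the pulled-back ideal is generated by `a`. -/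
theorem map_appTop_eq_span :
    (topIdeal 𝓘).map (k ≫ chart 𝓘 a ha ≫ π 𝓘).appTop.hom =
      Ideal.span {(k ≫ chart 𝓘 a ha ≫ π 𝓘).appTop.hom a} := by
  have h1 : (k ≫ chart 𝓘 a ha ≫ π 𝓘).appTop.hom =
      (ringMapOf k).hom.comp (ιB (topIdeal 𝓘) a ha) := by
    ext r
    exact (ringMapOf_ιB 𝓘 a ha k r).symm
  rw [h1, ← Ideal.map_map, map_ιB_eq_span, Ideal.map_span, Set.image_singleton]
  rfl

/-- Morphisms into a chart over `X` are determined when `a` is a nonzerodivisor on the source. -/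
theorem chart_lift_unique
    (k₁ k₂ : N ⟶ Spec (CommRingCat.of
      (Away (Rees.deg (reesAlgebra (topIdeal 𝓘))) (tm (topIdeal 𝓘) a ha))))
    (h : k₁ ≫ chart 𝓘 a ha ≫ π 𝓘 = k₂ ≫ chart 𝓘 a ha ≫ π 𝓘)
    (hnzd : (k₁ ≫ chart 𝓘 a ha ≫ π 𝓘).appTop.hom a ∈ nonZeroDivisors Γ(N, ⊤)) : k₁ = k₂ := by
  apply ringMapOf_injective
  ext β
  obtain ⟨n, x, -, hx⟩ := exists_pow_mul_eq (topIdeal 𝓘) a ha β
  have key : ∀ κ : Away (Rees.deg (reesAlgebra (topIdeal 𝓘))) (tm (topIdeal 𝓘) a ha) →+* Γ(N, ⊤),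
      κ (ιB (topIdeal 𝓘) a ha a) ^ n * κ β = κ (ιB (topIdeal 𝓘) a ha x) := fun κ => by
    rw [← map_pow, ← map_mul, hx]
  have e₁ := key (ringMapOf k₁).hom
  have e₂ := key (ringMapOf k₂).hom
  rw [ringMapOf_ιB, ringMapOf_ιB] at e₁ e₂
  rw [← h] at e₂
  have hn := pow_mem hnzd n
  have h0 := (mem_nonZeroDivisors_iff.mp hn).1
    ((ringMapOf k₁).hom β - (ringMapOf k₂).hom β) (by rw [mul_sub, e₁, e₂, sub_self])
  exact sub_eq_zero.mp h0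

end Unique

set_option maxHeartbeats 1600000 in
/-- Uniqueness of lifts to the blow-up. -/
theorem lift_unique {Y : Scheme.{u}} (g : Y ⟶ X) (hD : BlowUp.IsEffCartierIdeal (𝓘.comap g))
    (h₁ h₂ : Y ⟶ Bl 𝓘) (e₁ : h₁ ≫ π 𝓘 = g) (e₂ : h₂ ≫ π 𝓘 = g) : h₁ = h₂ := by
  apply hom_ext_of_forall_exists_open
  intro y
  obtain ⟨a, ha, hya⟩ := exists_mem_range_chart 𝓘 (h₁ y)
  obtain ⟨b, hb, hyb⟩ := exists_mem_range_chart 𝓘 (h₂ y)
  obtain ⟨N, hyN, hNV, hNp⟩ := exists_affine_isPrincipalNZD_le (𝓘.comap g) hD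
    (h₁ ⁻¹ᵁ (chart 𝓘 a ha).opensRange ⊓ h₂ ⁻¹ᵁ (chart 𝓘 b hb).opensRange) y ⟨hya, hyb⟩
  refine ⟨N.1, hyN, ?_⟩
  haveI : IsAffine N.1 := N.2
  have hNp' : IsPrincipalNZD ((topIdeal 𝓘).map (N.1.ι ≫ g).appTop.hom) := by
    have := (isPrincipalNZD_iff_comap_ι (𝓘.comap g) N.1 N.2).mp hNp
    rwa [← Scheme.IdealSheafData.comap_comp, ideal_comap_top_of_isAffine] at this
  have hr₁ : Set.range (N.1.ι ≫ h₁) ⊆ Set.range (chart 𝓘 a ha) := by
    rintro _ ⟨w, rfl⟩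
    exact (hNV w.2).1
  have hr₂ : Set.range (N.1.ι ≫ h₂) ⊆ Set.range (chart 𝓘 b hb) := by
    rintro _ ⟨w, rfl⟩
    exact (hNV w.2).2
  let k₁ := IsOpenImmersion.lift (chart 𝓘 a ha) (N.1.ι ≫ h₁) hr₁
  let k₂ := IsOpenImmersion.lift (chart 𝓘 b hb) (N.1.ι ≫ h₂) hr₂
  have hk₁ : k₁ ≫ chart 𝓘 a ha = N.1.ι ≫ h₁ := IsOpenImmersion.lift_fac _ _ _
  have hk₂ : k₂ ≫ chart 𝓘 b hb = N.1.ι ≫ h₂ := IsOpenImmersion.lift_fac _ _ _
  have hg₁ : k₁ ≫ chart 𝓘 a ha ≫ π 𝓘 = N.1.ι ≫ g := by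
    rw [← Category.assoc, hk₁, Category.assoc, e₁]
  have hg₂ : k₂ ≫ chart 𝓘 b hb ≫ π 𝓘 = N.1.ι ≫ g := by
    rw [← Category.assoc, hk₂, Category.assoc, e₂]
  have hgen₁ := map_appTop_eq_span 𝓘 a ha k₁
  rw [hg₁] at hgen₁
  have hgen₂ := map_appTop_eq_span 𝓘 b hb k₂
  rw [hg₂] at hgen₂
  have hnzd_a := mem_nonZeroDivisors_of_span_eq hNp' _ hgen₁
  have hσ : (N.1.ι ≫ g).appTop.hom b * (ringMapOf k₂).hom
      (Away.isLocalizationElem (tm_mem_deg (topIdeal 𝓘) b hb) (tm_mem_deg (topIdeal 𝓘) a ha)) =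
        (N.1.ι ≫ g).appTop.hom a := by
    have key : ∀ κ : Away (Rees.deg (reesAlgebra (topIdeal 𝓘))) (tm (topIdeal 𝓘) b hb) →+*
        Γ(N.1, ⊤), κ (ιB (topIdeal 𝓘) b hb b) * κ (Away.isLocalizationElem
          (tm_mem_deg (topIdeal 𝓘) b hb) (tm_mem_deg (topIdeal 𝓘) a ha)) =
          κ (ιB (topIdeal 𝓘) b hb a) := fun κ => by
      rw [← map_mul, ιB_mul_isLocalizationElem]
    have := key (ringMapOf k₂).hom
    rwa [ringMapOf_ιB, ringMapOf_ιB, hg₂] at this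
  have hunit : IsUnit ((ringMapOf k₂).hom
      (Away.isLocalizationElem (tm_mem_deg (topIdeal 𝓘) b hb)
        (tm_mem_deg (topIdeal 𝓘) a ha))) := by
    have hb_mem : (N.1.ι ≫ g).appTop.hom b ∈ Ideal.span {(N.1.ι ≫ g).appTop.hom a} := by
      rw [← hgen₁, hgen₂]; exact Ideal.mem_span_singleton_self _
    obtain ⟨v, hv⟩ := Ideal.mem_span_singleton'.mp hb_mem
    have h0 : (N.1.ι ≫ g).appTop.hom a * (v * (ringMapOf k₂).hom
        (Away.isLocalizationElem (tm_mem_deg (topIdeal 𝓘) b hb)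
          (tm_mem_deg (topIdeal 𝓘) a ha)) - 1) = 0 := by
      rw [mul_sub, mul_one, ← mul_assoc, mul_comm _ v, hv, hσ, sub_self]
    have h1 := (mem_nonZeroDivisors_iff.mp hnzd_a).1 _ h0
    exact IsUnit.of_mul_eq_one_right v (sub_eq_zero.mp h1)
  have hr₂' : Set.range (N.1.ι ≫ h₂) ⊆ Set.range (chart 𝓘 a ha) := by
    rintro _ ⟨w, rfl⟩
    have htop := preimage_basicOpen_eq_top k₂ _ hunit
    have hw : w ∈ k₂ ⁻¹ᵁ PrimeSpectrum.basicOpen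
        (Away.isLocalizationElem (tm_mem_deg (topIdeal 𝓘) b hb)
          (tm_mem_deg (topIdeal 𝓘) a ha)) := by
      rw [htop]; trivial
    rw [← Proj.awayι_preimage_basicOpen (Rees.deg (reesAlgebra (topIdeal 𝓘)))
      (tm_mem_deg (topIdeal 𝓘) b hb) one_pos (tm_mem_deg (topIdeal 𝓘) a ha) one_pos] at hw
    have hw' : (chart 𝓘 b hb) (k₂ w) ∈ (chart 𝓘 a ha).opensRange := by
      rw [Proj.opensRange_awayι]; exact hw
    have hfac : (N.1.ι ≫ h₂) w = chart 𝓘 b hb (k₂ w) := by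
      rw [← hk₂]; rfl
    rw [hfac]; exact hw'
  let k₂' := IsOpenImmersion.lift (chart 𝓘 a ha) (N.1.ι ≫ h₂) hr₂'
  have hk₂' : k₂' ≫ chart 𝓘 a ha = N.1.ι ≫ h₂ := IsOpenImmersion.lift_fac _ _ _
  have hg₂' : k₂' ≫ chart 𝓘 a ha ≫ π 𝓘 = N.1.ι ≫ g := by
    rw [← Category.assoc, hk₂', Category.assoc, e₂]
  have hkk : k₁ = k₂' := chart_lift_unique 𝓘 a ha k₁ k₂' (hg₁.trans hg₂'.symm)
    (by rw [hg₁]; exact hnzd_a)
  rw [← hk₁, hkk, hk₂']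

/-- Existence of lifts to the blow-up. -/
theorem exists_lift {Y : Scheme.{u}} (g : Y ⟶ X) (hD : BlowUp.IsEffCartierIdeal (𝓘.comap g)) :
    ∃ h : Y ⟶ Bl 𝓘, h ≫ π 𝓘 = g := by
  have hex : ∀ y : Y, ∃ N : Y.affineOpens, y ∈ N.1 ∧
      IsPrincipalNZD ((𝓘.comap g).ideal N) := fun y => by
    obtain ⟨N, hyN, -, hNp⟩ := exists_affine_isPrincipalNZD_le (𝓘.comap g) hD ⊤ y trivial
    exact ⟨N, hyN, hNp⟩
  choose N hN hNp using hex
  have hcov : TopologicalSpace.IsOpenCover (fun y => (N y).1) := by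
    rw [TopologicalSpace.IsOpenCover, eq_top_iff]
    intro y _
    exact TopologicalSpace.Opens.mem_iSup.mpr ⟨y, hN y⟩
  let 𝒰 := Y.openCoverOfIsOpenCover (fun y => (N y).1) hcov
  have hloc : ∀ y, ∃ h : 𝒰.X y ⟶ Bl 𝓘, h ≫ π 𝓘 = 𝒰.f y ≫ g := fun y => by
    change ∃ h : (N y).1.toScheme ⟶ Bl 𝓘, h ≫ π 𝓘 = (N y).1.ι ≫ g
    haveI : IsAffine (N y).1 := (N y).2
    apply exists_lift_of_isAffine
    have := (isPrincipalNZD_iff_comap_ι (𝓘.comap g) (N y).1 (N y).2).mp (hNp y)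
    rwa [← Scheme.IdealSheafData.comap_comp] at this
  choose hl hhl using hloc
  refine ⟨𝒰.glueMorphisms hl ?_, ?_⟩
  · intro y z
    refine lift_unique 𝓘 ((pullback.fst (𝒰.f y) (𝒰.f z) ≫ 𝒰.f y) ≫ g) ?_ _ _ ?_ ?_
    · rw [Scheme.IdealSheafData.comap_comp]
      exact isEffCartierIdeal_comap_of_flat _ _ hD
    · rw [Category.assoc, hhl, Category.assoc]
    · rw [Category.assoc, hhl, pullback.condition, Category.assoc]
  · apply 𝒰.hom_ext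
    intro y
    rw [← Category.assoc, 𝒰.ι_glueMorphisms, hhl]

/-- `Proj` of the Rees algebra is a blow-up. -/
theorem isBlowUp_π : BlowUp.IsBlowUp (π 𝓘) 𝓘 := by
  refine ⟨isEffCartierIdeal_comap_π 𝓘, fun Y g hg => ?_⟩
  obtain ⟨h, hh⟩ := exists_lift 𝓘 g hg
  exact ⟨h, hh, fun h' hh' => lift_unique 𝓘 g hg h' h hh' hh⟩

end Groth.Agent.Lib.Helper41.BlowUpAffine

namespace Groth.Agent.Lib.Helper41

/-- Blow-ups of affine schemes exist. -/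
theorem exists_isBlowUp_of_isAffine (X : Scheme.{u}) [IsAffine X] (𝓘 : X.IdealSheafData) :
    ∃ (X' : Scheme.{u}) (b : X' ⟶ X), BlowUp.IsBlowUp b 𝓘 :=
  ⟨BlowUpAffine.Bl 𝓘, BlowUpAffine.π 𝓘, BlowUpAffine.isBlowUp_π 𝓘⟩

end Groth.Agent.Lib.Helper41
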