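import Mathlib
import Groth.Agent.Lib.Helper41.BlowUpAffine
import Groth.Agent.Lib.Helper82.EffCartier

/-!
# Existence of blow-ups of arbitrary schemes in arbitrary quasi-coherent ideal sheaves

The blow-ups of the affine opens (`Proj` of the Rees algebra, `BlowUpAffine`) are glued with
Mathlib's relative gluing.
-/

set_option autoImplicit false
universe u
open CategoryTheory CategoryTheory.Limits AlgebraicGeometry

namespace Groth.Agent.Lib.Helper41.BlowUpExist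

open Groth.Agent.Lib.Helper82 Groth.Agent.Lib.Helper41.BlowUpAffine

/-- A morphism over `X` between two blow-ups of the same ideal is an isomorphism. -/
theorem isIso_of_isBlowUp {X B₁ B₂ : Scheme.{u}} (𝓘 : X.IdealSheafData) (b₁ : B₁ ⟶ X)
    (b₂ : B₂ ⟶ X) (h₁ : BlowUp.IsBlowUp b₁ 𝓘) (h₂ : BlowUp.IsBlowUp b₂ 𝓘) (c : B₁ ⟶ B₂)
    (hc : c ≫ b₂ = b₁) : IsIso c := by
  obtain ⟨d, hd, -⟩ := h₁.2 B₂ b₂ h₂.1
  have e1 : c ≫ d = 𝟙 B₁ :=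
    (h₁.2 B₁ b₁ h₁.1).unique (by rw [Category.assoc, hd, hc]) (Category.id_comp _)
  have e2 : d ≫ c = 𝟙 B₂ :=
    (h₂.2 B₂ b₂ h₂.1).unique (by rw [Category.assoc, hc, hd]) (Category.id_comp _)
  exact ⟨d, e1, e2⟩

variable {X : Scheme.{u}} (𝓘 : X.IdealSheafData)

theorem exists_isBlowUp_of_isAffineOpen (U : X.affineOpens) :
    ∃ (B : Scheme.{u}) (b : B ⟶ U.1.toScheme), BlowUp.IsBlowUp b (𝓘.comap U.1.ι) := by
  haveI : IsAffine U.1.toScheme := U.2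
  exact exists_isBlowUp_of_isAffine U.1.toScheme (𝓘.comap U.1.ι)

/-- The chosen blow-up of an affine open. -/
noncomputable def BU (U : X.affineOpens) : Scheme.{u} :=
  (exists_isBlowUp_of_isAffineOpen 𝓘 U).choose

/-- Its structure morphism. -/
noncomputable def bU (U : X.affineOpens) : BU 𝓘 U ⟶ U.1.toScheme :=
  (exists_isBlowUp_of_isAffineOpen 𝓘 U).choose_spec.choose

theorem isBlowUp_bU (U : X.affineOpens) : BlowUp.IsBlowUp (bU 𝓘 U) (𝓘.comap U.1.ι) :=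
  (exists_isBlowUp_of_isAffineOpen 𝓘 U).choose_spec.choose_spec

theorem comap_homOfLE {U V : X.Opens} (h : U ≤ V) :
    (𝓘.comap V.ι).comap (X.homOfLE h) = 𝓘.comap U.ι := by
  rw [← Scheme.IdealSheafData.comap_comp, Scheme.homOfLE_ι]

theorem effCartier_trans {U V : X.affineOpens} (h : U ≤ V) :
    BlowUp.IsEffCartierIdeal ((𝓘.comap V.1.ι).comap (bU 𝓘 U ≫ X.homOfLE h)) := by
  rw [Scheme.IdealSheafData.comap_comp, comap_homOfLE]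
  exact (isBlowUp_bU 𝓘 U).1

/-- The transition morphisms. -/
noncomputable def tr {U V : X.affineOpens} (h : U ≤ V) : BU 𝓘 U ⟶ BU 𝓘 V :=
  ((isBlowUp_bU 𝓘 V).2 _ (bU 𝓘 U ≫ X.homOfLE h) (effCartier_trans 𝓘 h)).exists.choose

theorem tr_bU {U V : X.affineOpens} (h : U ≤ V) :
    tr 𝓘 h ≫ bU 𝓘 V = bU 𝓘 U ≫ X.homOfLE h :=
  ((isBlowUp_bU 𝓘 V).2 _ (bU 𝓘 U ≫ X.homOfLE h) (effCartier_trans 𝓘 h)).exists.choose_spec

theorem tr_unique {U V : X.affineOpens} (h : U ≤ V) (t : BU 𝓘 U ⟶ BU 𝓘 V)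
    (ht : t ≫ bU 𝓘 V = bU 𝓘 U ≫ X.homOfLE h) : t = tr 𝓘 h :=
  ((isBlowUp_bU 𝓘 V).2 _ (bU 𝓘 U ≫ X.homOfLE h) (effCartier_trans 𝓘 h)).unique ht (tr_bU 𝓘 h)

/-- The diagram of blow-ups of the affine opens. -/
noncomputable def F : X.directedAffineCover.I₀ ⥤ Scheme.{u} where
  obj U := BU 𝓘 U
  map {U V} f := tr 𝓘 (leOfHom f)
  map_id U := (tr_unique 𝓘 _ (𝟙 _) (by
    rw [Category.id_comp]; exact ((congrArg (bU 𝓘 U ≫ ·) (Scheme.homOfLE_rfl X U.1)).trans (Category.comp_id _)).symm)).symm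
  map_comp {U V W} f g := (tr_unique 𝓘 _ (tr 𝓘 (leOfHom f) ≫ tr 𝓘 (leOfHom g)) (by
    rw [Category.assoc, tr_bU, ← Category.assoc, tr_bU, Category.assoc,
      Scheme.homOfLE_homOfLE])).symm

/-- The structure morphisms as a natural transformation. -/
noncomputable def nt : F 𝓘 ⟶ X.directedAffineCover.functorOfLocallyDirected where
  app U := bU 𝓘 U
  naturality {_ _} f := tr_bU 𝓘 (leOfHom f)

theorem isPullback_tr {U V : X.affineOpens} (h : U ≤ V) :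
    IsPullback (tr 𝓘 h) (bU 𝓘 U) (bU 𝓘 V) (X.homOfLE h) := by
  have hP : BlowUp.IsBlowUp (pullback.fst (X.homOfLE h) (bU 𝓘 V)) (𝓘.comap U.1.ι) := by
    have := isBlowUp_fst_of_flat (X.homOfLE h) (𝓘.comap V.1.ι) (bU 𝓘 V) (isBlowUp_bU 𝓘 V)
    rwa [comap_homOfLE] at this
  let c : BU 𝓘 U ⟶ pullback (X.homOfLE h) (bU 𝓘 V) :=
    pullback.lift (bU 𝓘 U) (tr 𝓘 h) (tr_bU 𝓘 h).symm
  have hc1 : c ≫ pullback.fst (X.homOfLE h) (bU 𝓘 V) = bU 𝓘 U := pullback.lift_fst _ _ _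
  have hc2 : c ≫ pullback.snd (X.homOfLE h) (bU 𝓘 V) = tr 𝓘 h := pullback.lift_snd _ _ _
  haveI : IsIso c := isIso_of_isBlowUp (𝓘.comap U.1.ι) (bU 𝓘 U)
    (pullback.fst (X.homOfLE h) (bU 𝓘 V)) (isBlowUp_bU 𝓘 U) hP c hc1
  exact (IsPullback.of_iso_pullback ⟨(tr_bU 𝓘 h).symm⟩ (asIso c) hc1 hc2).flip

theorem equifibered_nt : NatTrans.Equifibered (nt 𝓘) := fun _ _ f => isPullback_tr 𝓘 (leOfHom f)

/-- The relative gluing datum of the blow-ups of the affine opens. -/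
noncomputable def gd : Scheme.Cover.RelativeGluingData X.directedAffineCover where
  functor := F 𝓘
  natTrans := nt 𝓘
  equifibered := equifibered_nt 𝓘

/-- The blow-up. -/
noncomputable def Bl : Scheme.{u} := (gd 𝓘).glued

/-- Its structure morphism. -/
noncomputable def b : Bl 𝓘 ⟶ X := (gd 𝓘).toBase

/-- The inclusion of the blow-up of an affine open. -/
noncomputable def inc (U : X.affineOpens) : BU 𝓘 U ⟶ Bl 𝓘 := colimit.ι (gd 𝓘).functor U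

instance (U : X.affineOpens) : IsOpenImmersion (inc 𝓘 U) :=
  (gd 𝓘).cover.map_prop U

theorem inc_b (U : X.affineOpens) : inc 𝓘 U ≫ b 𝓘 = bU 𝓘 U ≫ U.1.ι :=
  (gd 𝓘).ι_toBase U

theorem b_preimage (U : X.affineOpens) : b 𝓘 ⁻¹ᵁ U.1 = (inc 𝓘 U).opensRange := by
  have := (gd 𝓘).toBase_preimage_eq_opensRange_ι U
  refine Eq.trans ?_ this
  change (gd 𝓘).toBase ⁻¹ᵁ U.1 = (gd 𝓘).toBase ⁻¹ᵁ (U.1.ι).opensRange
  rw [Scheme.Opens.opensRange_ι]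

theorem exists_inc_eq (x : Bl 𝓘) : ∃ (U : X.affineOpens) (y : BU 𝓘 U), inc 𝓘 U y = x := by
  obtain ⟨U, hU⟩ : ∃ U : X.affineOpens, b 𝓘 x ∈ U.1 := by
    obtain ⟨U, hU, hxU, -⟩ := exists_isAffineOpen_mem_and_subset (U := ⊤) (x := b 𝓘 x) trivial
    exact ⟨⟨U, hU⟩, hxU⟩
  have hx : x ∈ b 𝓘 ⁻¹ᵁ U.1 := hU
  rw [b_preimage] at hx
  obtain ⟨y, hy⟩ := hx
  exact ⟨U, y, hy⟩

theorem isEffCartierIdeal_comap_b : BlowUp.IsEffCartierIdeal (𝓘.comap (b 𝓘)) := by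
  intro x
  obtain ⟨U, y, rfl⟩ := exists_inc_eq 𝓘 x
  have h1 : BlowUp.IsEffCartierIdeal ((𝓘.comap (b 𝓘)).comap (inc 𝓘 U)) := by
    rw [← Scheme.IdealSheafData.comap_comp, inc_b, Scheme.IdealSheafData.comap_comp]
    exact (isBlowUp_bU 𝓘 U).1
  obtain ⟨W, hyW, hW⟩ := h1 y
  exact effCartierAt_of_comap_openImmersion (𝓘.comap (b 𝓘)) (inc 𝓘 U) W y hyW hW

theorem exists_affineOpen_mem (x : X) : ∃ U : X.affineOpens, x ∈ U.1 := by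
  obtain ⟨U, hU, hxU, -⟩ := exists_isAffineOpen_mem_and_subset (U := ⊤) (x := x) trivial
  exact ⟨⟨U, hU⟩, hxU⟩

/-- Lifting through the blow-up of an affine open. -/
theorem effCartier_restrict {Y : Scheme.{u}} (g : Y ⟶ X)
    (hD : BlowUp.IsEffCartierIdeal (𝓘.comap g)) (U : X.Opens) :
    BlowUp.IsEffCartierIdeal ((𝓘.comap U.ι).comap (g ∣_ U)) := by
  rw [← Scheme.IdealSheafData.comap_comp, morphismRestrict_ι, Scheme.IdealSheafData.comap_comp]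
  exact isEffCartierIdeal_comap_of_flat _ _ hD

theorem lift_unique {Y : Scheme.{u}} (g : Y ⟶ X) (hD : BlowUp.IsEffCartierIdeal (𝓘.comap g))
    (h₁ h₂ : Y ⟶ Bl 𝓘) (e₁ : h₁ ≫ b 𝓘 = g) (e₂ : h₂ ≫ b 𝓘 = g) : h₁ = h₂ := by
  apply hom_ext_of_forall_exists_open
  intro y
  obtain ⟨U, hU⟩ := exists_affineOpen_mem (g y)
  refine ⟨g ⁻¹ᵁ U.1, hU, ?_⟩
  have hr : ∀ (h : Y ⟶ Bl 𝓘), h ≫ b 𝓘 = g →
      Set.range ((g ⁻¹ᵁ U.1).ι ≫ h) ⊆ Set.range (inc 𝓘 U) := by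
    intro h e
    rintro _ ⟨w, rfl⟩
    have hw : h w.1 ∈ b 𝓘 ⁻¹ᵁ U.1 := by
      change (h ≫ b 𝓘) w.1 ∈ U.1
      rw [e]; exact w.2
    rw [b_preimage] at hw
    exact hw
  let k₁ := IsOpenImmersion.lift (inc 𝓘 U) ((g ⁻¹ᵁ U.1).ι ≫ h₁) (hr h₁ e₁)
  let k₂ := IsOpenImmersion.lift (inc 𝓘 U) ((g ⁻¹ᵁ U.1).ι ≫ h₂) (hr h₂ e₂)
  have hk₁ : k₁ ≫ inc 𝓘 U = (g ⁻¹ᵁ U.1).ι ≫ h₁ := IsOpenImmersion.lift_fac _ _ _
  have hk₂ : k₂ ≫ inc 𝓘 U = (g ⁻¹ᵁ U.1).ι ≫ h₂ := IsOpenImmersion.lift_fac _ _ _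
  have hb₁ : k₁ ≫ bU 𝓘 U = g ∣_ U.1 := by
    rw [← cancel_mono U.1.ι, Category.assoc, ← inc_b, ← Category.assoc, hk₁, Category.assoc, e₁,
      morphismRestrict_ι]
  have hb₂ : k₂ ≫ bU 𝓘 U = g ∣_ U.1 := by
    rw [← cancel_mono U.1.ι, Category.assoc, ← inc_b, ← Category.assoc, hk₂, Category.assoc, e₂,
      morphismRestrict_ι]
  have hkk : k₁ = k₂ :=
    ((isBlowUp_bU 𝓘 U).2 _ (g ∣_ U.1) (effCartier_restrict 𝓘 g hD U.1)).unique hb₁ hb₂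
  rw [← hk₁, hkk, hk₂]

theorem exists_lift {Y : Scheme.{u}} (g : Y ⟶ X) (hD : BlowUp.IsEffCartierIdeal (𝓘.comap g)) :
    ∃ h : Y ⟶ Bl 𝓘, h ≫ b 𝓘 = g := by
  have hcov : TopologicalSpace.IsOpenCover (fun U : X.affineOpens => g ⁻¹ᵁ U.1) := by
    rw [TopologicalSpace.IsOpenCover, eq_top_iff]
    intro y _
    obtain ⟨U, hU⟩ := exists_affineOpen_mem (g y)
    exact TopologicalSpace.Opens.mem_iSup.mpr ⟨U, hU⟩
  let 𝒰 := Y.openCoverOfIsOpenCover (fun U : X.affineOpens => g ⁻¹ᵁ U.1) hcov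
  have hloc : ∀ U, ∃ h : 𝒰.X U ⟶ Bl 𝓘, h ≫ b 𝓘 = 𝒰.f U ≫ g := fun U => by
    change ∃ h : (g ⁻¹ᵁ U.1).toScheme ⟶ Bl 𝓘, h ≫ b 𝓘 = (g ⁻¹ᵁ U.1).ι ≫ g
    obtain ⟨h, hh, -⟩ := (isBlowUp_bU 𝓘 U).2 _ (g ∣_ U.1) (effCartier_restrict 𝓘 g hD U.1)
    exact ⟨h ≫ inc 𝓘 U, by rw [Category.assoc, inc_b, ← Category.assoc, hh, morphismRestrict_ι]⟩
  choose hl hhl using hloc
  refine ⟨𝒰.glueMorphisms hl ?_, ?_⟩
  · intro U V
    refine lift_unique 𝓘 ((pullback.fst (𝒰.f U) (𝒰.f V) ≫ 𝒰.f U) ≫ g) ?_ _ _ ?_ ?_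
    · rw [Scheme.IdealSheafData.comap_comp]
      exact isEffCartierIdeal_comap_of_flat _ _ hD
    · rw [Category.assoc, hhl, Category.assoc]
    · rw [Category.assoc, hhl, pullback.condition, Category.assoc]
  · apply 𝒰.hom_ext
    intro U
    rw [← Category.assoc, 𝒰.ι_glueMorphisms, hhl]

theorem isBlowUp_b : BlowUp.IsBlowUp (b 𝓘) 𝓘 := by
  refine ⟨isEffCartierIdeal_comap_b 𝓘, fun Y g hg => ?_⟩
  obtain ⟨h, hh⟩ := exists_lift 𝓘 g hg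
  exact ⟨h, hh, fun h' hh' => lift_unique 𝓘 g hg h' h hh' hh⟩

end Groth.Agent.Lib.Helper41.BlowUpExist

namespace Groth.Agent.Lib.Helper41

/-- Blow-ups exist: for every scheme `X` and every quasi-coherent ideal sheaf `𝓘` on `X` there is
a blowing up of `X` in `𝓘` (in the sense of the universal property `BlowUp.IsBlowUp`). -/
theorem exists_isBlowUp (X : Scheme.{u}) (𝓘 : X.IdealSheafData) :
    ∃ (X' : Scheme.{u}) (b : X' ⟶ X), BlowUp.IsBlowUp b 𝓘 :=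
  ⟨BlowUpExist.Bl 𝓘, BlowUpExist.b 𝓘, BlowUpExist.isBlowUp_b 𝓘⟩

end Groth.Agent.Lib.Helper41
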