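import Mathlib
import Groth.Agent.Lib.Helper41.BlowUpExist
import Groth.Agent.Lib.Helper82.BlowUpMul

/-!
# Admissible ideals: products, pull-backs; blow-ups and isomorphisms
-/

set_option autoImplicit false
universe u
open CategoryTheory CategoryTheory.Limits AlgebraicGeometry

namespace Groth.Agent.Lib.Helper41.BlowUpAdm

open Groth.Agent.Lib.Helper82

/-- Precomposing a blow-up with an isomorphism gives a blow-up. -/
theorem isBlowUp_iso_comp {X B B' : Scheme.{u}} (𝓚 : X.IdealSheafData) (c : B ⟶ X)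
    (hc : BlowUp.IsBlowUp c 𝓚) (θ : B' ⟶ B) [IsIso θ] : BlowUp.IsBlowUp (θ ≫ c) 𝓚 := by
  refine ⟨?_, fun Y g hg => ?_⟩
  · rw [Scheme.IdealSheafData.comap_comp]
    exact isEffCartierIdeal_comap_of_flat _ _ hc.1
  · obtain ⟨h', hh', hu⟩ := hc.2 Y g hg
    refine ⟨h' ≫ inv θ, ?_, fun h₂ hh₂ => ?_⟩
    · change (h' ≫ inv θ) ≫ θ ≫ c = g
      rw [Category.assoc, IsIso.inv_hom_id_assoc, hh']
    · have hh₂' : h₂ ≫ θ ≫ c = g := hh₂
      have := hu (h₂ ≫ θ) (by change (h₂ ≫ θ) ≫ c = g; rw [Category.assoc, hh₂'])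
      rw [← this, Category.assoc, IsIso.hom_inv_id, Category.comp_id]

theorem isFiniteTypeIdeal_one (X : Scheme.{u}) :
    BlowUp.IsFiniteTypeIdeal (1 : X.IdealSheafData) := by
  intro V
  change (⊤ : Ideal Γ(X, V.1)).FG
  exact ⟨{1}, by simp⟩

theorem isFiniteTypeIdeal_mul {X : Scheme.{u}} (I J : X.IdealSheafData)
    (hI : BlowUp.IsFiniteTypeIdeal I) (hJ : BlowUp.IsFiniteTypeIdeal J) :
    BlowUp.IsFiniteTypeIdeal (I * J) := by
  intro V
  change (I.ideal V * J.ideal V).FG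
  exact (hI V).mul (hJ V)

theorem isAdmissibleFor_one {X : Scheme.{u}} (U : X.Opens) :
    BlowUp.IsAdmissibleFor U (1 : X.IdealSheafData) := by
  refine ⟨isFiniteTypeIdeal_one X, ?_⟩
  have : ((1 : X.IdealSheafData).support : Set X) = ∅ := by
    have h : (1 : X.IdealSheafData).support = ⊥ := Scheme.IdealSheafData.support_top
    rw [h]; rfl
  rw [this]
  exact Set.empty_disjoint _

theorem isAdmissibleFor_mul {X : Scheme.{u}} (U : X.Opens) (I J : X.IdealSheafData)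
    (hI : BlowUp.IsAdmissibleFor U I) (hJ : BlowUp.IsAdmissibleFor U J) :
    BlowUp.IsAdmissibleFor U (I * J) := by
  refine ⟨isFiniteTypeIdeal_mul I J hI.1 hJ.1, ?_⟩
  rw [Scheme.IdealSheafData.support_mul]
  change Disjoint ((I.support : Set X) ∪ (J.support : Set X)) _
  exact Set.disjoint_union_left.mpr ⟨hI.2, hJ.2⟩

theorem isAdmissibleFor_prod {X : Scheme.{u}} (U : X.Opens) {ι : Type*} (s : Finset ι)
    (𝓘 : ι → X.IdealSheafData) (h : ∀ i ∈ s, BlowUp.IsAdmissibleFor U (𝓘 i)) :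
    BlowUp.IsAdmissibleFor U (∏ i ∈ s, 𝓘 i) :=
  Finset.prod_induction 𝓘 (BlowUp.IsAdmissibleFor U)
    (fun I J hI hJ => isAdmissibleFor_mul U I J hI hJ) (isAdmissibleFor_one U) h

/-- The inverse image of an ideal sheaf of finite type is of finite type. -/
theorem isFiniteTypeIdeal_comap {X Y : Scheme.{u}} (f : Y ⟶ X) (𝓛 : X.IdealSheafData)
    (h𝓛 : BlowUp.IsFiniteTypeIdeal 𝓛) : BlowUp.IsFiniteTypeIdeal (𝓛.comap f) := by
  intro V
  let s : Set Γ(Y, V.1) := {r | ((𝓛.comap f).ideal (Y.affineBasicOpen r)).FG}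
  have hs : Ideal.span s = ⊤ := by
    rw [← V.2.self_le_iSup_basicOpen_iff]
    intro y hy
    obtain ⟨W, hW, hyW, -⟩ := exists_isAffineOpen_mem_and_subset (U := ⊤) (x := f y) trivial
    obtain ⟨r, hr1, hr2⟩ := V.2.exists_basicOpen_le (V := f ⁻¹ᵁ W) ⟨y, hyW⟩ hy
    refine TopologicalSpace.Opens.mem_iSup.mpr ⟨⟨r, ?_⟩, hr2⟩
    change ((𝓛.comap f).ideal (Y.affineBasicOpen r)).FG
    have e := ideal_comap_of_le f 𝓛 (Y.basicOpen r) (Y.affineBasicOpen r).2 W hW hr1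
    rw [show (𝓛.comap f).ideal (Y.affineBasicOpen r) = _ from e]
    exact (h𝓛 ⟨W, hW⟩).map _
  apply Ideal.fg_of_localizationSpan s hs
  rintro ⟨r, hr⟩
  haveI := V.2.isLocalization_basicOpen r
  let e := IsLocalization.algEquiv (Submonoid.powers r) (Localization.Away r)
    Γ(Y, Y.basicOpen r)
  have h1 : ((𝓛.comap f).ideal V).map (algebraMap Γ(Y, V.1) (Localization.Away r)) =
      (((𝓛.comap f).ideal V).map (algebraMap Γ(Y, V.1) Γ(Y, Y.basicOpen r))).map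
        (e.symm : Γ(Y, Y.basicOpen r) →+* Localization.Away r) := by
    rw [Ideal.map_map]
    congr 1
    ext z
    exact (e.symm.commutes z).symm
  rw [h1]
  apply Ideal.FG.map
  have h2 : ((𝓛.comap f).ideal V).map (algebraMap Γ(Y, V.1) Γ(Y, Y.basicOpen r)) =
      (𝓛.comap f).ideal (Y.affineBasicOpen r) := (𝓛.comap f).map_ideal_basicOpen V r
  rw [h2]
  exact hr

theorem isAdmissibleFor_comap {X Y : Scheme.{u}} (f : Y ⟶ X) (U : X.Opens)
    (𝓛 : X.IdealSheafData) (h𝓛 : BlowUp.IsAdmissibleFor U 𝓛) :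
    BlowUp.IsAdmissibleFor (f ⁻¹ᵁ U) (𝓛.comap f) := by
  refine ⟨isFiniteTypeIdeal_comap f 𝓛 h𝓛.1, ?_⟩
  rw [Scheme.IdealSheafData.support_comap]
  exact Disjoint.preimage f h𝓛.2

end Groth.Agent.Lib.Helper41.BlowUpAdm
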