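import Mathlib.AlgebraicGeometry.Gluing
import Mathlib.AlgebraicGeometry.Morphisms.Separated
import Mathlib.AlgebraicGeometry.Morphisms.FiniteType
import Mathlib.AlgebraicGeometry.Noetherian
import Mathlib.AlgebraicGeometry.Morphisms.ClosedImmersion

set_option autoImplicit false
set_option linter.style.haveILetI false
set_option linter.unusedSectionVars false

universe u

open CategoryTheory CategoryTheory.Limits AlgebraicGeometry

namespace Groth.Agent.Lib.Helper41

/-! ### Gluing two schemes along a common open subscheme -/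

section Glue2

variable {W Y₁ Y₂ : Scheme.{u}} (g₁ : W ⟶ Y₁) (g₂ : W ⟶ Y₂) [IsOpenImmersion g₁]
  [IsOpenImmersion g₂]

instance spanOpenImmersion :
    ∀ {i j : WalkingSpan} (f : i ⟶ j), IsOpenImmersion ((span g₁ g₂).map f) := by
  intro i j f
  rcases f with _ | (_ | _)
  · rw [show WidePushoutShape.Hom.id i = 𝟙 i from rfl, CategoryTheory.Functor.map_id]
    infer_instance
  · exact inferInstanceAs (IsOpenImmersion g₁)
  · exact inferInstanceAs (IsOpenImmersion g₂)

instance hasPushout_of_isOpenImmersion : HasPushout g₁ g₂ :=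
  inferInstanceAs (HasColimit (span g₁ g₂))

instance isOpenImmersion_pushout_inl : IsOpenImmersion (pushout.inl g₁ g₂) :=
  inferInstanceAs (IsOpenImmersion (colimit.ι (span g₁ g₂) WalkingSpan.left))

instance isOpenImmersion_pushout_inr : IsOpenImmersion (pushout.inr g₁ g₂) :=
  inferInstanceAs (IsOpenImmersion (colimit.ι (span g₁ g₂) WalkingSpan.right))

theorem pushout_jointly_surjective (y : ↑(pushout g₁ g₂)) :
    (∃ y₁, pushout.inl g₁ g₂ y₁ = y) ∨ (∃ y₂, pushout.inr g₁ g₂ y₂ = y) := by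
  obtain ⟨i, yi, hy⟩ := Scheme.IsLocallyDirected.ι_jointly_surjective (span g₁ g₂) y
  rcases i with _ | (_ | _)
  · left
    refine ⟨g₁ yi, ?_⟩
    rw [← hy]
    have := colimit.w (span g₁ g₂) WalkingSpan.Hom.fst
    rw [← this]
    rfl
  · left
    exact ⟨yi, hy⟩
  · right
    exact ⟨yi, hy⟩

theorem pushout_inl_eq_inr_iff (y₁ : Y₁) (y₂ : Y₂) :
    pushout.inl g₁ g₂ y₁ = pushout.inr g₁ g₂ y₂ ↔ ∃ w : W, g₁ w = y₁ ∧ g₂ w = y₂ := by
  constructor
  · intro h
    obtain ⟨k, fi, fj, x, hx₁, hx₂⟩ := (Scheme.IsLocallyDirected.ι_eq_ι_iff (span g₁ g₂)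
      (i := WalkingSpan.left) (j := WalkingSpan.right) (xi := y₁) (xj := y₂)).1 h
    rcases k with _ | (_ | _)
    · rcases fi with _ | _
      rcases fj with _ | _
      exact ⟨x, hx₁, hx₂⟩
    · cases fj
    · cases fi
  · rintro ⟨w, rfl, rfl⟩
    rw [← Scheme.Hom.comp_apply, ← Scheme.Hom.comp_apply, pushout.condition]

theorem isPullback_pushout : IsPullback g₁ g₂ (pushout.inl g₁ g₂) (pushout.inr g₁ g₂) := by
  refine (IsOpenImmersion.isPullback g₂ g₁ (pushout.inr g₁ g₂) (pushout.inl g₁ g₂)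
    pushout.condition ?_).flip
  ext y₁
  constructor
  · rintro ⟨y₂, hy₂⟩
    obtain ⟨w, hw₁, -⟩ := (pushout_inl_eq_inr_iff g₁ g₂ y₁ y₂).1 hy₂.symm
    exact ⟨w, hw₁⟩
  · rintro ⟨w, rfl⟩
    refine ⟨g₂ w, ?_⟩
    exact ((pushout_inl_eq_inr_iff g₁ g₂ (g₁ w) (g₂ w)).2 ⟨w, rfl, rfl⟩).symm

end Glue2


/-! ### Separatedness of a glued morphism -/


/-- Separatedness can be checked on an open cover of the source: the maps
`U_a ×_Y U_b ⟶ U_a ×_S U_b` must be closed immersions. -/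
theorem isSeparated_of_openCover {Y S : Scheme.{u}} (p : Y ⟶ S) (𝒰 : Y.OpenCover)
    (H : ∀ a b, IsClosedImmersion (pullback.map (𝒰.f a) (𝒰.f b) (𝒰.f a ≫ p) (𝒰.f b ≫ p)
      (𝟙 _) (𝟙 _) p (Category.id_comp _).symm (Category.id_comp _).symm)) : IsSeparated p := by
  constructor
  refine IsZariskiLocalAtTarget.of_openCover (P := @IsClosedImmersion)
    (Scheme.Pullback.openCoverOfLeftRight 𝒰 𝒰 p p) ?_
  rintro ⟨a, b⟩
  have sq := pullback_map_diagonal_isPullback (𝒰.f a) (𝒰.f b) p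
  have h1 := sq.isoPullback_inv_snd
  have h2 : IsClosedImmersion (sq.isoPullback.inv ≫ pullback.map (𝒰.f a) (𝒰.f b) (𝒰.f a ≫ p)
      (𝒰.f b ≫ p) (𝟙 _) (𝟙 _) p (Category.id_comp _).symm (Category.id_comp _).symm) :=
    inferInstance
  rw [h1] at h2
  exact h2

section Glue2

variable {W Y₁ Y₂ S : Scheme.{u}} (g₁ : W ⟶ Y₁) (g₂ : W ⟶ Y₂) [IsOpenImmersion g₁]
  [IsOpenImmersion g₂]

/-- The two-piece open cover of the glued scheme. -/
noncomputable def pushoutCover : (pushout g₁ g₂).OpenCover :=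
  Scheme.Cover.mkOfCovers WalkingPair (fun a => WalkingPair.casesOn a Y₁ Y₂)
    (fun a => WalkingPair.casesOn a (pushout.inl g₁ g₂) (pushout.inr g₁ g₂))
    (fun y => by
      rcases pushout_jointly_surjective g₁ g₂ y with ⟨y₁, h⟩ | ⟨y₂, h⟩
      · exact ⟨.left, y₁, h⟩
      · exact ⟨.right, y₂, h⟩)
    (fun a => by
      cases a
      · exact inferInstanceAs (IsOpenImmersion (pushout.inl g₁ g₂))
      · exact inferInstanceAs (IsOpenImmersion (pushout.inr g₁ g₂)))

theorem isClosedImmersion_map_of_mono {Y₀ Y S : Scheme.{u}} (j : Y₀ ⟶ Y) [Mono j] (p : Y ⟶ S)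
    [IsSeparated (j ≫ p)] :
    IsClosedImmersion (pullback.map j j (j ≫ p) (j ≫ p) (𝟙 _) (𝟙 _) p
      (Category.id_comp _).symm (Category.id_comp _).symm) := by
  have h1 : pullback.diagonal j ≫ pullback.map j j (j ≫ p) (j ≫ p) (𝟙 _) (𝟙 _) p
      (Category.id_comp _).symm (Category.id_comp _).symm = pullback.diagonal (j ≫ p) := by
    apply pullback.hom_ext
    · simp only [pullback.map, Category.assoc, pullback.lift_fst, pullback.diagonal_fst]
      rw [← Category.assoc, pullback.diagonal_fst, Category.id_comp]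
    · simp only [pullback.map, Category.assoc, pullback.lift_snd, pullback.diagonal_snd]
      rw [← Category.assoc, pullback.diagonal_snd, Category.id_comp]
  haveI : IsIso (pullback.diagonal j) := (pullback.isIso_diagonal_iff j).2 inferInstance
  have h2 : IsClosedImmersion (pullback.diagonal j ≫ pullback.map j j (j ≫ p) (j ≫ p) (𝟙 _)
      (𝟙 _) p (Category.id_comp _).symm (Category.id_comp _).symm) := by
    rw [h1]; infer_instance
  exact (MorphismProperty.cancel_left_of_respectsIso @IsClosedImmersion _ _).1 h2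

/-- Mixed-case helper. -/
theorem isClosedImmersion_map_of_isPullback {W Y₁ Y₂ Y S : Scheme.{u}} (g₁ : W ⟶ Y₁)
    (g₂ : W ⟶ Y₂) (i₁ : Y₁ ⟶ Y) (i₂ : Y₂ ⟶ Y) (sq : IsPullback g₁ g₂ i₁ i₂) (p : Y ⟶ S)
    (p₁ : Y₁ ⟶ S) (p₂ : Y₂ ⟶ S) (e₁ : i₁ ≫ p = p₁) (e₂ : i₂ ≫ p = p₂)
    (hp : g₁ ≫ p₁ = g₂ ≫ p₂)
    (hc : IsClosedImmersion (pullback.lift g₁ g₂ hp : W ⟶ pullback p₁ p₂)) :
    IsClosedImmersion (pullback.map i₁ i₂ (i₁ ≫ p) (i₂ ≫ p) (𝟙 _) (𝟙 _) p
      (Category.id_comp _).symm (Category.id_comp _).symm) := by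
  subst e₁ e₂
  have key : sq.isoPullback.hom ≫ pullback.map i₁ i₂ (i₁ ≫ p) (i₂ ≫ p) (𝟙 _) (𝟙 _) p
      (Category.id_comp _).symm (Category.id_comp _).symm = pullback.lift g₁ g₂ hp := by
    apply pullback.hom_ext
    · simp only [pullback.map, Category.assoc, pullback.lift_fst]
      rw [← Category.assoc, sq.isoPullback_hom_fst, Category.comp_id]
    · simp only [pullback.map, Category.assoc, pullback.lift_snd]
      rw [← Category.assoc, sq.isoPullback_hom_snd, Category.comp_id]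
  rw [← key] at hc
  exact (MorphismProperty.cancel_left_of_respectsIso @IsClosedImmersion _ _).1 hc

variable (p₁ : Y₁ ⟶ S) (p₂ : Y₂ ⟶ S) (hp : g₁ ≫ p₁ = g₂ ≫ p₂)

theorem isClosedImmersion_lift_symm
    (hc : IsClosedImmersion (pullback.lift g₁ g₂ hp : W ⟶ pullback p₁ p₂)) :
    IsClosedImmersion (pullback.lift g₂ g₁ hp.symm : W ⟶ pullback p₂ p₁) := by
  have : pullback.lift g₂ g₁ hp.symm = pullback.lift g₁ g₂ hp ≫ (pullbackSymmetry p₁ p₂).hom := by
    apply pullback.hom_ext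
    · rw [pullback.lift_fst, Category.assoc, pullbackSymmetry_hom_comp_fst, pullback.lift_snd]
    · rw [pullback.lift_snd, Category.assoc, pullbackSymmetry_hom_comp_snd, pullback.lift_fst]
  rw [this]
  infer_instance

theorem isSeparated_pushout_desc [IsSeparated p₁] [IsSeparated p₂]
    (hc : IsClosedImmersion (pullback.lift g₁ g₂ hp : W ⟶ pullback p₁ p₂)) :
    IsSeparated (pushout.desc p₁ p₂ hp) := by
  set p := pushout.desc p₁ p₂ hp with hpdef
  have e₁ : pushout.inl g₁ g₂ ≫ p = p₁ := pushout.inl_desc _ _ _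
  have e₂ : pushout.inr g₁ g₂ ≫ p = p₂ := pushout.inr_desc _ _ _
  haveI : IsSeparated (pushout.inl g₁ g₂ ≫ p) := by rw [e₁]; infer_instance
  haveI : IsSeparated (pushout.inr g₁ g₂ ≫ p) := by rw [e₂]; infer_instance
  refine isSeparated_of_openCover p (pushoutCover g₁ g₂) ?_
  rintro (_ | _) (_ | _)
  · exact isClosedImmersion_map_of_mono (pushout.inl g₁ g₂) p
  · exact isClosedImmersion_map_of_isPullback g₁ g₂ _ _ (isPullback_pushout g₁ g₂) p p₁ p₂ e₁ e₂
      hp hc
  · exact isClosedImmersion_map_of_isPullback g₂ g₁ _ _ (isPullback_pushout g₁ g₂).flip p p₂ p₁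
      e₂ e₁ hp.symm (isClosedImmersion_lift_symm g₁ g₂ p₁ p₂ hp hc)
  · exact isClosedImmersion_map_of_mono (pushout.inr g₁ g₂) p

end Glue2

end Groth.Agent.Lib.Helper41
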