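import Groth.Prelude.Def_W4c5cptfessfintypeLocImm
import Mathlib.AlgebraicGeometry.Noetherian
import Mathlib.RingTheory.Localization.LocalizationLocalization
import Mathlib.RingTheory.Spectrum.Prime.Topology
import Mathlib.AlgebraicGeometry.IdealSheaf.Subscheme
import Mathlib.AlgebraicGeometry.Morphisms.SurjectiveOnStalks
import Mathlib.AlgebraicGeometry.Morphisms.UniversallyInjective
import Mathlib.AlgebraicGeometry.Morphisms.Flat
import Mathlib.RingTheory.Localization.BaseChange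
import Mathlib.Algebra.Category.Ring.Constructions
import Groth.Agent.Lib.Helper41.QCClosure

set_option autoImplicit false
set_option linter.style.haveILetI false

universe u

open CategoryTheory CategoryTheory.Limits AlgebraicGeometry LocImm

namespace Groth.Agent.Lib.Helper41

/-! ### Ring level -/

section Ring

variable {A B C : Type*} [CommRing A] [CommRing B] [CommRing C]

/-- Unfolded characterization of a localizing ring map. -/
theorem isLocHom_iff (φ : A →+* B) :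
    IsLocHom φ ↔ ∃ S : Submonoid A, (∀ s ∈ S, IsUnit (φ s)) ∧
      (∀ b : B, ∃ a : A, ∃ s ∈ S, b * φ s = φ a) ∧
      (∀ a₁ a₂ : A, φ a₁ = φ a₂ → ∃ s ∈ S, s * a₁ = s * a₂) := by
  letI := φ.toAlgebra
  constructor
  · rintro ⟨S, hS⟩
    obtain ⟨h1, h2, h3⟩ := (isLocalization_iff S B).1 hS
    refine ⟨S, fun s hs => h1 ⟨s, hs⟩, fun b => ?_, fun a₁ a₂ h => ?_⟩
    · obtain ⟨⟨a, s⟩, h⟩ := h2 b
      exact ⟨a, s.1, s.2, h⟩
    · obtain ⟨c, hc⟩ := h3 (x := a₁) (y := a₂) h
      exact ⟨c.1, c.2, hc⟩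
  · rintro ⟨S, h1, h2, h3⟩
    refine ⟨S, (isLocalization_iff S B).2 ⟨fun s => h1 s.1 s.2, fun b => ?_, fun {a₁ a₂} h => ?_⟩⟩
    · obtain ⟨a, s, hs, h⟩ := h2 b
      exact ⟨⟨a, ⟨s, hs⟩⟩, h⟩
    · obtain ⟨s, hs, h⟩ := h3 a₁ a₂ h
      exact ⟨⟨s, hs⟩, h⟩

theorem isLocHom_of_isLocalization [Algebra A B] (S : Submonoid A) [hS : IsLocalization S B] :
    IsLocHom (algebraMap A B) := by
  rw [isLocHom_iff]
  obtain ⟨h1, h2, h3⟩ := (isLocalization_iff S B).1 hS
  refine ⟨S, fun s hs => h1 ⟨s, hs⟩, fun b => ?_, fun a₁ a₂ h => ?_⟩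
  · obtain ⟨⟨a, s⟩, h⟩ := h2 b
    exact ⟨a, s.1, s.2, h⟩
  · obtain ⟨c, hc⟩ := h3 (x := a₁) (y := a₂) h
    exact ⟨c.1, c.2, hc⟩

/-- The composite of two localizing ring maps is localizing. -/
theorem IsLocHom.comp {φ : A →+* B} {ψ : B →+* C} (hφ : IsLocHom φ) (hψ : IsLocHom ψ) :
    IsLocHom (ψ.comp φ) := by
  letI := φ.toAlgebra
  letI := ψ.toAlgebra
  letI := (ψ.comp φ).toAlgebra
  haveI : IsScalarTower A B C := IsScalarTower.of_algebraMap_eq fun _ => rfl
  obtain ⟨S, hS⟩ := hφ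
  obtain ⟨N, hN⟩ := hψ
  exact ⟨_, IsLocalization.localization_localization_isLocalization S N C⟩

/-- If `A → B'` is a localization at `S` and factors as `A → C → B'` such that every element of
the kernel of `C → B'` is killed by the image of some element of `S`, then `C → B'` is
localizing. -/
theorem isLocHom_of_comp (γ : A →+* C) (ψ : C →+* B) (S : Submonoid A)
    (hS : @IsLocalization A _ S B _ (ψ.comp γ).toAlgebra)
    (H : ∀ c : C, ψ c = 0 → ∃ s ∈ S, γ s * c = 0) : IsLocHom ψ := by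
  letI := (ψ.comp γ).toAlgebra
  obtain ⟨h1, h2, h3⟩ := (isLocalization_iff S B).1 hS
  rw [isLocHom_iff]
  refine ⟨S.map γ, ?_, fun b => ?_, fun c₁ c₂ h => ?_⟩
  · rintro _ ⟨s, hs, rfl⟩
    exact h1 ⟨s, hs⟩
  · obtain ⟨⟨a, s⟩, h⟩ := h2 b
    exact ⟨γ a, γ s.1, ⟨s.1, s.2, rfl⟩, h⟩
  · obtain ⟨s, hs, h'⟩ := H (c₁ - c₂) (by rw [map_sub, h, sub_self])
    refine ⟨γ s, ⟨s, hs, rfl⟩, ?_⟩
    rw [mul_sub, sub_eq_zero] at h'
    exact h'

theorem isLocHom_of_comp' (γ : A →+* C) (ψ : C →+* B) (φ : A →+* B) (hφ : ψ.comp γ = φ)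
    (S : Submonoid A) (hS : @IsLocalization A _ S B _ φ.toAlgebra)
    (H : ∀ c : C, ψ c = 0 → ∃ s ∈ S, γ s * c = 0) : IsLocHom ψ := by
  subst hφ
  exact isLocHom_of_comp γ ψ S hS H

/-- A ring map between two localizations of `R` at the same submonoid, compatible with the
structure maps, is bijective. -/
theorem bijective_of_isLocalization_of_comp {R Q₁ Q₂ : Type*} [CommRing R] [CommRing Q₁]
    [CommRing Q₂] [Algebra R Q₁] [Algebra R Q₂] (M : Submonoid R) [IsLocalization M Q₁]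
    [IsLocalization M Q₂] (ψ : Q₁ →+* Q₂) (hψ : ψ.comp (algebraMap R Q₁) = algebraMap R Q₂) :
    Function.Bijective ψ := by
  have : ψ = ((IsLocalization.algEquiv M Q₁ Q₂ : Q₁ ≃ₐ[R] Q₂) : Q₁ →+* Q₂) := by
    apply IsLocalization.ringHom_ext M
    rw [hψ]
    ext r
    simp
  rw [this]
  exact (IsLocalization.algEquiv M Q₁ Q₂).bijective

end Ring

/-! ### Topology -/

/-- In a Noetherian quasi-sober space, a closed set which is stable under generalization
is open. -/
theorem isOpen_of_isClosed_of_stableUnderGeneralization {α : Type*} [TopologicalSpace α]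
    [TopologicalSpace.NoetherianSpace α] [QuasiSober α] {C : Set α} (hC : IsClosed C)
    (hg : StableUnderGeneralization C) : IsOpen C := by
  rw [← isClosed_compl_iff]
  have hfin := TopologicalSpace.NoetherianSpace.finite_irreducibleComponents (α := α)
  have heq : Cᶜ = ⋃₀ {Z | Z ∈ irreducibleComponents α ∧ ¬ Z ⊆ C} := by
    ext y
    constructor
    · intro hy
      exact ⟨irreducibleComponent y, ⟨irreducibleComponent_mem_irreducibleComponents y,
        fun h => hy (h mem_irreducibleComponent)⟩, mem_irreducibleComponent⟩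
    · rintro ⟨Z, ⟨hZ, hZC⟩, hyZ⟩ hyC
      apply hZC
      have hcl : IsClosed Z := isClosed_of_mem_irreducibleComponents Z hZ
      have hgen := hZ.1.isGenericPoint_genericPoint hcl
      have h1 : hZ.1.genericPoint ∈ C := hg (hgen.specializes hyZ) hyC
      rw [← hgen.def]
      exact hC.closure_subset_iff.2 (Set.singleton_subset_iff.2 h1)
  rw [heq, Set.sUnion_eq_biUnion]
  exact (hfin.subset (fun Z hZ => hZ.1)).isClosed_biUnion
    fun Z hZ => isClosed_of_mem_irreducibleComponents Z hZ.1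

/-! ### Killing sections by a multiplicative set -/

section Torsion

variable {X : Scheme.{u}}

theorem fromSpec_mem_basicOpen_iff {V : X.Opens} (hV : IsAffineOpen V) (r : Γ(X, V))
    (y : PrimeSpectrum Γ(X, V)) : hV.fromSpec y ∈ X.basicOpen r ↔ r ∉ y.asIdeal := by
  have h := hV.fromSpec_preimage_basicOpen r
  have h2 : y ∈ hV.fromSpec ⁻¹ᵁ X.basicOpen r ↔ y ∈ (PrimeSpectrum.basicOpen r : Set _) := by
    rw [h]; rfl
  exact h2

theorem fromSpec_mem {V : X.Opens} (hV : IsAffineOpen V) (y : PrimeSpectrum Γ(X, V)) :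
    hV.fromSpec y ∈ V := by
  have : hV.fromSpec y ∈ Set.range hV.fromSpec := ⟨y, rfl⟩
  rw [hV.range_fromSpec] at this
  exact this

/-- Affine-local step: if a section `σ` over `O` has vanishing germ at every point where all
elements of the multiplicative set `T` are invertible, then on any affine open `V ≤ O` some
element of `T` kills `σ`. -/
theorem exists_mem_res_mul_eq_zero {O V : X.Opens} (hV : IsAffineOpen V) (hVO : V ≤ O)
    (σ : Γ(X, O)) (T : Submonoid Γ(X, O))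
    (H : ∀ x (hx : x ∈ O), (∀ t ∈ T, x ∈ X.basicOpen t) → X.presheaf.germ O x hx σ = 0) :
    ∃ t ∈ T, X.presheaf.map (homOfLE hVO).op (t * σ) = 0 := by
  set ρ := (X.presheaf.map (homOfLE hVO).op).hom with hρ
  by_contra hcon
  push Not at hcon
  let J : Ideal Γ(X, V) := (Ideal.span {ρ σ}).annihilator
  have hdisj : Disjoint (J : Set Γ(X, V)) (T.map ρ : Submonoid Γ(X, V)) := by
    rw [Set.disjoint_left]
    rintro _ hr ⟨t, ht, rfl⟩
    apply hcon t ht
    have h1 : ρ t • ρ σ = 0 := Submodule.mem_annihilator_span_singleton _ _ |>.1 hr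
    change ρ (t * σ) = 0
    rw [map_mul]
    exact h1
  obtain ⟨p, hp, hJp, hpT⟩ := Ideal.exists_le_prime_disjoint J (T.map ρ) hdisj
  let y : PrimeSpectrum Γ(X, V) := ⟨p, hp⟩
  have hyV : hV.fromSpec y ∈ V := fromSpec_mem hV y
  have hgerm := H (hV.fromSpec y) (hVO hyV) (fun t ht => by
    have h1 : hV.fromSpec y ∈ X.basicOpen (ρ t) := by
      rw [fromSpec_mem_basicOpen_iff]
      intro hmem
      exact Set.disjoint_left.1 hpT hmem ⟨t, ht, rfl⟩
    have h2 : X.basicOpen (ρ t) = V ⊓ X.basicOpen t := X.basicOpen_res _ _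
    rw [h2] at h1
    exact h1.2)
  letI := TopCat.Presheaf.algebra_section_stalk X.presheaf ⟨hV.fromSpec y, hyV⟩
  haveI hloc : IsLocalization p.primeCompl (X.presheaf.stalk (hV.fromSpec y)) :=
    hV.isLocalization_stalk' y hyV
  have h0 : algebraMap Γ(X, V) (X.presheaf.stalk (hV.fromSpec y)) (ρ σ) = 0 := by
    change X.presheaf.germ V (hV.fromSpec y) hyV (ρ σ) = 0
    rw [hρ]
    erw [TopCat.Presheaf.germ_res_apply]
    exact hgerm
  obtain ⟨u, hu⟩ := (IsLocalization.map_eq_zero_iff p.primeCompl _ _).1 h0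
  exact u.2 (hJp ((Submodule.mem_annihilator_span_singleton _ _).2 hu))

/-- If a section `σ` over a quasi-compact open `O` has vanishing germ at every point where all
elements of the multiplicative set `T` are invertible, then some element of `T` kills `σ`. -/
theorem exists_mem_mul_eq_zero_of_isCompact {O : X.Opens} (hO : IsCompact (O : Set X))
    (σ : Γ(X, O)) (T : Submonoid Γ(X, O))
    (H : ∀ x (hx : x ∈ O), (∀ t ∈ T, x ∈ X.basicOpen t) → X.presheaf.germ O x hx σ = 0) :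
    ∃ t ∈ T, t * σ = 0 := by
  classical
  obtain ⟨s, hs, hOs⟩ :=
    (isCompact_and_isOpen_iff_finite_and_eq_biUnion_affineOpens (X := X) (U := (O : Set X))).1
      ⟨hO, O.2⟩
  have hle : ∀ V ∈ s, (V : X.Opens) ≤ O := by
    intro V hV x hx
    have : x ∈ ⋃ i ∈ s, ((i : X.Opens) : Set X) := Set.mem_biUnion hV hx
    rw [← hOs] at this
    exact this
  -- finite induction
  have key : ∀ F : Finset X.affineOpens, (∀ V ∈ F, V ∈ s) →
      ∃ t ∈ T, ∀ V ∈ F, ∀ hVO : (V : X.Opens) ≤ O,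
        X.presheaf.map (homOfLE hVO).op (t * σ) = 0 := by
    intro F
    induction F using Finset.induction_on with
    | empty => exact fun _ => ⟨1, T.one_mem, fun V hV => absurd hV (Finset.notMem_empty V)⟩
    | insert V F hVF ih =>
      intro hF
      obtain ⟨t₁, ht₁, h₁⟩ := ih (fun W hW => hF W (Finset.mem_insert_of_mem hW))
      obtain ⟨t₂, ht₂, h₂⟩ := exists_mem_res_mul_eq_zero V.2
        (hle V (hF V (Finset.mem_insert_self V F))) σ T H
      refine ⟨t₁ * t₂, T.mul_mem ht₁ ht₂, fun W hW hWO => ?_⟩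
      rcases Finset.mem_insert.1 hW with rfl | hW
      · rw [mul_assoc, map_mul, h₂, mul_zero]
      · rw [mul_comm t₁ t₂, mul_assoc, map_mul, h₁ W hW hWO, mul_zero]
  obtain ⟨t, ht, h⟩ := key hs.toFinset (fun V hV => hs.mem_toFinset.1 hV)
  refine ⟨t, ht, ?_⟩
  refine X.sheaf.eq_of_locally_eq' (fun V : s => (V.1 : X.Opens)) O
    (fun V => homOfLE (hle V.1 V.2)) ?_ _ _ (fun V => ?_)
  · intro x hx
    have hx' : x ∈ (O : Set X) := hx
    rw [hOs] at hx'
    obtain ⟨V, hV, hxV⟩ := Set.mem_iUnion₂.1 hx'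
    exact TopologicalSpace.Opens.mem_iSup.2 ⟨⟨V, hV⟩, hxV⟩
  · refine (h V.1 (hs.mem_toFinset.2 V.2) (hle V.1 V.2)).trans ?_
    exact (map_zero (X.presheaf.map (homOfLE (hle V.1 V.2)).op).hom).symm

end Torsion

/-! ### Charts of localizing morphisms -/

section Chart

variable {X Z : Scheme.{u}}

/-- For a chart `Γ(Z, W) → Γ(X, V)` of `h` which is a localization at `S`: every point of `Z` in `W`
at which all elements of `S` are invertible is the image of a point of `V`. -/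
theorem exists_mem_apply_eq_of_forall_mem_basicOpen (h : X ⟶ Z)
    {W : Z.Opens} (hW : IsAffineOpen W) {V : X.Opens} (hV : IsAffineOpen V) (e : V ≤ h ⁻¹ᵁ W)
    (S : Submonoid Γ(Z, W)) (hS : @IsLocalization _ _ S Γ(X, V) _ (h.appLE W V e).hom.toAlgebra)
    (z : Z) (hz : z ∈ W) (H : ∀ s ∈ S, z ∈ Z.basicOpen s) : ∃ x ∈ V, h x = z := by
  letI := (h.appLE W V e).hom.toAlgebra
  set p := hW.primeIdealOf ⟨z, hz⟩ with hp
  have hpz : hW.fromSpec p = z := hW.fromSpec_primeIdealOf ⟨z, hz⟩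
  have hdis : Disjoint (S : Set Γ(Z, W)) p.asIdeal := by
    rw [Set.disjoint_left]
    intro s hs hsp
    have := H s hs
    rw [← hpz, fromSpec_mem_basicOpen_iff] at this
    exact this hsp
  have hmem : p ∈ Set.range (PrimeSpectrum.comap (algebraMap Γ(Z, W) Γ(X, V))) := by
    rw [PrimeSpectrum.localization_comap_range Γ(X, V) S]
    exact hdis
  obtain ⟨p', hp'⟩ := hmem
  refine ⟨hV.fromSpec p', fromSpec_mem hV p', ?_⟩
  have h1 := IsAffineOpen.SpecMap_appLE_fromSpec h hW hV e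
  have h2 : (hV.fromSpec ≫ h) p' = (Spec.map (h.appLE W V e) ≫ hW.fromSpec) p' := by rw [h1]
  rw [Scheme.Hom.comp_apply, Scheme.Hom.comp_apply] at h2
  rw [h2, ← hpz]
  congr 1

/-- For an injective `h` and a chart `Γ(Z, W) → Γ(X, V)` of `h` which is a localization at `S`:
a point of `X` over `W` at which all (pullbacks of) elements of `S` are invertible lies in `V`. -/
theorem mem_of_forall_mem_basicOpen (h : X ⟶ Z) (hinj : Function.Injective h.base)
    {W : Z.Opens} (hW : IsAffineOpen W) {V : X.Opens} (hV : IsAffineOpen V) (e : V ≤ h ⁻¹ᵁ W)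
    (S : Submonoid Γ(Z, W)) (hS : @IsLocalization _ _ S Γ(X, V) _ (h.appLE W V e).hom.toAlgebra)
    (x : X) (hx : h x ∈ W) (H : ∀ s ∈ S, h x ∈ Z.basicOpen s) : x ∈ V := by
  obtain ⟨x', hx', hxx⟩ := exists_mem_apply_eq_of_forall_mem_basicOpen h hW hV e S hS (h x) hx H
  rw [← hinj hxx]
  exact hx'

/-- Restricting a localizing chart to a basic open of the source chart gives a localizing chart. -/
theorem isLocHom_appLE_basicOpen (h : X ⟶ Z) {W : Z.Opens} {V : X.Opens} (hV : IsAffineOpen V)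
    (e : V ≤ h ⁻¹ᵁ W) (hloc : IsLocHom (h.appLE W V e).hom) (b : Γ(X, V)) :
    IsLocHom (h.appLE W (X.basicOpen b) ((X.basicOpen_le b).trans e)).hom := by
  have h1 : h.appLE W (X.basicOpen b) ((X.basicOpen_le b).trans e) =
      h.appLE W V e ≫ X.presheaf.map (homOfLE (X.basicOpen_le b)).op :=
    (Scheme.Hom.appLE_map h e (homOfLE (X.basicOpen_le b)).op).symm
  rw [h1, CommRingCat.hom_comp]
  refine IsLocHom.comp hloc ?_
  haveI := hV.isLocalization_basicOpen b
  exact isLocHom_of_isLocalization (A := Γ(X, V)) (B := Γ(X, X.basicOpen b)) (Submonoid.powers b)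

/-- The stalk maps of a morphism at points of a localizing chart are bijective. -/
theorem stalkMap_bijective_of_chart {X Y : Scheme.{u}} (f : X ⟶ Y) {U : Y.Opens}
    (hU : IsAffineOpen U) {V : X.Opens} (hV : IsAffineOpen V) (e : V ≤ f ⁻¹ᵁ U)
    (hloc : IsLocHom (f.appLE U V e).hom) (x : X) (hx : x ∈ V) :
    Function.Bijective (f.stalkMap x).hom := by
  obtain ⟨S, hS⟩ := hloc
  letI algAB := (f.appLE U V e).hom.toAlgebra
  letI algBQ := TopCat.Presheaf.algebra_section_stalk X.presheaf ⟨x, hx⟩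
  haveI locB : IsLocalization.AtPrime (X.presheaf.stalk x) (hV.primeIdealOf ⟨x, hx⟩).asIdeal :=
    hV.isLocalization_stalk ⟨x, hx⟩
  letI algAP := TopCat.Presheaf.algebra_section_stalk Y.presheaf ⟨f x, e hx⟩
  haveI locA : IsLocalization.AtPrime (Y.presheaf.stalk (f x))
      (hU.primeIdealOf ⟨f x, e hx⟩).asIdeal := hU.isLocalization_stalk ⟨f x, e hx⟩
  letI algAQ : Algebra Γ(Y, U) (X.presheaf.stalk x) :=
    ((algebraMap Γ(X, V) (X.presheaf.stalk x)).comp (algebraMap Γ(Y, U) Γ(X, V))).toAlgebra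
  haveI : IsScalarTower Γ(Y, U) Γ(X, V) (X.presheaf.stalk x) :=
    IsScalarTower.of_algebraMap_eq fun _ => rfl
  have h1 : IsLocalization.AtPrime (X.presheaf.stalk x)
      ((hV.primeIdealOf ⟨x, hx⟩).asIdeal.comap (algebraMap Γ(Y, U) Γ(X, V))) :=
    IsLocalization.isLocalization_isLocalization_atPrime_isLocalization S _ _
  have h2 : (hV.primeIdealOf ⟨x, hx⟩).asIdeal.comap (algebraMap Γ(Y, U) Γ(X, V)) =
      (hU.primeIdealOf ⟨f x, e hx⟩).asIdeal :=
    congrArg PrimeSpectrum.asIdeal (IsAffineOpen.comap_primeIdealOf_appLE U hU V hV e hx)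
  have hM : ((hV.primeIdealOf ⟨x, hx⟩).asIdeal.comap (algebraMap Γ(Y, U) Γ(X, V))).primeCompl =
      (hU.primeIdealOf ⟨f x, e hx⟩).asIdeal.primeCompl := by
    ext a
    change a ∉ _ ↔ a ∉ _
    rw [h2]
  haveI h3 : IsLocalization (hU.primeIdealOf ⟨f x, e hx⟩).asIdeal.primeCompl
      (X.presheaf.stalk x) := hM ▸ h1
  refine bijective_of_isLocalization_of_comp
    (hU.primeIdealOf ⟨f x, e hx⟩).asIdeal.primeCompl (f.stalkMap x).hom ?_
  ext a
  change f.stalkMap x (Y.presheaf.germ U (f x) (e hx) a) =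
    X.presheaf.germ V x hx (f.appLE U V e a)
  rw [Scheme.Hom.germ_stalkMap_apply]
  have : f.appLE U V e a = X.presheaf.map (homOfLE e).op (f.app U a) := by
    rw [Scheme.Hom.appLE]; rfl
  rw [this]
  exact (TopCat.Presheaf.germ_res_apply X.presheaf (homOfLE e) x hx _).symm

end Chart

section Main

variable {X Y Z : Scheme.{u}}

theorem basicOpen_appLE_le (g : Y ⟶ Z) {W : Z.Opens} {U : Y.Opens} (e : U ≤ g ⁻¹ᵁ W)
    (s : Γ(Z, W)) : Y.basicOpen (g.appLE W U e s) ≤ g ⁻¹ᵁ Z.basicOpen s := by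
  have h1 : g.appLE W U e s = Y.presheaf.map (homOfLE e).op (g.app W s) := by
    rw [Scheme.Hom.appLE]; rfl
  rw [h1, Y.basicOpen_res, Scheme.preimage_basicOpen]
  exact inf_le_right

theorem basicOpen_appLE_eq (g : Y ⟶ Z) {W : Z.Opens} {U : Y.Opens} (e : U ≤ g ⁻¹ᵁ W)
    (s : Γ(Z, W)) : Y.basicOpen (g.appLE W U e s) = U ⊓ g ⁻¹ᵁ Z.basicOpen s := by
  have h1 : g.appLE W U e s = Y.presheaf.map (homOfLE e).op (g.app W s) := by
    rw [Scheme.Hom.appLE]; rfl
  rw [h1, Y.basicOpen_res, Scheme.preimage_basicOpen]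

/-- In a chart which is a localization, every basic open of the source chart is the basic open of
the image of a section of the target chart. -/
theorem exists_basicOpen_eq_of_chart (f : X ⟶ Y) {U : Y.Opens} {V : X.Opens}
    (e : V ≤ f ⁻¹ᵁ U) (S : Submonoid Γ(Y, U))
    (hS : @IsLocalization _ _ S Γ(X, V) _ (f.appLE U V e).hom.toAlgebra) (b : Γ(X, V)) :
    ∃ a : Γ(Y, U), X.basicOpen b = X.basicOpen (f.appLE U V e a) := by
  letI := (f.appLE U V e).hom.toAlgebra
  obtain ⟨⟨a, s⟩, h⟩ := IsLocalization.surj S b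
  refine ⟨a, ?_⟩
  have hu : IsUnit (f.appLE U V e s.1) := IsLocalization.map_units (M := S) Γ(X, V) s
  have h' : b * f.appLE U V e s.1 = f.appLE U V e a := h
  rw [← h', Scheme.basicOpen_mul, X.basicOpen_of_isUnit hu]
  exact (inf_eq_left.2 (X.basicOpen_le b)).symm

/-- If `f ≫ g` is a localizing immersion and `f` induces injective maps on sections over all
opens (with quasi-compact preimages of affine opens), then `f` is localizing. -/
theorem isLocalizing_of_comp_of_app_injective_of_isBasis (f : X ⟶ Y) (g : Y ⟶ Z)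
    (hfg : IsLocImmersion (f ≫ g)) (B : Set Y.Opens) (hB : TopologicalSpace.Opens.IsBasis B)
    (hBaff : ∀ U ∈ B, IsAffineOpen U)
    (hc : ∀ U ∈ B, IsCompact ((f ⁻¹ᵁ U : X.Opens) : Set X))
    (hd : ∀ U ∈ B, Function.Injective (f.app U).hom) : IsLocalizing f := by
  intro x
  obtain ⟨W, V, hxV, e, hloc⟩ := hfg.1 x
  have hfx : f x ∈ g ⁻¹ᵁ W.1 := e hxV
  obtain ⟨_, ⟨U : Y.Opens, hUB : U ∈ B, rfl⟩, hxU, hUW⟩ :=
    hB.exists_subset_of_mem_open hfx (g ⁻¹ᵁ W.1).2
  have hU : IsAffineOpen U := hBaff U hUB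
  have hUW' : U ≤ g ⁻¹ᵁ W.1 := hUW
  obtain ⟨b, hbV, hxb⟩ := V.2.exists_basicOpen_le (V := V.1 ⊓ f ⁻¹ᵁ U) ⟨x, ⟨hxV, hxU⟩⟩ hxV
  have hV' : IsAffineOpen (X.basicOpen b) := V.2.basicOpen b
  have e' : X.basicOpen b ≤ (f ≫ g) ⁻¹ᵁ W.1 := (X.basicOpen_le b).trans e
  have hloc' := isLocHom_appLE_basicOpen (f ≫ g) V.2 e hloc b
  have eU : X.basicOpen b ≤ f ⁻¹ᵁ U := hbV.trans inf_le_right
  refine ⟨⟨U, hU⟩, ⟨X.basicOpen b, hV'⟩, hxb, eU, ?_⟩
  obtain ⟨S, hS⟩ := hloc'
  have hfac : g.appLE W.1 U hUW' ≫ f.appLE U (X.basicOpen b) eU =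
      (f ≫ g).appLE W.1 (X.basicOpen b) e' := Scheme.Hom.appLE_comp_appLE f g _ _ _ _ _
  refine isLocHom_of_comp' (g.appLE W.1 U hUW').hom (f.appLE U (X.basicOpen b) eU).hom
    ((f ≫ g).appLE W.1 (X.basicOpen b) e').hom (by rw [← CommRingCat.hom_comp, hfac]) S hS ?_
  intro c hc0
  set γ := (g.appLE W.1 U hUW').hom with hγ
  let T : Submonoid Γ(X, f ⁻¹ᵁ U) := S.map ((f.app U).hom.comp γ)
  obtain ⟨t, ⟨s, hs, rfl⟩, ht⟩ := exists_mem_mul_eq_zero_of_isCompact (hc U hUB) (f.app U c) T (by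
    intro x' hx' Hx'
    have hx'V : x' ∈ X.basicOpen b := by
      refine mem_of_forall_mem_basicOpen (f ≫ g) hfg.2 W.2 hV' e' S hS x' (hUW' hx') ?_
      intro s hs
      have h1 : x' ∈ X.basicOpen ((f.app U).hom (γ s)) := Hx' _ ⟨s, hs, rfl⟩
      have h2 : x' ∈ f ⁻¹ᵁ Y.basicOpen (γ s) := by
        rw [Scheme.preimage_basicOpen]; exact h1
      exact basicOpen_appLE_le g hUW' s h2
    have h3 : X.presheaf.germ (f ⁻¹ᵁ U) x' hx' (f.app U c) =
        X.presheaf.germ (X.basicOpen b) x' hx'V (f.appLE U (X.basicOpen b) eU c) := by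
      have : f.appLE U (X.basicOpen b) eU c =
          X.presheaf.map (homOfLE eU).op (f.app U c) := by
        rw [Scheme.Hom.appLE]; rfl
      rw [this]
      exact (TopCat.Presheaf.germ_res_apply X.presheaf (homOfLE eU) x' hx'V _).symm
    rw [h3]
    have : f.appLE U (X.basicOpen b) eU c = 0 := hc0
    rw [this, map_zero])
  refine ⟨s, hs, hd U hUB ?_⟩
  rw [map_zero, map_mul]
  exact ht

/-- If `f ≫ g` is a localizing immersion and `f` induces injective maps on sections over all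
opens (with quasi-compact preimages of affine opens), then `f` is localizing. -/
theorem isLocalizing_of_comp_of_app_injective (f : X ⟶ Y) (g : Y ⟶ Z)
    (hfg : IsLocImmersion (f ≫ g))
    (hc : ∀ U : Y.Opens, IsAffineOpen U → IsCompact ((f ⁻¹ᵁ U : X.Opens) : Set X))
    (hd : ∀ U : Y.Opens, Function.Injective (f.app U).hom) : IsLocalizing f :=
  isLocalizing_of_comp_of_app_injective_of_isBasis f g hfg Y.affineOpens Y.isBasis_affineOpens
    (fun _ hU => hU) hc (fun U _ => hd U)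

/-- At points of a chart which is a localization at `S`, all elements of `S` are invertible. -/
theorem apply_mem_basicOpen_of_mem_chart (f : X ⟶ Y) {U : Y.Opens} {V : X.Opens}
    (e : V ≤ f ⁻¹ᵁ U) (S : Submonoid Γ(Y, U))
    (hS : @IsLocalization _ _ S Γ(X, V) _ (f.appLE U V e).hom.toAlgebra)
    (x : X) (hx : x ∈ V) (s : Γ(Y, U)) (hs : s ∈ S) : f x ∈ Y.basicOpen s := by
  letI := (f.appLE U V e).hom.toAlgebra
  have hu : IsUnit (f.appLE U V e s) := IsLocalization.map_units (M := S) Γ(X, V) ⟨s, hs⟩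
  have h1 : X.basicOpen (f.appLE U V e s) = V := X.basicOpen_of_isUnit hu
  have h2 : x ∈ X.basicOpen (f.appLE U V e s) := by rw [h1]; exact hx
  exact basicOpen_appLE_le f e s h2

theorem stalkMap_bijective_of_isLocalizing {f : X ⟶ Y} (hf : IsLocalizing f) (x : X) :
    Function.Bijective (f.stalkMap x).hom := by
  obtain ⟨U, V, hxV, e, hloc⟩ := hf x
  exact stalkMap_bijective_of_chart f U.2 V.2 e hloc x hxV

theorem isIso_stalkMap_of_isLocalizing {f : X ⟶ Y} (hf : IsLocalizing f) (x : X) :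
    IsIso (f.stalkMap x) :=
  (ConcreteCategory.isIso_iff_bijective _).2 (stalkMap_bijective_of_isLocalizing hf x)

theorem surjectiveOnStalks_of_isLocalizing {f : X ⟶ Y} (hf : IsLocalizing f) :
    SurjectiveOnStalks f :=
  ⟨fun x => (stalkMap_bijective_of_isLocalizing hf x).2⟩

theorem mono_of_isLocImmersion {f : X ⟶ Y} (hf : IsLocImmersion f) : Mono f := by
  haveI := surjectiveOnStalks_of_isLocalizing hf.1
  exact SurjectiveOnStalks.mono_of_injective hf.2

theorem isLocImmersion_iff_mono {f : X ⟶ Y} :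
    IsLocImmersion f ↔ IsLocalizing f ∧ Mono f :=
  ⟨fun h => ⟨h.1, mono_of_isLocImmersion h⟩, fun ⟨h1, _⟩ => ⟨h1, f.injective⟩⟩

theorem flat_of_isLocalizing {f : X ⟶ Y} (hf : IsLocalizing f) : Flat f :=
  (Flat.iff_flat_stalkMap f).2 fun x =>
    RingHom.Flat.of_bijective (stalkMap_bijective_of_isLocalizing hf x)

/-- The image of a localizing immersion is stable under generalization. -/
theorem stableUnderGeneralization_range_of_isLocalizing {f : X ⟶ Y} (hf : IsLocalizing f) :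
    StableUnderGeneralization (Set.range f) := by
  rintro _ y' hy ⟨x, rfl⟩
  obtain ⟨U, V, hxV, e, S, hS⟩ := hf x
  have hy'U : y' ∈ U.1 := hy.mem_open U.1.2 (e hxV)
  obtain ⟨x', -, hx'⟩ := exists_mem_apply_eq_of_forall_mem_basicOpen f U.2 V.2 e S hS y' hy'U
    (fun s hs => hy.mem_open (Y.basicOpen s).2
      (apply_mem_basicOpen_of_mem_chart f e S hS x hxV s hs))
  exact ⟨x', hx'⟩

/-- For an injective quasi-compact morphism and a chart which is a localization, the point of the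
target has an open neighbourhood inside the target chart whose preimage lies in the source
chart. -/
theorem exists_open_nhd_preimage_le_of_chart (f : X ⟶ Y) [QuasiCompact f]
    (hinj : Function.Injective f.base) {U : Y.Opens} (hU : IsAffineOpen U) {V : X.Opens}
    (hV : IsAffineOpen V) (e : V ≤ f ⁻¹ᵁ U) (S : Submonoid Γ(Y, U))
    (hS : @IsLocalization _ _ S Γ(X, V) _ (f.appLE U V e).hom.toAlgebra)
    (x : X) (hx : x ∈ V) : ∃ W : Y.Opens, f x ∈ W ∧ W ≤ U ∧ f ⁻¹ᵁ W ≤ V := by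
  let K : TopologicalSpace.Closeds X := ⟨(V : Set X)ᶜ, V.2.isClosed_compl⟩
  let I := Scheme.IdealSheafData.vanishingIdeal K
  have hrange : Set.range I.subschemeι = (V : Set X)ᶜ := by
    rw [Scheme.IdealSheafData.range_subschemeι, Scheme.IdealSheafData.coe_support_vanishingIdeal]
    rfl
  have hnot : f x ∉ closure (Set.range (I.subschemeι ≫ f).base) := by
    intro hcl
    obtain ⟨z, hz⟩ := exists_specializes_of_mem_closure_range (I.subschemeι ≫ f) (f x) hcl
    have hξ : I.subschemeι z ∈ (V : Set X)ᶜ := by rw [← hrange]; exact ⟨z, rfl⟩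
    have hz' : f (I.subschemeι z) ⤳ f x := hz
    apply hξ
    refine mem_of_forall_mem_basicOpen f hinj hU hV e S hS _ (hz'.mem_open U.2 (e hx)) ?_
    intro s hs
    exact hz'.mem_open (Y.basicOpen s).2 (apply_mem_basicOpen_of_mem_chart f e S hS x hx s hs)
  refine ⟨U ⊓ ⟨(closure (Set.range (I.subschemeι ≫ f).base))ᶜ, isClosed_closure.isOpen_compl⟩,
    ⟨e hx, hnot⟩, inf_le_left, ?_⟩
  rintro x' ⟨-, hx'⟩
  by_contra hx'V
  have : x' ∈ Set.range I.subschemeι := by rw [hrange]; exact hx'V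
  obtain ⟨z, rfl⟩ := this
  exact hx' (subset_closure ⟨z, rfl⟩)

/-- A chart which is a localization is injective on points. -/
theorem eq_of_apply_eq_of_chart (f : X ⟶ Y) {U : Y.Opens} (hU : IsAffineOpen U) {V : X.Opens}
    (hV : IsAffineOpen V) (e : V ≤ f ⁻¹ᵁ U) (hloc : IsLocHom (f.appLE U V e).hom)
    {x₁ x₂ : X} (h₁ : x₁ ∈ V) (h₂ : x₂ ∈ V) (h : f x₁ = f x₂) : x₁ = x₂ := by
  obtain ⟨S, hS⟩ := hloc
  letI := (f.appLE U V e).hom.toAlgebra
  have e₁ := IsAffineOpen.comap_primeIdealOf_appLE U hU V hV e h₁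
  have e₂ := IsAffineOpen.comap_primeIdealOf_appLE U hU V hV e h₂
  have e₃ : hU.primeIdealOf ⟨f x₁, e h₁⟩ = hU.primeIdealOf ⟨f x₂, e h₂⟩ := by
    congr 1
    exact Subtype.ext h
  have e₄ : hV.primeIdealOf ⟨x₁, h₁⟩ = hV.primeIdealOf ⟨x₂, h₂⟩ :=
    PrimeSpectrum.localization_comap_injective Γ(X, V) S (e₁.trans (e₃.trans e₂.symm))
  have := hV.fromSpec_primeIdealOf ⟨x₁, h₁⟩
  rw [e₄, hV.fromSpec_primeIdealOf ⟨x₂, h₂⟩] at this
  exact this.symm

/-- Shrinking a chart which is a localization to a basic open of the target chart. -/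
theorem isLocHom_appLE_basicOpen_target (f : X ⟶ Y) {U : Y.Opens} (hU : IsAffineOpen U)
    {V : X.Opens} (hV : IsAffineOpen V) (e : V ≤ f ⁻¹ᵁ U) (hloc : IsLocHom (f.appLE U V e).hom)
    (a : Γ(Y, U)) (V₁ : X.Opens) (hV₁ : V₁ = X.basicOpen (f.appLE U V e a))
    (e₁ : V₁ ≤ f ⁻¹ᵁ Y.basicOpen a) : IsLocHom (f.appLE (Y.basicOpen a) V₁ e₁).hom := by
  subst hV₁
  obtain ⟨S, hS⟩ := isLocHom_appLE_basicOpen f hV e hloc (f.appLE U V e a)
  set e₂ := (X.basicOpen_le (f.appLE U V e a)).trans e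
  have hfac : Y.presheaf.map (homOfLE (Y.basicOpen_le a)).op ≫
      f.appLE (Y.basicOpen a) (X.basicOpen (f.appLE U V e a)) e₁ =
      f.appLE U (X.basicOpen (f.appLE U V e a)) e₂ := Scheme.Hom.map_appLE f e₁ _
  refine isLocHom_of_comp' (Y.presheaf.map (homOfLE (Y.basicOpen_le a)).op).hom
    (f.appLE (Y.basicOpen a) (X.basicOpen (f.appLE U V e a)) e₁).hom
    (f.appLE U (X.basicOpen (f.appLE U V e a)) e₂).hom
    (by rw [← CommRingCat.hom_comp, hfac]) S hS ?_
  intro c hc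
  letI := (f.appLE U (X.basicOpen (f.appLE U V e a)) e₂).hom.toAlgebra
  haveI := hU.isLocalization_basicOpen a
  obtain ⟨n, c₀, hc₀⟩ := IsLocalization.Away.surj a c
  set γ := (Y.presheaf.map (homOfLE (Y.basicOpen_le a)).op).hom with hγ
  have hγ' : ∀ r, algebraMap Γ(Y, U) Γ(Y, Y.basicOpen a) r = γ r := fun _ => rfl
  rw [hγ', hγ'] at hc₀
  set ψ := (f.appLE (Y.basicOpen a) (X.basicOpen (f.appLE U V e a)) e₁).hom with hψ
  have h0 : algebraMap Γ(Y, U) Γ(X, X.basicOpen (f.appLE U V e a)) c₀ = 0 := by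
    change (f.appLE U (X.basicOpen (f.appLE U V e a)) e₂).hom c₀ = 0
    rw [← hfac, CommRingCat.hom_comp, RingHom.comp_apply, ← hγ, ← hc₀, map_mul, ← hψ, hc,
      zero_mul]
  obtain ⟨s, hs⟩ := (IsLocalization.map_eq_zero_iff S _ c₀).1 h0
  refine ⟨s.1, s.2, ?_⟩
  have hu : IsUnit (γ a ^ n) := IsLocalization.Away.algebraMap_pow_isUnit a n
  apply hu.mul_left_injective
  change γ s.1 * c * γ a ^ n = 0 * γ a ^ n
  rw [zero_mul, mul_assoc, hc₀, ← map_mul, hs, map_zero]

/-- A quasi-compact localizing immersion is a topological embedding. -/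
theorem isEmbedding_of_isLocImmersion {f : X ⟶ Y} [QuasiCompact f] (hf : IsLocImmersion f) :
    Topology.IsEmbedding f := by
  refine ⟨⟨le_antisymm (continuous_iff_le_induced.1 f.continuous) ?_⟩, hf.2⟩
  intro N hN
  rw [isOpen_induced_iff]
  have key : ∀ x ∈ N, ∃ N' : Y.Opens, f x ∈ N' ∧ f ⁻¹' (N' : Set Y) ⊆ N := by
    intro x hxN
    obtain ⟨U, V, hxV, e, S, hS⟩ := hf.1 x
    obtain ⟨W', hxW', -, hW'V⟩ := exists_open_nhd_preimage_le_of_chart f hf.2 U.2 V.2 e S hS x hxV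
    obtain ⟨b, hbO, hxb⟩ := V.2.exists_basicOpen_le (V := ⟨N, hN⟩ ⊓ f ⁻¹ᵁ W')
      ⟨x, ⟨hxN, hxW'⟩⟩ hxV
    obtain ⟨a, ha⟩ := exists_basicOpen_eq_of_chart f e S hS b
    rw [ha, basicOpen_appLE_eq] at hxb hbO
    refine ⟨W' ⊓ Y.basicOpen a, ⟨hxW', hxb.2⟩, ?_⟩
    rintro x' ⟨hx'W, hx'a⟩
    exact (hbO ⟨hW'V hx'W, hx'a⟩).1
  choose! N' h1 h2 using key
  refine ⟨⋃ x ∈ N, (N' x : Set Y), isOpen_biUnion (fun x _ => (N' x).2), ?_⟩
  ext x
  simp only [Set.preimage_iUnion, Set.mem_iUnion, Set.mem_preimage, exists_prop]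
  constructor
  · rintro ⟨x', hx', hx⟩
    exact h2 x' hx' hx
  · intro hx
    exact ⟨x, hx, h1 x hx⟩

end Main

/-! ### Base change -/

section BaseChange

theorem isLocHom_of_isPushout {A B A' P : CommRingCat.{u}} {φ : A ⟶ B} {γ : A ⟶ A'}
    {β : B ⟶ P} {α : A' ⟶ P} (h : IsPushout φ γ β α) (hφ : IsLocHom φ.hom) :
    IsLocHom α.hom := by
  obtain ⟨S, hS⟩ := hφ
  letI := φ.hom.toAlgebra
  letI := γ.hom.toAlgebra
  letI := α.hom.toAlgebra
  letI := β.hom.toAlgebra
  letI := (α.hom.comp γ.hom).toAlgebra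
  haveI : IsScalarTower A A' P := IsScalarTower.of_algebraMap_eq fun _ => rfl
  haveI : IsScalarTower A B P := IsScalarTower.of_algebraMap_eq fun a => by
    change (γ ≫ α) a = (φ ≫ β) a
    rw [h.w]
  have h1 : Algebra.IsPushout A A' B P := CommRingCat.isPushout_iff_isPushout.mp h.flip
  haveI : IsLocalization (Algebra.algebraMapSubmonoid A' S) P :=
    (Algebra.isLocalization_iff_isPushout S B).2 h1
  exact isLocHom_of_isLocalization (A := A') (B := P) (Algebra.algebraMapSubmonoid A' S)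

theorem isLocalizing_pullback_snd {X Y Y' : Scheme.{u}} (f : X ⟶ Y) (g : Y' ⟶ Y)
    (hf : IsLocalizing f) : IsLocalizing (pullback.snd f g) := by
  intro w
  obtain ⟨U, V, hxV, e, hloc⟩ := hf (pullback.fst f g w)
  have hy' : pullback.snd f g w ∈ g ⁻¹ᵁ U.1 := by
    have : g (pullback.snd f g w) = f (pullback.fst f g w) := by
      rw [← Scheme.Hom.comp_apply, ← Scheme.Hom.comp_apply, pullback.condition]
    change g (pullback.snd f g w) ∈ U.1
    rw [this]
    exact e hxV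
  obtain ⟨_, ⟨U' : Y'.Opens, hU' : IsAffineOpen U', rfl⟩, hyU', hU'U⟩ :=
    Y'.isBasis_affineOpens.exists_subset_of_mem_open hy' (g ⁻¹ᵁ U.1).2
  have hU'U' : U' ≤ g ⁻¹ᵁ U.1 := hU'U
  have H : IsPullback (pullback.fst f g) (pullback.snd f g) f g := IsPullback.of_hasPullback f g
  have hiso := isIso_pushoutSection_of_isAffineOpen H hU'U' e
    (UY := pullback.fst f g ⁻¹ᵁ V.1 ⊓ pullback.snd f g ⁻¹ᵁ U') rfl U.2 hU' V.2
  have hpo := (isIso_pushoutSection_iff H hU'U' e rfl).1 hiso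
  have hUYaff : IsAffineOpen (pullback.fst f g ⁻¹ᵁ V.1 ⊓ pullback.snd f g ⁻¹ᵁ U') := by
    have : IsAffine U.1 := U.2
    have : IsAffine U' := hU'
    have : IsAffine V.1 := V.2
    exact .of_isIso (Scheme.Hom.isPullback_resLE H hU'U' e rfl).isoPullback.hom
  refine ⟨⟨U', hU'⟩, ⟨_, hUYaff⟩, ⟨hxV, hyU'⟩, inf_le_right, ?_⟩
  exact isLocHom_of_isPushout hpo hloc

theorem isLocImmersion_pullback_snd {X Y Y' : Scheme.{u}} (f : X ⟶ Y) (g : Y' ⟶ Y)
    (hf : IsLocImmersion f) : IsLocImmersion (pullback.snd f g) := by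
  haveI := mono_of_isLocImmersion hf
  exact ⟨isLocalizing_pullback_snd f g hf.1, (pullback.snd f g).injective⟩

end BaseChange

end Groth.Agent.Lib.Helper41
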