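import Mathlib
import Groth.Agent.Lib.Helper82.EffCartier
import Groth.Agent.Lib.Helper82.EffCartierCompl
import Groth.Prelude.Def_BlowUp2

/-!
# Effective Cartier ideals pulled back to a scheme in which the complement is schematically dense

If `D` is an effective Cartier ideal on `X'`, `h : T ⟶ X'` any morphism and `j : W ⟶ T` a quasi-compact
scheme-theoretically dominant morphism whose image in `X'` misses the support of `D`, then `D.comap h`
is effective Cartier on `T`.
-/

universe u

open CategoryTheory CategoryTheory.Limits AlgebraicGeometry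

namespace Groth.Agent.Lib.Helper41.EffCartierClosure

open Groth.Agent.Lib.Helper82

/-- For quasi-compact `j`, the morphism to the scheme-theoretic image is scheme-theoretically
dominant. -/
theorem isSchemeTheoreticallyDominant_toImage {W P : Scheme.{u}} (j : W ⟶ P) [QuasiCompact j] :
    IsSchemeTheoreticallyDominant j.toImage := by
  constructor
  refine Scheme.IdealSheafData.ext_of_iSup_eq_top
    (fun V : P.affineOpens => ⟨j.imageι ⁻¹ᵁ V.1, V.2.preimage j.imageι⟩) ?_ ?_
  · rw [eq_top_iff]
    intro x _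
    obtain ⟨V, hV, hxV, -⟩ := exists_isAffineOpen_mem_and_subset (U := ⊤) (x := j.imageι x)
      (by simp)
    exact TopologicalSpace.Opens.mem_iSup.mpr ⟨⟨V, hV⟩, hxV⟩
  · intro V
    rw [Scheme.Hom.ker_apply, Scheme.IdealSheafData.ideal_bot]
    simp only [Pi.bot_apply]
    exact (RingHom.injective_iff_ker_eq_bot _).mp (j.toImage_app_injective V)

theorem isEffCartierIdeal_comap_of_dominant {T X' W : Scheme.{u}} (D : X'.IdealSheafData)
    (hD : BlowUp.IsEffCartierIdeal D) (h : T ⟶ X') (j : W ⟶ T) [QuasiCompact j]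
    [IsSchemeTheoreticallyDominant j] (hW : ∀ w : W, h (j w) ∉ D.support) :
    BlowUp.IsEffCartierIdeal (D.comap h) := by
  intro t
  obtain ⟨V', htV', f, hf, hfD⟩ := hD (h t)
  obtain ⟨A, hA, htA, hAV⟩ := exists_isAffineOpen_mem_and_subset (U := h ⁻¹ᵁ V'.1) (x := t) htV'
  replace hAV : A ≤ h ⁻¹ᵁ V'.1 := hAV
  set f' := (h.appLE V'.1 A hAV).hom f with hf'
  have hunit : IsUnit ((j.app A).hom f') := by
    have hle : j ⁻¹ᵁ A ≤ W.basicOpen ((j.app A).hom f') := by
      have e1 : W.basicOpen ((j.app A).hom f') = j ⁻¹ᵁ (T.basicOpen f') :=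
        (Scheme.preimage_basicOpen j f').symm
      rw [e1, hf', Scheme.basicOpen_appLE]
      intro w hw
      refine ⟨hw, ?_⟩
      have h1 : h (j w) ∈ (D.support.compl : X'.Opens) ⊓ V'.1 := ⟨hW w, hAV hw⟩
      rw [compl_support_inf_eq_basicOpen D V' f hfD] at h1
      exact h1
    apply RingedSpace.isUnit_of_isUnit_germ W.toRingedSpace
    intro x hx
    exact (Scheme.mem_basicOpen W _ x hx).mp (hle hx)
  refine ⟨⟨A, hA⟩, htA, f', ?_, ?_⟩
  · rw [mem_nonZeroDivisors_iff_right]
    intro g hg
    apply Scheme.Hom.app_injective j A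
    rw [map_zero]
    have h5 : (j.app A).hom g * (j.app A).hom f' = 0 := by
      rw [← map_mul, hg, map_zero]
    exact hunit.mul_left_eq_zero.mp h5
  · have h1 := ideal_comap_of_le h D A hA V'.1 V'.2 hAV
    have h3 : D.ideal ⟨V'.1, V'.2⟩ = Ideal.span {f} := hfD
    rw [h3, Ideal.map_span, Set.image_singleton] at h1
    exact h1

end Groth.Agent.Lib.Helper41.EffCartierClosure
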