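import Mathlib.AlgebraicGeometry.ResidueField
import Mathlib.AlgebraicGeometry.IdealSheaf.Subscheme
import Mathlib.AlgebraicGeometry.IdealSheaf.Functorial
import Mathlib.AlgebraicGeometry.Morphisms.ClosedImmersion
import Mathlib.AlgebraicGeometry.Morphisms.Preimmersion
import Mathlib.RingTheory.Valuation.ValuationSubring

/-!
# Field-valued points, and morphisms from reduced schemes into closed subsets
-/

set_option autoImplicit false
universe u

open CategoryTheory CategoryTheory.Limits AlgebraicGeometry IsLocalRing TopologicalSpace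

namespace Groth.Agent.Lib.Helper41.FieldPoints

/-- Two `K`-points of `P` with the same image point `x` and the same composite with `q : P ⟶ Q`
agree, provided the residue field extension of `q` at `x` is trivial. -/
theorem hom_ext_of_residueFieldMap_surjective {K : Type u} [Field K] {P Q : Scheme.{u}}
    (q : P ⟶ Q) (a b : Spec (CommRingCat.of K) ⟶ P)
    (hpt : a.base (closedPoint K) = b.base (closedPoint K))
    (hsurj : Function.Surjective (q.residueFieldMap (a.base (closedPoint K))).hom)
    (hq : a ≫ q = b ≫ q) : a = b := by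
  let x : P := a.base (closedPoint K)
  let φa : P.residueField x ⟶ CommRingCat.of K :=
    Scheme.descResidueField (Scheme.stalkClosedPointTo a)
  have hφa : Spec.map φa ≫ P.fromSpecResidueField x = a :=
    Scheme.descResidueField_stalkClosedPointTo_fromSpecResidueField K P a
  let φb₀ : P.residueField (b.base (closedPoint K)) ⟶ CommRingCat.of K :=
    Scheme.descResidueField (Scheme.stalkClosedPointTo b)
  have hφb₀ : Spec.map φb₀ ≫ P.fromSpecResidueField (b.base (closedPoint K)) = b :=
    Scheme.descResidueField_stalkClosedPointTo_fromSpecResidueField K P b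
  let φb : P.residueField x ⟶ CommRingCat.of K := (P.residueFieldCongr hpt).hom ≫ φb₀
  have hφb : Spec.map φb ≫ P.fromSpecResidueField x = b := by
    rw [Spec.map_comp, Category.assoc, Scheme.residueFieldCongr_fromSpecResidueField, hφb₀]
  have h1 : Spec.map (q.residueFieldMap x ≫ φa) ≫ Q.fromSpecResidueField (q.base x) =
      Spec.map (q.residueFieldMap x ≫ φb) ≫ Q.fromSpecResidueField (q.base x) := by
    rw [Spec.map_comp, Spec.map_comp, Category.assoc, Category.assoc,
      Scheme.Hom.SpecMap_residueFieldMap_fromSpecResidueField, ← Category.assoc,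
      ← Category.assoc, hφa, hφb, hq]
  have h2 : q.residueFieldMap x ≫ φa = q.residueFieldMap x ≫ φb :=
    Spec.map_injective ((cancel_mono _).1 h1)
  have h3 : φa = φb := by
    ext w
    obtain ⟨v, rfl⟩ := hsurj w
    exact congr($h2 v)
  rw [← hφa, ← hφb, h3]

/-- If a `K`-point `σ` of `P` lies over the generic point `Spec K ⟶ Spec A` of a valuation
subring `A` of `K`, then the residue field of `P` at the image of `σ` is the residue field of
`Spec A` at its image. -/
theorem residueFieldMap_surjective_of_valuationSubring {K : Type u} [Field K]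
    (A : ValuationSubring K) {P : Scheme.{u}} (q : P ⟶ Spec (CommRingCat.of A))
    (σ : Spec (CommRingCat.of K) ⟶ P)
    (hσ : σ ≫ q = Spec.map (CommRingCat.ofHom A.subtype)) :
    Function.Surjective (q.residueFieldMap (σ.base (closedPoint K))).hom := by
  let x : P := σ.base (closedPoint K)
  let φ : P.residueField x ⟶ CommRingCat.of K :=
    Scheme.descResidueField (Scheme.stalkClosedPointTo σ)
  have hφ : Spec.map φ ≫ P.fromSpecResidueField x = σ :=
    Scheme.descResidueField_stalkClosedPointTo_fromSpecResidueField K P σ
  let ψ : (Spec (CommRingCat.of A)).residueField (q.base x) ⟶ CommRingCat.of K :=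
    q.residueFieldMap x ≫ φ
  have hψ : Spec.map ψ ≫ (Spec (CommRingCat.of A)).fromSpecResidueField (q.base x) =
      Spec.map (CommRingCat.ofHom A.subtype) := by
    rw [Spec.map_comp, Category.assoc, Scheme.Hom.SpecMap_residueFieldMap_fromSpecResidueField,
      ← Category.assoc, hφ, hσ]
  let ev : CommRingCat.of A ⟶ (Spec (CommRingCat.of A)).residueField (q.base x) :=
    (Scheme.ΓSpecIso (CommRingCat.of A)).inv ≫
      (Spec (CommRingCat.of A)).presheaf.germ ⊤ (q.base x) trivial ≫
      (Spec (CommRingCat.of A)).residue (q.base x)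
  have hring : ev ≫ ψ = CommRingCat.ofHom A.subtype := by
    apply Spec.map_injective
    rw [← hψ, Scheme.fromSpecResidueField, Spec.fromSpecStalk_eq, ← Spec.map_comp,
      ← Spec.map_comp]
    simp only [ev, Category.assoc]
  have hA : ∀ a : A, ∃ w, ψ.hom w = (a : K) := fun a => ⟨ev.hom a, by
    change (ev ≫ ψ).hom a = _
    rw [hring]
    rfl⟩
  have hψsurj : Function.Surjective ψ.hom := by
    intro z
    rcases A.mem_or_inv_mem z with hz | hz
    · exact hA ⟨z, hz⟩
    · obtain ⟨w, hw⟩ := hA ⟨z⁻¹, hz⟩
      refine ⟨w⁻¹, ?_⟩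
      rw [map_inv₀, hw, inv_inv]
  intro w
  obtain ⟨v, hv⟩ := hψsurj (φ.hom w)
  exact ⟨v, φ.hom.injective hv⟩

/-- A morphism from a reduced scheme whose image lies in a closed subset factors through the
reduced induced closed subscheme. -/
theorem exists_lift_subscheme_of_isReduced {W X : Scheme.{u}} [IsReduced W] (h : W ⟶ X)
    (C : Closeds X) (hh : Set.range h.base ⊆ (C : Set X)) :
    ∃ g : W ⟶ (Scheme.IdealSheafData.vanishingIdeal C).subscheme,
      g ≫ (Scheme.IdealSheafData.vanishingIdeal C).subschemeι = h := by
  have hker : (Scheme.IdealSheafData.vanishingIdeal C).subschemeι.ker ≤ h.ker := by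
    rw [Scheme.IdealSheafData.ker_subschemeι, ← Scheme.IdealSheafData.map_bot h,
      ← Scheme.nilradical_eq_bot, ← Scheme.IdealSheafData.vanishingIdeal_top,
      Scheme.IdealSheafData.map_vanishingIdeal]
    apply Scheme.IdealSheafData.vanishingIdeal_antimono
    intro x hx
    change x ∈ closure (h.base '' Set.univ) at hx
    rw [Set.image_univ] at hx
    exact closure_minimal hh C.isClosed hx
  exact ⟨IsClosedImmersion.lift _ h hker, IsClosedImmersion.lift_fac _ _ _⟩

/-- A morphism from the spectrum of a domain sending the generic point into a closed subset has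
image in that closed subset. -/
theorem range_subset_of_bot_mem {R : Type u} [CommRing R] [IsDomain R] {X : Scheme.{u}}
    (l : Spec (CommRingCat.of R) ⟶ X) {C : Set X} (hC : IsClosed C)
    (h : l.base (⟨⊥, Ideal.isPrime_bot⟩ : PrimeSpectrum R) ∈ C) : Set.range l.base ⊆ C := by
  rintro _ ⟨p, rfl⟩
  have h1 : (⟨⊥, Ideal.isPrime_bot⟩ : PrimeSpectrum R) ⤳ p :=
    (PrimeSpectrum.le_iff_specializes _ _).mp bot_le
  exact (h1.map l.continuous).mem_closed hC h

end Groth.Agent.Lib.Helper41.FieldPoints
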