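import Groth.Agent.Lib.Helper41.Goldman
import Mathlib.AlgebraicGeometry.Morphisms.Finite
import Mathlib.AlgebraicGeometry.Morphisms.FiniteType
import Mathlib.AlgebraicGeometry.ResidueField
import Mathlib.Topology.LocallyClosed

set_option autoImplicit false
set_option linter.style.haveILetI false
universe u

namespace Groth.Agent.Lib.Helper41

open AlgebraicGeometry CategoryTheory

theorem isLocallyClosed_singleton_ker {A k : Type*} [CommRing A] [Field k] (φ : A →+* k)
    (hφ : φ.FiniteType) :
    IsLocallyClosed ({PrimeSpectrum.comap φ (IsLocalRing.closedPoint k)} : Set (PrimeSpectrum A)) := by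
  obtain ⟨f, hf, hq⟩ := exists_forall_prime_eq_ker φ hφ
  refine ⟨PrimeSpectrum.basicOpen f, PrimeSpectrum.zeroLocus (RingHom.ker φ),
    (PrimeSpectrum.basicOpen f).isOpen, PrimeSpectrum.isClosed_zeroLocus _, ?_⟩
  have hker : (PrimeSpectrum.comap φ (IsLocalRing.closedPoint k)).asIdeal = RingHom.ker φ := by
    ext x
    change φ x ∈ IsLocalRing.maximalIdeal k ↔ _
    rw [IsLocalRing.maximalIdeal_eq_bot, Ideal.mem_bot, RingHom.mem_ker]
  ext q
  simp only [Set.mem_singleton_iff, Set.mem_inter_iff, SetLike.mem_coe,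
    PrimeSpectrum.mem_basicOpen, PrimeSpectrum.mem_zeroLocus, SetLike.coe_subset_coe]
  constructor
  · rintro rfl
    refine ⟨?_, hker.ge⟩
    rw [hker, RingHom.mem_ker]
    exact hf
  · rintro ⟨h1, h2⟩
    apply PrimeSpectrum.ext
    rw [hker]
    exact hq q.asIdeal q.2 h2 h1

theorem isLocallyClosed_singleton_of_locallyOfFiniteType {S : Scheme.{u}} {K : Type u} [Field K]
    (f : Spec (CommRingCat.of K) ⟶ S) [LocallyOfFiniteType f] :
    IsLocallyClosed ({f.base (IsLocalRing.closedPoint K)} : Set S) := by
  obtain ⟨_, ⟨U : S.Opens, hU : IsAffineOpen U, rfl⟩, hxU, -⟩ :=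
    S.isBasis_affineOpens.exists_subset_of_mem_open
      (Set.mem_univ (f.base (IsLocalRing.closedPoint K))) isOpen_univ
  have hrange : Set.range f.base ⊆ Set.range U.ι.base := by
    rintro _ ⟨x, rfl⟩
    have : x = IsLocalRing.closedPoint K := Subsingleton.elim _ _
    rw [this, Scheme.Opens.range_ι]
    exact hxU
  let g : Spec (CommRingCat.of K) ⟶ U := IsOpenImmersion.lift U.ι f hrange
  have hg : g ≫ U.ι = f := IsOpenImmersion.lift_fac _ _ _
  have hgLFT : LocallyOfFiniteType g := by
    have : LocallyOfFiniteType (g ≫ U.ι) := by rw [hg]; infer_instance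
    exact locallyOfFiniteType_of_comp g U.ι
  let g' : Spec (CommRingCat.of K) ⟶ Spec Γ(S, U) := g ≫ hU.isoSpec.hom
  obtain ⟨φ, hφ⟩ := Spec.map_surjective g'
  have hφFT : φ.hom.FiniteType := by
    have : LocallyOfFiniteType (Spec.map φ) := by rw [hφ]; infer_instance
    exact (HasRingHomProperty.Spec_iff (P := @LocallyOfFiniteType)).mp this
  have h1 := isLocallyClosed_singleton_ker φ.hom hφFT
  have h2 : IsLocallyClosed ({g'.base (IsLocalRing.closedPoint K)} : Set (Spec Γ(S, U))) := by
    rw [← hφ]
    exact h1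
  have h3 : IsLocallyClosed ({g.base (IsLocalRing.closedPoint K)} : Set U) := by
    have := h2.preimage hU.isoSpec.hom.continuous
    convert this using 1
    ext x
    simp only [Set.mem_singleton_iff, Set.mem_preimage, g', Scheme.Hom.comp_base,
      TopCat.comp_app]
    exact (hU.isoSpec.hom.homeomorph.injective.eq_iff).symm
  have h4 := h3.image U.ι.isEmbedding.isInducing U.ι.isOpenEmbedding.isOpen_range.isLocallyClosed
  rw [Set.image_singleton] at h4
  rw [← hg]
  exact h4

theorem exists_affineOpen_isClosed_of_isLocallyClosed {S : Scheme.{u}} {s : S}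
    (hs : IsLocallyClosed ({s} : Set S)) :
    ∃ U : S.Opens, IsAffineOpen U ∧ ∃ hs : s ∈ U, IsClosed ({⟨s, hs⟩} : Set ↥U) := by
  have htfae := (isLocallyClosed_tfae ({s} : Set S)).out 0 3
  obtain ⟨V, hsV, hV, hVs⟩ := htfae.mp hs s rfl
  obtain ⟨_, ⟨U : S.Opens, hU : IsAffineOpen U, rfl⟩, hsU, hUV⟩ :=
    S.isBasis_affineOpens.exists_subset_of_mem_open hsV hV
  refine ⟨U, hU, hsU, ?_⟩
  have : ({⟨s, hsU⟩} : Set ↥U) = Subtype.val ⁻¹' (closure ({s} : Set S)) := by
    ext t
    simp only [Set.mem_singleton_iff, Set.mem_preimage]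
    constructor
    · rintro rfl
      exact subset_closure rfl
    · intro ht
      exact Subtype.ext (hVs ⟨hUV t.2, ht⟩)
  rw [this]
  exact isClosed_closure.preimage continuous_subtype_val

theorem locallyOfFiniteType_fromSpecResidueField_of_isClosed {S : Scheme.{u}} {s : S}
    (U : S.Opens) (hs : s ∈ U) (hcl : IsClosed ({⟨s, hs⟩} : Set ↥U)) :
    LocallyOfFiniteType (S.fromSpecResidueField s) := by
  have h1 : IsClosedImmersion ((U : Scheme.{u}).fromSpecResidueField ⟨s, hs⟩) :=
    isClosed_singleton_iff_isClosedImmersion.mp hcl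
  have h2 := Scheme.Hom.SpecMap_residueFieldMap_fromSpecResidueField U.ι ⟨s, hs⟩
  have h3 : S.fromSpecResidueField (U.ι.base ⟨s, hs⟩) =
      inv (Spec.map (U.ι.residueFieldMap ⟨s, hs⟩)) ≫
        (U : Scheme.{u}).fromSpecResidueField ⟨s, hs⟩ ≫ U.ι := by
    rw [← h2, IsIso.inv_hom_id_assoc]
  change LocallyOfFiniteType (S.fromSpecResidueField (U.ι.base ⟨s, hs⟩))
  rw [h3]
  infer_instance

theorem isIso_fromSpecResidueField_of_field (K : Type u) [Field K]
    (x : Spec (CommRingCat.of K)) :
    IsIso ((Spec (CommRingCat.of K)).fromSpecResidueField x) := by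
  rw [← Scheme.Spec.map_residueFieldIso_inv_eq_fromSpecResidueField]
  have : IsIso (CommRingCat.ofHom (algebraMap (CommRingCat.of K) x.asIdeal.ResidueField)) := by
    have hb : Function.Bijective (algebraMap K x.asIdeal.ResidueField) :=
      (x.asIdeal.algEquivResidueFieldOfField).bijective
    exact (ConcreteCategory.isIso_iff_bijective _).mpr hb
  infer_instance

theorem finite_residueFieldMap_of_locallyOfFiniteType {S : Scheme.{u}} {K : Type u} [Field K]
    (f : Spec (CommRingCat.of K) ⟶ S) [LocallyOfFiniteType f] :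
    (f.residueFieldMap (IsLocalRing.closedPoint K)).hom.Finite := by
  have h2 := Scheme.Hom.SpecMap_residueFieldMap_fromSpecResidueField f (IsLocalRing.closedPoint K)
  haveI := isIso_fromSpecResidueField_of_field K (IsLocalRing.closedPoint K)
  have h3 : LocallyOfFiniteType (Spec.map (f.residueFieldMap (IsLocalRing.closedPoint K)) ≫
      S.fromSpecResidueField (f.base (IsLocalRing.closedPoint K))) := by
    rw [h2]; infer_instance
  have h4 : LocallyOfFiniteType (Spec.map (f.residueFieldMap (IsLocalRing.closedPoint K))) :=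
    locallyOfFiniteType_of_comp _ (S.fromSpecResidueField (f.base (IsLocalRing.closedPoint K)))
  have h5 := (HasRingHomProperty.Spec_iff (P := @LocallyOfFiniteType)).mp h4
  exact RingHom.finite_iff_finiteType_of_isJacobsonRing.mpr h5

theorem locallyOfFiniteType_of_finite_residueFieldMap {S : Scheme.{u}} {K : Type u} [Field K]
    (f : Spec (CommRingCat.of K) ⟶ S)
    (h1 : (f.residueFieldMap (IsLocalRing.closedPoint K)).hom.Finite)
    (h2 : LocallyOfFiniteType (S.fromSpecResidueField (f.base (IsLocalRing.closedPoint K)))) :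
    LocallyOfFiniteType f := by
  have h3 := Scheme.Hom.SpecMap_residueFieldMap_fromSpecResidueField f (IsLocalRing.closedPoint K)
  haveI := isIso_fromSpecResidueField_of_field K (IsLocalRing.closedPoint K)
  have h4 : LocallyOfFiniteType (Spec.map (f.residueFieldMap (IsLocalRing.closedPoint K))) :=
    (HasRingHomProperty.Spec_iff (P := @LocallyOfFiniteType)).mpr
      (RingHom.FiniteType.of_finite h1)
  have h5 : f = inv ((Spec (CommRingCat.of K)).fromSpecResidueField (IsLocalRing.closedPoint K)) ≫
      Spec.map (f.residueFieldMap (IsLocalRing.closedPoint K)) ≫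
        S.fromSpecResidueField (f.base (IsLocalRing.closedPoint K)) := by
    rw [h3, IsIso.inv_hom_id_assoc]
  rw [h5]
  infer_instance

theorem locallyOfFiniteType_fromSpecResidueField_iff {S : Scheme.{u}} {s : S} :
    LocallyOfFiniteType (S.fromSpecResidueField s) ↔ IsLocallyClosed ({s} : Set S) := by
  constructor
  · intro h
    have h1 := isLocallyClosed_singleton_of_locallyOfFiniteType
      (K := S.residueField s) (S.fromSpecResidueField s)
    rwa [Scheme.fromSpecResidueField_apply] at h1
  · intro h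
    obtain ⟨U, -, hs, hcl⟩ := exists_affineOpen_isClosed_of_isLocallyClosed h
    exact locallyOfFiniteType_fromSpecResidueField_of_isClosed U hs hcl

end Groth.Agent.Lib.Helper41
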