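import Groth.Agent.Lib.Helper41.UnivOpenRing
import Groth.Agent.S3404
import Mathlib.AlgebraicGeometry.Noetherian
import Mathlib.AlgebraicGeometry.Pullbacks

/-!
# The DVR criterion for universal openness (EGA IV 14.5), scheme-level plumbing
-/

set_option autoImplicit false
universe u
open CategoryTheory CategoryTheory.Limits AlgebraicGeometry IsLocalRing TensorProduct

namespace Groth.Agent.Lib.Helper41.UnivOpenDvr

theorem pullback_condition_apply {X Y Z : Scheme.{u}} (f : X ⟶ Z) (g : Y ⟶ Z)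
    (p : ↥(pullback f g)) :
    f.base ((pullback.fst f g).base p) = g.base ((pullback.snd f g).base p) := by
  rw [← Scheme.Hom.comp_apply, ← Scheme.Hom.comp_apply, pullback.condition]

/-- A morphism from a local scheme whose closed point lands in an affine open factors through
that affine open. -/
theorem exists_factor_of_isLocalRing {Y : Scheme.{u}} {U : Y.Opens} (hU : IsAffineOpen U)
    (R : CommRingCat.{u}) [IsLocalRing R] (h : Spec R ⟶ Y) (hc : h.base (closedPoint R) ∈ U) :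
    ∃ ψ : Γ(Y, U) ⟶ R, Spec.map ψ ≫ hU.fromSpec = h := by
  have hrange : Set.range h.base ⊆ Set.range hU.fromSpec.base := by
    rw [hU.range_fromSpec]
    rintro _ ⟨p, rfl⟩
    have hsp : p ⤳ closedPoint R := IsLocalRing.specializes_closedPoint p
    exact (hsp.map h.continuous).mem_open U.isOpen hc
  refine ⟨Spec.preimage (IsOpenImmersion.lift hU.fromSpec h hrange), ?_⟩
  rw [Spec.map_preimage, IsOpenImmersion.lift_fac]

/-- The affine chart of a fibre product `X ×_Y Spec R` given by affine opens `W ⊆ f⁻¹ U`. -/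
theorem exists_chart_of_isPushout {X Y : Scheme.{u}} (f : X ⟶ Y) {U : Y.Opens}
    (hU : IsAffineOpen U) {W : X.Opens} (hW : IsAffineOpen W) (hWU : W ≤ f ⁻¹ᵁ U)
    {R T : CommRingCat.{u}} (ψ : Γ(Y, U) ⟶ R) (inl : R ⟶ T) (inr : Γ(X, W) ⟶ T)
    (hpo : IsPushout ψ (f.appLE U W hWU) inl inr) :
    ∃ θ : Spec T ⟶ pullback f (Spec.map ψ ≫ hU.fromSpec), IsOpenImmersion θ ∧
      θ ≫ pullback.fst _ _ = Spec.map inr ≫ hW.fromSpec ∧
      θ ≫ pullback.snd _ _ = Spec.map inl ∧
      Set.range θ.base =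
        (pullback.fst f (Spec.map ψ ≫ hU.fromSpec)).base ⁻¹' (W : Set X) := by
  have e₁ : Spec.map (f.appLE U W hWU) ≫ hU.fromSpec = hW.fromSpec ≫ f :=
    IsAffineOpen.SpecMap_appLE_fromSpec f hU hW hWU
  have e₂ : Spec.map ψ ≫ hU.fromSpec = 𝟙 _ ≫ Spec.map ψ ≫ hU.fromSpec := by simp
  let m := pullback.map (Spec.map (f.appLE U W hWU)) (Spec.map ψ) f (Spec.map ψ ≫ hU.fromSpec)
    hW.fromSpec (𝟙 _) hU.fromSpec e₁ e₂
  have hpb : IsPullback (Spec.map inr) (Spec.map inl) (Spec.map (f.appLE U W hWU)) (Spec.map ψ) :=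
    isPullback_SpecMap_of_isPushout _ _ _ _ hpo.flip
  let e := hpb.isoPullback
  refine ⟨e.hom ≫ m, inferInstance, ?_, ?_, ?_⟩
  · have h1 : m ≫ pullback.fst _ _ = pullback.fst _ _ ≫ hW.fromSpec := pullback.lift_fst _ _ _
    rw [Category.assoc, h1, ← Category.assoc, hpb.isoPullback_hom_fst]
  · have h2 : m ≫ pullback.snd _ _ = pullback.snd _ _ ≫ 𝟙 _ := pullback.lift_snd _ _ _
    rw [Category.assoc, h2, Category.comp_id, hpb.isoPullback_hom_snd]
  · have hsurj : Function.Surjective e.hom.base := e.hom.homeomorph.surjective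
    rw [Scheme.Hom.comp_base, TopCat.coe_comp, Set.range_comp, hsurj.range_eq, Set.image_univ,
      Scheme.Pullback.range_map]
    simp [hW.range_fromSpec]

/-- The hypothesis of the DVR criterion at `x`. -/
def DvrCrit {X Y : Scheme.{u}} (f : X ⟶ Y) (x : X) : Prop :=
  ∀ (A : Type u) [CommRing A] [IsDomain A] [IsDiscreteValuationRing A]
    (g : Spec (CommRingCat.of A) ⟶ Y), g.base (IsLocalRing.closedPoint A) = f.base x →
    ∀ x' : ↥(pullback f g), (pullback.fst f g).base x' = x →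
      (pullback.snd f g).base x' = IsLocalRing.closedPoint A →
      ∃ z' : ↥(pullback f g), z' ⤳ x' ∧ (pullback.snd f g).base z' ≠ IsLocalRing.closedPoint A

/-- Step I: under the DVR criterion, over any local domain `V` mapping to `Y` with closed point
going to `f x`, points of `X ×_Y Spec V` over `x` and the closed point have generizations over the
generic point of `Spec V`. -/
theorem exists_generization_of_dvrCrit {X Y : Scheme.{u}} [IsLocallyNoetherian Y] (f : X ⟶ Y)
    (x : X) (H : DvrCrit f x) (V : Type u) [CommRing V] [IsDomain V] [IsLocalRing V]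
    (h : Spec (CommRingCat.of V) ⟶ Y) (w : ↥(pullback f h))
    (hw1 : (pullback.fst f h).base w = x)
    (hw2 : (pullback.snd f h).base w = closedPoint V) :
    ∃ z : ↥(pullback f h), z ⤳ w ∧
      (show PrimeSpectrum V from (pullback.snd f h).base z).asIdeal = ⊥ := by
  obtain ⟨_, ⟨U, hU, rfl⟩, hyU, -⟩ :=
    Y.isBasis_affineOpens.exists_subset_of_mem_open (Set.mem_univ (f.base x)) isOpen_univ
  obtain ⟨_, ⟨W, hW, rfl⟩, hxW, hWU'⟩ :=
    X.isBasis_affineOpens.exists_subset_of_mem_open (show x ∈ (f ⁻¹ᵁ U : Set X) from hyU)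
      (f ⁻¹ᵁ U).isOpen
  have hWU : W ≤ f ⁻¹ᵁ U := hWU'
  have hc : h.base (closedPoint V) ∈ U := by
    rw [← hw2, ← pullback_condition_apply, hw1]; exact hyU
  obtain ⟨ψ, rfl⟩ := exists_factor_of_isLocalRing hU (CommRingCat.of V) h hc
  haveI : IsNoetherianRing Γ(Y, U) := IsLocallyNoetherian.component_noetherian ⟨U, hU⟩
  letI algC : Algebra Γ(Y, U) Γ(X, W) := (f.appLE U W hWU).hom.toAlgebra
  letI algV : Algebra Γ(Y, U) V := ψ.hom.toAlgebra
  have hpo : IsPushout ψ (f.appLE U W hWU)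
      (CommRingCat.ofHom (S := V ⊗[Γ(Y, U)] Γ(X, W))
        (Algebra.TensorProduct.includeLeftRingHom : V →+* V ⊗[Γ(Y, U)] Γ(X, W)))
      (CommRingCat.ofHom (S := V ⊗[Γ(Y, U)] Γ(X, W))
        (Algebra.TensorProduct.includeRight (R := Γ(Y, U)) (A := V) (B := Γ(X, W))).toRingHom) :=
    CommRingCat.isPushout_tensorProduct Γ(Y, U) V Γ(X, W)
  obtain ⟨θ, hθ, hθ1, hθ2, hθr⟩ := exists_chart_of_isPushout f hU hW hWU ψ _ _ hpo
  have hwr : w ∈ Set.range θ.base := by
    rw [hθr, Set.mem_preimage, hw1]; exact hxW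
  obtain ⟨𝔮, rfl⟩ := hwr
  let 𝔮r : PrimeSpectrum (V ⊗[Γ(Y, U)] Γ(X, W)) := 𝔮
  let 𝔭₀ : PrimeSpectrum Γ(X, W) := 𝔮r.comap
    (Algebra.TensorProduct.includeRight (R := Γ(Y, U)) (A := V) (B := Γ(X, W))).toRingHom
  have hx𝔭₀ : hW.fromSpec.base 𝔭₀ = x := by
    rw [← hw1, ← Scheme.Hom.comp_apply, hθ1]
    rfl
  have h₂ : 𝔮r.comap (Algebra.TensorProduct.includeLeftRingHom : V →+* V ⊗[Γ(Y, U)] Γ(X, W)) =
      closedPoint V := by
    rw [← hw2, ← Scheme.Hom.comp_apply, hθ2]
    rfl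
  -- the ring-level hypothesis
  have Hr : ∀ (A : Type u) [CommRing A] [IsDomain A] [IsDiscreteValuationRing A]
      [Algebra Γ(Y, U) A] (𝔮A : PrimeSpectrum (A ⊗[Γ(Y, U)] Γ(X, W))),
      𝔮A.comap (Algebra.TensorProduct.includeRight (R := Γ(Y, U)) (A := A)
        (B := Γ(X, W))).toRingHom = 𝔭₀ →
      𝔮A.comap (Algebra.TensorProduct.includeLeftRingHom : A →+* A ⊗[Γ(Y, U)] Γ(X, W)) =
        closedPoint A →
      ∃ 𝔮' : PrimeSpectrum (A ⊗[Γ(Y, U)] Γ(X, W)), 𝔮' ≤ 𝔮A ∧
        𝔮'.comap (Algebra.TensorProduct.includeLeftRingHom : A →+* A ⊗[Γ(Y, U)] Γ(X, W)) ≠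
          closedPoint A := by
    intro A _ _ _ _ 𝔮A hA1 hA2
    let ψA : Γ(Y, U) ⟶ CommRingCat.of A := CommRingCat.ofHom (algebraMap Γ(Y, U) A)
    have hpoA : IsPushout ψA (f.appLE U W hWU)
        (CommRingCat.ofHom (S := A ⊗[Γ(Y, U)] Γ(X, W))
          (Algebra.TensorProduct.includeLeftRingHom : A →+* A ⊗[Γ(Y, U)] Γ(X, W)))
        (CommRingCat.ofHom (S := A ⊗[Γ(Y, U)] Γ(X, W))
          (Algebra.TensorProduct.includeRight (R := Γ(Y, U)) (A := A)
            (B := Γ(X, W))).toRingHom) :=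
      CommRingCat.isPushout_tensorProduct Γ(Y, U) A Γ(X, W)
    obtain ⟨θA, hθA, hθA1, hθA2, hθAr⟩ := exists_chart_of_isPushout f hU hW hWU ψA _ _ hpoA
    let gA : Spec (CommRingCat.of A) ⟶ Y := Spec.map ψA ≫ hU.fromSpec
    let x' : ↥(pullback f gA) := θA.base 𝔮A
    have hx'1 : (pullback.fst f gA).base x' = x := by
      rw [← hx𝔭₀, ← hA1]
      change (θA ≫ pullback.fst f gA).base 𝔮A = _
      rw [hθA1]
      rfl
    have hx'2 : (pullback.snd f gA).base x' = closedPoint A := by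
      rw [← hA2]
      change (θA ≫ pullback.snd f gA).base 𝔮A = _
      rw [hθA2]
      rfl
    have hgA : gA.base (closedPoint A) = f.base x := by
      rw [← hx'2, ← pullback_condition_apply, hx'1]
    obtain ⟨z', hz', hz'ne⟩ := H A gA hgA x' hx'1 hx'2
    have hz'r : z' ∈ Set.range θA.base :=
      hz'.mem_open θA.isOpenEmbedding.isOpen_range ⟨𝔮A, rfl⟩
    obtain ⟨𝔮', rfl⟩ := hz'r
    refine ⟨𝔮', ?_, ?_⟩
    · rw [PrimeSpectrum.le_iff_specializes]
      exact (θA.isOpenEmbedding.isInducing.specializes_iff).1 hz'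
    · intro hcl
      apply hz'ne
      rw [← hcl]
      change (θA ≫ pullback.snd f gA).base 𝔮' = _
      rw [hθA2]
      rfl
  obtain ⟨𝔮', hle, hbot⟩ := UnivOpenRing.exists_le_comap_eq_bot 𝔭₀ Hr 𝔮r rfl h₂
  refine ⟨θ.base 𝔮', ?_, ?_⟩
  · exact ((PrimeSpectrum.le_iff_specializes _ _).1 hle).map θ.continuous
  · rw [← hbot]
    congr 1
    change (θ ≫ pullback.snd f _).base 𝔮' = _
    rw [hθ2]
    rfl

/-- Step II: the DVR criterion implies universal openness at `x`. -/
theorem isUnivOpenAt_of_dvrCrit {X Y : Scheme.{u}} [IsLocallyNoetherian Y] (f : X ⟶ Y)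
    [LocallyOfFiniteType f] (x : X) (H : DvrCrit f x) : EGA43.IsUnivOpenAt f x := by
  intro Y' g x' hx'
  haveI : LocallyOfFinitePresentation f :=
    LocallyOfFinitePresentation.iff_locallyOfFiniteType.2 inferInstance
  haveI : LocallyOfFinitePresentation (pullback.snd f g) :=
    MorphismProperty.pullback_snd _ _ inferInstance
  rw [(Groth.Agent.S3404.result (pullback.snd f g) x').2 inferInstance]
  intro y'' hy''
  obtain ⟨𝔭, h𝔭⟩ : y'' ∈ Set.range (Y'.fromSpecStalk ((pullback.snd f g).base x')).base := by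
    rw [Scheme.range_fromSpecStalk]; exact hy''
  let 𝔭r : PrimeSpectrum (Y'.presheaf.stalk ((pullback.snd f g).base x')) := 𝔭
  let V := Y'.presheaf.stalk ((pullback.snd f g).base x') ⧸ 𝔭r.asIdeal
  haveI : IsDomain V := Ideal.Quotient.isDomain _
  haveI : IsLocalRing V :=
    IsLocalRing.of_surjective' (Ideal.Quotient.mk 𝔭r.asIdeal) Ideal.Quotient.mk_surjective
  let q : Y'.presheaf.stalk ((pullback.snd f g).base x') ⟶ CommRingCat.of V :=
    CommRingCat.ofHom (Ideal.Quotient.mk 𝔭r.asIdeal)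
  let h' : Spec (CommRingCat.of V) ⟶ Y' :=
    Spec.map q ≫ Y'.fromSpecStalk ((pullback.snd f g).base x')
  haveI : IsLocalHom q.hom :=
    IsLocalHom.of_surjective _ Ideal.Quotient.mk_surjective
  have hcl : h'.base (closedPoint V) = (pullback.snd f g).base x' := by
    change (Y'.fromSpecStalk _).base ((Spec.map q).base (closedPoint V)) = _
    have : (Spec.map q).base (closedPoint V) =
        closedPoint (Y'.presheaf.stalk ((pullback.snd f g).base x')) :=
      IsLocalRing.comap_closedPoint q.hom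
    rw [this]
    exact Scheme.fromSpecStalk_closedPoint
  have hgen : ∀ p : PrimeSpectrum V, p.asIdeal = ⊥ → h'.base p = y'' := by
    intro p hp
    rw [← h𝔭]
    change (Y'.fromSpecStalk _).base ((Spec.map q).base p) = _
    congr 1
    apply PrimeSpectrum.ext
    change Ideal.comap (Ideal.Quotient.mk 𝔭r.asIdeal) p.asIdeal = 𝔭r.asIdeal
    rw [hp, ← RingHom.ker_eq_comap_bot, Ideal.mk_ker]
  obtain ⟨w, hw1, hw2⟩ := Scheme.Pullback.exists_preimage_pullback (f := pullback.snd f g)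
    (g := h') x' (closedPoint V) hcl.symm
  let e := pullbackLeftPullbackSndIso f g h'
  have he1 : (pullback.fst f (h' ≫ g)).base (e.hom.base w) = x := by
    rw [← Scheme.Hom.comp_apply, pullbackLeftPullbackSndIso_hom_fst, Scheme.Hom.comp_apply,
      hw1, hx']
  have he2 : (pullback.snd f (h' ≫ g)).base (e.hom.base w) = closedPoint V := by
    rw [← Scheme.Hom.comp_apply, pullbackLeftPullbackSndIso_hom_snd, hw2]
  obtain ⟨z, hz, hzbot⟩ := exists_generization_of_dvrCrit f x H V (h' ≫ g) (e.hom.base w) he1 he2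
  refine ⟨(pullback.fst (pullback.snd f g) h').base (e.inv.base z), ?_, ?_⟩
  · have h1 : e.inv.base z ⤳ e.inv.base (e.hom.base w) := hz.map e.inv.continuous
    have h2 : e.inv.base (e.hom.base w) = w := by
      rw [← Scheme.Hom.comp_apply, e.hom_inv_id]; rfl
    rw [h2] at h1
    have h3 := h1.map (pullback.fst (pullback.snd f g) h').continuous
    rwa [hw1] at h3
  · rw [pullback_condition_apply]
    apply hgen
    rw [← hzbot]
    congr 1
    rw [← Scheme.Hom.comp_apply, pullbackLeftPullbackSndIso_inv_snd_snd]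

/-- The easy direction: universal openness at `x` implies the DVR criterion. -/
theorem dvrCrit_of_isUnivOpenAt {X Y : Scheme.{u}} (f : X ⟶ Y) (x : X)
    (hf : EGA43.IsUnivOpenAt f x) : DvrCrit f x := by
  intro A _ _ _ g hg x' hx'1 hx'2
  have hopen := hf (Spec (CommRingCat.of A)) g x' hx'1
  let η : PrimeSpectrum A := ⟨⊥, Ideal.isPrime_bot⟩
  have hη : (show ↥(Spec (CommRingCat.of A)) from η) ⤳ (pullback.snd f g).base x' := by
    rw [hx'2]; exact IsLocalRing.specializes_closedPoint _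
  obtain ⟨z', hz', hz'η⟩ := (Groth.Agent.S3404.result (pullback.snd f g) x').1 hopen η hη
  refine ⟨z', hz', ?_⟩
  rw [hz'η]
  intro hcl
  have : maximalIdeal A = ⊥ := (congrArg PrimeSpectrum.asIdeal hcl).symm
  exact IsDiscreteValuationRing.not_a_field A this

theorem isUnivOpenAt_iff_dvrCrit {X Y : Scheme.{u}} [IsLocallyNoetherian Y] (f : X ⟶ Y)
    [LocallyOfFiniteType f] (x : X) : EGA43.IsUnivOpenAt f x ↔ DvrCrit f x :=
  ⟨dvrCrit_of_isUnivOpenAt f x, isUnivOpenAt_of_dvrCrit f x⟩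

end Groth.Agent.Lib.Helper41.UnivOpenDvr
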