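import Groth.Agent.Lib.Helper41.ValCenter

/-!
# Centres of valuation rings: descent along a residue field extension
-/

set_option autoImplicit false
universe u

open CategoryTheory CategoryTheory.Limits AlgebraicGeometry IsLocalRing

namespace Groth.Agent.Lib.Helper41.ValCenter

variable {X S : Scheme.{u}}

/-- If a valuation ring `R'` of an extension `L` of `κ(η)` dominates the valuation ring `A` of
`κ(η)` and has a centre on `X` (compatible with `Spec L ⟶ Spec κ(η) ⟶ X`), then `A` has a centre on
`X` (at the same point). -/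
theorem hasCenterIn_of_extension {η : X} {L : Type u} [Field L]
    (ψ : X.residueField η ⟶ CommRingCat.of L)
    (A : ValuationSubring (X.residueField η)) (R' : ValuationSubring L)
    (hmem : ∀ w : A, (ψ.hom.comp A.subtype) w ∈ R'.toSubring)
    (hloc : IsLocalHom ((ψ.hom.comp A.subtype).codRestrict R'.toSubring hmem))
    (l' : Spec (CommRingCat.of R') ⟶ X)
    (hl' : Spec.map (CommRingCat.ofHom R'.subtype) ≫ l' = Spec.map ψ ≫ X.fromSpecResidueField η)
    (X₀ : X.Opens) (hX₀ : l'.base (closedPoint R') ∈ X₀) : HasCenterIn X₀ η A := by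
  set x := l'.base (closedPoint R') with hxdef
  have hηl : η = l'.base ((Spec.map (CommRingCat.ofHom R'.subtype)).base (closedPoint L)) := by
    have := congrArg (fun q => q.base (closedPoint L)) hl'
    refine (this.trans ?_).symm
    change (X.fromSpecResidueField η).base _ = η
    exact Scheme.fromSpecResidueField_apply η _
  have hx : η ⤳ x := by
    rw [hηl]
    exact (IsLocalRing.specializes_closedPoint _).map l'.continuous
  let σ : X.presheaf.stalk x ⟶ CommRingCat.of R' := Scheme.stalkClosedPointTo l'
  have hσ : Spec.map σ ≫ X.fromSpecStalk x = l' := Scheme.Spec_stalkClosedPointTo_fromSpecStalk l'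
  have hring : σ ≫ CommRingCat.ofHom R'.subtype =
      (X.presheaf.stalkSpecializes hx ≫ X.residue η) ≫ ψ := by
    apply Spec.map_injective
    apply (cancel_mono (X.fromSpecStalk x)).1
    rw [Spec.map_comp, Category.assoc, hσ, hl', Spec.map_comp, Spec.map_comp, Category.assoc,
      Category.assoc, Scheme.SpecMap_stalkSpecializes_fromSpecStalk, Scheme.fromSpecResidueField]
  have hval : ∀ a : X.presheaf.stalk x,
      ψ.hom ((X.presheaf.stalkSpecializes hx ≫ X.residue η) a) = ((σ.hom a : R') : L) :=
    fun a => (congr($hring a)).symm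
  have hdom := mem_of_map_mem ψ.hom A R' hmem hloc
  refine hasCenterIn_of_stalk hx hX₀ (fun a => ?_) (fun a ha => ?_)
  · apply (hdom _).1
    rw [hval]
    exact (σ.hom a).2
  · apply (hdom _).2
    rw [hval]
    have hlocσ : IsLocalHom σ.hom := inferInstanceAs (IsLocalHom (Scheme.stalkClosedPointTo l').hom)
    have h1 : σ.hom a ∈ maximalIdeal R' := by
      rw [mem_maximalIdeal, mem_nonunits_iff] at ha ⊢
      exact fun hu => ha (hlocσ.map_nonunit a hu)
    exact (R'.valuation_lt_one_iff _).mp h1

/-- A centre in `f ⁻¹ᵁ S₀` lies over the structure morphism, for `S₀` affine. -/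
theorem comp_eq_of_hasCenter (f : X ⟶ S) {S₀ : S.Opens} (hS₀ : IsAffineOpen S₀) {η : X}
    {A : ValuationSubring (X.residueField η)} (l : Spec (CommRingCat.of A) ⟶ X)
    (hl : Spec.map (CommRingCat.ofHom A.subtype) ≫ l = X.fromSpecResidueField η)
    (hcl : l.base (closedPoint A) ∈ f ⁻¹ᵁ S₀) (y : Spec (CommRingCat.of A) ⟶ S)
    (hy : Spec.map (CommRingCat.ofHom A.subtype) ≫ y = X.fromSpecResidueField η ≫ f)
    (hycl : y.base (closedPoint A) ∈ S₀) : l ≫ f = y := by
  refine eq_of_comp_eq_of_isAffineOpen hS₀ A.subtype Subtype.val_injective _ _ hcl hycl ?_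
  rw [hy, ← hl, Category.assoc]

end Groth.Agent.Lib.Helper41.ValCenter
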