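import Mathlib

/-!
# Schemes local for Zariski and finite coverings (helper41)
-/

set_option autoImplicit false
universe u
open CategoryTheory CategoryTheory.Limits AlgebraicGeometry TopologicalSpace Polynomial

namespace Groth.Agent.Lib.Helper41.AICLocal

/-- every monic polynomial of positive degree has a root -/
def AIC (R : Type*) [CommRing R] : Prop :=
  ∀ f : Polynomial R, f.Monic → 0 < f.natDegree → ∃ r : R, f.eval r = 0

/-- Over an AIC domain, an element of a domain integral over it comes from the base. -/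
theorem mem_range_of_isIntegral {A B : Type*} [CommRing A] [CommRing B] [IsDomain B] [Algebra A B]
    (hA : AIC A) (b : B) (hb : IsIntegral A b) : b ∈ Set.range (algebraMap A B) := by
  haveI : Nontrivial A := (algebraMap A B).domain_nontrivial
  obtain ⟨F, hF, hFb⟩ := hb
  rw [← Polynomial.aeval_def] at hFb
  induction hn : F.natDegree using Nat.strong_induction_on generalizing F with
  | _ n ih =>
    rcases Nat.eq_zero_or_pos n with h0 | hpos
    · exfalso
      have h1 : F = 1 := (Polynomial.Monic.natDegree_eq_zero hF).mp (hn.trans h0)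
      rw [h1, map_one] at hFb
      exact one_ne_zero hFb
    · obtain ⟨r, hr⟩ := hA F hF (hn ▸ hpos)
      have hdvd : (X - C r) ∣ F := Polynomial.dvd_iff_isRoot.mpr hr
      obtain ⟨F₁, hF₁⟩ := hdvd
      have hF₁m : F₁.Monic := by
        have hm : (X - C r).Monic := Polynomial.monic_X_sub_C r
        exact hm.of_mul_monic_left (hF₁ ▸ hF)
      have hdeg : F.natDegree = F₁.natDegree + 1 := by
        rw [hF₁, (Polynomial.monic_X_sub_C r).natDegree_mul hF₁m, Polynomial.natDegree_X_sub_C,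
          add_comm]
      have hev : (b - algebraMap A B r) * Polynomial.aeval b F₁ = 0 := by
        rw [← hFb, hF₁, map_mul]
        simp
      rcases mul_eq_zero.mp hev with h1 | h1
      · exact ⟨r, (sub_eq_zero.mp h1).symm⟩
      · exact ih F₁.natDegree (by omega) F₁ hF₁m h1 rfl

/-- A prime of an integral algebra over an AIC domain lying over `0` gives a retraction. -/
theorem exists_retraction {A B : Type*} [CommRing A] [IsDomain A] [CommRing B] [Algebra A B]
    [Algebra.IsIntegral A B] (hA : AIC A) (𝔮 : Ideal B) [𝔮.IsPrime]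
    (h𝔮 : 𝔮.comap (algebraMap A B) = ⊥) :
    ∃ s : B →+* A, s.comp (algebraMap A B) = RingHom.id A := by
  let ψ : A →+* B ⧸ 𝔮 := (Ideal.Quotient.mk 𝔮).comp (algebraMap A B)
  have hinj : Function.Injective ψ := by
    rw [injective_iff_map_eq_zero]
    intro a ha
    have : a ∈ 𝔮.comap (algebraMap A B) := by
      rw [Ideal.mem_comap]
      exact Ideal.Quotient.eq_zero_iff_mem.mp ha
    rw [h𝔮] at this
    exact this
  have hsurj : Function.Surjective ψ := by
    intro c
    obtain ⟨b, rfl⟩ := Ideal.Quotient.mk_surjective c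
    have hb : IsIntegral A (Ideal.Quotient.mk 𝔮 b) := by
      have h1 : IsIntegral A b := Algebra.IsIntegral.isIntegral b
      have := h1.map (Ideal.Quotient.mkₐ A 𝔮)
      exact this
    obtain ⟨a, ha⟩ := mem_range_of_isIntegral hA _ hb
    exact ⟨a, ha⟩
  let e : A ≃+* B ⧸ 𝔮 := RingEquiv.ofBijective ψ ⟨hinj, hsurj⟩
  refine ⟨e.symm.toRingHom.comp (Ideal.Quotient.mk 𝔮), ?_⟩
  ext a
  change e.symm (ψ a) = a
  exact e.symm_apply_apply a

theorem mem_range_comap_mk {A : Type*} [CommRing A] (c : A) (y : PrimeSpectrum A)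
    (h : c ∈ y.asIdeal) :
    y ∈ Set.range (PrimeSpectrum.comap (Ideal.Quotient.mk (Ideal.span {c}))) := by
  rw [_root_.range_comap_of_surjective _ _ Ideal.Quotient.mk_surjective,
    Ideal.mk_ker, PrimeSpectrum.mem_zeroLocus]
  intro z hz
  have : Ideal.span {c} ≤ y.asIdeal := by
    rw [Ideal.span_le]; rintro _ rfl; exact h
  exact this hz

section scheme

variable {P : Scheme.{u}}

/-- The locality condition for a class `Q` of coverings. -/
def Loc (P : Scheme.{u}) (Q : MorphismProperty Scheme.{u}) : Prop :=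
  ∀ (X : Scheme.{u}) (R : Presieve X), R ∈ Scheme.precoverage Q X →
    ∀ g : P ⟶ X, ∃ (Y : Scheme.{u}) (w : Y ⟶ X) (h : P ⟶ Y), R w ∧ h ≫ w = g

theorem retraction_of_section [IsAffine P] {B : CommRingCat.{u}} (φ : Γ(P, ⊤) ⟶ B)
    (h : P ⟶ Spec B) (hh : h ≫ Spec.map φ ≫ P.isoSpec.inv = 𝟙 P) :
    φ ≫ (Scheme.ΓSpecIso B).inv ≫ h.appTop = 𝟙 _ := by
  have h1 := congrArg Scheme.Hom.appTop hh
  simp only [Scheme.Hom.comp_appTop, Scheme.Hom.id_appTop] at h1
  have h2 : P.isoSpec.inv.appTop = (Scheme.ΓSpecIso Γ(P, ⊤)).inv := by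
    have e1 : P.isoSpec.hom.appTop = (Scheme.ΓSpecIso Γ(P, ⊤)).hom := Scheme.toSpecΓ_appTop P
    have e2 : P.isoSpec.inv.appTop ≫ P.isoSpec.hom.appTop = 𝟙 _ := by
      rw [← Scheme.Hom.comp_appTop, Iso.hom_inv_id, Scheme.Hom.id_appTop]
    rw [e1] at e2
    rw [← cancel_mono (Scheme.ΓSpecIso Γ(P, ⊤)).hom, e2, Iso.inv_hom_id]
  have h3 : (Spec.map φ).appTop = (Scheme.ΓSpecIso _).hom ≫ φ ≫ (Scheme.ΓSpecIso B).inv := by
    rw [← Category.assoc, Iso.eq_comp_inv, Scheme.ΓSpecIso_naturality]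
  rw [h2, h3] at h1
  simpa using h1

theorem exists_retraction_of_loc [IsAffine P] (Q : MorphismProperty Scheme.{u})
    (loc : Loc P Q) {ι : Type} (B : ι → CommRingCat.{u}) (φ : ∀ i, Γ(P, ⊤) ⟶ B i)
    (hQ : ∀ i, Q (Spec.map (φ i) ≫ P.isoSpec.inv))
    (hsurj : ∀ x : Spec Γ(P, ⊤), ∃ i, x ∈ Set.range (Spec.map (φ i))) :
    ∃ i, ∃ s : B i ⟶ Γ(P, ⊤), φ i ≫ s = 𝟙 _ := by
  let w : ∀ i, Spec (B i) ⟶ P := fun i => Spec.map (φ i) ≫ P.isoSpec.inv
  have hR : Presieve.ofArrows (fun i => Spec (B i)) w ∈ Scheme.precoverage Q P := by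
    rw [Scheme.ofArrows_mem_precoverage_iff]
    refine ⟨fun x => ?_, hQ⟩
    obtain ⟨i, y, hy⟩ := hsurj (P.isoSpec.hom x)
    refine ⟨i, y, ?_⟩
    change (Spec.map (φ i) ≫ P.isoSpec.inv) y = x
    rw [Scheme.Hom.comp_apply, hy, ← Scheme.Hom.comp_apply, Iso.hom_inv_id]
    rfl
  obtain ⟨Y, w', h, hw', hh⟩ := loc P _ hR (𝟙 P)
  obtain ⟨i⟩ := hw'
  exact ⟨i, _, retraction_of_section (φ i) h hh⟩

theorem nonempty_of_loc (Q : MorphismProperty Scheme.{u}) (loc : Loc P Q) : Nonempty P := by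
  by_contra hne
  haveI : IsEmpty P := not_nonempty_iff.mp hne
  obtain ⟨Y, w, h, hw, -⟩ := loc P ⊥ (Scheme.bot_mem_precoverage Q P) (𝟙 P)
  exact hw

theorem isAffine_of_loc [QuasiSeparatedSpace P]
    (loc : Loc P (@IsOpenImmersion ⊓ @QuasiCompact)) : IsAffine P := by
  let w : ∀ U : P.affineOpens, (U.1 : Scheme.{u}) ⟶ P := fun U => U.1.ι
  have hR : Presieve.ofArrows (fun U : P.affineOpens => (U.1 : Scheme.{u})) w ∈
      Scheme.precoverage (@IsOpenImmersion ⊓ @QuasiCompact) P := by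
    rw [Scheme.ofArrows_mem_precoverage_iff]
    refine ⟨fun x => ?_, fun U => ⟨inferInstanceAs (IsOpenImmersion U.1.ι), ?_⟩⟩
    · obtain ⟨_, ⟨U, hU, rfl⟩, hxU, -⟩ :=
        P.isBasis_affineOpens.exists_subset_of_mem_open (Set.mem_univ x) isOpen_univ
      exact ⟨⟨U, hU⟩, ⟨x, hxU⟩, rfl⟩
    · haveI : IsAffine (U.1 : Scheme.{u}) := U.2
      exact inferInstanceAs (QuasiCompact U.1.ι)
  obtain ⟨Y, w', h, hw', hh⟩ := loc P _ hR (𝟙 P)
  obtain ⟨U⟩ := hw'
  have hsurj : ∀ x : P, x ∈ Set.range U.1.ι := fun x =>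
    ⟨h x, by rw [← Scheme.Hom.comp_apply]; exact congrArg (fun q : P ⟶ P => q x) hh⟩
  haveI : IsIso U.1.ι := by
    apply isIso_of_isOpenImmersion_of_opensRange_eq_top
    ext x
    simp only [Scheme.Hom.coe_opensRange, Opens.coe_top, Set.mem_univ, iff_true]
    exact hsurj x
  haveI : IsAffine (U.1 : Scheme.{u}) := U.2
  exact IsAffine.of_isIso (inv U.1.ι)

theorem isLocalRing_of_loc [IsAffine P] [Nontrivial Γ(P, ⊤)]
    (loc : Loc P (@IsOpenImmersion ⊓ @QuasiCompact)) : IsLocalRing Γ(P, ⊤) := by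
  refine IsLocalRing.of_isUnit_or_isUnit_one_sub_self fun a => ?_
  let c : Bool → Γ(P, ⊤) := fun i => bif i then a else 1 - a
  let B : Bool → CommRingCat.{u} := fun i => CommRingCat.of (Localization.Away (c i))
  let φ : ∀ i, Γ(P, ⊤) ⟶ B i := fun i => CommRingCat.ofHom (algebraMap _ _)
  have hQ : ∀ i, (@IsOpenImmersion ⊓ @QuasiCompact : MorphismProperty Scheme.{u})
      (Spec.map (φ i) ≫ P.isoSpec.inv) := by
    intro i
    exact ⟨inferInstance, inferInstance⟩
  have hsurj : ∀ x : Spec Γ(P, ⊤), ∃ i, x ∈ Set.range (Spec.map (φ i)) := by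
    intro x
    have key : ∀ i, c i ∉ x.asIdeal → x ∈ Set.range (Spec.map (φ i)) := by
      intro i hi
      change x ∈ Set.range (PrimeSpectrum.comap (algebraMap Γ(P, ⊤) (Localization.Away (c i))))
      rw [PrimeSpectrum.localization_away_comap_range (Localization.Away (c i)) (c i)]
      exact hi
    by_cases hx : a ∈ x.asIdeal
    · refine ⟨false, key false ?_⟩
      intro h1
      exact x.2.ne_top ((Ideal.eq_top_iff_one _).mpr (by
        have := x.asIdeal.add_mem hx h1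
        simpa [c] using this))
    · exact ⟨true, key true hx⟩
  obtain ⟨i, s, hs⟩ := exists_retraction_of_loc _ loc B φ hQ hsurj
  have hu : IsUnit (algebraMap Γ(P, ⊤) (Localization.Away (c i)) (c i)) :=
    IsLocalization.Away.algebraMap_isUnit _
  have hu2 := hu.map s.hom
  have e : s.hom (algebraMap Γ(P, ⊤) (Localization.Away (c i)) (c i)) = c i := by
    have := congrArg (fun q => q.hom (c i)) hs
    exact this
  rw [e] at hu2
  cases i
  · right; exact hu2
  · left; exact hu2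

theorem isDomain_of_loc [IsAffine P] [Nontrivial Γ(P, ⊤)] (loc : Loc P @IsFinite) :
    IsDomain Γ(P, ⊤) := by
  haveI : NoZeroDivisors Γ(P, ⊤) := by
    refine ⟨fun {a b} hab => ?_⟩
    let c : Bool → Γ(P, ⊤) := fun i => bif i then a else b
    let B : Bool → CommRingCat.{u} := fun i => CommRingCat.of (Γ(P, ⊤) ⧸ Ideal.span {c i})
    let φ : ∀ i, Γ(P, ⊤) ⟶ B i := fun i => CommRingCat.ofHom (Ideal.Quotient.mk _)
    have hQ : ∀ i, IsFinite (Spec.map (φ i) ≫ P.isoSpec.inv) := by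
      intro i
      haveI : IsClosedImmersion (Spec.map (φ i)) :=
        IsClosedImmersion.spec_of_surjective _ Ideal.Quotient.mk_surjective
      exact inferInstanceAs (IsFinite (Spec.map (φ i) ≫ P.isoSpec.inv))
    have hsurj : ∀ x : Spec Γ(P, ⊤), ∃ i, x ∈ Set.range (Spec.map (φ i)) := by
      intro x
      have key : ∀ i, c i ∈ x.asIdeal → x ∈ Set.range (Spec.map (φ i)) := by
        intro i hi
        exact mem_range_comap_mk (c i) x hi
      have h1 : a * b ∈ x.asIdeal := by rw [hab]; exact Ideal.zero_mem _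
      rcases x.2.mem_or_mem h1 with h2 | h2
      · exact ⟨true, key true h2⟩
      · exact ⟨false, key false h2⟩
    obtain ⟨i, s, hs⟩ := exists_retraction_of_loc _ loc B φ hQ hsurj
    have e : s.hom ((Ideal.Quotient.mk (Ideal.span {c i})) (c i)) = c i := by
      have := congrArg (fun q => q.hom (c i)) hs
      exact this
    have h0 : (Ideal.Quotient.mk (Ideal.span {c i})) (c i) = 0 :=
      Ideal.Quotient.eq_zero_iff_mem.mpr (Ideal.subset_span rfl)
    rw [h0, map_zero] at e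
    cases i
    · right; exact e.symm
    · left; exact e.symm
  exact NoZeroDivisors.to_isDomain _

theorem aic_of_loc [IsAffine P] [IsDomain Γ(P, ⊤)] (loc : Loc P @IsFinite) :
    AIC Γ(P, ⊤) := by
  intro F hF hdeg
  let B : Unit → CommRingCat.{u} := fun _ => CommRingCat.of (AdjoinRoot F)
  let φ : ∀ i, Γ(P, ⊤) ⟶ B i := fun _ => CommRingCat.ofHom (AdjoinRoot.of F)
  haveI : Module.Finite Γ(P, ⊤) (AdjoinRoot F) := (AdjoinRoot.powerBasis' hF).finite
  have hQ : ∀ i, IsFinite (Spec.map (φ i) ≫ P.isoSpec.inv) := by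
    intro i
    have : IsFinite (Spec.map (φ i)) := by
      rw [IsFinite.SpecMap_iff]
      exact RingHom.finite_algebraMap.mpr inferInstance
    exact inferInstanceAs (IsFinite (Spec.map (φ i) ≫ P.isoSpec.inv))
  have hsurj : ∀ x : Spec Γ(P, ⊤), ∃ i, x ∈ Set.range (Spec.map (φ i)) := by
    intro x
    refine ⟨(), ?_⟩
    haveI : Algebra.IsIntegral Γ(P, ⊤) (AdjoinRoot F) := Algebra.IsIntegral.of_finite _ _
    have hinj : Function.Injective (algebraMap Γ(P, ⊤) (AdjoinRoot F)) :=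
      AdjoinRoot.of.injective_of_degree_ne_zero (by
        intro h0
        have h1 := Polynomial.natDegree_eq_of_degree_eq_some h0
        rw [h1] at hdeg
        exact lt_irrefl _ hdeg)
    obtain ⟨Q, -, hQ, hQx⟩ := Ideal.exists_ideal_over_prime_of_isIntegral x.asIdeal
      (⊥ : Ideal (AdjoinRoot F)) (by
        rw [← RingHom.ker_eq_comap_bot, (RingHom.injective_iff_ker_eq_bot _).mp hinj]
        exact bot_le)
    exact ⟨⟨Q, hQ⟩, PrimeSpectrum.ext hQx⟩
  obtain ⟨i, s, hs⟩ := exists_retraction_of_loc _ loc B φ hQ hsurj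
  refine ⟨s.hom (AdjoinRoot.root F), ?_⟩
  have h1 : Polynomial.eval₂ (AdjoinRoot.of F) (AdjoinRoot.root F) F = 0 :=
    AdjoinRoot.eval₂_root F
  have h2 := congrArg s.hom h1
  rw [Polynomial.hom_eval₂, map_zero] at h2
  have h3 : s.hom.comp (AdjoinRoot.of F) = RingHom.id _ := by
    ext a
    exact congrArg (fun q => q.hom a) hs
  rw [h3] at h2
  simpa [Polynomial.eval₂_id] using h2

theorem loc_zariski_of_local [IsAffine P] [IsLocalRing Γ(P, ⊤)] :
    Loc P (@IsOpenImmersion ⊓ @QuasiCompact) := by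
  intro X R hR g
  let x₀ : P := P.isoSpec.inv (IsLocalRing.closedPoint Γ(P, ⊤))
  have hjs := hR.1
  rw [Scheme.jointlySurjectivePrecoverage,
    Presieve.mem_comap_jointlySurjectivePrecoverage_iff] at hjs
  obtain ⟨Y, w, hw, y, hy⟩ := hjs (g x₀)
  have hwP := hR.2 hw
  haveI : IsOpenImmersion w := hwP.1
  have hsub : Set.range g ⊆ Set.range w := by
    rintro _ ⟨p, rfl⟩
    have h1 : p ⤳ x₀ := by
      have h2 : P.isoSpec.hom p ⤳ IsLocalRing.closedPoint Γ(P, ⊤) :=
        IsLocalRing.specializes_closedPoint _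
      have h3 := h2.map P.isoSpec.inv.continuous
      have h4 : P.isoSpec.inv (P.isoSpec.hom p) = p := by
        rw [← Scheme.Hom.comp_apply, Iso.hom_inv_id]; rfl
      rwa [h4] at h3
    have h5 : g p ⤳ g x₀ := h1.map g.continuous
    exact h5.mem_open w.isOpenEmbedding.isOpen_range ⟨y, hy⟩
  exact ⟨Y, w, IsOpenImmersion.lift w g hsub, hw, IsOpenImmersion.lift_fac _ _ _⟩

set_option maxHeartbeats 800000 in
theorem loc_finite_of_aic [IsAffine P] [IsDomain Γ(P, ⊤)] (hA : AIC Γ(P, ⊤)) :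
    Loc P @IsFinite := by
  intro X R hR g
  let η : P := P.isoSpec.inv ⟨⊥, Ideal.isPrime_bot⟩
  have hjs := hR.1
  rw [Scheme.jointlySurjectivePrecoverage,
    Presieve.mem_comap_jointlySurjectivePrecoverage_iff] at hjs
  obtain ⟨Y, w, hw, y, hy⟩ := hjs (g η)
  haveI : IsFinite w := hR.2 hw
  let πP := pullback.fst g w
  haveI : IsFinite πP := inferInstanceAs (IsFinite (pullback.fst g w))
  haveI : IsAffine (pullback g w) := isAffine_of_isAffineHom πP
  obtain ⟨q, hq1, hq2⟩ := Scheme.Pullback.exists_preimage_pullback η y (hy.symm : g η = w y)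
  let ρ : Γ(P, ⊤) →+* Γ(pullback g w, ⊤) := πP.appTop.hom
  letI : Algebra Γ(P, ⊤) Γ(pullback g w, ⊤) := ρ.toAlgebra
  have hfin : ρ.Finite := πP.finite_appTop
  haveI : Module.Finite Γ(P, ⊤) Γ(pullback g w, ⊤) := hfin
  haveI : Algebra.IsIntegral Γ(P, ⊤) Γ(pullback g w, ⊤) := Algebra.IsIntegral.of_finite _ _
  let 𝔮 : PrimeSpectrum Γ(pullback g w, ⊤) := (pullback g w).isoSpec.hom q
  have h𝔮 : 𝔮.asIdeal.comap (algebraMap Γ(P, ⊤) Γ(pullback g w, ⊤)) = ⊥ := by
    have h1 : (Spec.map πP.appTop) ((pullback g w).isoSpec.hom q) = P.isoSpec.hom (πP q) := by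
      rw [← Scheme.Hom.comp_apply, ← Scheme.Hom.comp_apply, Scheme.isoSpec_hom_naturality]
    have h2 : P.isoSpec.hom (πP q) = ⟨⊥, Ideal.isPrime_bot⟩ := by
      rw [hq1]
      change P.isoSpec.hom (P.isoSpec.inv _) = _
      rw [← Scheme.Hom.comp_apply, Iso.inv_hom_id]; rfl
    rw [h2] at h1
    exact congrArg PrimeSpectrum.asIdeal h1
  haveI : 𝔮.asIdeal.IsPrime := 𝔮.2
  obtain ⟨s, hs⟩ := exists_retraction hA 𝔮.asIdeal h𝔮
  let σ : P ⟶ pullback g w :=
    P.isoSpec.hom ≫ Spec.map (CommRingCat.ofHom s) ≫ (pullback g w).isoSpec.inv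
  have hσ : σ ≫ πP = 𝟙 P := by
    change (P.isoSpec.hom ≫ Spec.map (CommRingCat.ofHom s) ≫ (pullback g w).isoSpec.inv) ≫ πP = _
    rw [Category.assoc, Category.assoc, ← Scheme.isoSpec_inv_naturality, ← Category.assoc
      (Spec.map _), ← Spec.map_comp]
    have : πP.appTop ≫ CommRingCat.ofHom s = 𝟙 _ := by
      ext a
      exact congrArg (fun r : Γ(P, ⊤) →+* Γ(P, ⊤) => r a) hs
    rw [this, Spec.map_id, Category.id_comp, Iso.hom_inv_id]
  refine ⟨Y, w, σ ≫ pullback.snd g w, hw, ?_⟩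
  rw [Category.assoc, ← pullback.condition, ← Category.assoc]
  change (σ ≫ πP) ≫ g = g
  rw [hσ, Category.id_comp]

end scheme

end Groth.Agent.Lib.Helper41.AICLocal
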