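import Mathlib

set_option autoImplicit false
universe u
open scoped IntermediateField.algebraAdjoinAdjoin

namespace Groth.Agent.Lib.Helper41.AlgClosureFin

/-- A `K`-linearly independent family of elements algebraic over `K` stays linearly independent over
`K[x]` when `x` is algebraically independent over `K`. -/
theorem linearIndependent_adjoin {K L : Type*} [Field K] [Field L] [Algebra K L] {ι : Type*}
    {x : ι → L} (hx : AlgebraicIndependent K x) (M : IntermediateField K L)
    [Algebra.IsAlgebraic K M] {κ : Type*} (m : κ → M) (hm : LinearIndependent K m) :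
    LinearIndependent (Algebra.adjoin K (Set.range x)) (fun j => (m j : L)) := by
  classical
  have hxM : AlgebraicIndependent M x := hx.extendScalars M
  rw [linearIndependent_iff']
  intro s g hg j hj
  have hrange : ∀ j, ∃ p : MvPolynomial ι K, MvPolynomial.aeval x p = (g j : L) := by
    intro j
    have h2 : (g j : L) ∈ (MvPolynomial.aeval x : MvPolynomial ι K →ₐ[K] L).range := by
      rw [← Algebra.adjoin_range_eq_range_aeval]
      exact (g j).2
    exact h2
  choose p hp using hrange
  let P : MvPolynomial ι M :=
    ∑ j ∈ s, MvPolynomial.map (algebraMap K M) (p j) * MvPolynomial.C (m j)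
  have hP : MvPolynomial.aeval x P = 0 := by
    rw [map_sum, ← hg]
    refine Finset.sum_congr rfl fun j _ => ?_
    rw [map_mul, MvPolynomial.aeval_C, MvPolynomial.aeval_map_algebraMap, hp]
    rfl
  have hP0 : P = 0 := hxM.eq_zero_of_aeval_eq_zero P hP
  have hcoeff : ∀ μ, ∑ j ∈ s, MvPolynomial.coeff μ (p j) • m j = 0 := by
    intro μ
    have := congrArg (MvPolynomial.coeff μ) hP0
    rw [MvPolynomial.coeff_sum, MvPolynomial.coeff_zero] at this
    rw [← this]
    refine Finset.sum_congr rfl fun j _ => ?_
    rw [mul_comm, MvPolynomial.coeff_C_mul, MvPolynomial.coeff_map, Algebra.smul_def, mul_comm]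
  have hpj : p j = 0 := by
    ext μ
    rw [MvPolynomial.coeff_zero]
    exact (linearIndependent_iff'.mp hm) s (fun j => MvPolynomial.coeff μ (p j)) (hcoeff μ) j hj
  have : (g j : L) = 0 := by rw [← hp, hpj, map_zero]
  exact Subtype.ext this

/-- The algebraic closure of `K` in a finitely generated field extension `L` is finite over `K`. -/
theorem finiteDimensional_algebraicClosure (K L : Type*) [Field K] [Field L] [Algebra K L]
    [Algebra.EssFiniteType K L] : FiniteDimensional K (algebraicClosure K L) := by
  classical
  obtain ⟨s, hs⟩ := exists_finset_isTranscendenceBasis K L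
  set x : s → L := (↑) with hxdef
  let E := IntermediateField.adjoin K (Set.range x)
  haveI : Algebra.IsAlgebraic E L := hs.isAlgebraic_field
  haveI : Algebra.EssFiniteType E L := .of_comp K E L
  haveI : Module.Finite E L := Algebra.finite_of_essFiniteType_of_isAlgebraic
  haveI : Algebra.IsAlgebraic K (algebraicClosure K L) := algebraicClosure.isAlgebraic K L
  have hrank : Module.rank K (algebraicClosure K L) ≤ (Module.finrank E L : ℕ) := by
    apply rank_le
    intro t ht
    have h1 := linearIndependent_adjoin hs.1 (algebraicClosure K L) (fun i : t => (i : algebraicClosure K L)) ht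
    have h2 : LinearIndependent E (fun i : t => ((i : algebraicClosure K L) : L)) :=
      (LinearIndependent.iff_fractionRing (Algebra.adjoin K (Set.range x)) E).mp h1
    simpa using h2.fintype_card_le_finrank
  exact Module.rank_lt_aleph0_iff.mp (lt_of_le_of_lt hrank Cardinal.natCast_lt_aleph0)

end Groth.Agent.Lib.Helper41.AlgClosureFin
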