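import Mathlib.AlgebraicGeometry.ZariskisMainTheorem
import Mathlib.AlgebraicGeometry.FunctionField
set_option autoImplicit false
universe u
open AlgebraicGeometry CategoryTheory Limits TopologicalSpace

namespace Groth.Agent.Lib.Helper41

/-- The scheme-theoretic image of a quasi-compact morphism from a reduced scheme is reduced. -/
theorem isReduced_image {X Y : Scheme.{u}} (f : X ⟶ Y) [QuasiCompact f] [IsReduced X] :
    IsReduced f.image := by
  let 𝒰 : f.image.OpenCover := f.image.openCoverOfIsOpenCover
    (fun U : Y.affineOpens => f.imageι ⁻¹ᵁ U.1)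
    (.comap (iSup_affineOpens_eq_top Y) f.imageι.base.hom)
  have : ∀ i, IsReduced (𝒰.X i) := by
    intro U
    change IsReduced ((f.imageι ⁻¹ᵁ U.1 : f.image.Opens) : Scheme.{u})
    have haff : IsAffineOpen (f.imageι ⁻¹ᵁ U.1) := U.2.preimage f.imageι
    haveI : IsAffine ((f.imageι ⁻¹ᵁ U.1 : f.image.Opens) : Scheme.{u}) := haff
    haveI : _root_.IsReduced Γ(f.image, f.imageι ⁻¹ᵁ U.1) :=
      isReduced_of_injective (f.toImage.app (f.imageι ⁻¹ᵁ U.1)).hom (f.toImage_app_injective U)
    haveI : _root_.IsReduced Γ(((f.imageι ⁻¹ᵁ U.1 : f.image.Opens) : Scheme.{u}), ⊤) :=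
      isReduced_of_injective (f.imageι ⁻¹ᵁ U.1).topIso.hom.hom
        (ConcreteCategory.bijective_of_isIso (f.imageι ⁻¹ᵁ U.1).topIso.hom).1
    exact isReduced_of_isAffine_isReduced _
  exact IsReduced.of_openCover _ 𝒰

/-- The scheme-theoretic image of a quasi-compact morphism from an integral scheme is integral. -/
theorem isIntegral_image {X Y : Scheme.{u}} (f : X ⟶ Y) [QuasiCompact f] [IsIntegral X] :
    IsIntegral f.image := by
  haveI := isReduced_image f
  have : IrreducibleSpace f.image := by
    rw [irreducibleSpace_def]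
    convert!
      ((IrreducibleSpace.isIrreducible_univ X).image _
          f.toImage.continuous.continuousOn).closure
    simpa using f.toImage.denseRange.closure_range.symm
  exact isIntegral_of_irreducibleSpace_of_isReduced _

end Groth.Agent.Lib.Helper41
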