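import Groth.Agent.Lib.Helper41.BirNormal
import Groth.Agent.Lib.Helper41.ImageIntegral
set_option autoImplicit false
universe u
open AlgebraicGeometry CategoryTheory Limits TopologicalSpace

namespace Groth.Agent.Lib.Helper41

/-- If `τ ≫ π` induces an isomorphism on stalks at `η` and `τ η` is the generic point of the
integral scheme `Z`, then `π` induces an isomorphism on the stalk at the generic point of `Z`. -/
theorem isIso_stalkMap_genericPoint_of_comp {Z X₀ U₁ : Scheme.{u}} [IsIntegral Z]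
    (τ : U₁ ⟶ Z) (π : Z ⟶ X₀) (η : U₁)
    (hη : τ η = genericPoint Z) (h : IsIso ((τ ≫ π).stalkMap η)) :
    IsIso (π.stalkMap (genericPoint Z)) := by
  rw [← hη]
  have hfield : IsField (Z.presheaf.stalk (τ η)) := by
    rw [hη]; exact Field.toIsField Z.functionField
  rw [Scheme.Hom.stalkMap_comp] at h
  set a := π.stalkMap (τ η) with ha
  set b := τ.stalkMap η with hb
  haveI : IsIso (a ≫ b) := h
  have hbij : Function.Bijective (a ≫ b) := ConcreteCategory.bijective_of_isIso (a ≫ b)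
  have hbinj : Function.Injective b := by
    letI := hfield.toField
    exact RingHom.injective b.hom
  have hbsurj : Function.Surjective b := by
    intro y
    obtain ⟨w, hw⟩ := hbij.2 y
    exact ⟨a w, hw⟩
  haveI : IsIso b := (ConcreteCategory.isIso_iff_bijective b).mpr ⟨hbinj, hbsurj⟩
  exact IsIso.of_isIso_comp_right a b

/-- If `π` is an isomorphism over `V₀`, a morphism `a` into `Z` lying over `t : T ⟶ V₀`
is determined by `t`. -/
theorem comp_inv_morphismRestrict_eq {T Z X₀ : Scheme.{u}} (π : Z ⟶ X₀) (V₀ : X₀.Opens)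
    [IsIso (π ∣_ V₀)] (a : T ⟶ Z) (t : T ⟶ V₀) (h : a ≫ π = t ≫ V₀.ι) :
    t ≫ inv (π ∣_ V₀) ≫ (π ⁻¹ᵁ V₀).ι = a := by
  have hrange : Set.range a ⊆ Set.range (π ⁻¹ᵁ V₀).ι := by
    rintro _ ⟨u, rfl⟩
    rw [Scheme.Opens.range_ι]
    change π (a u) ∈ V₀
    rw [← Scheme.Hom.comp_apply, h, Scheme.Hom.comp_apply]
    exact (t u).2
  let a' : T ⟶ (π ⁻¹ᵁ V₀ : Scheme.{u}) := IsOpenImmersion.lift (π ⁻¹ᵁ V₀).ι a hrange
  have ha' : a' ≫ (π ⁻¹ᵁ V₀).ι = a := IsOpenImmersion.lift_fac _ _ _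
  have h2 : a' ≫ (π ∣_ V₀) = t := by
    rw [← cancel_mono V₀.ι, Category.assoc, morphismRestrict_ι, ← Category.assoc, ha', h]
  rw [← h2, Category.assoc, IsIso.hom_inv_id_assoc, ha']

/-- A rational section `g₁` (defined on the open `j₁ : U₁ ⟶ X₀`) of a separated morphism
`q₀ : P₀ ⟶ X₀` locally of finite type over an integral scheme extends to a neighbourhood of a
normal point `x₀` if the closure of its image has an isolated point in the fibre over `x₀`. -/
theorem exists_section_of_isolated {X₀ P₀ U₁ : Scheme.{u}} [IsIntegral X₀] [IsIntegral U₁]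
    (q₀ : P₀ ⟶ X₀) [IsSeparated q₀] [LocallyOfFiniteType q₀]
    (j₁ : U₁ ⟶ X₀) [IsOpenImmersion j₁] (g₁ : U₁ ⟶ P₀) [QuasiCompact g₁] (hg : g₁ ≫ q₀ = j₁)
    (z₀ : P₀) (hx : IsIntegrallyClosed (X₀.presheaf.stalk (q₀ z₀)))
    (hz : z₀ ∈ closure (Set.range g₁))
    (W : P₀.Opens)
    (hW : (W : Set P₀) ∩ closure (Set.range g₁) ∩ q₀ ⁻¹' {q₀ z₀} = {z₀}) :
    ∃ (V₀ : X₀.Opens) (s : (V₀ : Scheme.{u}) ⟶ P₀), q₀ z₀ ∈ V₀ ∧ s ≫ q₀ = V₀.ι ∧
      (j₁ ∣_ V₀) ≫ s = (j₁ ⁻¹ᵁ V₀).ι ≫ g₁ := by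
  haveI : IsIntegral g₁.image := isIntegral_image g₁
  set ι := g₁.imageι with hι
  set τ := g₁.toImage with hτ
  set π := ι ≫ q₀ with hπ
  have hτι : τ ≫ ι = g₁ := g₁.toImage_imageι
  have hτπ : τ ≫ π = j₁ := by rw [hπ, ← Category.assoc, hτι, hg]
  have hrange : Set.range ι = closure (Set.range g₁) := by
    rw [hι, Scheme.IdealSheafData.range_subschemeι, Scheme.Hom.support_ker]
  obtain ⟨z', rfl⟩ : z₀ ∈ Set.range ι := hrange ▸ hz
  -- generic point
  have hη : τ (genericPoint U₁) = genericPoint g₁.image := by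
    have h1 := (genericPoint_spec U₁).image τ.continuous
    rw [Set.image_univ, τ.denseRange.closure_range] at h1
    exact ((genericPoint_spec g₁.image).eq h1).symm
  have hbir : IsIso (π.stalkMap (genericPoint g₁.image)) := by
    apply isIso_stalkMap_genericPoint_of_comp τ π (genericPoint U₁) hη
    rw [hτπ]; infer_instance
  -- quasi-finiteness at z'
  have hq : π.QuasiFiniteAt z' := by
    rw [Scheme.Hom.quasiFiniteAt_iff_isOpen_singleton_asFiber,
      ← (π.fiberHomeo (π z')).isOpen_image]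
    simp only [Set.image_singleton, Scheme.Hom.asFiber, Homeomorph.apply_symm_apply]
    have : ({⟨z', rfl⟩} : Set (π ⁻¹' {π z'})) = Subtype.val ⁻¹' ((ι ⁻¹ᵁ W : g₁.image.Opens) : Set g₁.image) := by
      ext ⟨w, hw⟩
      simp only [Set.mem_singleton_iff, Set.mem_preimage]
      constructor
      · intro h
        obtain rfl : w = z' := Subtype.mk.inj h
        have : ι w ∈ (W : Set P₀) ∩ closure (Set.range g₁) ∩ q₀ ⁻¹' {q₀ (ι w)} := by
          rw [hW]; rfl
        exact this.1.1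
      · intro hwW
        have : ι w ∈ ({ι z'} : Set P₀) := by
          rw [← hW]
          refine ⟨⟨hwW, hrange ▸ ⟨w, rfl⟩⟩, ?_⟩
          exact hw
        exact Subtype.mk_eq_mk.mpr (ι.isClosedEmbedding.injective this)
    rw [this]
    exact (ι ⁻¹ᵁ W).isOpen.preimage continuous_subtype_val
  obtain ⟨V₀, hV₀, hiso⟩ := exists_isIso_morphismRestrict_of_quasiFiniteAt π hbir z' hx hq
  refine ⟨V₀, inv (π ∣_ V₀) ≫ (π ⁻¹ᵁ V₀).ι ≫ ι, hV₀, ?_, ?_⟩
  · rw [Category.assoc, Category.assoc, ← hπ, ← morphismRestrict_ι, IsIso.inv_hom_id_assoc]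
  · have := comp_inv_morphismRestrict_eq π V₀ ((j₁ ⁻¹ᵁ V₀).ι ≫ τ) (j₁ ∣_ V₀)
      (by rw [Category.assoc, hτπ, morphismRestrict_ι])
    have e2 : (j₁ ⁻¹ᵁ V₀).ι ≫ g₁ = ((j₁ ⁻¹ᵁ V₀).ι ≫ τ) ≫ ι := by rw [Category.assoc, hτι]
    rw [e2, ← this]
    simp only [Category.assoc]

end Groth.Agent.Lib.Helper41
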