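import Mathlib.AlgebraicGeometry.ZariskisMainTheorem
set_option autoImplicit false
universe u
open AlgebraicGeometry CategoryTheory Limits TopologicalSpace

namespace Groth.Agent.Lib.Helper41

/-- If `O_Y(U) → O_X(f⁻¹U)` is bijective for all affine opens `U`, then the relative
normalization of `Y` in `X` is `Y`. -/
theorem isIso_fromNormalization_of_bijective {X Y : Scheme.{u}} (f : X ⟶ Y)
    [QuasiCompact f] [QuasiSeparated f]
    (hO : ∀ U : Y.Opens, IsAffineOpen U → Function.Bijective (f.app U)) :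
    IsIso f.fromNormalization := by
  change MorphismProperty.isomorphisms _ _
  rw [IsZariskiLocalAtTarget.iff_of_iSup_eq_top (P := MorphismProperty.isomorphisms Scheme.{u}) _
    (iSup_affineOpens_eq_top Y)]
  intro U
  change IsIso (f.fromNormalization ∣_ U.1)
  rw [isIso_morphismRestrict_iff_isIso_app _ U.2, f.fromNormalization_app U.2]
  letI := (f.app U.1).hom.toAlgebra
  suffices h : Function.Bijective
      (algebraMap Γ(Y, U.1) (integralClosure Γ(Y, U.1) Γ(X, f ⁻¹ᵁ U.1))) by
    have : IsIso (CommRingCat.ofHom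
        (algebraMap Γ(Y, U.1) (integralClosure Γ(Y, U.1) Γ(X, f ⁻¹ᵁ U.1)))) :=
      (ConcreteCategory.isIso_iff_bijective _).mpr h
    infer_instance
  obtain ⟨hinj, hsurj⟩ := hO U.1 U.2
  constructor
  · intro a b hab
    apply hinj
    exact congr_arg Subtype.val hab
  · intro a
    obtain ⟨r, hr⟩ := hsurj a.1
    exact ⟨r, Subtype.ext hr⟩

theorem isIso_morphismRestrict_comp_of_isIso {X N Y : Scheme.{u}} (f : X ⟶ Y) (t : X ⟶ N)
    (e : N ⟶ Y) (h : t ≫ e = f) [IsIso e] (U₀ : N.Opens) [IsIso (t ∣_ U₀)] :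
    IsIso (f ∣_ ((inv e) ⁻¹ᵁ U₀)) := by
  subst h
  rw [morphismRestrict_comp]
  have hW : e ⁻¹ᵁ ((inv e) ⁻¹ᵁ U₀) = U₀ := by
    rw [← Scheme.Hom.comp_preimage]; simp
  have : ∀ W, W = U₀ → IsIso (t ∣_ W) := by rintro _ rfl; infer_instance
  have h1 : IsIso (t ∣_ (e ⁻¹ᵁ ((inv e) ⁻¹ᵁ U₀))) := this _ hW
  have h2 : IsIso (e ∣_ ((inv e) ⁻¹ᵁ U₀)) := inferInstance
  exact IsIso.comp_isIso' h1 h2

theorem quasiFiniteAt_of_isOpen_singleton_fiber {X Y : Scheme.{u}} (f : X ⟶ Y)
    [LocallyOfFiniteType f] (y : Y) (x : f.fiber y) (hx : IsOpen ({x} : Set (f.fiber y))) :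
    f.QuasiFiniteAt (f.fiberι y x) := by
  have h1 : IsOpen ({f.fiberHomeo y x} : Set (f ⁻¹' {y})) := by
    have := (f.fiberHomeo y).isOpen_image.mpr hx
    simpa only [Set.image_singleton] using this
  have key : ∀ (p : f ⁻¹' {y}), IsOpen ({p} : Set (f ⁻¹' {y})) → f.QuasiFiniteAt p.1 := by
    rintro ⟨x', hx'⟩ hp
    obtain rfl : f x' = y := hx'
    rw [Scheme.Hom.quasiFiniteAt_iff_isOpen_singleton_asFiber,
      ← (f.fiberHomeo (f x')).isOpen_image]
    simpa only [Set.image_singleton, Scheme.Hom.asFiber, Homeomorph.apply_symm_apply] using hp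
  exact key _ h1

/-- If `O_Y → f_* O_X` is an isomorphism (on affine opens) with `f` separated of finite type,
then there is an open `V ⊆ Y` over which `f` is an isomorphism and outside of which no fibre
has an isolated point. -/
theorem exists_isIso_morphismRestrict_of_bijective {X Y : Scheme.{u}} (f : X ⟶ Y)
    [IsSeparated f] [LocallyOfFiniteType f] [QuasiCompact f]
    (hO : ∀ U : Y.Opens, IsAffineOpen U → Function.Bijective (f.app U)) :
    ∃ V : Y.Opens, IsIso (f ∣_ V) ∧
      ∀ y : Y, y ∉ (V : Set Y) → ∀ x : ↥(f.fiber y), ¬ IsOpen ({x} : Set ↥(f.fiber y)) := by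
  haveI := isIso_fromNormalization_of_bijective f hO
  obtain ⟨U₀, hU₀, hU₀'⟩ := Scheme.Hom.exists_isIso_morphismRestrict_toNormalization f
  refine ⟨(inv f.fromNormalization) ⁻¹ᵁ U₀,
    isIso_morphismRestrict_comp_of_isIso f f.toNormalization f.fromNormalization
      f.toNormalization_fromNormalization U₀, ?_⟩
  intro y hy x hx
  apply hy
  have hq := quasiFiniteAt_of_isOpen_singleton_fiber f y x hx
  have hmem : f.fiberι y x ∈ (f.toNormalization ⁻¹ᵁ U₀).1 := by rw [hU₀']; exact hq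
  have hfy : f (f.fiberι y x) = y := (f.fiberHomeo y x).2
  have h2 : f.fromNormalization (f.toNormalization (f.fiberι y x)) = y := by
    rw [← Scheme.Hom.comp_apply, f.toNormalization_fromNormalization]; exact hfy
  change (inv f.fromNormalization) y ∈ U₀
  rw [← h2, ← Scheme.Hom.comp_apply, IsIso.hom_inv_id]
  exact hmem

end Groth.Agent.Lib.Helper41
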