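import Mathlib
import Groth.Agent.Lib.Helper41.BlowUpExist
import Groth.Agent.Lib.Helper82.EffCartier

/-!
# A local criterion for blow-ups

A morphism `p : P ⟶ X` which over every affine open `U` of `X` restricts (through an open immersion
`inc U : B_U ⟶ P` with image `p⁻¹(U)`) to a blow-up of `U` in `𝓘|_U` is a blow-up of `X` in `𝓘`.
-/

set_option autoImplicit false
universe u
open CategoryTheory CategoryTheory.Limits AlgebraicGeometry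

namespace Groth.Agent.Lib.Helper41.BlowUpLocal

open Groth.Agent.Lib.Helper82 Groth.Agent.Lib.Helper41.BlowUpAffine
  Groth.Agent.Lib.Helper41.BlowUpExist

/-- Postcomposing a blow-up with an isomorphism of the base. -/
theorem isBlowUp_comp_iso {S S' B : Scheme.{u}} (𝓙 : S.IdealSheafData) (β : B ⟶ S') (e : S' ⟶ S)
    [IsIso e] (hβ : BlowUp.IsBlowUp β (𝓙.comap e)) : BlowUp.IsBlowUp (β ≫ e) 𝓙 := by
  refine ⟨?_, fun Y g hg => ?_⟩
  · rw [Scheme.IdealSheafData.comap_comp]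
    exact hβ.1
  · have hg' : BlowUp.IsEffCartierIdeal ((𝓙.comap e).comap (g ≫ inv e)) := by
      rw [← Scheme.IdealSheafData.comap_comp, Category.assoc, IsIso.inv_hom_id, Category.comp_id]
      exact hg
    obtain ⟨h, hh, hu⟩ := hβ.2 Y (g ≫ inv e) hg'
    refine ⟨h, ?_, fun h₂ hh₂ => hu h₂ ?_⟩
    · change h ≫ β ≫ e = g
      rw [← Category.assoc, hh, Category.assoc, IsIso.inv_hom_id, Category.comp_id]
    · change h₂ ≫ β = g ≫ inv e
      have hh₂' : h₂ ≫ β ≫ e = g := hh₂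
      rw [← hh₂', Category.assoc, Category.assoc, IsIso.hom_inv_id, Category.comp_id]

section

variable {X P : Scheme.{u}} (𝓘 : X.IdealSheafData) (p : P ⟶ X)
  (BU : X.affineOpens → Scheme.{u}) (bU : ∀ U : X.affineOpens, BU U ⟶ U.1.toScheme)
  (inc : ∀ U : X.affineOpens, BU U ⟶ P) [∀ U, IsOpenImmersion (inc U)]
  (inc_b : ∀ U : X.affineOpens, inc U ≫ p = bU U ≫ U.1.ι)
  (b_preimage : ∀ U : X.affineOpens, p ⁻¹ᵁ U.1 = (inc U).opensRange)
  (isBlowUp_bU : ∀ U : X.affineOpens, BlowUp.IsBlowUp (bU U) (𝓘.comap U.1.ι))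

include inc_b b_preimage isBlowUp_bU

theorem exists_inc_eq (x : P) : ∃ (U : X.affineOpens) (y : BU U), inc U y = x := by
  obtain ⟨U, hU⟩ : ∃ U : X.affineOpens, p x ∈ U.1 := by
    obtain ⟨U, hU, hxU, -⟩ := exists_isAffineOpen_mem_and_subset (U := ⊤) (x := p x) trivial
    exact ⟨⟨U, hU⟩, hxU⟩
  have hx : x ∈ p ⁻¹ᵁ U.1 := hU
  rw [b_preimage] at hx
  obtain ⟨y, hy⟩ := hx
  exact ⟨U, y, hy⟩

theorem isEffCartierIdeal_comap_p : BlowUp.IsEffCartierIdeal (𝓘.comap p) := by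
  intro x
  obtain ⟨U, y, rfl⟩ := exists_inc_eq 𝓘 p BU bU inc inc_b b_preimage isBlowUp_bU x
  have h1 : BlowUp.IsEffCartierIdeal ((𝓘.comap p).comap (inc U)) := by
    rw [← Scheme.IdealSheafData.comap_comp, inc_b, Scheme.IdealSheafData.comap_comp]
    exact (isBlowUp_bU U).1
  obtain ⟨W, hyW, hW⟩ := h1 y
  exact effCartierAt_of_comap_openImmersion (𝓘.comap p) (inc U) W y hyW hW

theorem lift_unique {Y : Scheme.{u}} (g : Y ⟶ X) (hD : BlowUp.IsEffCartierIdeal (𝓘.comap g))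
    (h₁ h₂ : Y ⟶ P) (e₁ : h₁ ≫ p = g) (e₂ : h₂ ≫ p = g) : h₁ = h₂ := by
  apply hom_ext_of_forall_exists_open
  intro y
  obtain ⟨U, hU⟩ := exists_affineOpen_mem (g y)
  refine ⟨g ⁻¹ᵁ U.1, hU, ?_⟩
  have hr : ∀ (h : Y ⟶ P), h ≫ p = g →
      Set.range ((g ⁻¹ᵁ U.1).ι ≫ h) ⊆ Set.range (inc U) := by
    intro h e
    rintro _ ⟨w, rfl⟩
    have hw : h w.1 ∈ p ⁻¹ᵁ U.1 := by
      change (h ≫ p) w.1 ∈ U.1
      rw [e]; exact w.2
    rw [b_preimage] at hw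
    exact hw
  let k₁ := IsOpenImmersion.lift (inc U) ((g ⁻¹ᵁ U.1).ι ≫ h₁) (hr h₁ e₁)
  let k₂ := IsOpenImmersion.lift (inc U) ((g ⁻¹ᵁ U.1).ι ≫ h₂) (hr h₂ e₂)
  have hk₁ : k₁ ≫ inc U = (g ⁻¹ᵁ U.1).ι ≫ h₁ := IsOpenImmersion.lift_fac _ _ _
  have hk₂ : k₂ ≫ inc U = (g ⁻¹ᵁ U.1).ι ≫ h₂ := IsOpenImmersion.lift_fac _ _ _
  have hb₁ : k₁ ≫ bU U = g ∣_ U.1 := by
    rw [← cancel_mono U.1.ι, Category.assoc, ← inc_b, ← Category.assoc, hk₁, Category.assoc, e₁,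
      morphismRestrict_ι]
  have hb₂ : k₂ ≫ bU U = g ∣_ U.1 := by
    rw [← cancel_mono U.1.ι, Category.assoc, ← inc_b, ← Category.assoc, hk₂, Category.assoc, e₂,
      morphismRestrict_ι]
  have hkk : k₁ = k₂ :=
    ((isBlowUp_bU U).2 _ (g ∣_ U.1) (effCartier_restrict 𝓘 g hD U.1)).unique hb₁ hb₂
  rw [← hk₁, hkk, hk₂]

theorem exists_lift {Y : Scheme.{u}} (g : Y ⟶ X) (hD : BlowUp.IsEffCartierIdeal (𝓘.comap g)) :
    ∃ h : Y ⟶ P, h ≫ p = g := by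
  have hcov : TopologicalSpace.IsOpenCover (fun U : X.affineOpens => g ⁻¹ᵁ U.1) := by
    rw [TopologicalSpace.IsOpenCover, eq_top_iff]
    intro y _
    obtain ⟨U, hU⟩ := exists_affineOpen_mem (g y)
    exact TopologicalSpace.Opens.mem_iSup.mpr ⟨U, hU⟩
  let 𝒰 := Y.openCoverOfIsOpenCover (fun U : X.affineOpens => g ⁻¹ᵁ U.1) hcov
  have hloc : ∀ U, ∃ h : 𝒰.X U ⟶ P, h ≫ p = 𝒰.f U ≫ g := fun U => by
    change ∃ h : (g ⁻¹ᵁ U.1).toScheme ⟶ P, h ≫ p = (g ⁻¹ᵁ U.1).ι ≫ g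
    obtain ⟨h, hh, -⟩ := (isBlowUp_bU U).2 _ (g ∣_ U.1) (effCartier_restrict 𝓘 g hD U.1)
    exact ⟨h ≫ inc U, by rw [Category.assoc, inc_b, ← Category.assoc, hh, morphismRestrict_ι]⟩
  choose hl hhl using hloc
  refine ⟨𝒰.glueMorphisms hl ?_, ?_⟩
  · intro U V
    refine lift_unique 𝓘 p BU bU inc inc_b b_preimage isBlowUp_bU
      ((pullback.fst (𝒰.f U) (𝒰.f V) ≫ 𝒰.f U) ≫ g) ?_ _ _ ?_ ?_
    · rw [Scheme.IdealSheafData.comap_comp]
      exact isEffCartierIdeal_comap_of_flat _ _ hD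
    · rw [Category.assoc, hhl, Category.assoc]
    · rw [Category.assoc, hhl, pullback.condition, Category.assoc]
  · apply 𝒰.hom_ext
    intro U
    rw [← Category.assoc, 𝒰.ι_glueMorphisms, hhl]

/-- The local criterion. -/
theorem isBlowUp_of_local : BlowUp.IsBlowUp p 𝓘 := by
  refine ⟨isEffCartierIdeal_comap_p 𝓘 p BU bU inc inc_b b_preimage isBlowUp_bU,
    fun Y g hg => ?_⟩
  obtain ⟨h, hh⟩ := exists_lift 𝓘 p BU bU inc inc_b b_preimage isBlowUp_bU g hg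
  exact ⟨h, hh, fun h' hh' =>
    lift_unique 𝓘 p BU bU inc inc_b b_preimage isBlowUp_bU g hg h' h hh' hh⟩

end

end Groth.Agent.Lib.Helper41.BlowUpLocal
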