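import Mathlib
import Groth.Prelude.Def_Found
import Groth.Prelude.Def_BlowUp2

/-!
# Catenary local rings: height jumps by one along a covering pair of primes
-/

set_option autoImplicit false
universe u
open CategoryTheory AlgebraicGeometry

namespace Groth.Agent.Lib.Helper41.CatenaryDim

section Order

variable {α β : Type*} [PartialOrder α] [PartialOrder β]

/-- A series of maximal length among those ending at its last element is saturated. -/
theorem covBy_of_length_eq_height (p : LTSeries α) (h : (p.length : ℕ∞) = Order.height p.last)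
    (i : Fin p.length) : p i.castSucc ⋖ p i.succ := by
  refine ⟨p.step i, fun x hx1 hx2 => ?_⟩
  have h1 := Order.height_eq_index_of_length_eq_height_last h i.castSucc
  have h2 := Order.height_eq_index_of_length_eq_height_last h i.succ
  have h3 := Order.height_add_one_le hx1
  have h4 := Order.height_add_one_le hx2
  rw [h1] at h3
  rw [h2] at h4
  have h5 : ((i.castSucc : Fin (p.length + 1)) : ℕ∞) + 1 + 1 ≤ ((i.succ : Fin (p.length + 1)) : ℕ∞) :=
    (add_le_add_left h3 1).trans h4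
  simp only [Fin.val_castSucc, Fin.val_succ] at h5
  have h6 : ¬ ((i : ℕ) + 1 + 1 ≤ (i : ℕ) + 1) := by omega
  exact h6 (by exact_mod_cast h5)

theorem isMin_head_of_length_eq_height (p : LTSeries α) (h : (p.length : ℕ∞) = Order.height p.last) :
    IsMin p.head := by
  have h1 := Order.height_eq_index_of_length_eq_height_last h 0
  rw [← Order.height_eq_zero]
  change Order.height (p 0) = 0
  simpa using h1

/-- Lift a series lying below `m` along an order isomorphism onto `Set.Iic m`. -/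
def liftSeries {m : α} (E : β ≃o Set.Iic m) (s : LTSeries α) (hm : s.last ≤ m) : LTSeries β where
  length := s.length
  toFun i := E.symm ⟨s i, (s.monotone (Fin.le_last i)).trans hm⟩
  step i := E.symm.strictMono (Subtype.mk_lt_mk.mpr (s.step i))

theorem length_eq_of_orderIso {m : α} (E : β ≃o Set.Iic m)
    (hβ : ∀ s t : LTSeries β, s.head = t.head → s.last = t.last →
      (∀ i : Fin s.length, s (Fin.castSucc i) ⋖ s (Fin.succ i)) →
      (∀ i : Fin t.length, t (Fin.castSucc i) ⋖ t (Fin.succ i)) → s.length = t.length)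
    (s t : LTSeries α) (hh : s.head = t.head) (hl : s.last = t.last) (hm : s.last ≤ m)
    (hs : ∀ i : Fin s.length, s (Fin.castSucc i) ⋖ s (Fin.succ i))
    (ht : ∀ i : Fin t.length, t (Fin.castSucc i) ⋖ t (Fin.succ i)) : s.length = t.length := by
  have hm' : t.last ≤ m := hl ▸ hm
  have key : ∀ (r : LTSeries α) (hr : r.last ≤ m),
      (∀ i : Fin r.length, r (Fin.castSucc i) ⋖ r (Fin.succ i)) →
      ∀ i : Fin (liftSeries E r hr).length,
        (liftSeries E r hr) (Fin.castSucc i) ⋖ (liftSeries E r hr) (Fin.succ i) := by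
    intro r hr hsat i
    refine ⟨(liftSeries E r hr).step i, fun c hc1 hc2 => ?_⟩
    have h1 : (⟨r (Fin.castSucc i), (r.monotone (Fin.le_last _)).trans hr⟩ : Set.Iic m) < E c := by
      have := E.strictMono hc1
      simpa [liftSeries] using this
    have h2 : E c < (⟨r (Fin.succ i), (r.monotone (Fin.le_last _)).trans hr⟩ : Set.Iic m) := by
      have := E.strictMono hc2
      simpa [liftSeries] using this
    have h1' : r (Fin.castSucc i) < (E c).1 := h1
    have h2' : (E c).1 < r (Fin.succ i) := h2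
    exact (hsat i).2 h1' h2'
  exact hβ (liftSeries E s hm) (liftSeries E t hm')
    (congrArg E.symm (Subtype.ext hh)) (congrArg E.symm (Subtype.ext hl))
    (key s hm hs) (key t hm' ht)

theorem sat_snoc (s : LTSeries α) (a : α) (h : s.last < a)
    (hs : ∀ i : Fin s.length, s (Fin.castSucc i) ⋖ s (Fin.succ i)) (hc : s.last ⋖ a) :
    ∀ i : Fin (s.snoc a h).length, (s.snoc a h) (Fin.castSucc i) ⋖ (s.snoc a h) (Fin.succ i) := by
  intro i
  have hlen : (s.snoc a h).length = s.length + 1 := rfl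
  obtain ⟨i, hi⟩ := i
  by_cases hlt : i < s.length
  · have e1 : (s.snoc a h) (Fin.castSucc ⟨i, hi⟩) = s (Fin.castSucc ⟨i, hlt⟩) :=
      RelSeries.snoc_castSucc s a h (Fin.castSucc ⟨i, hlt⟩)
    have e2 : (s.snoc a h) (Fin.succ ⟨i, hi⟩) = s (Fin.succ ⟨i, hlt⟩) :=
      RelSeries.snoc_castSucc s a h (Fin.succ ⟨i, hlt⟩)
    rw [e1, e2]
    exact hs ⟨i, hlt⟩
  · have hi' : i = s.length := by omega
    subst hi'
    have e1 : (s.snoc a h) (Fin.castSucc ⟨s.length, hi⟩) = s.last :=
      RelSeries.snoc_castSucc s a h (Fin.last _)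
    have e2 : (s.snoc a h) (Fin.succ ⟨s.length, hi⟩) = a :=
      RelSeries.last_snoc' s a h
    rw [e1, e2]
    exact hc

end Order

section Ring

variable {B : Type u} [CommRing B] [IsNoetherianRing B]

theorem height_eq_add_one_of_covBy (P M : PrimeSpectrum B) (hcov : P ⋖ M)
    (hmin : ∀ Q Q' : PrimeSpectrum B, IsMin Q → IsMin Q' → Q = Q')
    (A : Type u) [CommRing A] [Algebra B A] [IsLocalization.AtPrime A M.asIdeal]
    (hcat : CAlg.IsCatenary A) :
    M.asIdeal.height = P.asIdeal.height + 1 := by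
  obtain ⟨l₁, hl₁, hlen₁⟩ := Ideal.exists_ltSeries_length_eq_height P.asIdeal
  obtain ⟨l₂, hl₂, hlen₂⟩ := Ideal.exists_ltSeries_length_eq_height M.asIdeal
  have hl₁' : l₁.last = P := hl₁
  have hl₂' : l₂.last = M := hl₂
  have e1 : (l₁.length : ℕ∞) = Order.height l₁.last := by
    rw [hlen₁, hl₁', PrimeSpectrum.height_eq_orderHeight]
  have e2 : (l₂.length : ℕ∞) = Order.height l₂.last := by
    rw [hlen₂, hl₂', PrimeSpectrum.height_eq_orderHeight]
  have hlt : l₁.last < M := by rw [hl₁']; exact hcov.lt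
  have hsat := sat_snoc l₁ M hlt (covBy_of_length_eq_height l₁ e1) (by rw [hl₁']; exact hcov)
  have hsat₂ := covBy_of_length_eq_height l₂ e2
  have hheads : (l₁.snoc M hlt).head = l₂.head := by
    rw [RelSeries.head_snoc]
    exact hmin _ _ (isMin_head_of_length_eq_height l₁ e1) (isMin_head_of_length_eq_height l₂ e2)
  have hlasts : (l₁.snoc M hlt).last = l₂.last := by
    rw [RelSeries.last_snoc, hl₂']
  have key := length_eq_of_orderIso
    (IsLocalization.AtPrime.primeSpectrumOrderIso A M.asIdeal) hcat.2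
    (l₁.snoc M hlt) l₂ hheads hlasts (by rw [RelSeries.last_snoc]) hsat hsat₂
  have hlen : (l₁.snoc M hlt).length = l₁.length + 1 := rfl
  rw [hlen] at key
  rw [← hlen₁, ← hlen₂, ← key]
  push_cast
  rfl

/-- Relative form of Krull's principal ideal theorem: a prime minimal over `P + (f)` covers `P`. -/
theorem covBy_of_mem_minimalPrimes (P M : PrimeSpectrum B) (f : B) (hfP : f ∉ P.asIdeal)
    (hmin : M.asIdeal ∈ (P.asIdeal ⊔ Ideal.span {f}).minimalPrimes) : P ⋖ M := by
  have hPM : P.asIdeal ≤ M.asIdeal := le_sup_left.trans hmin.1.2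
  have hfM : f ∈ M.asIdeal :=
    hmin.1.2 (Ideal.mem_sup_right (Ideal.mem_span_singleton_self f))
  have hlt : P < M := by
    refine lt_of_le_of_ne hPM fun h => hfP ?_
    rw [h]; exact hfM
  refine ⟨hlt, fun q hPq hqM => ?_⟩
  have hspan : Ideal.span (insert f (P.asIdeal : Set B)) = P.asIdeal ⊔ Ideal.span {f} := by
    rw [Ideal.span_insert, Ideal.span_eq, sup_comm]
  have h1 := Ideal.mem_minimalPrimes_span_of_mem_minimalPrimes_span_insert (q := q.asIdeal)
    (p := M.asIdeal) hqM f (P.asIdeal : Set B) (by rw [hspan]; exact hmin) (P.asIdeal : Set B)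
    hPq.le (fun x hx => Ideal.le_radical (Ideal.subset_span (Set.mem_insert_of_mem _ hx)))
  rw [Ideal.span_eq, Ideal.minimalPrimes_eq_subsingleton_self, Set.mem_singleton_iff] at h1
  exact hPq.ne (PrimeSpectrum.ext h1.symm)

end Ring

section Chart

variable {X : Scheme.{u}} {U : X.Opens} (hU : IsAffineOpen U)

theorem fromSpec_mem (y : PrimeSpectrum Γ(X, U)) : hU.fromSpec y ∈ U := by
  have : hU.fromSpec y ∈ Set.range hU.fromSpec := ⟨y, rfl⟩
  rw [hU.range_fromSpec] at this
  exact this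

theorem exists_fromSpec_eq (x : X) (hx : x ∈ U) : ∃ y : PrimeSpectrum Γ(X, U), hU.fromSpec y = x :=
  ⟨hU.primeIdealOf ⟨x, hx⟩, hU.fromSpec_primeIdealOf ⟨x, hx⟩⟩

theorem specializes_iff (y y' : PrimeSpectrum Γ(X, U)) :
    hU.fromSpec y ⤳ hU.fromSpec y' ↔ y ≤ y' := by
  rw [PrimeSpectrum.le_iff_specializes]
  exact hU.fromSpec.isOpenEmbedding.isInducing.specializes_iff

theorem fromSpec_injective : Function.Injective (hU.fromSpec : PrimeSpectrum Γ(X, U) → X) :=
  hU.fromSpec.isOpenEmbedding.injective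

theorem dim_stalk (y : PrimeSpectrum Γ(X, U)) :
    ringKrullDim (X.presheaf.stalk (hU.fromSpec y)) = y.asIdeal.height := by
  exact @IsLocalization.AtPrime.ringKrullDim_eq_height _ _ y.asIdeal _
    (X.presheaf.stalk (hU.fromSpec y)) _
    (TopCat.Presheaf.algebra_section_stalk X.presheaf ⟨hU.fromSpec y, fromSpec_mem hU y⟩)
    (hU.isLocalization_stalk' y (fromSpec_mem hU y))

theorem mem_support_iff (𝓘 : X.IdealSheafData) (f : Γ(X, U))
    (h𝓘 : 𝓘.ideal ⟨U, hU⟩ = Ideal.span {f}) (y : PrimeSpectrum Γ(X, U)) :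
    hU.fromSpec y ∈ (𝓘.support : Set X) ↔ f ∈ y.asIdeal := by
  have h1 : hU.fromSpec y ∈ (𝓘.support : Set X) ↔
      hU.fromSpec y ∈ X.zeroLocus (U := U) (𝓘.ideal ⟨U, hU⟩) :=
    Scheme.IdealSheafData.mem_support_iff_of_mem (U := ⟨U, hU⟩) (fromSpec_mem hU y)
  rw [h1, h𝓘, Scheme.zeroLocus_span, Scheme.mem_zeroLocus_iff]
  have h2 : hU.fromSpec y ∈ X.basicOpen f ↔ f ∉ y.asIdeal := by
    have : y ∈ hU.fromSpec ⁻¹ᵁ X.basicOpen f ↔ y ∈ PrimeSpectrum.basicOpen f := by
      rw [hU.fromSpec_preimage_basicOpen]; rfl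
    exact this
  constructor
  · intro h
    by_contra hcon
    exact h f rfl (h2.mpr hcon)
  · rintro h g rfl hg
    exact (h2.mp hg) h

end Chart

section Main

theorem genericPoint_not_mem_support {Z : Scheme.{u}} [IsIntegral Z] (𝓙 : Z.IdealSheafData)
    (h : BlowUp.IsEffCartierIdeal 𝓙) : genericPoint Z ∉ (𝓙.support : Set Z) := by
  obtain ⟨W, hξW, g, hg, hgW⟩ := h (genericPoint Z)
  intro hmem
  rw [SetLike.mem_coe, Scheme.IdealSheafData.mem_support_iff_of_mem (U := W) hξW, hgW,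
    Scheme.zeroLocus_span, Scheme.mem_zeroLocus_iff] at hmem
  have hne : Nonempty W.1 := ⟨⟨genericPoint Z, hξW⟩⟩
  have hg0 : g ≠ 0 := nonZeroDivisors.ne_zero hg
  have hbo : Z.basicOpen g ≠ ⊥ := fun hb => hg0 ((basicOpen_eq_bot_iff g).mp hb)
  obtain ⟨z, hz⟩ : ∃ z, z ∈ Z.basicOpen g := by
    by_contra hcon
    push Not at hcon
    apply hbo
    ext z
    simp only [SetLike.mem_coe]
    exact ⟨fun hz => (hcon z hz).elim, fun hz => hz.elim⟩
  exact hmem g rfl ((genericPoint_specializes z).mem_open (Z.basicOpen g).isOpen hz)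

theorem main {X Z : Scheme.{u}} [IsLocallyNoetherian X] [IrreducibleSpace ↥X]
    (hcat : ∀ x : ↥X, CAlg.IsCatenary ↑(X.presheaf.stalk x))
    (𝓘 : X.IdealSheafData) (hY : BlowUp.IsEffCartierIdeal 𝓘)
    (i : Z ⟶ X) [IsClosedImmersion i] [IsIntegral Z] (hc : BlowUp.IsEffCartierIdeal (𝓘.comap i))
    (ζ : X) (hζ : ζ ∈ (𝓘.support : Set ↥X) ∩ Set.range i.base)
    (hmax : ∀ ζ' : ↥X, ζ' ∈ (𝓘.support : Set ↥X) ∩ Set.range i.base → ζ' ⤳ ζ → ζ' = ζ) :
    ringKrullDim ↑(X.presheaf.stalk ζ) =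
      (⨅ y : (𝓘.support : Set ↥X), ringKrullDim ↑(X.presheaf.stalk y.1)) +
        ringKrullDim ↑(X.presheaf.stalk (i (genericPoint ↥Z))) := by
  -- the range of `i` is the closure of the image of the generic point
  have hrange : ∀ x : X, x ∈ Set.range i.base ↔ i (genericPoint Z) ⤳ x := by
    intro x
    rw [specializes_iff_mem_closure, ← Set.image_singleton,
      i.isClosedEmbedding.closure_image_eq, (genericPoint_spec Z).def, Set.image_univ]
  -- the generic point of `Z` is not on `Y`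
  have hξY : i (genericPoint Z) ∉ (𝓘.support : Set X) := by
    have h1 := genericPoint_not_mem_support _ hc
    rw [Scheme.IdealSheafData.support_comap] at h1
    exact h1
  -- chart at ζ
  obtain ⟨U, hζU, f, hf, hfU⟩ := hY ζ
  obtain ⟨U, hU⟩ := U
  haveI : IsNoetherianRing Γ(X, U) := IsLocallyNoetherian.component_noetherian ⟨U, hU⟩
  have hξζ : i (genericPoint Z) ⤳ ζ := (hrange ζ).mp hζ.2
  have hξU : i (genericPoint Z) ∈ U := hξζ.mem_open U.isOpen hζU
  obtain ⟨pζ, rfl⟩ := exists_fromSpec_eq hU ζ hζU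
  obtain ⟨pξ, hpξ⟩ := exists_fromSpec_eq hU _ hξU
  have hfζ : f ∈ pζ.asIdeal := (mem_support_iff hU 𝓘 f hfU pζ).mp hζ.1
  have hfξ : f ∉ pξ.asIdeal := fun h => hξY (hpξ ▸ (mem_support_iff hU 𝓘 f hfU pξ).mpr h)
  have hle : pξ ≤ pζ := (specializes_iff hU pξ pζ).mp (hpξ ▸ hξζ)
  have hminP : pζ.asIdeal ∈ (pξ.asIdeal ⊔ Ideal.span {f}).minimalPrimes := by
    refine ⟨⟨pζ.2, sup_le hle ((Ideal.span_singleton_le_iff_mem _).mpr hfζ)⟩, ?_⟩
    rintro q ⟨hqprime, hq⟩ hqle
    let q' : PrimeSpectrum Γ(X, U) := ⟨q, hqprime⟩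
    have h1 : hU.fromSpec q' ∈ (𝓘.support : Set X) :=
      (mem_support_iff hU 𝓘 f hfU q').mpr (hq (Ideal.mem_sup_right (Ideal.mem_span_singleton_self f)))
    have h2 : hU.fromSpec q' ∈ Set.range i.base := by
      rw [hrange, ← hpξ, specializes_iff]
      exact le_sup_left.trans hq
    have h3 : hU.fromSpec q' ⤳ hU.fromSpec pζ := (specializes_iff hU q' pζ).mpr hqle
    have h4 := fromSpec_injective hU (hmax _ ⟨h1, h2⟩ h3)
    rw [← h4]
  have hcov : pξ ⋖ pζ := covBy_of_mem_minimalPrimes pξ pζ f hfξ hminP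
  -- unique minimal prime
  have hηU : genericPoint X ∈ U := (genericPoint_specializes (hU.fromSpec pζ)).mem_open U.isOpen hζU
  obtain ⟨pη, hpη⟩ := exists_fromSpec_eq hU _ hηU
  have hη : ∀ Q : PrimeSpectrum Γ(X, U), pη ≤ Q := fun Q => by
    rw [← specializes_iff hU, hpη]
    exact genericPoint_specializes _
  have hmin : ∀ Q Q' : PrimeSpectrum Γ(X, U), IsMin Q → IsMin Q' → Q = Q' := by
    intro Q Q' hQ hQ'
    rw [le_antisymm (hQ (hη Q)) (hη Q), le_antisymm (hQ' (hη Q')) (hη Q')]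
  have hht : pζ.asIdeal.height = pξ.asIdeal.height + 1 :=
    @height_eq_add_one_of_covBy _ _ _ pξ pζ hcov hmin (X.presheaf.stalk (hU.fromSpec pζ)) _
      (TopCat.Presheaf.algebra_section_stalk X.presheaf ⟨hU.fromSpec pζ, fromSpec_mem hU pζ⟩)
      (hU.isLocalization_stalk' pζ (fromSpec_mem hU pζ)) (hcat _)
  -- the codimension of `Y` is one
  have hinf : (⨅ y : (𝓘.support : Set ↥X), ringKrullDim ↑(X.presheaf.stalk y.1)) = 1 := by
    apply le_antisymm
    · obtain ⟨q, hq, hqle⟩ := Ideal.exists_minimalPrimes_le (I := Ideal.span {f}) (J := pζ.asIdeal)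
        ((Ideal.span_singleton_le_iff_mem _).mpr hfζ)
      haveI := hq.1.1
      let q' : PrimeSpectrum Γ(X, U) := ⟨q, hq.1.1⟩
      have h1 : hU.fromSpec q' ∈ (𝓘.support : Set X) :=
        (mem_support_iff hU 𝓘 f hfU q').mpr (hq.1.2 (Ideal.mem_span_singleton_self f))
      refine iInf_le_of_le ⟨_, h1⟩ ?_
      rw [dim_stalk hU q']
      have := Ideal.height_le_one_of_isPrincipal_of_mem_minimalPrimes (Ideal.span {f}) q hq
      exact_mod_cast this
    · refine le_iInf ?_
      rintro ⟨y, hy⟩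
      obtain ⟨U', hyU', f', hf', hfU'⟩ := hY y
      obtain ⟨U', hU'⟩ := U'
      obtain ⟨py, rfl⟩ := exists_fromSpec_eq hU' y hyU'
      change (1 : WithBot ℕ∞) ≤ ringKrullDim ↑(X.presheaf.stalk (hU'.fromSpec py))
      rw [dim_stalk hU' py]
      have hfy : f' ∈ py.asIdeal := (mem_support_iff hU' 𝓘 f' hfU' py).mp hy
      have h1 : 1 ≤ py.asIdeal.height := by
        by_contra hcon
        have h0 : py.asIdeal.height = 0 := Order.lt_one_iff.mp (not_le.mp hcon)
        rw [Ideal.height_eq_zero_iff] at h0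
        exact Set.disjoint_left.mp (Ideal.disjoint_nonZeroDivisors_of_mem_minimalPrimes h0) hfy hf'
      exact_mod_cast h1
  rw [hinf, dim_stalk hU pζ, ← hpξ, dim_stalk hU pξ, hht]
  push_cast
  rw [add_comm]

end Main

end Groth.Agent.Lib.Helper41.CatenaryDim
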