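import Mathlib
import Groth.Agent.Lib.Helper32.ChevDVR.Defs
import Groth.Agent.Lib.Helper91.CauchyBinet

/-!
# CH6: the ideal of the non-principal minors of the first `e` columns
-/

set_option autoImplicit false
universe u
open TensorProduct
open Groth.Agent.Lib.Helper32.ChevDVR

namespace Groth.Agent.Lib.Helper41.ChevDVR6

variable {R : Type u} [CommRing R]

/-- A determinant with a row in an ideal lies in that ideal. -/
theorem det_mem_of_row_mem {m : Type*} [Fintype m] [DecidableEq m] (J : Ideal R)
    (N : Matrix m m R) (k : m) (h : ∀ j, N k j ∈ J) : N.det ∈ J := by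
  rw [← Ideal.Quotient.eq_zero_iff_mem, RingHom.map_det]
  apply Matrix.det_eq_zero_of_row_eq_zero k
  intro j
  rw [RingHom.mapMatrix_apply, Matrix.map_apply, Ideal.Quotient.eq_zero_iff_mem]
  exact h j

theorem span_compound_col {n : ℕ} (e : ℕ) (a a' : Matrix (Fin n) (Fin n) R) (h : a' * a = 1)
    (S₀ : {S : Finset (Fin n) // S.card = e}) (hS₀ : ∀ i : Fin n, i ∈ S₀.1 ↔ i.1 < e) :
    Ideal.span {x | ∃ S, S ≠ S₀ ∧ x = compound e a S S₀} =
      Ideal.span {x | ∃ i j : Fin n, e ≤ i.1 ∧ j.1 < e ∧ x = a i j} := by
  classical
  set p : Fin e ↪o Fin n := S₀.1.orderEmbOfFin S₀.2 with hp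
  have hpmem : ∀ k : Fin e, p k ∈ S₀.1 := fun k => Finset.orderEmbOfFin_mem S₀.1 S₀.2 k
  have hprange : ∀ j : Fin n, j ∈ S₀.1 → ∃ k : Fin e, p k = j := by
    intro j hj
    have : j ∈ Set.range (S₀.1.orderEmbOfFin S₀.2) := by
      rw [Finset.range_orderEmbOfFin]; exact hj
    exact this
  apply le_antisymm
  · -- every non-principal minor has a row in `J`
    rw [Ideal.span_le]
    rintro x ⟨S, hS, rfl⟩
    set J := Ideal.span {x | ∃ i j : Fin n, e ≤ i.1 ∧ j.1 < e ∧ x = a i j} with hJ
    have hex : ∃ k : Fin e, (S.1.orderEmbOfFin S.2) k ∉ S₀.1 := by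
      by_contra hcon
      push Not at hcon
      apply hS
      apply Subtype.ext
      apply Finset.eq_of_subset_of_card_le
      · intro i hi
        have : i ∈ Set.range (S.1.orderEmbOfFin S.2) := by
          rw [Finset.range_orderEmbOfFin]; exact hi
        obtain ⟨k, rfl⟩ := this
        exact hcon k
      · rw [S.2, S₀.2]
    obtain ⟨k, hk⟩ := hex
    rw [SetLike.mem_coe, compound_apply]
    apply det_mem_of_row_mem J _ k
    intro j
    rw [Matrix.submatrix_apply]
    apply Ideal.subset_span
    refine ⟨_, _, ?_, ?_, rfl⟩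
    · by_contra hlt
      push Not at hlt
      exact hk ((hS₀ _).mpr hlt)
    · exact (hS₀ _).mp (hpmem j)
  · rw [Ideal.span_le]
    rintro x ⟨i, j', hi, hj', rfl⟩
    set J' := Ideal.span {x | ∃ S, S ≠ S₀ ∧ x = compound e a S S₀} with hJ'
    obtain ⟨j, rfl⟩ := hprange j' ((hS₀ j').mpr hj')
    have hiS : i ∉ S₀.1 := fun hmem => absurd ((hS₀ i).mp hmem) (by omega)
    -- the first `e` columns
    set M : Matrix (Fin n) (Fin e) R := a.submatrix id p with hM
    set X : R := compound e a S₀ S₀ with hX
    -- Cauchy–Binet modulo `J'`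
    have hCB : ∀ L : Matrix (Fin e) (Fin n) R,
        (L * M).det - (L.submatrix id p).det * X ∈ J' := by
      intro L
      rw [Groth.Agent.Lib.Helper91.cauchy_binet e n L M,
        ← Finset.add_sum_erase Finset.univ _ (Finset.mem_univ S₀)]
      have h0 : (L.submatrix id (S₀.1.orderEmbOfFin S₀.2)).det *
          (M.submatrix (S₀.1.orderEmbOfFin S₀.2) id).det = (L.submatrix id p).det * X := rfl
      rw [h0, add_sub_cancel_left]
      apply Ideal.sum_mem
      intro S hS
      apply Ideal.mul_mem_left
      apply Ideal.subset_span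
      exact ⟨S, (Finset.mem_erase.mp hS).1, rfl⟩
    -- `X` is a unit modulo `J'`
    have hunit : ∃ y : R, 1 - y * X ∈ J' := by
      have h1 := hCB (a'.submatrix p id)
      have e1 : a'.submatrix p id * M = 1 := by
        have : a'.submatrix p id * M = (a' * a).submatrix p p := by
          ext k l
          simp [Matrix.mul_apply, M]
        rw [this, h, Matrix.submatrix_one _ p.injective]
      rw [e1, Matrix.det_one] at h1
      exact ⟨_, h1⟩
    obtain ⟨y, hy⟩ := hunit
    -- replacing a row by the row `i`
    set B : Matrix (Fin e) (Fin e) R := a.submatrix p p with hB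
    set w : Fin e → R := fun l => a i (p l) with hw
    have hrow : ∀ m : Fin e, (B.updateRow m w).det ∈ J' := by
      intro m
      set p' : Fin e → Fin n := Function.update (p : Fin e → Fin n) m i with hp'
      have h2 := hCB ((1 : Matrix (Fin n) (Fin n) R).submatrix p' id)
      have e2 : (1 : Matrix (Fin n) (Fin n) R).submatrix p' id * M = B.updateRow m w := by
        ext k l
        rw [Matrix.mul_apply]
        simp only [Matrix.submatrix_apply, id_eq, Matrix.one_apply, M]
        rw [Finset.sum_eq_single (p' k)]
        · rw [if_pos rfl, one_mul, Matrix.updateRow_apply]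
          by_cases hkm : k = m
          · subst hkm
            rw [if_pos rfl, hp', Function.update_self]
          · rw [if_neg hkm, hp', Function.update_of_ne hkm]
            rfl
        · intro b _ hb
          rw [if_neg (Ne.symm hb), zero_mul]
        · intro hb
          exact absurd (Finset.mem_univ _) hb
      have e3 : (((1 : Matrix (Fin n) (Fin n) R).submatrix p' id).submatrix id p).det = 0 := by
        apply Matrix.det_eq_zero_of_row_eq_zero m
        intro l
        simp only [Matrix.submatrix_apply, id_eq, Matrix.one_apply]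
        rw [hp', Function.update_self, if_neg]
        intro hil
        exact hiS (hil ▸ hpmem l)
      rw [e2, e3, zero_mul, sub_zero] at h2
      exact h2
    -- Cramer
    have hcr := Matrix.mulVec_cramer (Matrix.transpose B) w
    have hXw : X * a i (p j) ∈ J' := by
      have h3 := congrFun hcr j
      rw [Matrix.det_transpose] at h3
      have h4 : (B.det • w) j = X * a i (p j) := rfl
      rw [← h4, ← h3, Matrix.mulVec, dotProduct]
      apply Ideal.sum_mem
      intro m _
      apply Ideal.mul_mem_left
      rw [Matrix.cramer_transpose_apply]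
      exact hrow m
    have : a i (p j) = (1 - y * X) * a i (p j) + y * (X * a i (p j)) := by ring
    rw [SetLike.mem_coe, this]
    exact add_mem (Ideal.mul_mem_right _ _ hy) (Ideal.mul_mem_left _ _ hXw)

end Groth.Agent.Lib.Helper41.ChevDVR6
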