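import Mathlib.RingTheory.Valuation.ValuationSubring
import Mathlib.RingTheory.Valuation.LocalSubring

/-!
# Composite valuation subrings

Given a valuation subring `V₁` of a field `K` and a valuation subring `W` of the residue field of
`V₁`, the preimage of `W` in `V₁` is a valuation subring of `K` (the composite valuation).
-/

set_option autoImplicit false

namespace Groth.Agent.Lib.Helper41.CompVal

open IsLocalRing

variable {K : Type*} [Field K] (V₁ : ValuationSubring K) (W : ValuationSubring (ResidueField V₁))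

theorem inv_mem_of_residue_ne_zero {x : K} (hx : x ∈ V₁) (hne : residue V₁ ⟨x, hx⟩ ≠ 0) :
    ∃ h : x⁻¹ ∈ V₁, residue V₁ ⟨x⁻¹, h⟩ = (residue V₁ ⟨x, hx⟩)⁻¹ := by
  have hu : IsUnit (⟨x, hx⟩ : V₁) := by
    by_contra hnu
    exact hne ((residue_eq_zero_iff _).mpr hnu)
  have hv : V₁.valuation x = 1 := (V₁.valuation_eq_one_iff ⟨x, hx⟩).mp hu
  have hx0 : x ≠ 0 := by
    rintro rfl
    rw [map_zero] at hv
    exact zero_ne_one hv
  have hinv : x⁻¹ ∈ V₁ := by
    rw [← V₁.valuation_le_one_iff, map_inv₀, hv, inv_one]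
  refine ⟨hinv, eq_inv_of_mul_eq_one_left ?_⟩
  rw [← map_mul]
  have : (⟨x⁻¹, hinv⟩ : V₁) * ⟨x, hx⟩ = 1 := Subtype.ext (inv_mul_cancel₀ hx0)
  rw [this, map_one]

private theorem aux (x : K) (hx : x ∈ V₁) :
    (∃ h : x ∈ V₁, residue V₁ ⟨x, h⟩ ∈ W) ∨ (∃ h : x⁻¹ ∈ V₁, residue V₁ ⟨x⁻¹, h⟩ ∈ W) := by
  by_cases hr : residue V₁ ⟨x, hx⟩ ∈ W
  · exact Or.inl ⟨hx, hr⟩
  · right
    have hinv : (residue V₁ ⟨x, hx⟩)⁻¹ ∈ W := (W.mem_or_inv_mem _).resolve_left hr
    have hne : residue V₁ ⟨x, hx⟩ ≠ 0 := fun h0 => hr (h0 ▸ W.zero_mem)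
    obtain ⟨h, h3⟩ := inv_mem_of_residue_ne_zero V₁ hx hne
    exact ⟨h, h3 ▸ hinv⟩

/-- The composite of a valuation subring `V₁` of `K` with a valuation subring `W` of its residue
field. -/
def comp : ValuationSubring K where
  toSubring := (W.toSubring.comap (residue V₁)).map V₁.subtype
  mem_or_inv_mem' := by
    intro x
    have key : ∀ y : K, (∃ h : y ∈ V₁, residue V₁ ⟨y, h⟩ ∈ W) →
        y ∈ ((W.toSubring.comap (residue V₁)).map V₁.subtype).carrier := by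
      rintro y ⟨h, hr⟩
      exact ⟨⟨y, h⟩, hr, rfl⟩
    rcases V₁.mem_or_inv_mem x with hx | hx
    · rcases aux V₁ W x hx with h | h
      · exact Or.inl (key _ h)
      · exact Or.inr (key _ h)
    · rcases aux V₁ W x⁻¹ hx with h | h
      · exact Or.inr (key _ h)
      · rw [inv_inv] at h
        exact Or.inl (key _ h)

theorem mem_comp_iff {x : K} :
    x ∈ comp V₁ W ↔ ∃ h : x ∈ V₁, residue V₁ ⟨x, h⟩ ∈ W := by
  constructor
  · rintro ⟨v, hv, rfl⟩
    exact ⟨v.2, hv⟩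
  · rintro ⟨h, hr⟩
    exact ⟨⟨x, h⟩, hr, rfl⟩

theorem comp_le : comp V₁ W ≤ V₁ := fun _ hx => ((mem_comp_iff V₁ W).mp hx).1

theorem valuation_residue_lt_one {x : K} (hx : (comp V₁ W).valuation x < 1) (h : x ∈ V₁) :
    W.valuation (residue V₁ ⟨x, h⟩) < 1 := by
  by_contra hge
  rw [not_lt] at hge
  have hxc : x ∈ comp V₁ W := ((comp V₁ W).valuation_le_one_iff x).mp hx.le
  obtain ⟨_, hr⟩ := (mem_comp_iff V₁ W).mp hxc
  have hle : W.valuation (residue V₁ ⟨x, h⟩) ≤ 1 := (W.valuation_le_one_iff _).mpr hr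
  have heq : W.valuation (residue V₁ ⟨x, h⟩) = 1 := le_antisymm hle hge
  have hne : residue V₁ ⟨x, h⟩ ≠ 0 := by
    intro h0
    rw [h0, map_zero] at heq
    exact zero_ne_one heq
  have hinvW : (residue V₁ ⟨x, h⟩)⁻¹ ∈ W := by
    rw [← W.valuation_le_one_iff, map_inv₀, heq, inv_one]
  obtain ⟨h1, h2⟩ := inv_mem_of_residue_ne_zero V₁ h hne
  have hx0 : x ≠ 0 := by
    rintro rfl
    exact hne (by
      have : (⟨0, h⟩ : V₁) = 0 := rfl
      rw [this, map_zero])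
  have hmem : x⁻¹ ∈ comp V₁ W := (mem_comp_iff V₁ W).mpr ⟨h1, h2 ▸ hinvW⟩
  have h6 : (comp V₁ W).valuation x⁻¹ ≤ 1 := ((comp V₁ W).valuation_le_one_iff _).mpr hmem
  rw [map_inv₀] at h6
  have h7 : (comp V₁ W).valuation x ≠ 0 := by
    rw [ne_eq, map_eq_zero]; exact hx0
  have h8 : 1 ≤ (comp V₁ W).valuation x := by
    rwa [inv_le_one₀ (zero_lt_iff.mpr h7)] at h6
  exact absurd hx (not_lt.mpr h8)

end Groth.Agent.Lib.Helper41.CompVal
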