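import Mathlib
import Groth.Agent.Lib.Helper41.BlowUpAdm

/-!
# Descending ideals supported in the closed fibre from the completion of a DVR
-/

set_option autoImplicit false
universe u
open CategoryTheory CategoryTheory.Limits AlgebraicGeometry

namespace Groth.Agent.Lib.Helper41.ComplDescend

/-- `R̂ = R + ϖⁿ R̂` for the adic completion of a ring along a principal ideal. -/
theorem adic_decomp {R : Type u} [CommRing R] (ϖ : R) (m : Ideal R) (hm : m = Ideal.span {ϖ})
    (n : ℕ) (x : AdicCompletion m R) :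
    ∃ (r : R) (y : AdicCompletion m R),
      x = algebraMap R _ r + algebraMap R _ (ϖ ^ n) * y := by
  subst hm
  obtain ⟨r, hr⟩ := Submodule.Quotient.mk_surjective _
    (AdicCompletion.eval (Ideal.span {ϖ}) R n x)
  have hfg : (Ideal.span {ϖ} : Ideal R).FG := ⟨{ϖ}, by simp⟩
  have hk : x - AdicCompletion.of (Ideal.span {ϖ}) R r ∈
      ((Ideal.span {ϖ} : Ideal R) ^ n • ⊤ : Submodule R (AdicCompletion (Ideal.span {ϖ}) R)) := by
    rw [AdicCompletion.pow_smul_top_eq_ker_eval hfg, LinearMap.mem_ker, map_sub,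
      AdicCompletion.eval_of, Submodule.mkQ_apply, hr, sub_self]
  rw [Ideal.span_singleton_pow, Submodule.ideal_span_singleton_smul,
    Submodule.mem_smul_pointwise_iff_exists] at hk
  obtain ⟨y, -, hy⟩ := hk
  refine ⟨r, y, ?_⟩
  rw [AdicCompletion.algebraMap_apply, ← Algebra.smul_def, hy]
  simp

/-- In a pushout square of commutative rings `C = B ⊗_{R₀} Rh`, a decomposition
`Rh = g(R₀) + g(w) Rh` propagates to `C = inl(B) + inl(f w) C`. -/
theorem pushout_decomp {R₀ B Rh C : CommRingCat.{u}} {f : R₀ ⟶ B} {g : R₀ ⟶ Rh}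
    {inl : B ⟶ C} {inr : Rh ⟶ C} (h : IsPushout f g inl inr) (w : R₀)
    (hA : ∀ x : Rh, ∃ r y, x = g.hom r + g.hom w * y) (c : C) :
    ∃ b c', c = inl.hom b + inl.hom (f.hom w) * c' := by
  have hw : ∀ r : R₀, inl.hom (f.hom r) = inr.hom (g.hom r) := fun r => by
    have := h.w
    exact congr($(this).hom r)
  let T : Subring C :=
    { carrier := {c | ∃ b c', c = inl.hom b + inl.hom (f.hom w) * c'}
      mul_mem' := by
        rintro _ _ ⟨b₁, c₁, rfl⟩ ⟨b₂, c₂, rfl⟩
        exact ⟨b₁ * b₂, inl.hom b₁ * c₂ + c₁ * inl.hom b₂ + inl.hom (f.hom w) * c₁ * c₂, by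
          rw [map_mul]; ring⟩
      one_mem' := ⟨1, 0, by simp⟩
      add_mem' := by
        rintro _ _ ⟨b₁, c₁, rfl⟩ ⟨b₂, c₂, rfl⟩
        exact ⟨b₁ + b₂, c₁ + c₂, by rw [map_add]; ring⟩
      zero_mem' := ⟨0, 0, by simp⟩
      neg_mem' := by
        rintro _ ⟨b₁, c₁, rfl⟩
        exact ⟨-b₁, -c₁, by rw [map_neg]; ring⟩ }
  let incl : CommRingCat.of T ⟶ C := CommRingCat.ofHom T.subtype
  let inl' : B ⟶ CommRingCat.of T :=
    CommRingCat.ofHom (inl.hom.codRestrict T (fun b => ⟨b, 0, by simp⟩))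
  let inr' : Rh ⟶ CommRingCat.of T :=
    CommRingCat.ofHom (inr.hom.codRestrict T (fun x => by
      obtain ⟨r, y, rfl⟩ := hA x
      exact ⟨f.hom r, inr.hom y, by rw [map_add, map_mul, hw, hw]⟩))
  have w' : f ≫ inl' = g ≫ inr' := by
    ext r
    exact hw r
  have h1 : inl ≫ (h.desc inl' inr' w' ≫ incl) = inl := by
    rw [← Category.assoc, h.inl_desc]; rfl
  have h2 : inr ≫ (h.desc inl' inr' w' ≫ incl) = inr := by
    rw [← Category.assoc, h.inr_desc]; rfl
  have h3 : h.desc inl' inr' w' ≫ incl = 𝟙 C :=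
    h.hom_ext (by rw [h1, Category.comp_id]) (by rw [h2, Category.comp_id])
  have h4 : c = incl.hom ((h.desc inl' inr' w').hom c) := congr($(h3.symm).hom c)
  rw [h4]
  exact ((h.desc inl' inr' w').hom c).2

/-- If `C = β(B) + β(τ)ⁿ C` for all `n` and `β τ ∈ √J`, then `J` is extended from its contraction. -/
theorem map_comap_eq {B C : Type*} [CommRing B] [CommRing C] (β : B →+* C) (τ : B) (J : Ideal C)
    (hrad : β τ ∈ J.radical) (hdec : ∀ n : ℕ, ∀ c : C, ∃ b c', c = β b + β τ ^ n * c') :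
    (J.comap β).map β = J := by
  refine le_antisymm Ideal.map_comap_le fun x hx => ?_
  obtain ⟨n, hn⟩ := hrad
  obtain ⟨b, c', hc⟩ := hdec n x
  have hb : b ∈ J.comap β := by
    rw [Ideal.mem_comap]
    have : β b = x - β τ ^ n * c' := by rw [hc]; ring
    rw [this]
    exact J.sub_mem hx (J.mul_mem_right _ hn)
  have hτ : τ ^ n ∈ J.comap β := by
    rw [Ideal.mem_comap, map_pow]; exact hn
  rw [hc, ← map_pow]
  exact Ideal.add_mem _ (Ideal.mem_map_of_mem _ hb) (Ideal.mul_mem_right _ _ (Ideal.mem_map_of_mem _ hτ))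


/-- A section not vanishing nowhere on the support lies in the radical. -/
theorem mem_radical_of_support {X : Scheme.{u}} (I : X.IdealSheafData) (V : X.affineOpens)
    (s : Γ(X, V.1)) (h : ∀ x ∈ (I.support : Set X), x ∉ X.basicOpen s) :
    s ∈ (I.ideal V).radical := by
  rw [← PrimeSpectrum.vanishingIdeal_zeroLocus_eq_radical, PrimeSpectrum.mem_vanishingIdeal]
  intro p hp
  have h1 : V.2.fromSpec p ∈ X.zeroLocus (U := V.1) (I.ideal V) ∩ V.1 := by
    rw [← V.2.fromSpec_image_zeroLocus]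
    exact ⟨p, hp, rfl⟩
  have h2 : V.2.fromSpec p ∈ (I.support : Set X) :=
    (Scheme.IdealSheafData.mem_support_iff_of_mem (U := V) h1.2).mpr h1.1
  have h3 := h _ h2
  by_contra hcon
  apply h3
  have : p ∈ V.2.fromSpec ⁻¹ᵁ X.basicOpen s := by
    rw [V.2.fromSpec_preimage_basicOpen]
    exact hcon
  exact this

section Main

variable (R : Type u) [CommRing R] [IsDomain R] [IsDiscreteValuationRing R]

/-- The completion morphism `Spec R̂ ⟶ Spec R`. -/
noncomputable abbrev cmap :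
    Spec (CommRingCat.of (AdicCompletion (IsLocalRing.maximalIdeal R) R)) ⟶
      Spec (CommRingCat.of R) :=
  Spec.map (CommRingCat.ofHom (algebraMap R (AdicCompletion (IsLocalRing.maximalIdeal R) R)))

instance : Flat (cmap R) := by
  rw [HasRingHomProperty.Spec_iff (P := @Flat)]
  rw [CommRingCat.hom_ofHom, RingHom.flat_algebraMap_iff]
  infer_instance

theorem Γ_decomp (ϖ : R) (hϖ : IsLocalRing.maximalIdeal R = Ideal.span {ϖ}) (n : ℕ)
    (x : Γ(Spec (CommRingCat.of (AdicCompletion (IsLocalRing.maximalIdeal R) R)), ⊤)) :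
    ∃ r y, x = (cmap R).appTop.hom r +
      (cmap R).appTop.hom (((Scheme.ΓSpecIso (CommRingCat.of R)).inv.hom ϖ) ^ n) * y := by
  obtain ⟨r, y, hy⟩ := adic_decomp ϖ _ hϖ n ((Scheme.ΓSpecIso _).hom.hom x)
  have hnat : ∀ r : R, (cmap R).appTop.hom ((Scheme.ΓSpecIso (CommRingCat.of R)).inv.hom r) =
      (Scheme.ΓSpecIso _).inv.hom (algebraMap R (AdicCompletion (IsLocalRing.maximalIdeal R) R) r) := by
    intro r
    have := Scheme.ΓSpecIso_inv_naturality
      (CommRingCat.ofHom (algebraMap R (AdicCompletion (IsLocalRing.maximalIdeal R) R)))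
    exact congr($(this.symm).hom r)
  refine ⟨(Scheme.ΓSpecIso (CommRingCat.of R)).inv.hom r, (Scheme.ΓSpecIso _).inv.hom y, ?_⟩
  rw [← map_pow, hnat, hnat, ← map_mul, ← map_add, ← hy]
  exact (congr($((Scheme.ΓSpecIso _).hom_inv_id).hom x)).symm

variable {R}
variable {Y : Scheme.{u}} (q : Y ⟶ Spec (CommRingCat.of R))

/-- the section of `Y` over `U` given by the uniformizer -/
noncomputable def tau (ϖ : R) (U : Y.Opens) : Γ(Y, U) :=
  (q.appLE ⊤ U le_top).hom ((Scheme.ΓSpecIso (CommRingCat.of R)).inv.hom ϖ)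

theorem isPullback_restrict (U : Y.Opens) :
    IsPullback (pullback.fst q (cmap R) ∣_ U)
      ((pullback.fst q (cmap R) ⁻¹ᵁ U).ι ≫ pullback.snd q (cmap R)) (U.ι ≫ q) (cmap R) :=
  (isPullback_morphismRestrict (pullback.fst q (cmap R)) U).paste_vert
    (IsPullback.of_hasPullback q (cmap R))

theorem sq_topIso (U : Y.Opens) :
    (pullback.fst q (cmap R) ∣_ U).appTop ≫ (pullback.fst q (cmap R) ⁻¹ᵁ U).topIso.hom =
      U.topIso.hom ≫ (pullback.fst q (cmap R)).app U := by
  rw [Scheme.Hom.appTop, morphismRestrict_app']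
  simp only [Scheme.Opens.topIso_hom, Scheme.Hom.app_eq_appLE]
  exact (Scheme.Hom.appLE_map _ _ _).trans (Scheme.Hom.map_appLE _ _ _).symm

theorem sq_tau (U : Y.Opens) :
    (U.ι ≫ q).appTop ≫ U.topIso.hom = q.appLE ⊤ U le_top := by
  rw [Scheme.Hom.comp_appTop, Category.assoc]
  change q.appTop ≫ Y.presheaf.map (homOfLE (x := U.ι ''ᵁ ⊤) le_top).op ≫
    Y.presheaf.map (eqToHom U.ι_image_top.symm).op = _
  rw [← Functor.map_comp]
  rfl

theorem decomp_app (ϖ : R) (hϖ : IsLocalRing.maximalIdeal R = Ideal.span {ϖ})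
    (U : Y.Opens) (hU : IsAffineOpen U) (n : ℕ)
    (c : Γ(pullback q (cmap R), pullback.fst q (cmap R) ⁻¹ᵁ U)) :
    ∃ (b : Γ(Y, U)) (c' : Γ(pullback q (cmap R), pullback.fst q (cmap R) ⁻¹ᵁ U)),
      c = ((pullback.fst q (cmap R)).app U).hom b +
        ((pullback.fst q (cmap R)).app U).hom (tau q ϖ U) ^ n * c' := by
  have : IsAffine U := hU
  have hpo := isPushout_appTop_of_isPullback (isPullback_restrict q U)
  obtain ⟨b, c', hc⟩ := pushout_decomp hpo
    (((Scheme.ΓSpecIso (CommRingCat.of R)).inv.hom ϖ) ^ n) (Γ_decomp R ϖ hϖ n)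
    ((pullback.fst q (cmap R) ⁻¹ᵁ U).topIso.inv.hom c)
  refine ⟨U.topIso.hom.hom b, (pullback.fst q (cmap R) ⁻¹ᵁ U).topIso.hom.hom c', ?_⟩
  have e1 : ∀ b', ((pullback.fst q (cmap R)).app U).hom (U.topIso.hom.hom b') =
      (pullback.fst q (cmap R) ⁻¹ᵁ U).topIso.hom.hom
        ((pullback.fst q (cmap R) ∣_ U).appTop.hom b') := fun b' =>
    (congr($(sq_topIso q U).hom b')).symm
  have e2 : tau q ϖ U ^ n = U.topIso.hom.hom ((U.ι ≫ q).appTop.hom
      (((Scheme.ΓSpecIso (CommRingCat.of R)).inv.hom ϖ) ^ n)) := by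
    rw [map_pow, map_pow]
    congr 1
    exact (congr($(sq_tau q U).hom _)).symm
  rw [← map_pow, e2, e1, e1, ← map_mul, ← map_add, ← hc]
  exact (congr($((pullback.fst q (cmap R) ⁻¹ᵁ U).topIso.inv_hom_id).hom c)).symm

instance : IsAffineHom (cmap R) := by
  unfold cmap; infer_instance

instance : IsAffineHom (pullback.fst q (cmap R)) :=
  MorphismProperty.pullback_fst _ _ inferInstance

theorem closedPoint_not_mem_basicOpen (ϖ : R) (hϖ : IsLocalRing.maximalIdeal R = Ideal.span {ϖ}) :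
    IsLocalRing.closedPoint R ∉
      (Spec (CommRingCat.of R)).basicOpen ((Scheme.ΓSpecIso (CommRingCat.of R)).inv.hom ϖ) := by
  rw [basicOpen_eq_of_affine]
  intro h
  apply h
  change ϖ ∈ IsLocalRing.maximalIdeal R
  rw [hϖ]
  exact Ideal.mem_span_singleton_self ϖ

theorem comap_map_eq (ϖ : R) (hϖ : IsLocalRing.maximalIdeal R = Ideal.span {ϖ})
    (I : (pullback q (cmap R)).IdealSheafData)
    (hI : (I.support : Set ↥(pullback q (cmap R))) ⊆
      (pullback.fst q (cmap R) ≫ q).base ⁻¹' {IsLocalRing.closedPoint R}) :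
    (I.map (pullback.fst q (cmap R))).comap (pullback.fst q (cmap R)) = I := by
  refine le_antisymm (Scheme.IdealSheafData.comap_map_le _ _) ?_
  refine Scheme.IdealSheafData.le_of_iSup_eq_top
    (fun U : Y.affineOpens => (⟨pullback.fst q (cmap R) ⁻¹ᵁ U.1, U.2.preimage _⟩ :
      (pullback q (cmap R)).affineOpens)) ?_ ?_
  · have h1 : ⨆ U : Y.affineOpens, (U.1 : Y.Opens) = ⊤ := iSup_affineOpens_eq_top Y
    have h2 := congrArg (fun W => pullback.fst q (cmap R) ⁻¹ᵁ W) h1
    simp only [Scheme.Hom.preimage_iSup, Scheme.Hom.preimage_top] at h2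
    exact h2
  · intro U
    rw [Groth.Agent.Lib.Helper82.ideal_comap_of_le (pullback.fst q (cmap R))
      (I.map (pullback.fst q (cmap R))) _ (U.2.preimage _) U.1 U.2 le_rfl,
      Scheme.IdealSheafData.ideal_map_of_isAffineHom, ← Scheme.Hom.app_eq_appLE]
    refine (map_comap_eq _ (tau q ϖ U.1) _ ?_ (decomp_app q ϖ hϖ U.1 U.2)).ge
    apply mem_radical_of_support I ⟨pullback.fst q (cmap R) ⁻¹ᵁ U.1, U.2.preimage _⟩
    intro x hx hx'
    have h3 := hI hx
    rw [← Scheme.preimage_basicOpen, tau, Scheme.basicOpen_appLE] at hx'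
    have h4 : q (pullback.fst q (cmap R) x) ∈ (Spec (CommRingCat.of R)).basicOpen
        ((Scheme.ΓSpecIso (CommRingCat.of R)).inv.hom ϖ) := hx'.2
    have h5 : q (pullback.fst q (cmap R) x) = IsLocalRing.closedPoint R := h3
    rw [h5] at h4
    exact closedPoint_not_mem_basicOpen ϖ hϖ h4

theorem main (I : (pullback q (cmap R)).IdealSheafData)
    (hI : (I.support : Set ↥(pullback q (cmap R))) ⊆
      (pullback.fst q (cmap R) ≫ q).base ⁻¹' {IsLocalRing.closedPoint R}) :
    ∃ I₀ : Y.IdealSheafData, (I₀.support : Set Y) ⊆ q.base ⁻¹' {IsLocalRing.closedPoint R} ∧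
      I₀.comap (pullback.fst q (cmap R)) = I ∧
      ∀ (X : Scheme.{u}) (g : X ⟶ Y), BlowUp.IsBlowUp g I₀ →
        BlowUp.IsBlowUp (pullback.snd g (pullback.fst q (cmap R))) I := by
  obtain ⟨ϖ, hϖirr⟩ := IsDiscreteValuationRing.exists_irreducible R
  have hϖ : IsLocalRing.maximalIdeal R = Ideal.span {ϖ} := hϖirr.maximalIdeal_eq
  have hc := comap_map_eq q ϖ hϖ I hI
  refine ⟨I.map (pullback.fst q (cmap R)), ?_, hc, ?_⟩
  · rw [Scheme.IdealSheafData.support_map, TopologicalSpace.Closeds.coe_closure]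
    refine closure_minimal ?_ ((IsLocalRing.isClosed_singleton_closedPoint R).preimage
      q.continuous)
    rintro _ ⟨x, hx, rfl⟩
    exact hI hx
  · intro X g hg
    have h1 := Groth.Agent.Lib.Helper82.isBlowUp_fst_of_flat (pullback.fst q (cmap R))
      (I.map (pullback.fst q (cmap R))) g hg
    rw [hc] at h1
    have h2 := BlowUpAdm.isBlowUp_iso_comp I _ h1
      (pullbackSymmetry g (pullback.fst q (cmap R))).hom
    rwa [pullbackSymmetry_hom_comp_fst] at h2

end Main

end Groth.Agent.Lib.Helper41.ComplDescend
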