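import Groth.Agent.Lib.Helper41.FlatDvr
import Groth.Agent.Lib.Helper67.FiberStalk
import Mathlib.AlgebraicGeometry.Stalk
import Mathlib.AlgebraicGeometry.Noetherian
import Mathlib.RingTheory.Ideal.Quotient.Nilpotent
import Mathlib.AlgebraicGeometry.FunctionField

/-!
# Flatness of a stalk map over a DVR (scheme-level translation of `FlatDvr`)
-/

set_option autoImplicit false
universe u
open CategoryTheory CategoryTheory.Limits AlgebraicGeometry IsLocalRing

namespace Groth.Agent.Lib.Helper41.FlatDvrSch

open Groth.Agent.Lib.Helper67.FiberStalk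

/-- In a DVR, a prime different from the maximal ideal is zero. -/
theorem eq_bot_of_ne_maximalIdeal {O : Type*} [CommRing O] [IsDomain O]
    [IsDiscreteValuationRing O] (p : Ideal O) [p.IsPrime] (hp : p ≠ maximalIdeal O) : p = ⊥ := by
  by_contra hnb
  exact hp (IsLocalRing.eq_maximalIdeal (Ring.DimensionLEOne.maximalOfPrime hnb inferInstance))

/-- Points of `Spec O_{X,x}` and the morphism `f`. -/
theorem map_fromSpecStalk {X Y : Scheme.{u}} (f : X ⟶ Y) (x : X)
    (p : ↥(Spec (X.presheaf.stalk x))) :
    f.base ((X.fromSpecStalk x).base p) =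
      (Y.fromSpecStalk (f.base x)).base ((Spec.map (f.stalkMap x)).base p) := by
  rw [← Scheme.Hom.comp_apply, ← Scheme.Hom.comp_apply, Scheme.SpecMap_stalkMap_fromSpecStalk]

theorem flat_stalkMap_of_dvr {X Y : Scheme.{u}} [IsLocallyNoetherian X] (f : X ⟶ Y) (x : X)
    [IsDomain (Y.presheaf.stalk (f.base x))]
    [IsDiscreteValuationRing (Y.presheaf.stalk (f.base x))]
    (hred : _root_.IsReduced ((f.fiber (f.base x)).presheaf.stalk (f.asFiber x)))
    (hgen : ∀ z : X, z ⤳ x → f.base z = f.base x →
      (∀ t : X, t ⤳ z → f.base t = f.base x → t = z) →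
      ∃ w : X, w ⤳ z ∧ f.base w ≠ f.base x) :
    (f.stalkMap x).hom.Flat := by
  have hinjY : Function.Injective (Y.fromSpecStalk (f.base x)).base :=
    (Y.fromSpecStalk (f.base x)).isEmbedding.injective
  have hindX : Topology.IsInducing (X.fromSpecStalk x).base :=
    (X.fromSpecStalk x).isEmbedding.isInducing
  -- a prime of `O_{X,x}` lies over the closed point iff its image in `X` lies over `f x`
  have hover : ∀ p : PrimeSpectrum (X.presheaf.stalk x),
      f.base ((X.fromSpecStalk x).base p) = f.base x ↔
        Ideal.map (f.stalkMap x).hom (maximalIdeal (Y.presheaf.stalk (f.base x))) ≤ p.asIdeal := by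
    intro p
    rw [map_fromSpecStalk, Ideal.map_le_iff_le_comap]
    constructor
    · intro h
      have h1 : (Spec.map (f.stalkMap x)).base p = closedPoint (Y.presheaf.stalk (f.base x)) :=
        hinjY (h.trans Scheme.fromSpecStalk_closedPoint.symm)
      have h2 := congrArg PrimeSpectrum.asIdeal h1
      exact h2.symm.le
    · intro h
      have h1 : (Spec.map (f.stalkMap x)).base p = closedPoint (Y.presheaf.stalk (f.base x)) := by
        apply PrimeSpectrum.ext
        exact ((IsLocalRing.maximalIdeal.isMaximal _).eq_of_le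
          ((Spec.map (f.stalkMap x)).base p).isPrime.ne_top h).symm
      rw [h1]
      exact Scheme.fromSpecStalk_closedPoint
  apply FlatDvr.flat_of_isRadical
  · rw [Ideal.isRadical_iff_quotient_reduced]
    exact isReduced_of_injective (fiberStalkEquiv f x).symm.toRingHom
      (fiberStalkEquiv f x).symm.injective
  · intro 𝔭 h𝔭
    haveI : 𝔭.IsPrime := h𝔭.1.1
    let P : PrimeSpectrum (X.presheaf.stalk x) := ⟨𝔭, inferInstance⟩
    let z : X := (X.fromSpecStalk x).base P
    have hzx : z ⤳ x := by
      have : z ∈ Set.range (X.fromSpecStalk x).base := ⟨P, rfl⟩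
      rwa [Scheme.range_fromSpecStalk] at this
    have hfz : f.base z = f.base x := (hover P).2 h𝔭.1.2
    have hmax : ∀ t : X, t ⤳ z → f.base t = f.base x → t = z := by
      intro t htz hft
      have htx : t ∈ Set.range (X.fromSpecStalk x).base := by
        rw [Scheme.range_fromSpecStalk]; exact htz.trans hzx
      obtain ⟨Q', rfl⟩ := htx
      let Q : PrimeSpectrum (X.presheaf.stalk x) := Q'
      have hQP : Q.asIdeal ≤ 𝔭 :=
        (PrimeSpectrum.le_iff_specializes Q P).2 (hindX.specializes_iff.1 htz)
      have hIQ := (hover Q).1 hft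
      have : Q = P := PrimeSpectrum.ext
        (le_antisymm hQP (h𝔭.2 ⟨Q.isPrime, hIQ⟩ hQP))
      change (X.fromSpecStalk x).base Q = (X.fromSpecStalk x).base P
      rw [this]
    obtain ⟨w, hwz, hfw⟩ := hgen z hzx hfz hmax
    have hwx : w ∈ Set.range (X.fromSpecStalk x).base := by
      rw [Scheme.range_fromSpecStalk]; exact hwz.trans hzx
    obtain ⟨Q', rfl⟩ := hwx
    let Q : PrimeSpectrum (X.presheaf.stalk x) := Q'
    have hQP : Q.asIdeal ≤ 𝔭 :=
      (PrimeSpectrum.le_iff_specializes Q P).2 (hindX.specializes_iff.1 hwz)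
    refine ⟨Q.asIdeal, Q.isPrime, hQP, ?_⟩
    haveI : (Q.asIdeal.comap (f.stalkMap x).hom).IsPrime := Ideal.comap_isPrime _ _
    apply eq_bot_of_ne_maximalIdeal
    intro hcl
    apply hfw
    rw [hover Q, Ideal.map_le_iff_le_comap, hcl]

/-- The local ring of `Spec A` at the closed point, for a DVR `A`, is a DVR. -/
theorem isDiscreteValuationRing_stalk (A : Type u) [CommRing A] [IsDomain A]
    [IsDiscreteValuationRing A] (y : ↥(Spec (CommRingCat.of A))) (hy : y = closedPoint A) :
    ∃ _ : IsDomain ((Spec (CommRingCat.of A)).presheaf.stalk y),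
      IsDiscreteValuationRing ((Spec (CommRingCat.of A)).presheaf.stalk y) := by
  have hdom : IsDomain ((Spec (CommRingCat.of A)).presheaf.stalk y) := inferInstance
  refine ⟨hdom, ?_⟩
  letI k : Algebra A ((Spec (CommRingCat.of A)).presheaf.stalk y) :=
    StructureSheaf.stalkAlgebra A y
  haveI : IsLocalization.AtPrime ((Spec (CommRingCat.of A)).presheaf.stalk y)
      (show PrimeSpectrum A from y).asIdeal :=
    StructureSheaf.IsLocalization.to_stalk (CommRingCat.of A) y
  have hne : (show PrimeSpectrum A from y).asIdeal ≠ ⊥ := by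
    rw [hy]
    exact IsDiscreteValuationRing.not_a_field A
  exact IsLocalization.AtPrime.isDiscreteValuationRing_of_dedekind_domain A hne _

end Groth.Agent.Lib.Helper41.FlatDvrSch
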