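import Groth.Agent.Lib.Helper41.UnivOpenDvr
import Groth.Agent.Lib.Helper80.UnivOpenAt
import Mathlib.AlgebraicGeometry.Morphisms.UniversallyOpen

/-!
# Universal openness: global form and the "components dominate" form of the DVR criterion
-/

set_option autoImplicit false
universe u
open CategoryTheory CategoryTheory.Limits AlgebraicGeometry IsLocalRing

namespace Groth.Agent.Lib.Helper41.UnivOpenComp

open Groth.Agent.Lib.Helper41.UnivOpenDvr

/-- A map is open iff it is open at every point. -/
theorem isOpenMap_iff_forall_isOpenAt {α β : Type*} [TopologicalSpace α] [TopologicalSpace β]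
    (f : α → β) : IsOpenMap f ↔ ∀ x, EGA43.IsOpenAt f x := by
  constructor
  · intro hf x U hU
    exact hf.image_mem_nhds hU
  · intro h
    rw [isOpenMap_iff_nhds_le]
    intro x S hS
    exact Filter.mem_of_superset (h x _ hS) (Set.image_preimage_subset f S)

/-- Universally open iff universally open at every point. -/
theorem universallyOpen_iff_forall_isUnivOpenAt {X Y : Scheme.{u}} (f : X ⟶ Y) :
    UniversallyOpen f ↔ ∀ x : X, EGA43.IsUnivOpenAt f x := by
  constructor
  · intro hf x Y' g x' _
    have : UniversallyOpen (pullback.snd f g) := MorphismProperty.pullback_snd _ _ hf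
    exact (isOpenMap_iff_forall_isOpenAt _).1 (pullback.snd f g).isOpenMap x'
  · intro h
    refine ⟨fun X' Y' i₁ i₂ f' sq => ?_⟩
    change IsOpenMap f'.base
    rw [isOpenMap_iff_forall_isOpenAt]
    intro x'
    exact Groth.Agent.Lib.Helper80.UnivOpenAt.isOpenAt_of_isPullback (h (i₁.base x')) sq.flip x' rfl

/-- Every irreducible component of a scheme has a generic point, which is a maximal point. -/
theorem exists_generic_of_mem_irreducibleComponents {P : Scheme.{u}} {Z : Set P}
    (hZ : Z ∈ irreducibleComponents P) :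
    ∃ ξ : P, closure {ξ} = Z ∧ ∀ ξ' : P, ξ' ⤳ ξ → ξ' = ξ := by
  have hZirr : IsIrreducible Z := hZ.1
  have hZcl : IsClosed Z := isClosed_of_mem_irreducibleComponents Z hZ
  obtain ⟨ξ, hξ⟩ := QuasiSober.sober hZirr hZcl
  refine ⟨ξ, hξ.def, fun ξ' h' => ?_⟩
  have hsub : Z ⊆ closure {ξ'} := by
    rw [← hξ.def]
    exact closure_minimal (Set.singleton_subset_iff.2 (specializes_iff_mem_closure.1 h'))
      isClosed_closure
  have hirr : IsIrreducible (closure ({ξ'} : Set P)) := isIrreducible_singleton.closure
  have heq : closure {ξ'} = Z := le_antisymm (hZ.2 hirr hsub) hsub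
  have h1 : IsGenericPoint ξ' Z := heq
  exact h1.eq hξ

section Dvr

variable {A : Type u} [CommRing A] [IsDomain A] [IsDiscreteValuationRing A]

theorem asIdeal_eq_bot_of_ne_closedPoint (p : PrimeSpectrum A) (hp : p ≠ closedPoint A) :
    p.asIdeal = ⊥ := by
  by_contra hnb
  have hmax := Ring.DimensionLEOne.maximalOfPrime hnb p.isPrime
  exact hp (PrimeSpectrum.ext (IsLocalRing.eq_maximalIdeal hmax))

theorem bot_ne_closedPoint (p : PrimeSpectrum A) (hp : p.asIdeal = ⊥) : p ≠ closedPoint A := by
  intro hcl
  have : maximalIdeal A = ⊥ := by rw [← hp, hcl]; rfl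
  exact IsDiscreteValuationRing.not_a_field A this

theorem dense_of_asIdeal_eq_bot (p : PrimeSpectrum A) (hp : p.asIdeal = ⊥) :
    closure ({p} : Set (PrimeSpectrum A)) = Set.univ := by
  rw [PrimeSpectrum.closure_singleton, hp]
  ext q
  simp

/-- If an irreducible component `Z` of `P` dominates `Spec A`, every point of `Z` has a
generization over the generic point. -/
theorem exists_specializes_of_dense {P : Scheme.{u}} (s : P ⟶ Spec (CommRingCat.of A))
    {Z : Set P} (hZ : Z ∈ irreducibleComponents P) (hd : Dense (s.base '' Z)) (x' : P)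
    (hx' : x' ∈ Z) : ∃ z' : P, z' ⤳ x' ∧ s.base z' ≠ closedPoint A := by
  obtain ⟨ξ, hξ, -⟩ := exists_generic_of_mem_irreducibleComponents hZ
  refine ⟨ξ, specializes_iff_mem_closure.2 (hξ ▸ hx'), fun hcl => ?_⟩
  have h1 : s.base '' Z ⊆ {closedPoint A} := by
    rw [← hξ]
    refine (image_closure_subset_closure_image s.continuous).trans ?_
    rw [Set.image_singleton, hcl]
    exact (IsLocalRing.isClosed_singleton_closedPoint A).closure_subset
  have h2 : (Set.univ : Set (PrimeSpectrum A)) ⊆ {closedPoint A} := by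
    have := hd.closure_eq
    exact this.symm.subset.trans
      (closure_minimal h1 (IsLocalRing.isClosed_singleton_closedPoint A))
  have h3 : (⟨⊥, Ideal.isPrime_bot⟩ : PrimeSpectrum A) = closedPoint A := h2 (Set.mem_univ _)
  exact bot_ne_closedPoint _ rfl h3

/-- If `s` is open at every point over the closed point, every irreducible component dominates
`Spec A`. -/
theorem dense_of_isOpenAt {P : Scheme.{u}} (s : P ⟶ Spec (CommRingCat.of A))
    (hs : ∀ ξ : P, s.base ξ = closedPoint A → EGA43.IsOpenAt s.base ξ)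
    {Z : Set P} (hZ : Z ∈ irreducibleComponents P) : Dense (s.base '' Z) := by
  obtain ⟨ξ, hξ, hmax⟩ := exists_generic_of_mem_irreducibleComponents hZ
  have hξZ : ξ ∈ Z := hξ ▸ subset_closure (Set.mem_singleton ξ)
  have hne : s.base ξ ≠ closedPoint A := by
    intro hcl
    let η : PrimeSpectrum A := ⟨⊥, Ideal.isPrime_bot⟩
    have hη : (show ↥(Spec (CommRingCat.of A)) from η) ⤳ s.base ξ := by
      rw [hcl]; exact IsLocalRing.specializes_closedPoint _
    obtain ⟨ξ', hξ', hξ'η⟩ := (Groth.Agent.S3404.result s ξ).1 (hs ξ hcl) η hη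
    rw [hmax ξ' hξ', hcl] at hξ'η
    exact bot_ne_closedPoint η rfl hξ'η.symm
  have hbot := asIdeal_eq_bot_of_ne_closedPoint _ hne
  rw [dense_iff_closure_eq, ← Set.univ_subset_iff]
  exact (dense_of_asIdeal_eq_bot _ hbot).symm.subset.trans
    (closure_mono (Set.singleton_subset_iff.2 ⟨ξ, hξZ, rfl⟩))

end Dvr

end Groth.Agent.Lib.Helper41.UnivOpenComp
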