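import Groth.Agent.Lib.Helper41.ConnFibRing
import Groth.Agent.Lib.Helper41.FlatDvrSch
import Groth.Agent.Lib.Helper41.UnivOpenComp
import Groth.Agent.Lib.Helper50.DvrCrit
import Mathlib.AlgebraicGeometry.Fiber

/-!
# Connectedness of the generic fibre of an open morphism to a DVR with reduced special fibre
-/

set_option autoImplicit false
universe u
open CategoryTheory CategoryTheory.Limits AlgebraicGeometry IsLocalRing TopologicalSpace

namespace Groth.Agent.Lib.Helper41.ConnFib

open Groth.Agent.Lib.Helper67.FiberStalk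

/-- In a locally Noetherian scheme, a point in the closure of an open set is a specialization of
a point of this set. -/
theorem exists_specializes_of_mem_closure {X : Scheme.{u}} [IsLocallyNoetherian X] (U : Set X)
    (hU : IsOpen U) (x : X) (hx : x ∈ closure U) : ∃ u ∈ U, u ⤳ x := by
  obtain ⟨_, ⟨N, hN, rfl⟩, hxN, -⟩ :=
    X.isBasis_affineOpens.exists_subset_of_mem_open (Set.mem_univ x) isOpen_univ
  haveI : IsNoetherianRing Γ(X, N) := IsLocallyNoetherian.component_noetherian ⟨N, hN⟩
  haveI : NoetherianSpace ↥N := noetherianSpace_of_isAffineOpen N hN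
  haveI : QuasiSober ↥N := N.isOpen.isOpenEmbedding_subtypeVal.quasiSober
  let S : Set ↥N := Subtype.val ⁻¹' U
  have hS : IsOpen S := hU.preimage continuous_subtype_val
  haveI : QuasiSober ↥S := hS.isOpenEmbedding_subtypeVal.quasiSober
  let g : ↥S → X := fun p => p.1.1
  have hg : Continuous g := continuous_subtype_val.comp continuous_subtype_val
  have hx' : x ∈ closure (Set.range g) := by
    rw [mem_closure_iff]
    intro W hW hxW
    obtain ⟨u, huWN, huU⟩ := mem_closure_iff.1 hx (W ∩ N) (hW.inter N.isOpen) ⟨hxW, hxN⟩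
    exact ⟨u, huWN.1, ⟨⟨⟨u, huWN.2⟩, huU⟩, rfl⟩⟩
  obtain ⟨ξ, -, hξ⟩ :=
    Groth.Agent.Lib.Helper50.exists_generic_specializes_of_mem_closure_range g hg x hx'
  exact ⟨g ξ, ξ.2, hξ⟩

/-- A prime of `O_{X,x}` lies over the closed point iff its image in `X` lies over `f x`. -/
theorem fromSpecStalk_mem_fiber_iff {X Y : Scheme.{u}} (f : X ⟶ Y) (x : X)
    (p : PrimeSpectrum (X.presheaf.stalk x)) :
    f.base ((X.fromSpecStalk x).base p) = f.base x ↔
      Ideal.map (f.stalkMap x).hom (maximalIdeal (Y.presheaf.stalk (f.base x))) ≤ p.asIdeal := by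
  have hinjY : Function.Injective (Y.fromSpecStalk (f.base x)).base :=
    (Y.fromSpecStalk (f.base x)).isEmbedding.injective
  rw [FlatDvrSch.map_fromSpecStalk, Ideal.map_le_iff_le_comap]
  constructor
  · intro h
    have h1 : (Spec.map (f.stalkMap x)).base p = closedPoint (Y.presheaf.stalk (f.base x)) :=
      hinjY (h.trans Scheme.fromSpecStalk_closedPoint.symm)
    have h2 := congrArg PrimeSpectrum.asIdeal h1
    exact h2.symm.le
  · intro h
    have h1 : (Spec.map (f.stalkMap x)).base p = closedPoint (Y.presheaf.stalk (f.base x)) := by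
      apply PrimeSpectrum.ext
      exact ((IsLocalRing.maximalIdeal.isMaximal _).eq_of_le
        ((Spec.map (f.stalkMap x)).base p).isPrime.ne_top h).symm
    rw [h1]
    exact Scheme.fromSpecStalk_closedPoint

/-- The local contradiction: a point of the reduced special fibre cannot lie in the closure of
two disjoint open pieces of the generic fibre. -/
theorem false_of_mem_closure_inter {A : Type u} [CommRing A] [IsDomain A]
    [IsDiscreteValuationRing A] {X : Scheme.{u}} [IsLocallyNoetherian X]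
    (f : X ⟶ Spec (CommRingCat.of A)) (x : X) (hx : f.base x = closedPoint A)
    [hred : AlgebraicGeometry.IsReduced (f.fiber (f.base x))]
    (hgen : ∀ z : X, ∃ w : X, w ⤳ z ∧ f.base w ≠ f.base x)
    (U₁ U₂ : Set X) (h₁ : IsOpen U₁) (h₂ : IsOpen U₂) (hdisj : Disjoint U₁ U₂)
    (hcov : ∀ z : X, f.base z ≠ f.base x ↔ z ∈ U₁ ∪ U₂)
    (hx₁ : x ∈ closure U₁) (hx₂ : x ∈ closure U₂) : False := by
  obtain ⟨hdom, hdvr⟩ := FlatDvrSch.isDiscreteValuationRing_stalk A (f.base x) hx
  haveI := hdom
  haveI := hdvr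
  let R := X.presheaf.stalk x
  let O := (Spec (CommRingCat.of A)).presheaf.stalk (f.base x)
  let φ : O →+* R := (f.stalkMap x).hom
  have hflat : φ.Flat :=
    FlatDvrSch.flat_stalkMap_of_dvr f x inferInstance (fun z _ _ _ => hgen z)
  obtain ⟨ϖ, hϖ⟩ := IsDiscreteValuationRing.exists_irreducible O
  let π : R := φ ϖ
  have hI : Ideal.map φ (maximalIdeal O) = Ideal.span {π} := by
    rw [hϖ.maximalIdeal_eq, Ideal.map_span, Set.image_singleton]
  have hnzd : ∀ r : R, π * r = 0 → r = 0 := by
    intro r hr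
    letI := φ.toAlgebra
    haveI : Module.Flat O R := hflat
    have htors := (Module.Flat.flat_iff_torsion_eq_bot_of_isBezout (R := O) (M := R)).1
      inferInstance
    have : r ∈ Submodule.torsion O R := by
      rw [Submodule.mem_torsion_iff]
      exact ⟨⟨ϖ, mem_nonZeroDivisors_of_ne_zero hϖ.ne_zero⟩, hr⟩
    rw [htors] at this
    exact this
  have hrad : (Ideal.span {π}).IsRadical := by
    rw [← hI, Ideal.isRadical_iff_quotient_reduced]
    exact isReduced_of_injective (fiberStalkEquiv f x).symm.toRingHom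
      (fiberStalkEquiv f x).symm.injective
  let j := X.fromSpecStalk x
  have hjG : ∀ p : PrimeSpectrum R,
      f.base (j.base p) ≠ f.base x ↔ p ∈ PrimeSpectrum.basicOpen π := by
    intro p
    rw [Ne, fromSpecStalk_mem_fiber_iff, hI, Ideal.span_singleton_le_iff_mem]
    rfl
  obtain ⟨u₁, hu₁, hu₁x⟩ := exists_specializes_of_mem_closure U₁ h₁ x hx₁
  obtain ⟨u₂, hu₂, hu₂x⟩ := exists_specializes_of_mem_closure U₂ h₂ x hx₂
  have hr₁ : u₁ ∈ Set.range j.base := by rw [Scheme.range_fromSpecStalk]; exact hu₁x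
  have hr₂ : u₂ ∈ Set.range j.base := by rw [Scheme.range_fromSpecStalk]; exact hu₂x
  obtain ⟨p₁', hp₁⟩ := hr₁
  obtain ⟨p₂', hp₂⟩ := hr₂
  let p₁ : PrimeSpectrum R := p₁'
  let p₂ : PrimeSpectrum R := p₂'
  let S := Localization.Away π
  let c : PrimeSpectrum S → PrimeSpectrum R := PrimeSpectrum.comap (algebraMap R S)
  have hc : Continuous c := PrimeSpectrum.continuous_comap _
  have hrange : Set.range c = PrimeSpectrum.basicOpen π :=
    PrimeSpectrum.localization_away_comap_range S π
  let V₁ : Set (PrimeSpectrum S) := c ⁻¹' (j.base ⁻¹' U₁)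
  let V₂ : Set (PrimeSpectrum S) := c ⁻¹' (j.base ⁻¹' U₂)
  have hV₁o : IsOpen V₁ := (h₁.preimage j.continuous).preimage hc
  have hV₂o : IsOpen V₂ := (h₂.preimage j.continuous).preimage hc
  have hcompl : V₁ᶜ = V₂ := by
    ext q
    have hq : c q ∈ (PrimeSpectrum.basicOpen π : Set (PrimeSpectrum R)) := hrange ▸ ⟨q, rfl⟩
    have := (hcov (j.base (c q))).1 ((hjG (c q)).2 hq)
    constructor
    · intro h; exact this.resolve_left h
    · intro h h'; exact Set.disjoint_left.1 hdisj h' h
  have hclopen : IsClopen V₁ := ⟨by rw [← isOpen_compl_iff, hcompl]; exact hV₂o, hV₁o⟩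
  obtain ⟨e, he, hV₁e⟩ := PrimeSpectrum.isClopen_iff.1 hclopen
  have hq₁ : p₁ ∈ Set.range c := by
    rw [hrange]
    apply (hjG p₁).1
    rw [hcov]
    left
    change j.base p₁' ∈ U₁
    rw [hp₁]; exact hu₁
  have hq₂ : p₂ ∈ Set.range c := by
    rw [hrange]
    apply (hjG p₂).1
    rw [hcov]
    right
    change j.base p₂' ∈ U₂
    rw [hp₂]; exact hu₂
  obtain ⟨q₁, hq₁⟩ := hq₁
  obtain ⟨q₂, hq₂⟩ := hq₂
  rcases ConnFibRing.idempotent_away π hnzd hrad e he with h0 | h1
  · have : q₁ ∈ V₁ := by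
      change j.base (c q₁) ∈ U₁
      rw [hq₁]
      change j.base p₁' ∈ U₁
      rw [hp₁]; exact hu₁
    rw [hV₁e, h0] at this
    simp at this
  · have : q₂ ∈ V₁ := by
      rw [hV₁e, h1]; simp
    have h' : j.base (c q₂) ∈ U₁ := this
    rw [hq₂] at h'
    change j.base p₂' ∈ U₁ at h'
    rw [hp₂] at h'
    exact Set.disjoint_left.1 hdisj h' hu₂

/-- **Connectedness of the generic fibre**: `X` connected, `f : X ⟶ Spec A` open and locally of
finite type over a DVR with reduced special fibre; then the generic fibre is connected. -/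
theorem preconnectedSpace_generic_fiber (A : Type u) [CommRing A] [IsDomain A]
    [IsDiscreteValuationRing A] {X : Scheme.{u}} (f : X ⟶ Spec (CommRingCat.of A))
    [LocallyOfFiniteType f] (hopen : IsOpenMap f.base) [PreconnectedSpace X]
    (a b : ↥(Spec (CommRingCat.of A))) (ha : IsClosed ({a} : Set ↥(Spec (CommRingCat.of A))))
    (hb : ∀ z : ↥(Spec (CommRingCat.of A)), b ⤳ z)
    (hred : AlgebraicGeometry.IsReduced (f.fiber a)) :
    PreconnectedSpace ↥(f.fiber b) := by
  haveI : IsLocallyNoetherian X := LocallyOfFiniteType.isLocallyNoetherian f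
  have ha' : a = closedPoint A := by
    have h1 : a ⤳ closedPoint A := IsLocalRing.specializes_closedPoint a
    rw [specializes_iff_mem_closure, ha.closure_eq] at h1
    exact h1.symm
  have hb' : (show PrimeSpectrum A from b).asIdeal = ⊥ := by
    have h1 := hb (show ↥(Spec (CommRingCat.of A)) from
      (⟨⊥, Ideal.isPrime_bot⟩ : PrimeSpectrum A))
    have h2 : (show PrimeSpectrum A from b) ≤ ⟨⊥, Ideal.isPrime_bot⟩ :=
      (PrimeSpectrum.le_iff_specializes _ _).2 h1
    exact le_bot_iff.1 h2
  have hab : ∀ y : ↥(Spec (CommRingCat.of A)), y ≠ a → y = b := by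
    intro y hy
    have := UnivOpenComp.asIdeal_eq_bot_of_ne_closedPoint (show PrimeSpectrum A from y)
      (ha' ▸ hy)
    exact PrimeSpectrum.ext (this.trans hb'.symm)
  have hba : b ≠ a := by
    rw [ha']; exact UnivOpenComp.bot_ne_closedPoint _ hb'
  have hGiff : ∀ z : X, f.base z ≠ a ↔ z ∈ f ⁻¹' {b} := by
    intro z
    constructor
    · intro h; exact hab _ h
    · intro h; rw [Set.mem_preimage, Set.mem_singleton_iff] at h
      change f.base z = b at h
      rw [h]; exact hba
  have hgen : ∀ x : X, ∃ w : X, w ⤳ x ∧ f.base w = b := by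
    intro x
    have hx : EGA43.IsOpenAt f.base x :=
      (UnivOpenComp.isOpenMap_iff_forall_isOpenAt _).1 hopen x
    obtain ⟨w, hw, hwb⟩ := (Groth.Agent.S3404.result f x).1 hx b (hb _)
    exact ⟨w, hw, hwb⟩
  have hG : _root_.IsPreconnected (f ⁻¹' {b} : Set X) := by
    intro u v hu hv huv ⟨y₁, hy₁G, hy₁u⟩ ⟨y₂, hy₂G, hy₂v⟩
    by_contra hempty
    rw [Set.not_nonempty_iff_eq_empty] at hempty
    have hGo : IsOpen (f ⁻¹' {b} : Set X) := by
      have : (f ⁻¹' {b} : Set X) = f.base ⁻¹' ({a}ᶜ) := by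
        ext z
        rw [← hGiff]
        rfl
      rw [this]
      exact ha.isOpen_compl.preimage f.continuous
    let U₁ : Set X := f ⁻¹' {b} ∩ u
    let U₂ : Set X := f ⁻¹' {b} ∩ v
    have h₁ : IsOpen U₁ := hGo.inter hu
    have h₂ : IsOpen U₂ := hGo.inter hv
    have hdisj : Disjoint U₁ U₂ := by
      rw [Set.disjoint_iff_inter_eq_empty]
      rw [← hempty]
      ext z
      simp only [U₁, U₂, Set.mem_inter_iff]
      tauto
    have hcovG : (f ⁻¹' {b} : Set X) = U₁ ∪ U₂ := by
      ext z
      simp only [U₁, U₂, Set.mem_union, Set.mem_inter_iff]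
      constructor
      · intro hz
        rcases huv hz with h | h
        · exact Or.inl ⟨hz, h⟩
        · exact Or.inr ⟨hz, h⟩
      · rintro (h | h) <;> exact h.1
    -- the closures cover `X`
    have hcl : (Set.univ : Set X) ⊆ closure U₁ ∪ closure U₂ := by
      intro x _
      obtain ⟨w, hwx, hwb⟩ := hgen x
      have hwG : w ∈ (f ⁻¹' {b} : Set X) := hwb
      rw [hcovG] at hwG
      rcases hwG with h | h
      · exact Or.inl (hwx.mem_closed isClosed_closure (subset_closure h))
      · exact Or.inr (hwx.mem_closed isClosed_closure (subset_closure h))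
    have hpre : _root_.IsPreconnected (Set.univ : Set X) := isPreconnected_univ
    obtain ⟨x, -, hx₁, hx₂⟩ := isPreconnected_closed_iff.1 hpre (closure U₁) (closure U₂)
      isClosed_closure isClosed_closure hcl
      ⟨y₁, Set.mem_univ _, subset_closure ⟨hy₁G, hy₁u⟩⟩
      ⟨y₂, Set.mem_univ _, subset_closure ⟨hy₂G, hy₂v⟩⟩
    -- `x` lies over the closed point
    have hxa : f.base x = a := by
      by_contra hne
      have hxG : x ∈ (f ⁻¹' {b} : Set X) := (hGiff x).1 hne
      rw [hcovG] at hxG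
      rcases hxG with h | h
      · obtain ⟨z, hz1, hz2⟩ := mem_closure_iff.1 hx₂ U₁ h₁ h
        exact Set.disjoint_left.1 hdisj hz1 hz2
      · obtain ⟨z, hz2, hz1⟩ := mem_closure_iff.1 hx₁ U₂ h₂ h
        exact Set.disjoint_left.1 hdisj hz1 hz2
    subst hxa
    haveI := hred
    refine false_of_mem_closure_inter f x ha' ?_ U₁ U₂ h₁ h₂ hdisj ?_ hx₁ hx₂
    · intro z
      obtain ⟨w, hw, hwb⟩ := hgen z
      exact ⟨w, hw, hwb ▸ hba⟩
    · intro z
      rw [hGiff, hcovG]
  haveI : PreconnectedSpace ↥(f ⁻¹' {b} : Set X) := Subtype.preconnectedSpace hG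
  exact (f.fiberHomeo b).symm.surjective.denseRange.preconnectedSpace
    (f.fiberHomeo b).symm.continuous

end Groth.Agent.Lib.Helper41.ConnFib
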