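import Mathlib.RingTheory.Localization.Away.Basic
import Mathlib.RingTheory.LocalRing.Basic
import Mathlib.RingTheory.Spectrum.Prime.Topology
import Mathlib.RingTheory.Ideal.Operations
import Mathlib.RingTheory.Nilpotent.Lemmas

/-!
# Idempotents of `R[1/π]` for a local ring `R` with `π` a nonzerodivisor and `R/π` reduced
-/

set_option autoImplicit false

namespace Groth.Agent.Lib.Helper41.ConnFibRing

/-- Let `R` be a local ring, `π` a nonzerodivisor with `(π)` a radical ideal.  Then `R[1/π]` has
no nontrivial idempotents. -/
theorem idempotent_away {R S : Type*} [CommRing R] [IsLocalRing R] [CommRing S] [Algebra R S]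
    (π : R) [IsLocalization.Away π S] (hnzd : ∀ r : R, π * r = 0 → r = 0)
    (hrad : (Ideal.span {π}).IsRadical) (e : S) (he : IsIdempotentElem e) : e = 0 ∨ e = 1 := by
  classical
  have hpow : ∀ (n : ℕ) (r : R), π ^ n * r = 0 → r = 0 := by
    intro n
    induction n with
    | zero => intro r h; simpa using h
    | succ k ih =>
      intro r h
      rw [pow_succ, mul_assoc] at h
      exact hnzd r (ih _ h)
  have hinj : Function.Injective (algebraMap R S) := by
    apply IsLocalization.injective S (M := Submonoid.powers π)
    rintro _ ⟨n, rfl⟩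
    rw [mem_nonZeroDivisors_iff_right]
    intro r hr
    rw [mul_comm] at hr
    exact hpow n r hr
  have hπu : IsUnit (algebraMap R S π) := IsLocalization.Away.algebraMap_isUnit π
  have hex : ∃ n : ℕ, ∃ a : R, e * algebraMap R S π ^ n = algebraMap R S a :=
    IsLocalization.Away.surj π e
  obtain ⟨a, ha⟩ := Nat.find_spec hex
  rcases Nat.eq_zero_or_pos (Nat.find hex) with h0 | hpos
  · rw [h0, pow_zero, mul_one] at ha
    have haa : a * a = a := by
      apply hinj
      rw [map_mul, ← ha]
      exact he
    have h1 : a * (1 - a) = 0 := by rw [mul_sub, mul_one, haa, sub_self]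
    rcases IsLocalRing.isUnit_or_isUnit_one_sub_self a with hu | hu
    · right
      have : 1 - a = 0 := (hu.mul_right_eq_zero).1 h1
      rw [ha, ← sub_eq_zero.1 this, map_one]
    · left
      have : a = 0 := (hu.mul_left_eq_zero).1 h1
      rw [ha, this, map_zero]
  · exfalso
    obtain ⟨k, hk⟩ := Nat.exists_eq_succ_of_ne_zero hpos.ne'
    rw [hk] at ha
    -- `a * a = π ^ (k+1) * a`
    have haa : a * a = π ^ (k + 1) * a := by
      apply hinj
      rw [map_mul, map_mul, map_pow, ← ha]
      calc e * algebraMap R S π ^ (k + 1) * (e * algebraMap R S π ^ (k + 1))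
          = (e * e) * algebraMap R S π ^ (k + 1) * algebraMap R S π ^ (k + 1) := by ring
        _ = e * algebraMap R S π ^ (k + 1) * algebraMap R S π ^ (k + 1) := by rw [he.eq]
        _ = algebraMap R S π ^ (k + 1) * (e * algebraMap R S π ^ (k + 1)) := by ring
    have hamem : a ∈ Ideal.span {π} := by
      apply hrad
      refine ⟨2, ?_⟩
      rw [pow_two, haa, pow_succ, mul_assoc]
      exact Ideal.mul_mem_left _ _ (Ideal.mul_mem_right _ _ (Ideal.mem_span_singleton_self π))
    rw [Ideal.mem_span_singleton'] at hamem
    obtain ⟨a', rfl⟩ := hamem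
    have hk' : e * algebraMap R S π ^ k = algebraMap R S a' := by
      apply hπu.mul_left_injective
      simp only
      rw [map_mul] at ha
      rw [← ha, pow_succ, mul_assoc]
    have := Nat.find_min' hex ⟨a', hk'⟩
    omega

end Groth.Agent.Lib.Helper41.ConnFibRing
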