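import Mathlib

/-!
# Base change of an `AddSubgroup`-graded algebra: ring-level lemmas (helper41)
-/

set_option autoImplicit false
universe u
open TensorProduct

namespace Groth.Agent.Lib.Helper41.ConstGrAlg

section bridge

variable {A B : Type u} [CommRing A] [CommRing B] [Algebra A B] (𝒢 : ℕ → AddSubgroup B)
  [GradedRing 𝒢] (h0 : ∀ r : A, algebraMap A B r ∈ 𝒢 0)

/-- the grading by `A`-submodules -/
def subGr (d : ℕ) : Submodule A B where
  carrier := 𝒢 d
  add_mem' := fun ha hb => add_mem ha hb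
  zero_mem' := zero_mem _
  smul_mem' := fun r x hx => by
    change r • x ∈ 𝒢 d
    rw [Algebra.smul_def]
    simpa using SetLike.mul_mem_graded (h0 r) hx

theorem mem_subGr {d : ℕ} {x : B} : x ∈ subGr 𝒢 h0 d ↔ x ∈ 𝒢 d := Iff.rfl

instance gradedMonoid_subGr : SetLike.GradedMonoid (subGr 𝒢 h0) where
  one_mem := SetLike.one_mem_graded 𝒢
  mul_mem := fun _ _ _ _ ha hb => SetLike.mul_mem_graded (A := 𝒢) ha hb

/-- the identity on the pieces -/
def toSubGr (i : ℕ) : ↥(𝒢 i) →+ ↥(subGr 𝒢 h0 i) where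
  toFun x := ⟨x.1, x.2⟩
  map_zero' := rfl
  map_add' _ _ := rfl

theorem coe_map_toSubGr (x : DirectSum ℕ fun i => ↥(𝒢 i)) :
    DirectSum.coeAddMonoidHom (subGr 𝒢 h0) (DirectSum.map (toSubGr 𝒢 h0) x) =
      DirectSum.coeAddMonoidHom 𝒢 x := by
  classical
  induction x using DirectSum.induction_on with
  | zero => simp
  | of i y =>
    rw [DirectSum.map_of, DirectSum.coeAddMonoidHom_of, DirectSum.coeAddMonoidHom_of]
    rfl
  | add x y hx hy => rw [map_add, map_add, map_add, hx, hy]

noncomputable instance gradedAlgebra_subGr : GradedAlgebra (subGr 𝒢 h0) := by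
  classical
  exact
  { gradedMonoid_subGr 𝒢 h0 with
    toDecomposition := DirectSum.Decomposition.ofAddHom _
      ((DirectSum.map (toSubGr 𝒢 h0)).comp (DirectSum.decomposeAddEquiv 𝒢).toAddMonoidHom)
      (by
        ext a
        change DirectSum.coeAddMonoidHom (subGr 𝒢 h0)
          (DirectSum.map (toSubGr 𝒢 h0) (DirectSum.decompose 𝒢 a)) = a
        rw [coe_map_toSubGr]
        exact DirectSum.Decomposition.left_inv a)
      (by
        apply DirectSum.addHom_ext
        intro i y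
        change DirectSum.map (toSubGr 𝒢 h0) (DirectSum.decompose 𝒢
          (DirectSum.coeAddMonoidHom (subGr 𝒢 h0)
            (DirectSum.of (fun i => ↥(subGr 𝒢 h0 i)) i y))) = _
        rw [DirectSum.coeAddMonoidHom_of, DirectSum.decompose_of_mem 𝒢 (show (y : B) ∈ 𝒢 i from y.2),
          DirectSum.map_of]
        rfl) }

end bridge

section maps

variable {A B : Type u} [CommRing A] [CommRing B] [Algebra A B]
  {R R' : Type u} [CommRing R] [CommRing R'] [Algebra A R] [Algebra A R']

theorem smul_eq_tmul_one_mul (r : R) (x : R ⊗[A] B) : r • x = (r ⊗ₜ[A] (1 : B)) * x := by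
  induction x with
  | zero => simp
  | tmul a b => rw [TensorProduct.smul_tmul', Algebra.TensorProduct.tmul_mul_tmul, one_mul, smul_eq_mul]
  | add x y hx hy => rw [smul_add, mul_add, hx, hy]

theorem map_mem_baseChange (f : R →ₐ[A] R') (M : Submodule A B) {x : R ⊗[A] B}
    (hx : x ∈ M.baseChange R) :
    Algebra.TensorProduct.map f (AlgHom.id A B) x ∈ M.baseChange R' := by
  rw [Submodule.baseChange_eq_span] at hx
  induction hx using Submodule.span_induction with
  | mem x hx =>
    obtain ⟨b, hb, rfl⟩ := hx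
    change Algebra.TensorProduct.map f (AlgHom.id A B) ((1 : R) ⊗ₜ[A] b) ∈ _
    rw [Algebra.TensorProduct.map_tmul, map_one]
    exact Submodule.tmul_mem_baseChange_of_mem 1 hb
  | zero => rw [map_zero]; exact zero_mem _
  | add x y _ _ hx hy => rw [map_add]; exact add_mem hx hy
  | smul r x _ hx =>
    rw [smul_eq_tmul_one_mul, map_mul, Algebra.TensorProduct.map_tmul, AlgHom.id_apply,
      ← smul_eq_tmul_one_mul]
    exact Submodule.smul_mem _ _ hx

end maps

section gen

variable {A B : Type u} [CommRing A] [CommRing B] [Algebra A B] (𝒢 : ℕ → AddSubgroup B)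
  [GradedRing 𝒢] (h0 : ∀ r : A, algebraMap A B r ∈ 𝒢 0)
  (R : Type u) [CommRing R] [Algebra A R]

include h0 in
theorem closure_baseChange_eq_top
    (hgen : Subring.closure ((𝒢 0 : Set B) ∪ (𝒢 1 : Set B)) = ⊤) :
    Subring.closure ((((subGr 𝒢 h0 0).baseChange R : Submodule R (R ⊗[A] B)) : Set (R ⊗[A] B)) ∪
      (((subGr 𝒢 h0 1).baseChange R : Submodule R (R ⊗[A] B)) : Set (R ⊗[A] B))) = ⊤ := by
  rw [eq_top_iff]
  intro x hxtop
  clear hxtop
  set K := Subring.closure ((((subGr 𝒢 h0 0).baseChange R : Submodule R (R ⊗[A] B)) :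
      Set (R ⊗[A] B)) ∪
      (((subGr 𝒢 h0 1).baseChange R : Submodule R (R ⊗[A] B)) : Set (R ⊗[A] B))) with hK
  have h1 : ∀ b : B, (1 : R) ⊗ₜ[A] b ∈ K := by
    intro b
    have hb : b ∈ Subring.closure ((𝒢 0 : Set B) ∪ (𝒢 1 : Set B)) := by rw [hgen]; trivial
    induction hb using Subring.closure_induction with
    | mem y hy =>
      apply Subring.subset_closure
      rcases hy with hy | hy
      · left; exact Submodule.tmul_mem_baseChange_of_mem 1 hy
      · right; exact Submodule.tmul_mem_baseChange_of_mem 1 hy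
    | zero => rw [TensorProduct.tmul_zero]; exact K.zero_mem
    | one =>
      apply Subring.subset_closure
      left
      exact Submodule.tmul_mem_baseChange_of_mem 1 (SetLike.one_mem_graded 𝒢)
    | add y z _ _ hy hz => rw [TensorProduct.tmul_add]; exact K.add_mem hy hz
    | neg y _ hy => rw [TensorProduct.tmul_neg]; exact K.neg_mem hy
    | mul y z _ _ hy hz =>
      have : (1 : R) ⊗ₜ[A] (y * z) = ((1 : R) ⊗ₜ[A] y) * ((1 : R) ⊗ₜ[A] z) := by
        rw [Algebra.TensorProduct.tmul_mul_tmul, one_mul]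
      rw [this]
      exact K.mul_mem hy hz
  have h2 : ∀ r : R, r ⊗ₜ[A] (1 : B) ∈ K := fun r =>
    Subring.subset_closure (Or.inl (Submodule.tmul_mem_baseChange_of_mem r (SetLike.one_mem_graded 𝒢)))
  induction x with
  | zero => exact K.zero_mem
  | tmul r b =>
    have : r ⊗ₜ[A] b = (r ⊗ₜ[A] (1 : B)) * ((1 : R) ⊗ₜ[A] b) := by
      rw [Algebra.TensorProduct.tmul_mul_tmul, one_mul, mul_one]
    rw [this]
    exact K.mul_mem (h2 r) (h1 b)
  | add x y hx hy => exact K.add_mem hx hy

theorem exists_coeff_baseChange (Tt : Finset B)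
    (hT : ∀ x ∈ 𝒢 1, ∃ c : B → A, x = ∑ t ∈ Tt, algebraMap A B (c t) * t)
    (y : R ⊗[A] B) (hy : y ∈ (subGr 𝒢 h0 1).baseChange R) :
    ∃ c : B → R, y = ∑ t ∈ Tt, (c t ⊗ₜ[A] (1 : B)) * ((1 : R) ⊗ₜ[A] t) := by
  classical
  rw [Submodule.baseChange_eq_span] at hy
  induction hy using Submodule.span_induction with
  | mem x hx =>
    obtain ⟨b, hb, rfl⟩ := hx
    obtain ⟨c, hc⟩ := hT b hb
    refine ⟨fun t => algebraMap A R (c t), ?_⟩
    change (1 : R) ⊗ₜ[A] b = _
    conv_lhs => rw [hc]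
    rw [TensorProduct.tmul_sum]
    refine Finset.sum_congr rfl fun t _ => ?_
    rw [Algebra.TensorProduct.tmul_mul_tmul, mul_one, one_mul, ← Algebra.smul_def,
      TensorProduct.tmul_smul, TensorProduct.smul_tmul', Algebra.smul_def, mul_one]
  | zero => exact ⟨fun _ => 0, by simp⟩
  | add x z _ _ hx hz =>
    obtain ⟨c, hc⟩ := hx
    obtain ⟨c', hc'⟩ := hz
    refine ⟨fun t => c t + c' t, ?_⟩
    rw [hc, hc', ← Finset.sum_add_distrib]
    refine Finset.sum_congr rfl fun t _ => ?_
    rw [TensorProduct.add_tmul, add_mul]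
  | smul r x _ hx =>
    obtain ⟨c, hc⟩ := hx
    refine ⟨fun t => r * c t, ?_⟩
    rw [hc, Finset.smul_sum]
    refine Finset.sum_congr rfl fun t _ => ?_
    rw [smul_eq_tmul_one_mul, ← mul_assoc, Algebra.TensorProduct.tmul_mul_tmul, mul_one]

end gen

end Groth.Agent.Lib.Helper41.ConstGrAlg
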