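import Mathlib
import Groth.Agent.Lib.Helper41.ConstGrAlg
import Groth.Agent.Lib.Helper74.QCAlgOfAffine
import Groth.Agent.Lib.Helper74.GrTransport
import Groth.Prelude.Def_RelProj

/-!
# The constant quasi-coherent graded algebra `V ↦ Γ(T, V) ⊗[A] B` on a scheme `T` (helper41)
-/

set_option autoImplicit false
universe u
open CategoryTheory CategoryTheory.Limits AlgebraicGeometry TopologicalSpace Opposite TensorProduct

noncomputable section

namespace Groth.Agent.Lib.Helper41.ConstGr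

open RelSpec Groth.Agent.Lib.Helper74.OfAffine Groth.Agent.Lib.Helper74
  Groth.Agent.Lib.Helper41.ConstGrAlg

variable {T : Scheme.{u}} {A : Type u} [CommRing A] (θ : A →+* Γ(T, ⊤))

/-- the structure presheaf with values in `A`-algebras -/
def Q : (Opens T)ᵒᵖ ⥤ Under (CommRingCat.of A) where
  obj V := Under.mk (CommRingCat.ofHom θ ≫ T.presheaf.map (homOfLE le_top).op)
  map {V₁ V₂} i := Under.homMk (T.presheaf.map i) (by
    dsimp
    rw [Category.assoc, ← Functor.map_comp]
    rfl)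
  map_id V := by
    ext1
    exact T.presheaf.map_id V
  map_comp i j := by
    ext1
    exact T.presheaf.map_comp i j

instance algUnder (X : Under (CommRingCat.of A)) : Algebra A X := X.hom.hom.toAlgebra

variable (B : Type u) [CommRing B] [Algebra A B]

/-- `X ↦ X ⊗[A] B` -/
def tens : Under (CommRingCat.of A) ⥤ CommRingCat.{u} where
  obj X := CommRingCat.of (X ⊗[A] B)
  map f := CommRingCat.ofHom
    (Algebra.TensorProduct.map (CommRingCat.toAlgHom f) (AlgHom.id A B)).toRingHom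
  map_id X := by
    ext1
    change (Algebra.TensorProduct.map (CommRingCat.toAlgHom (𝟙 X)) (AlgHom.id A B)).toRingHom = _
    rw [CommRingCat.toAlgHom_id, Algebra.TensorProduct.map_id]
    rfl
  map_comp f g := by
    ext1
    change (Algebra.TensorProduct.map (CommRingCat.toAlgHom (f ≫ g)) (AlgHom.id A B)).toRingHom = _
    rw [CommRingCat.toAlgHom_comp]
    have h := Algebra.TensorProduct.map_comp (CommRingCat.toAlgHom g) (CommRingCat.toAlgHom f)
      (AlgHom.id A B) (AlgHom.id A B)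
    rw [AlgHom.comp_id] at h
    rw [h]
    rfl

/-- the presheaf `V ↦ Γ(T, V) ⊗[A] B` on all opens -/
def constP : TopCat.Presheaf CommRingCat.{u} T.carrier := Q θ ⋙ tens B

/-- the structure map on all opens -/
def constαP : T.presheaf ⟶ constP θ B where
  app V := CommRingCat.ofHom
    (Algebra.TensorProduct.includeLeftRingHom : ((Q θ).obj V) →+* ((Q θ).obj V) ⊗[A] B)
  naturality V₁ V₂ i := by
    ext r
    rfl

/-- the functor on the affine opens -/
def constF : T.AffineZariskiSiteᵒᵖ ⥤ CommRingCat.{u} :=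
  (Scheme.AffineZariskiSite.toOpensFunctor T).op ⋙ constP θ B

/-- the structure map on the affine opens -/
def constα : (Scheme.AffineZariskiSite.toOpensFunctor T).op ⋙ T.presheaf ⟶ constF θ B :=
  Functor.whiskerLeft _ (constαP θ B)

theorem isPushout_constP (V : (Opens T)ᵒᵖ) :
    IsPushout ((Q θ).obj V).hom (CommRingCat.ofHom (algebraMap A B))
      ((constαP θ B).app V)
      (CommRingCat.ofHom (Algebra.TensorProduct.includeRight :
        B →ₐ[A] ((Q θ).obj V) ⊗[A] B).toRingHom) :=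
  CommRingCat.isPushout_tensorProduct A ((Q θ).obj V) B

theorem isPushout_constP_map {V₁ V₂ : (Opens T)ᵒᵖ} (i : V₁ ⟶ V₂) :
    IsPushout (T.presheaf.map i) ((constαP θ B).app V₁) ((constαP θ B).app V₂)
      ((constP θ B).map i) := by
  have h := isPushout_constP θ B V₂
  have e2 : CommRingCat.ofHom (Algebra.TensorProduct.includeRight :
        B →ₐ[A] ((Q θ).obj V₁) ⊗[A] B).toRingHom ≫ (constP θ B).map i =
      CommRingCat.ofHom (Algebra.TensorProduct.includeRight :
        B →ₐ[A] ((Q θ).obj V₂) ⊗[A] B).toRingHom := by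
    ext b
    change Algebra.TensorProduct.map (CommRingCat.toAlgHom ((Q θ).map i)) (AlgHom.id A B)
      ((1 : ((Q θ).obj V₁)) ⊗ₜ[A] b) = (1 : ((Q θ).obj V₂)) ⊗ₜ[A] b
    rw [Algebra.TensorProduct.map_tmul, map_one]
    rfl
  have s : IsPushout (((Q θ).obj V₁).hom ≫ ((Q θ).map i).right)
      (CommRingCat.ofHom (algebraMap A B)) ((constαP θ B).app V₂)
      (CommRingCat.ofHom (Algebra.TensorProduct.includeRight :
        B →ₐ[A] ((Q θ).obj V₁) ⊗[A] B).toRingHom ≫ (constP θ B).map i) := by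
    rw [Under.w ((Q θ).map i), e2]
    exact h
  exact IsPushout.of_left s ((constαP θ B).naturality i) (isPushout_constP θ B V₁)

theorem constα_coequifibered : (constα θ B).Coequifibered := fun _ _ i =>
  isPushout_constP_map θ B ((Scheme.AffineZariskiSite.toOpensFunctor T).op.map i)


/-- the constant algebra as a quasi-coherent algebra -/
def constQC : QCAlg T := ofAffine (constα_coequifibered θ B)

/-- the inverse identifications on the affine opens -/
def Ψ₀ : constF θ B ⟶ (Scheme.AffineZariskiSite.toOpensFunctor T).op ⋙ (constQC θ B).presheaf :=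
  show constF θ B ⟶ (Scheme.AffineZariskiSite.toOpensFunctor T).op ⋙
    ((π (constα_coequifibered θ B)).base _* (spec (constα_coequifibered θ B)).presheaf) from
    inv (gammaRestrict (constα_coequifibered θ B))

theorem gammaAff_Ψ₀ (U : T.Opens) (hU : IsAffineOpen U) :
    gammaAff (constα_coequifibered θ B) U hU ≫ (Ψ₀ θ B).app (op ⟨U, hU⟩) = 𝟙 _ :=
  NatTrans.congr_app (IsIso.hom_inv_id (gammaRestrict (constα_coequifibered θ B))) (op ⟨U, hU⟩)

theorem Ψ₀_gammaAff (U : T.Opens) (hU : IsAffineOpen U) :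
    (Ψ₀ θ B).app (op ⟨U, hU⟩) ≫ gammaAff (constα_coequifibered θ B) U hU = 𝟙 _ :=
  NatTrans.congr_app (IsIso.inv_hom_id (gammaRestrict (constα_coequifibered θ B))) (op ⟨U, hU⟩)

/-- the extension of the inverse identifications to all opens -/
def Ψ : constP θ B ⟶ (constQC θ B).presheaf :=
  Functor.IsCoverDense.restrictHomEquivHom (G := Scheme.AffineZariskiSite.toOpensFunctor T)
    (K := Opens.grothendieckTopology T) (ℱ := constP θ B)
    (ℱ' := (⟨(constQC θ B).presheaf, (constQC θ B).isSheaf⟩ : TopCat.Sheaf CommRingCat.{u} T.carrier))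
    (Ψ₀ θ B)

theorem Ψ_app (U : T.Opens) (hU : IsAffineOpen U) :
    (Ψ θ B).app (op U) = (Ψ₀ θ B).app (op ⟨U, hU⟩) :=
  NatTrans.congr_app ((Functor.IsCoverDense.restrictHomEquivHom
    (G := Scheme.AffineZariskiSite.toOpensFunctor T)
    (K := Opens.grothendieckTopology T) (ℱ := constP θ B)
    (ℱ' := (⟨(constQC θ B).presheaf, (constQC θ B).isSheaf⟩ :
      TopCat.Sheaf CommRingCat.{u} T.carrier))).symm_apply_apply
        (Ψ₀ θ B)) (op ⟨U, hU⟩)

/-- `Γ(T, V)` as an `A`-algebra -/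
abbrev RV (V : T.Opens) : Under (CommRingCat.of A) := (Q θ).obj (op V)

/-- `gammaAff` for the constant algebra -/
abbrev gA (U : T.Opens) (hU : IsAffineOpen U) :
    (constQC θ B).presheaf.obj (op U) ⟶ CommRingCat.of ((RV θ U) ⊗[A] B) :=
  gammaAff (constα_coequifibered θ B) U hU

theorem gA_Ψ (U : T.Opens) (hU : IsAffineOpen U) (q : (RV θ U) ⊗[A] B) :
    (gA θ B U hU).hom (((Ψ θ B).app (op U)).hom q) = q := by
  rw [Ψ_app θ B U hU]
  exact congr($(Ψ₀_gammaAff θ B U hU).hom q)

theorem Ψ_gA (U : T.Opens) (hU : IsAffineOpen U) (s : (constQC θ B).presheaf.obj (op U)) :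
    ((Ψ θ B).app (op U)).hom ((gA θ B U hU).hom s) = s := by
  rw [Ψ_app θ B U hU]
  exact congr($(gammaAff_Ψ₀ θ B U hU).hom s)

/-- the identification of the sections over an affine open -/
def secIso (U : T.Opens) (hU : IsAffineOpen U) :
    (constQC θ B).presheaf.obj (op U) ≃+* (RV θ U) ⊗[A] B where
  toFun := (gA θ B U hU).hom
  invFun := ((Ψ θ B).app (op U)).hom
  left_inv := Ψ_gA θ B U hU
  right_inv := gA_Ψ θ B U hU
  map_mul' := map_mul _
  map_add' := map_add _

theorem secIso_apply (U : T.Opens) (hU : IsAffineOpen U) (s : (constQC θ B).presheaf.obj (op U)) :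
    secIso θ B U hU s = (gA θ B U hU).hom s := rfl

theorem secIso_symm_apply (U : T.Opens) (hU : IsAffineOpen U) (q : (RV θ U) ⊗[A] B) :
    (secIso θ B U hU).symm q = ((Ψ θ B).app (op U)).hom q := rfl

/-- the restriction maps as `A`-algebra maps -/
abbrev resV {U V : T.Opens} (h : V ≤ U) : RV θ U →ₐ[A] RV θ V :=
  CommRingCat.toAlgHom ((Q θ).map (homOfLE h).op)

/-- naturality of `Ψ`, elementwise -/
theorem Ψ_res {U V : T.Opens} (h : V ≤ U) (q : (RV θ U) ⊗[A] B) :
    ((Ψ θ B).app (op V)).hom (Algebra.TensorProduct.map (resV θ h) (AlgHom.id A B) q) =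
      ((constQC θ B).presheaf.map (homOfLE h).op).hom (((Ψ θ B).app (op U)).hom q) :=
  congr($((Ψ θ B).naturality (homOfLE h).op).hom q)

/-- naturality of the identifications for arbitrary inclusions of affine opens -/
theorem secIso_res {U V : T.Opens} (hU : IsAffineOpen U) (hV : IsAffineOpen V) (h : V ≤ U)
    (s : (constQC θ B).presheaf.obj (op U)) :
    secIso θ B V hV (((constQC θ B).presheaf.map (homOfLE h).op).hom s) =
      Algebra.TensorProduct.map (resV θ h) (AlgHom.id A B) (secIso θ B U hU s) := by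
  apply (secIso θ B V hV).symm.injective
  rw [RingEquiv.symm_apply_apply, secIso_symm_apply, Ψ_res, ← secIso_symm_apply θ B U hU,
    RingEquiv.symm_apply_apply]

/-- the structure map through the identifications -/
theorem secIso_str (U : T.Opens) (hU : IsAffineOpen U) (r : Γ(T, U)) :
    secIso θ B U hU (((constQC θ B).str.app (op U)).hom r) =
      (Algebra.TensorProduct.includeLeftRingHom : (RV θ U) →+* (RV θ U) ⊗[A] B) r :=
  congr($(π_app_gammaAff (constα_coequifibered θ B) U hU).hom r)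

variable {B}
variable (𝒢 : ℕ → AddSubgroup B) [GradedRing 𝒢] (h0 : ∀ r : A, algebraMap A B r ∈ 𝒢 0)

/-- the base-changed grading -/
abbrev bcGr (U : T.Opens) (d : ℕ) : Submodule (RV θ U) ((RV θ U) ⊗[A] B) :=
  (subGr 𝒢 h0 d).baseChange (RV θ U)

instance (U : T.Opens) : GradedRing (bcGr θ 𝒢 h0 U) :=
  GradedAlgebra.baseChange (S := RV θ U) (subGr 𝒢 h0)

/-- the constant algebra as a quasi-coherent graded algebra -/
def constGr : RelProj.QCGrAlg T where
  toQCAlg := constQC θ B
  deg U hU := GrTransport.comapGr (secIso θ B U hU) (bcGr θ 𝒢 h0 U)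
  graded U hU := inferInstance
  map_mem := by
    intro U V hU hV i d x hx
    change secIso θ B V hV _ ∈ bcGr θ 𝒢 h0 V d
    rw [secIso_res θ B hU hV i]
    exact map_mem_baseChange (resV θ i) (subGr 𝒢 h0 d) hx
  str_mem U hU r := by
    change secIso θ B U hU _ ∈ bcGr θ 𝒢 h0 U 0
    rw [secIso_str]
    exact Submodule.tmul_mem_baseChange_of_mem _
      (show (1 : B) ∈ subGr 𝒢 h0 0 from SetLike.one_mem_graded 𝒢)

theorem mem_deg_constGr (U : T.Opens) (hU : IsAffineOpen U) (d : ℕ)
    (x : (constQC θ B).presheaf.obj (op U)) :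
    x ∈ (constGr θ 𝒢 h0).deg U hU d ↔ secIso θ B U hU x ∈
      (bcGr θ 𝒢 h0 U d : Submodule (RV θ U) ((RV θ U) ⊗[A] B)) := Iff.rfl

theorem symm_mem_deg (U : T.Opens) (hU : IsAffineOpen U) (d : ℕ) (q : (RV θ U) ⊗[A] B)
    (hq : q ∈ (bcGr θ 𝒢 h0 U d : Submodule (RV θ U) ((RV θ U) ⊗[A] B))) :
    (secIso θ B U hU).symm q ∈ (constGr θ 𝒢 h0).deg U hU d := by
  change secIso θ B U hU ((secIso θ B U hU).symm q) ∈
    (bcGr θ 𝒢 h0 U d : Submodule (RV θ U) ((RV θ U) ⊗[A] B))
  rw [RingEquiv.apply_symm_apply]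
  exact hq

theorem isGenDegOne_constGr
    (hgen : Subring.closure ((𝒢 0 : Set B) ∪ (𝒢 1 : Set B)) = ⊤) :
    (constGr θ 𝒢 h0).IsGenDegOne := by
  intro U hU
  have h := closure_baseChange_eq_top 𝒢 h0 (RV θ U) hgen
  rw [eq_top_iff]
  intro s _
  have hs : secIso θ B U hU s ∈ Subring.closure
      (((bcGr θ 𝒢 h0 U 0 : Submodule (RV θ U) ((RV θ U) ⊗[A] B)) : Set ((RV θ U) ⊗[A] B)) ∪
      ((bcGr θ 𝒢 h0 U 1 : Submodule (RV θ U) ((RV θ U) ⊗[A] B)) : Set ((RV θ U) ⊗[A] B))) := by
    rw [h]; trivial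
  have key : ∀ q ∈ Subring.closure
      (((bcGr θ 𝒢 h0 U 0 : Submodule (RV θ U) ((RV θ U) ⊗[A] B)) : Set ((RV θ U) ⊗[A] B)) ∪
      ((bcGr θ 𝒢 h0 U 1 : Submodule (RV θ U) ((RV θ U) ⊗[A] B)) : Set ((RV θ U) ⊗[A] B))),
      (secIso θ B U hU).symm q ∈ Subring.closure
        ((((constGr θ 𝒢 h0).deg U hU 0 : Set ((constGr θ 𝒢 h0).presheaf.obj (op U)))) ∪
          ((constGr θ 𝒢 h0).deg U hU 1 : Set _)) := by
    intro q hq
    induction hq using Subring.closure_induction with
    | mem y hy =>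
      apply Subring.subset_closure
      rcases hy with hy | hy
      · left; exact symm_mem_deg θ 𝒢 h0 U hU 0 y hy
      · right; exact symm_mem_deg θ 𝒢 h0 U hU 1 y hy
    | zero => rw [map_zero]; exact Subring.zero_mem _
    | one => rw [map_one]; exact Subring.one_mem _
    | add y z _ _ hy hz => rw [map_add]; exact Subring.add_mem _ hy hz
    | neg y _ hy => rw [map_neg]; exact Subring.neg_mem _ hy
    | mul y z _ _ hy hz => rw [map_mul]; exact Subring.mul_mem _ hy hz
  have := key _ hs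
  rwa [RingEquiv.symm_apply_apply] at this

theorem isFTDeg_one_constGr (Tt : Finset B) (hTt : (↑Tt : Set B) ⊆ (𝒢 1 : Set B))
    (hT : ∀ x ∈ 𝒢 1, ∃ c : B → A, x = ∑ t ∈ Tt, algebraMap A B (c t) * t) :
    (constGr θ 𝒢 h0).IsFTDeg 1 := by
  classical
  intro U hU
  let g : B → (constGr θ 𝒢 h0).presheaf.obj (op U) := fun t =>
    (secIso θ B U hU).symm ((1 : RV θ U) ⊗ₜ[A] t)
  refine ⟨Tt.image g, ?_, ?_⟩
  · intro t ht
    rw [Finset.coe_image] at ht
    obtain ⟨b, hb, rfl⟩ := ht
    exact symm_mem_deg θ 𝒢 h0 U hU 1 _ (Submodule.tmul_mem_baseChange_of_mem 1 (hTt hb))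
  · intro x hx
    obtain ⟨c, hc⟩ : ∃ c : B → Γ(T, U), secIso θ B U hU x = ∑ t ∈ Tt,
        (Algebra.TensorProduct.includeLeftRingHom : (RV θ U) →+* (RV θ U) ⊗[A] B) (c t) *
          ((1 : RV θ U) ⊗ₜ[A] t) :=
      exists_coeff_baseChange 𝒢 h0 (RV θ U) Tt hT (secIso θ B U hU x) hx
    have hterm : ∀ t, secIso θ B U hU (((constGr θ 𝒢 h0).str.app (op U)).hom (c t) * g t) =
        (Algebra.TensorProduct.includeLeftRingHom : (RV θ U) →+* (RV θ U) ⊗[A] B) (c t) *
          ((1 : RV θ U) ⊗ₜ[A] t) := by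
      intro t
      exact (map_mul (secIso θ B U hU) _ _).trans
        (congrArg₂ (· * ·) (secIso_str θ B U hU (c t)) (RingEquiv.apply_symm_apply _ _))
    have hsum : x = ∑ t ∈ Tt, ((constGr θ 𝒢 h0).str.app (op U)).hom (c t) * g t := by
      apply (secIso θ B U hU).injective
      rw [hc]
      exact ((map_sum (secIso θ B U hU) _ _).trans (Finset.sum_congr rfl fun t _ => hterm t)).symm
    -- regroup the sum along `g`
    refine ⟨fun y => ∑ t ∈ Tt.filter (fun t => g t = y), c t, ?_⟩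
    rw [hsum, Finset.sum_image' (s := Tt) (g := g)
      (f := fun y => ((constGr θ 𝒢 h0).str.app (op U)).hom
        (∑ t ∈ Tt.filter (fun t => g t = y), c t) * y)
      (h := fun t => ((constGr θ 𝒢 h0).str.app (op U)).hom (c t) * g t)]
    intro t ht
    rw [map_sum, Finset.sum_mul]
    refine Finset.sum_congr rfl fun t' ht' => ?_
    rw [(Finset.mem_filter.mp ht').2]

end Groth.Agent.Lib.Helper41.ConstGr
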