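import Mathlib
import Groth.Agent.Lib.Helper41.ConstGr
import Groth.Agent.Lib.Helper74.RelProjBaseChange
import Groth.Agent.Lib.Helper74.QMapBC

/-!
# Base change of a relative `Proj` along a morphism from an affine scheme landing in an affine open
(helper41)
-/

set_option autoImplicit false
universe u
open CategoryTheory CategoryTheory.Limits AlgebraicGeometry TopologicalSpace Opposite TensorProduct
open scoped HomogeneousIdeal

noncomputable section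

namespace Groth.Agent.Lib.Helper41.ConstGrBC

open RelSpec Groth.Agent.Lib.Helper74.OfAffine Groth.Agent.Lib.Helper74
  Groth.Agent.Lib.Helper41.ConstGrAlg Groth.Agent.Lib.Helper41.ConstGr
  Groth.Agent.Lib.Helper74.RelProjLib

variable {Y T : Scheme.{u}} [IsAffine T] (𝒮 : RelProj.QCGrAlg Y) (h : T ⟶ Y) (W : Y.Opens)
  (hW : IsAffineOpen W) (hle : (⊤ : T.Opens) ≤ h ⁻¹ᵁ W)

/-- the algebra structure of `𝒮(W)` over `O(W)` -/
abbrev algW : Algebra Γ(Y, W) (𝒮.presheaf.obj (op W)) := (𝒮.str.app (op W)).hom.toAlgebra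

/-- the map on functions -/
abbrev θW : Γ(Y, W) →+* Γ(T, ⊤) := (h.appLE W ⊤ hle).hom

/-- the pulled back graded algebra -/
def pb : RelProj.QCGrAlg T :=
  letI := algW 𝒮 W
  constGr (θW h W hle) (𝒮.deg W hW) (𝒮.str_mem W hW)

omit [IsAffine T] in
theorem isGenDegOne_pb (hgen : 𝒮.IsGenDegOne) : (pb 𝒮 h W hW hle).IsGenDegOne :=
  letI := algW 𝒮 W
  isGenDegOne_constGr (θW h W hle) (𝒮.deg W hW) (𝒮.str_mem W hW) (hgen W hW)

omit [IsAffine T] in
theorem isFTDeg_one_pb (hft : 𝒮.IsFTDeg 1) : (pb 𝒮 h W hW hle).IsFTDeg 1 := by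
  letI := algW 𝒮 W
  obtain ⟨Tt, hTt, hT⟩ := hft W hW
  exact isFTDeg_one_constGr (θW h W hle) (𝒮.deg W hW) (𝒮.str_mem W hW) Tt hTt hT

/-- the graded map `𝒮(W) → (pb 𝒮)(⊤)` -/
def φW : 𝒮.deg W hW →+*ᵍ (pb 𝒮 h W hW hle).deg ⊤ (isAffineOpen_top T) :=
  letI := algW 𝒮 W
  { ((secIso (θW h W hle) (𝒮.presheaf.obj (op W)) ⊤ (isAffineOpen_top T)).symm.toRingHom.comp
      (Algebra.TensorProduct.includeRight : (𝒮.presheaf.obj (op W)) →ₐ[Γ(Y, W)]
        (RV (θW h W hle) ⊤) ⊗[Γ(Y, W)] (𝒮.presheaf.obj (op W))).toRingHom) with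
    map_mem := fun {d x} hx =>
      symm_mem_deg (θW h W hle) (𝒮.deg W hW) (𝒮.str_mem W hW) ⊤ (isAffineOpen_top T) d _
        (Submodule.tmul_mem_baseChange_of_mem 1
          (show x ∈ subGr (𝒮.deg W hW) (𝒮.str_mem W hW) d from hx)) }

theorem isPushout_φW :
    IsPushout (h.appLE W ⊤ hle) (𝒮.str.app (op W)) ((pb 𝒮 h W hW hle).str.app (op ⊤))
      (CommRingCat.ofHom (φW 𝒮 h W hW hle).toRingHom) := by
  letI := algW 𝒮 W
  have H := isPushout_constP (θW h W hle) (𝒮.presheaf.obj (op W)) (op ⊤)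
  have e1 : ((Q (θW h W hle)).obj (op ⊤)).hom = h.appLE W ⊤ hle := by
    change CommRingCat.ofHom (θW h W hle) ≫ T.presheaf.map (homOfLE le_top).op = _
    rw [Subsingleton.elim (homOfLE (le_top : (⊤ : T.Opens) ≤ ⊤)).op (𝟙 (op ⊤)), T.presheaf.map_id]
    exact Category.comp_id _
  rw [e1] at H
  refine H.of_iso (Iso.refl _) (Iso.refl _) (Iso.refl _)
    (secIso (θW h W hle) (𝒮.presheaf.obj (op W)) ⊤ (isAffineOpen_top T)).symm.toCommRingCatIso
    ?_ ?_ ?_ ?_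
  · exact (Category.comp_id _).trans (Category.id_comp _).symm
  · exact (Category.comp_id _).trans (Category.id_comp _).symm
  · refine Eq.trans ?_ (Category.id_comp _).symm
    ext r
    change (secIso (θW h W hle) (𝒮.presheaf.obj (op W)) ⊤ (isAffineOpen_top T)).symm _ = _
    rw [RingEquiv.symm_apply_eq]
    exact (secIso_str (θW h W hle) (𝒮.presheaf.obj (op W)) ⊤ (isAffineOpen_top T) r).symm
  · refine Eq.trans ?_ (Category.id_comp _).symm
    rfl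

theorem irrelevant_le_map_φW :
    ((pb 𝒮 h W hW hle).deg ⊤ (isAffineOpen_top T))₊ ≤
      ((𝒮.deg W hW)₊).map (φW 𝒮 h W hW hle) :=
  Groth.Agent.Lib.Helper74.QMap.irrelevant_le_map_of_isPushout (𝒮.deg W hW)
    ((pb 𝒮 h W hW hle).deg ⊤ (isAffineOpen_top T)) (h.appLE W ⊤ hle).hom (𝒮.str.app (op W)).hom
    ((pb 𝒮 h W hW hle).str.app (op ⊤)).hom ((pb 𝒮 h W hW hle).str_mem ⊤ (isAffineOpen_top T))
    (φW 𝒮 h W hW hle) (isPushout_φW 𝒮 h W hW hle)

variable {P : Scheme.{u}} {p : P ⟶ Y}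
  {chart : ∀ (U : Y.Opens) (hU : IsAffineOpen U),
    (((p ⁻¹ᵁ U : P.Opens) : Scheme.{u}) ≅ Proj (𝒮.deg U hU))}

include hW hle in
/-- the relative `Proj` of the pulled back algebra is the base change -/
theorem exists_isPullback (hrel : RelProj.IsRelProj 𝒮 p chart) :
    ∃ g₀ : relProj (pb 𝒮 h W hW hle) ⟶ P,
      IsPullback g₀ (relProjHom (pb 𝒮 h W hW hle)) p h := by
  set 𝒮' := pb 𝒮 h W hW hle with h𝒮'
  have hrel' := isRelProj_relProj 𝒮'
  haveI : IsIso ((relProjHom 𝒮') ⁻¹ᵁ ⊤).ι := by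
    rw [Scheme.Hom.preimage_top]
    exact inferInstanceAs (IsIso (Scheme.topIso _).hom)
  let g₀ : relProj 𝒮' ⟶ P := inv ((relProjHom 𝒮') ⁻¹ᵁ ⊤).ι ≫
    (relProjChart 𝒮' ⊤ (isAffineOpen_top T)).hom ≫
      Proj.map (φW 𝒮 h W hW hle) (irrelevant_le_map_φW 𝒮 h W hW hle) ≫ RelProj.emb p chart W hW
  have hg : ((relProjHom 𝒮') ⁻¹ᵁ ⊤).ι ≫ g₀ = (relProjChart 𝒮' ⊤ (isAffineOpen_top T)).hom ≫
      Proj.map (φW 𝒮 h W hW hle) (irrelevant_le_map_φW 𝒮 h W hW hle) ≫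
        RelProj.emb p chart W hW := IsIso.hom_inv_id_assoc _ _
  refine ⟨g₀, isPullback_of_forall_restrict h g₀ (relProjHom 𝒮') p (fun _ : Unit => (⊤ : T.Opens))
    (iSup_const) fun _ => ?_⟩
  exact isPullback_restrict_of_chart h hrel hrel' g₀ hW (isAffineOpen_top T) hle
    (φW 𝒮 h W hW hle) (isPushout_φW 𝒮 h W hW hle) (irrelevant_le_map_φW 𝒮 h W hW hle) hg

end Groth.Agent.Lib.Helper41.ConstGrBC
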