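import Groth.Agent.Lib.Helper41.CurveN2
import Groth.Agent.Lib.Helper69.NormField2
import Mathlib.AlgebraicGeometry.Normalization
import Mathlib.AlgebraicGeometry.FunctionField
import Mathlib.AlgebraicGeometry.Stalk
import Mathlib.AlgebraicGeometry.Morphisms.Finite
import Mathlib.AlgebraicGeometry.Morphisms.FiniteType

/-!
# Normalization of an integral curve over a field in a finite extension of its function field
-/

set_option autoImplicit false
universe u
open CategoryTheory CategoryTheory.Limits AlgebraicGeometry TopologicalSpace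

namespace Groth.Agent.Lib.Helper41.CurveNorm

theorem comp_fromSpecStalk_app {X : Scheme.{u}} (x : X) {R : CommRingCat.{u}}
    (ψ : X.presheaf.stalk x ⟶ R) (U : X.Opens) (hx : x ∈ U) :
    (Spec.map ψ ≫ X.fromSpecStalk x).app U =
      X.presheaf.germ U x hx ≫ ψ ≫ (Scheme.ΓSpecIso R).inv ≫
        (Spec R).presheaf.map (homOfLE le_top).op := by
  rw [Scheme.Hom.comp_app, Scheme.fromSpecStalk_app hx]
  simp only [Category.assoc]
  rw [Scheme.ΓSpecIso_inv_naturality_assoc ψ]
  simp only [Scheme.Hom.appTop, Scheme.Hom.naturality]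
  rfl

section

variable {X : Scheme.{u}} [IsIntegral X] (K : Type u) [Field K] (φ : X.functionField →+* K)

/-- The morphism `Spec K ⟶ X` through the generic point. -/
noncomputable abbrev gmap : Spec (CommRingCat.of K) ⟶ X :=
  Spec.map (CommRingCat.ofHom φ) ≫ X.fromSpecStalk (genericPoint X)

theorem genericPoint_mem (U : X.Opens) [Nonempty U] : genericPoint X ∈ U :=
  ((genericPoint_spec X).mem_open_set_iff U.isOpen).mpr (by simpa using ‹Nonempty U›)

theorem gmap_apply (p : ↥(Spec (CommRingCat.of K))) : (gmap K φ).base p = genericPoint X := by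
  have h1 : (Spec.map (CommRingCat.ofHom φ)).base p =
      IsLocalRing.closedPoint (X.presheaf.stalk (genericPoint X)) :=
    Subsingleton.elim (α := PrimeSpectrum _) _ _
  rw [Scheme.Hom.comp_apply, h1, Scheme.fromSpecStalk_closedPoint]

theorem gmap_preimage (U : X.Opens) [Nonempty U] : gmap K φ ⁻¹ᵁ U = ⊤ := by
  rw [eq_top_iff]
  intro p _
  change (gmap K φ).base p ∈ U
  rw [gmap_apply]
  exact genericPoint_mem U

/-- The identification of `K` with the sections of `Spec K` over the preimage of a nonempty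
open. -/
noncomputable def chartIso (U : X.Opens) [Nonempty U] :
    CommRingCat.of K ≅ Γ(Spec (CommRingCat.of K), gmap K φ ⁻¹ᵁ U) :=
  (Scheme.ΓSpecIso (CommRingCat.of K)).symm ≪≫
    (Spec (CommRingCat.of K)).presheaf.mapIso (eqToIso (gmap_preimage K φ U)).op

theorem gmap_app (U : X.Opens) [Nonempty U] :
    (gmap K φ).app U =
      X.germToFunctionField U ≫ CommRingCat.ofHom φ ≫ (chartIso K φ U).hom := by
  exact (comp_fromSpecStalk_app (genericPoint X)
    (show X.presheaf.stalk (genericPoint X) ⟶ CommRingCat.of K from CommRingCat.ofHom φ)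
    U (genericPoint_mem U)).trans rfl

theorem gmap_app_apply (U : X.Opens) [Nonempty U] (a : Γ(X, U)) :
    ((gmap K φ).app U).hom a =
      (chartIso K φ U).commRingCatIsoToRingEquiv (φ (X.germToFunctionField U a)) := by
  rw [gmap_app]
  rfl

end

section fin

/-- The `k`-algebra structure on sections of a `k`-scheme. -/
@[instance_reducible]
noncomputable def kAlg {X : Scheme.{u}} (k : Type u) [Field k] [X.Over (Spec (CommRingCat.of k))]
    (U : X.Opens) : Algebra k Γ(X, U) :=
  ((Scheme.ΓSpecIso (CommRingCat.of k)).inv ≫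
    (X ↘ (Spec (CommRingCat.of k))).appLE ⊤ U le_top).hom.toAlgebra

theorem kAlg_finiteType {X : Scheme.{u}} (k : Type u) [Field k] [X.Over (Spec (CommRingCat.of k))]
    [LocallyOfFiniteType (X ↘ (Spec (CommRingCat.of k)))] (U : X.Opens) (hU : IsAffineOpen U) :
    @Algebra.FiniteType k Γ(X, U) _ _ (kAlg k U) := by
  have h1 : ((X ↘ (Spec (CommRingCat.of k))).appLE ⊤ U le_top).hom.FiniteType :=
    Scheme.Hom.finiteType_appLE (X ↘ (Spec (CommRingCat.of k))) (isAffineOpen_top _) hU le_top
  have h2 : ((Scheme.ΓSpecIso (CommRingCat.of k)).inv).hom.FiniteType :=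
    RingHom.FiniteType.of_surjective _
      (ConcreteCategory.bijective_of_isIso (Scheme.ΓSpecIso (CommRingCat.of k)).inv).surjective
  exact h1.comp h2

variable {X : Scheme.{u}} [IsIntegral X] (K : Type u) [Field K] (φ : X.functionField →+* K)

theorem finite_integralClosure_sections (k : Type u) [Field k] [X.Over (Spec (CommRingCat.of k))]
    [LocallyOfFiniteType (X ↘ (Spec (CommRingCat.of k)))]
    (hφ : φ.Finite) (U : X.Opens) (hU : IsAffineOpen U) :
    letI := ((gmap K φ).app U).hom.toAlgebra
    Module.Finite Γ(X, U)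
      (integralClosure Γ(X, U) Γ(Spec (CommRingCat.of K), gmap K φ ⁻¹ᵁ U)) := by
  letI := ((gmap K φ).app U).hom.toAlgebra
  by_cases hne : Nonempty U
  · letI := kAlg k U
    haveI := kAlg_finiteType k U hU
    haveI : IsFractionRing Γ(X, U) X.functionField :=
      functionField_isFractionRing_of_isAffineOpen X U hU
    exact CurveN2.finite_integralClosure_of_equiv k Γ(X, U) X.functionField K φ hφ
      Γ(Spec (CommRingCat.of K), gmap K φ ⁻¹ᵁ U)
      (chartIso K φ U).commRingCatIsoToRingEquiv (gmap_app_apply K φ U)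
  · have hU' : U = ⊥ := by
      ext x
      simp only [SetLike.mem_coe, Opens.coe_bot, Set.mem_empty_iff_false, iff_false]
      exact fun hx => hne ⟨⟨x, hx⟩⟩
    subst hU'
    haveI : Subsingleton (integralClosure Γ(X, (⊥ : X.Opens))
        Γ(Spec (CommRingCat.of K), gmap K φ ⁻¹ᵁ (⊥ : X.Opens))) :=
      Module.subsingleton Γ(X, (⊥ : X.Opens)) _
    exact Module.Finite.of_finite

theorem isFinite_fromNormalization (k : Type u) [Field k] [X.Over (Spec (CommRingCat.of k))]
    [LocallyOfFiniteType (X ↘ (Spec (CommRingCat.of k)))] (hφ : φ.Finite) [QuasiCompact (gmap K φ)]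
    [QuasiSeparated (gmap K φ)] : IsFinite (gmap K φ).fromNormalization := by
  refine { toIsAffineHom := inferInstance, finite_app := fun U hU => ?_ }
  letI := ((gmap K φ).app U).hom.toAlgebra
  rw [Scheme.Hom.fromNormalization_app _ hU]
  have h1 : (algebraMap Γ(X, U)
      (integralClosure Γ(X, U) Γ(Spec (CommRingCat.of K), gmap K φ ⁻¹ᵁ U))).Finite :=
    RingHom.finite_algebraMap.2 (finite_integralClosure_sections K φ k hφ U hU)
  have h2 : (((gmap K φ).normalizationObjIso hU).inv).hom.Finite :=
    RingHom.Finite.of_surjective _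
      (ConcreteCategory.bijective_of_isIso ((gmap K φ).normalizationObjIso hU).inv).surjective
  exact h2.comp h1

end fin

section dim

theorem height_eq_one_of_isIntegral {A B : Type*} [CommRing A] [IsDomain A] [CommRing B]
    [IsDomain B] [Algebra A B] [Algebra.IsIntegral A B]
    (hinj : Function.Injective (algebraMap A B))
    (𝔮 : Ideal B) [𝔮.IsPrime] (h : (𝔮.comap (algebraMap A B)).height = 1) : 𝔮.height = 1 := by
  haveI : (𝔮.comap (algebraMap A B)).FiniteHeight :=
    ⟨Or.inr (by rw [h]; exact ENat.one_ne_top)⟩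
  apply le_antisymm
  · rw [show (1 : ℕ∞) = ((1 : ℕ) : ℕ∞) from rfl, Ideal.height_le_iff]
    intro 𝔮' h𝔮' hlt
    haveI := h𝔮'
    obtain ⟨x, hx𝔮, hx𝔮'⟩ := SetLike.exists_of_lt hlt
    have hlt' : 𝔮'.comap (algebraMap A B) < 𝔮.comap (algebraMap A B) :=
      Ideal.comap_lt_comap_of_integral_mem_sdiff hlt.le ⟨hx𝔮, hx𝔮'⟩
        (Algebra.IsIntegral.isIntegral x)
    have h1 : (𝔮'.comap (algebraMap A B)).height < 1 := by
      rw [← h]; exact Ideal.height_strict_mono_of_isPrime_of_isPrime hlt'
    have h2 : 𝔮'.comap (algebraMap A B) = ⊥ := by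
      rw [← Ideal.height_eq_zero_iff_eq_bot]; exact Order.lt_one_iff.1 h1
    have h3 : 𝔮' = ⊥ := Ideal.eq_bot_of_comap_eq_bot h2
    rw [h3, Ideal.height_bot]; exact zero_lt_one
  · rw [Order.one_le_iff_pos, pos_iff_ne_zero, Ne, Ideal.height_eq_zero_iff_eq_bot]
    rintro rfl
    have : (⊥ : Ideal B).comap (algebraMap A B) = ⊥ := by
      rw [← RingHom.ker_eq_comap_bot]; exact (RingHom.injective_iff_ker_eq_bot _).1 hinj
    rw [this, Ideal.height_bot] at h
    exact zero_ne_one h

/-- Dimension one at closed points passes to the source of a dominant integral morphism of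
integral schemes. -/
theorem ringKrullDim_stalk_eq_one_of_isIntegralHom {X' X : Scheme.{u}} [IsIntegral X']
    [IsIntegral X] (f : X' ⟶ X) [IsIntegralHom f] [IsDominant f]
    (hX : ∀ x : X, IsClosed ({x} : Set X) → ringKrullDim (X.presheaf.stalk x) = 1)
    (x' : X') (hx' : IsClosed ({x'} : Set X')) : ringKrullDim (X'.presheaf.stalk x') = 1 := by
  have hx : IsClosed ({f x'} : Set X) := by
    have := f.isClosedMap _ hx'
    rwa [Set.image_singleton] at this
  obtain ⟨U, hU, hxU, -⟩ := exists_isAffineOpen_mem_and_subset (X := X) (x := f x') (U := ⊤) trivial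
  have hV : IsAffineOpen (f ⁻¹ᵁ U) := hU.preimage f
  have hx'V : x' ∈ f ⁻¹ᵁ U := hxU
  haveI : Nonempty U := ⟨⟨_, hxU⟩⟩
  haveI : Nonempty (f ⁻¹ᵁ U) := ⟨⟨_, hx'V⟩⟩
  letI : Algebra Γ(X, U) Γ(X', f ⁻¹ᵁ U) := (f.app U).hom.toAlgebra
  haveI : Algebra.IsIntegral Γ(X, U) Γ(X', f ⁻¹ᵁ U) :=
    algebraMap_isIntegral_iff.1 (IsIntegralHom.isIntegral_app f U hU)
  haveI : IsSchemeTheoreticallyDominant f := .of_isDominant f
  have hinj : Function.Injective (algebraMap Γ(X, U) Γ(X', f ⁻¹ᵁ U)) := f.app_injective U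
  have hcomap : (hV.primeIdealOf ⟨x', hx'V⟩).asIdeal.comap (algebraMap Γ(X, U) Γ(X', f ⁻¹ᵁ U)) =
      (hU.primeIdealOf ⟨f x', hxU⟩).asIdeal := by
    have := IsAffineOpen.comap_primeIdealOf_appLE (f := f) U hU (f ⁻¹ᵁ U) hV le_rfl hx'V
    have h0 : algebraMap Γ(X, U) Γ(X', f ⁻¹ᵁ U) = (f.appLE U (f ⁻¹ᵁ U) le_rfl).hom := by
      rw [RingHom.algebraMap_toAlgebra, Scheme.Hom.app_eq_appLE]
    rw [h0]
    exact congrArg PrimeSpectrum.asIdeal this
  have h1 := hX _ hx
  letI := X.presheaf.algebra_section_stalk ⟨f x', hxU⟩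
  haveI := hU.isLocalization_stalk ⟨f x', hxU⟩
  rw [IsLocalization.AtPrime.ringKrullDim_eq_height (hU.primeIdealOf ⟨f x', hxU⟩).asIdeal] at h1
  letI := X'.presheaf.algebra_section_stalk ⟨x', hx'V⟩
  haveI := hV.isLocalization_stalk ⟨x', hx'V⟩
  rw [IsLocalization.AtPrime.ringKrullDim_eq_height (hV.primeIdealOf ⟨x', hx'V⟩).asIdeal]
  have h2 : (hU.primeIdealOf ⟨f x', hxU⟩).asIdeal.height = 1 := by exact_mod_cast h1
  rw [← hcomap] at h2
  have := height_eq_one_of_isIntegral hinj _ h2
  exact_mod_cast this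

end dim

section main

instance isDominant_gmap {X : Scheme.{u}} [IsIntegral X] (K : Type u) [Field K]
    (φ : X.functionField →+* K) : IsDominant (gmap K φ) := by
  refine ⟨?_⟩
  have hr : Set.range (gmap K φ) = {genericPoint X} := by
    ext y
    constructor
    · rintro ⟨p, rfl⟩
      exact gmap_apply K φ p
    · rintro rfl
      exact ⟨IsLocalRing.closedPoint K, gmap_apply K φ _⟩
  rw [DenseRange, hr]
  exact dense_iff_closure_eq.2 (genericPoint_spec X)

/-- The normalization of an integral curve of finite type over a field in a finite extension of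
its function field is finite over the curve, normal, and of dimension one at closed points. -/
theorem normalization_curve (k : Type u) [Field k] (X : Scheme.{u})
    [X.Over (Spec (CommRingCat.of k))] [LocallyOfFiniteType (X ↘ (Spec (CommRingCat.of k)))]
    [IsIntegral X]
    (hX : ∀ x : X, IsClosed ({x} : Set X) → ringKrullDim (X.presheaf.stalk x) = 1)
    (K : Type u) [Field K] (φ : X.functionField →+* K) (hφ : φ.Finite)
    (g : Spec (CommRingCat.of K) ⟶ X)
    (hg : g = Spec.map (CommRingCat.ofHom φ) ≫ X.fromSpecStalk (genericPoint X))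
    [QuasiCompact g] [QuasiSeparated g] :
    IsFinite g.fromNormalization ∧ Pi1.IsNormalScheme g.normalization ∧
      ∀ x' : g.normalization, IsClosed ({x'} : Set g.normalization) →
        ringKrullDim (g.normalization.presheaf.stalk x') = 1 := by
  subst hg
  refine ⟨isFinite_fromNormalization K φ k hφ,
    Groth.Agent.Lib.Helper69.NormField.isNormalScheme_normalization φ, fun x' hx' => ?_⟩
  haveI : IsDominant ((gmap K φ).toNormalization ≫ (gmap K φ).fromNormalization) := by
    rw [Scheme.Hom.toNormalization_fromNormalization]; infer_instance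
  haveI : IsDominant (gmap K φ).fromNormalization :=
    IsDominant.of_comp (gmap K φ).toNormalization _
  exact ringKrullDim_stalk_eq_one_of_isIntegralHom (gmap K φ).fromNormalization hX x' hx'

end main

end Groth.Agent.Lib.Helper41.CurveNorm
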