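import Groth.Agent.Lib.Helper41.CurveField
import Groth.Agent.Lib.Helper41.CurveNorm

/-!
# The two affine charts of the complete normal curve with a given function field (algebra)
-/

set_option autoImplicit false
universe u

namespace Groth.Agent.Lib.Helper41.CurveAlg

variable {k K : Type u} [Field k] [Field K] [Algebra k K]

variable (k) in
/-- The integral closure of `k[S]` in `K`, as a `k`-subalgebra of `K`. -/
def ICS (S : Set K) : Subalgebra k K :=
  (integralClosure (Algebra.adjoin k S) K).restrictScalars k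

theorem mem_ICS {S : Set K} {x : K} : x ∈ ICS k S ↔ IsIntegral (Algebra.adjoin k S) x := Iff.rfl

theorem adjoin_le_ICS (S : Set K) : Algebra.adjoin k S ≤ ICS k S := fun x hx =>
  mem_ICS.2 (isIntegral_algebraMap (x := (⟨x, hx⟩ : Algebra.adjoin k S)))

theorem ICS_mono {S T : Set K} (h : S ⊆ T) : ICS k S ≤ ICS k T := by
  intro x hx
  rw [mem_ICS] at hx ⊢
  letI := (Subalgebra.inclusion
    (Algebra.adjoin_mono h : Algebra.adjoin k S ≤ Algebra.adjoin k T)).toRingHom.toAlgebra
  haveI : IsScalarTower (Algebra.adjoin k S) (Algebra.adjoin k T) K :=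
    IsScalarTower.of_algebraMap_eq fun _ => rfl
  exact hx.tower_top

/-- Criterion for a subalgebra of a field to be a localization of a smaller one away from an
element. -/
theorem isLocalization_away_of_le {A B : Subalgebra k K} (h : A ≤ B) (s : K) (hsA : s ∈ A)
    (hs0 : s ≠ 0) (hinv : s⁻¹ ∈ B) (hB : ∀ b ∈ B, ∃ n : ℕ, s ^ n * b ∈ A) :
    @IsLocalization.Away A _ ⟨s, hsA⟩ B _ (Subalgebra.inclusion h).toRingHom.toAlgebra := by
  letI := (Subalgebra.inclusion h).toRingHom.toAlgebra
  have hmap : ∀ a : A, ((algebraMap A B a : B) : K) = (a : K) := fun a => rfl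
  rw [IsLocalization.Away, isLocalization_iff]
  refine ⟨?_, ?_, ?_⟩
  · rintro ⟨_, n, rfl⟩
    refine IsUnit.of_mul_eq_one ((⟨s⁻¹, hinv⟩ : B) ^ n) ?_
    apply Subtype.ext
    simp only [Subalgebra.coe_mul, hmap, Subalgebra.coe_pow, Subalgebra.coe_one]
    rw [← mul_pow, mul_inv_cancel₀ hs0, one_pow]
  · intro b
    obtain ⟨n, hn⟩ := hB b.1 b.2
    refine ⟨(⟨s ^ n * b.1, hn⟩, ⟨(⟨s, hsA⟩ : A) ^ n, n, rfl⟩), ?_⟩
    apply Subtype.ext
    simp only [Subalgebra.coe_mul, hmap, Subalgebra.coe_pow]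
    ring
  · intro x y hxy
    refine ⟨1, ?_⟩
    have : (x : K) = (y : K) := by rw [← hmap x, ← hmap y, hxy]
    rw [Subtype.ext this]

theorem exists_pow_mul_mem_adjoin {s₁ s₂ : K} (h12 : s₁ * s₂ = 1) (b : K)
    (hb : b ∈ Algebra.adjoin k ({s₁, s₂} : Set K)) :
    ∃ n : ℕ, s₁ ^ n * b ∈ Algebra.adjoin k ({s₁} : Set K) := by
  have hs₁ : s₁ ∈ Algebra.adjoin k ({s₁} : Set K) := Algebra.subset_adjoin rfl
  induction hb using Algebra.adjoin_induction with
  | mem x hx =>
    rcases hx with rfl | rfl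
    · exact ⟨0, by simp⟩
    · exact ⟨1, by rw [pow_one, h12]; exact one_mem _⟩
  | algebraMap r => exact ⟨0, by simp⟩
  | add x y _ _ ihx ihy =>
    obtain ⟨n, hn⟩ := ihx
    obtain ⟨m, hm⟩ := ihy
    refine ⟨n + m, ?_⟩
    have : s₁ ^ (n + m) * (x + y) = s₁ ^ m * (s₁ ^ n * x) + s₁ ^ n * (s₁ ^ m * y) := by ring
    rw [this]
    exact add_mem (mul_mem (pow_mem hs₁ m) hn) (mul_mem (pow_mem hs₁ n) hm)
  | mul x y _ _ ihx ihy =>
    obtain ⟨n, hn⟩ := ihx
    obtain ⟨m, hm⟩ := ihy
    refine ⟨n + m, ?_⟩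
    have : s₁ ^ (n + m) * (x * y) = (s₁ ^ n * x) * (s₁ ^ m * y) := by ring
    rw [this]
    exact mul_mem hn hm

theorem exists_pow_mul_mem_ICS {s₁ s₂ : K} (h12 : s₁ * s₂ = 1) (b : K)
    (hb : b ∈ ICS k ({s₁, s₂} : Set K)) : ∃ n : ℕ, s₁ ^ n * b ∈ ICS k ({s₁} : Set K) := by
  have hs0 : s₁ ≠ 0 := left_ne_zero_of_mul_eq_one h12
  have hle : Algebra.adjoin k ({s₁} : Set K) ≤ Algebra.adjoin k ({s₁, s₂} : Set K) :=
    Algebra.adjoin_mono (by simp)
  letI := (Subalgebra.inclusion hle).toRingHom.toAlgebra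
  haveI : IsScalarTower (Algebra.adjoin k ({s₁} : Set K)) (Algebra.adjoin k ({s₁, s₂} : Set K)) K :=
    IsScalarTower.of_algebraMap_eq fun _ => rfl
  have hs₁ : s₁ ∈ Algebra.adjoin k ({s₁} : Set K) := Algebra.subset_adjoin rfl
  have hinv : s₁⁻¹ ∈ Algebra.adjoin k ({s₁, s₂} : Set K) := by
    rw [inv_eq_of_mul_eq_one_right h12]
    exact Algebra.subset_adjoin (by simp)
  haveI : IsLocalization.Away (⟨s₁, hs₁⟩ : Algebra.adjoin k ({s₁} : Set K))
      (Algebra.adjoin k ({s₁, s₂} : Set K)) :=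
    isLocalization_away_of_le hle s₁ hs₁ hs0 hinv (exists_pow_mul_mem_adjoin h12)
  obtain ⟨⟨_, n, rfl⟩, hm⟩ := IsIntegral.exists_multiple_integral_of_isLocalization
    (Submonoid.powers (⟨s₁, hs₁⟩ : Algebra.adjoin k ({s₁} : Set K))) b (mem_ICS.1 hb)
  refine ⟨n, ?_⟩
  rw [mem_ICS]
  have e : (⟨(fun x => (⟨s₁, hs₁⟩ : Algebra.adjoin k ({s₁} : Set K)) ^ x) n, n, rfl⟩ :
      Submonoid.powers (⟨s₁, hs₁⟩ : Algebra.adjoin k ({s₁} : Set K))) • b = s₁ ^ n * b := by
    rw [Submonoid.smul_def, Algebra.smul_def]; rfl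
  rw [e] at hm
  exact hm

theorem self_mem_ICS (s : K) : s ∈ ICS k ({s} : Set K) :=
  adjoin_le_ICS _ (Algebra.subset_adjoin rfl)

/-- `A₁₂` is the localization of `A₁` away from `s₁`. -/
theorem isLocalization_ICS_left {s₁ s₂ : K} (h12 : s₁ * s₂ = 1) :
    @IsLocalization.Away (ICS k ({s₁} : Set K)) _ ⟨s₁, self_mem_ICS s₁⟩
      (ICS k ({s₁, s₂} : Set K)) _
      (Subalgebra.inclusion (ICS_mono (by simp) : ICS k ({s₁} : Set K) ≤
        ICS k ({s₁, s₂} : Set K))).toRingHom.toAlgebra := by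
  apply isLocalization_away_of_le _ s₁ _ (left_ne_zero_of_mul_eq_one h12)
  · rw [inv_eq_of_mul_eq_one_right h12]
    exact adjoin_le_ICS _ (Algebra.subset_adjoin (by simp))
  · exact exists_pow_mul_mem_ICS h12

/-- `A₁₂` is the localization of `A₂` away from `s₂`. -/
theorem isLocalization_ICS_right {s₁ s₂ : K} (h12 : s₁ * s₂ = 1) :
    @IsLocalization.Away (ICS k ({s₂} : Set K)) _ ⟨s₂, self_mem_ICS s₂⟩
      (ICS k ({s₁, s₂} : Set K)) _
      (Subalgebra.inclusion (ICS_mono (by simp) : ICS k ({s₂} : Set K) ≤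
        ICS k ({s₁, s₂} : Set K))).toRingHom.toAlgebra := by
  have h21 : s₂ * s₁ = 1 := by rw [mul_comm]; exact h12
  apply isLocalization_away_of_le _ s₂ _ (left_ne_zero_of_mul_eq_one h21)
  · rw [inv_eq_of_mul_eq_one_right h21]
    exact adjoin_le_ICS _ (Algebra.subset_adjoin (by simp))
  · intro b hb
    rw [Set.pair_comm] at hb
    exact exists_pow_mul_mem_ICS h21 b hb

section chart

variable (hfg : (⊤ : IntermediateField k K).FG) (htr : Algebra.trdeg k K = 1) {s : K}
  (hs : Transcendental k s)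

include hfg htr hs

theorem finite_integralClosure_adjoin :
    Module.Finite (Algebra.adjoin k ({s} : Set K))
      (integralClosure (Algebra.adjoin k ({s} : Set K)) K) := by
  haveI : FaithfulSMul (Algebra.adjoin k ({s} : Set K)) K :=
    (faithfulSMul_iff_algebraMap_injective _ _).2 Subtype.val_injective
  letI := FractionRing.liftAlgebra (Algebra.adjoin k ({s} : Set K)) K
  haveI := FractionRing.isScalarTower_liftAlgebra (Algebra.adjoin k ({s} : Set K)) K
  haveI : Algebra.FiniteType k (Algebra.adjoin k ({s} : Set K)) :=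
    (Subalgebra.fg_iff_finiteType _).1 (by
      have := Subalgebra.fg_adjoin_finset (R := k) ({s} : Finset K)
      simpa using this)
  have hfd : FiniteDimensional (FractionRing (Algebra.adjoin k ({s} : Set K))) K :=
    CurveField.finiteDimensional_of_transcendental hfg htr hs _
  exact Groth.Agent.Lib.Helper38.FieldN2.isN2_of_finiteType k (Algebra.adjoin k ({s} : Set K)) K hfd

theorem finiteType_ICS : Algebra.FiniteType k (ICS k ({s} : Set K)) := by
  haveI := finite_integralClosure_adjoin hfg htr hs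
  haveI : Algebra.FiniteType k (Algebra.adjoin k ({s} : Set K)) :=
    (Subalgebra.fg_iff_finiteType _).1 (by
      have := Subalgebra.fg_adjoin_finset (R := k) ({s} : Finset K)
      simpa using this)
  have : Algebra.FiniteType k (integralClosure (Algebra.adjoin k ({s} : Set K)) K) :=
    Algebra.FiniteType.trans (S := Algebra.adjoin k ({s} : Set K)) inferInstance inferInstance
  exact this

omit hfg in
theorem isFractionRing_ICS : IsFractionRing (ICS k ({s} : Set K)) K := by
  haveI := CurveField.isAlgebraic_adjoin htr hs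
  have := integralClosure.isFractionRing_of_algebraic (A := Algebra.adjoin k ({s} : Set K)) (L := K)
    (fun x hx => Subtype.ext hx)
  exact this

omit hfg htr hs in
theorem isIntegrallyClosed_ICS (S : Set K) : IsIntegrallyClosed (ICS k S) := by
  haveI : IsIntegrallyClosedIn (ICS k S) K := by
    have : IsIntegrallyClosedIn (integralClosure (Algebra.adjoin k S) K) K := inferInstance
    exact this
  haveI : FaithfulSMul (ICS k S) K :=
    (faithfulSMul_iff_algebraMap_injective _ _).2 Subtype.val_injective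
  exact Groth.Agent.Lib.Helper69.NormField.isIntegrallyClosed_of_isIntegrallyClosedIn_field _ K

omit hfg htr in
theorem not_isField_adjoin : ¬ IsField (Algebra.adjoin k ({s} : Set K)) := by
  intro h
  have hinj : Function.Injective (Polynomial.aeval (R := k) s) :=
    transcendental_iff_injective.1 hs
  let e : Polynomial k ≃ₐ[k] Algebra.adjoin k ({s} : Set K) :=
    (AlgEquiv.ofInjective (Polynomial.aeval (R := k) s) hinj).trans
      (Subalgebra.equivOfEq _ _ (Algebra.adjoin_singleton_eq_range_aeval k s).symm)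
  exact Polynomial.not_isField k (MulEquiv.isField h e.toMulEquiv)

omit hfg htr in
theorem isPrincipalIdealRing_adjoin : IsPrincipalIdealRing (Algebra.adjoin k ({s} : Set K)) := by
  have hinj : Function.Injective (Polynomial.aeval (R := k) s) :=
    transcendental_iff_injective.1 hs
  let e : Polynomial k ≃ₐ[k] Algebra.adjoin k ({s} : Set K) :=
    (AlgEquiv.ofInjective (Polynomial.aeval (R := k) s) hinj).trans
      (Subalgebra.equivOfEq _ _ (Algebra.adjoin_singleton_eq_range_aeval k s).symm)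
  exact IsPrincipalIdealRing.of_surjective e.toRingEquiv.toRingHom e.surjective

omit hfg htr in
theorem height_eq_one_ICS (𝔪 : Ideal (ICS k ({s} : Set K))) [𝔪.IsMaximal] : 𝔪.height = 1 := by
  letI : Algebra (Algebra.adjoin k ({s} : Set K)) (ICS k ({s} : Set K)) :=
    (Subalgebra.inclusion (adjoin_le_ICS ({s} : Set K))).toRingHom.toAlgebra
  haveI : IsScalarTower (Algebra.adjoin k ({s} : Set K)) (ICS k ({s} : Set K)) K :=
    IsScalarTower.of_algebraMap_eq fun _ => rfl
  haveI : Algebra.IsIntegral (Algebra.adjoin k ({s} : Set K)) (ICS k ({s} : Set K)) := by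
    refine ⟨fun a => ?_⟩
    have ha : IsIntegral (Algebra.adjoin k ({s} : Set K)) (a : K) := mem_ICS.1 a.2
    exact (isIntegral_algebraMap_iff (B := K) Subtype.val_injective).1 ha
  have hinj : Function.Injective
      (algebraMap (Algebra.adjoin k ({s} : Set K)) (ICS k ({s} : Set K))) := by
    intro x y hxy
    exact Subtype.ext (congrArg (fun z : ICS k ({s} : Set K) => (z : K)) hxy)
  haveI := isPrincipalIdealRing_adjoin hs
  haveI : (𝔪.comap (algebraMap (Algebra.adjoin k ({s} : Set K)) (ICS k ({s} : Set K)))).IsMaximal :=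
    Ideal.isMaximal_comap_of_isIntegral_of_isMaximal 𝔪
  apply CurveNorm.height_eq_one_of_isIntegral hinj
  exact IsPrincipalIdealRing.height_eq_one_of_isMaximal _ (not_isField_adjoin hs)

end chart

/-- A ring map from the chart `A_s` to a field maps into a valuation subring as soon as the
images of `k` and of `s` do. -/
theorem map_mem_valuationSubring {s : K} {L : Type*} [Field L] (V : ValuationSubring L)
    (ρ : ICS k ({s} : Set K) →+* L)
    (hk : ∀ c : k, ρ (algebraMap k (ICS k ({s} : Set K)) c) ∈ V)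
    (hs : ρ ⟨s, self_mem_ICS s⟩ ∈ V) (a : ICS k ({s} : Set K)) : ρ a ∈ V := by
  letI : Algebra (Algebra.adjoin k ({s} : Set K)) (ICS k ({s} : Set K)) :=
    (Subalgebra.inclusion (adjoin_le_ICS ({s} : Set K))).toRingHom.toAlgebra
  haveI : IsScalarTower (Algebra.adjoin k ({s} : Set K)) (ICS k ({s} : Set K)) K :=
    IsScalarTower.of_algebraMap_eq fun _ => rfl
  have hR : ∀ (x : K) (hx : x ∈ Algebra.adjoin k ({s} : Set K)),
      ρ ⟨x, adjoin_le_ICS _ hx⟩ ∈ V := by
    intro x hx
    induction hx using Algebra.adjoin_induction with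
    | mem x hx =>
      have : x = s := hx
      subst this
      exact hs
    | algebraMap r => exact hk r
    | add x y hx hy ihx ihy =>
      have : (⟨x + y, adjoin_le_ICS _ (add_mem hx hy)⟩ : ICS k ({s} : Set K)) =
          ⟨x, adjoin_le_ICS _ hx⟩ + ⟨y, adjoin_le_ICS _ hy⟩ := rfl
      rw [this, map_add]
      exact V.add_mem _ _ ihx ihy
    | mul x y hx hy ihx ihy =>
      have : (⟨x * y, adjoin_le_ICS _ (mul_mem hx hy)⟩ : ICS k ({s} : Set K)) =
          ⟨x, adjoin_le_ICS _ hx⟩ * ⟨y, adjoin_le_ICS _ hy⟩ := rfl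
      rw [this, map_mul]
      exact V.mul_mem _ _ ihx ihy
  let φ : Algebra.adjoin k ({s} : Set K) →+* V :=
    (ρ.comp (algebraMap (Algebra.adjoin k ({s} : Set K)) (ICS k ({s} : Set K)))).codRestrict
      V.toSubring (fun x => hR x.1 x.2)
  have ha : IsIntegral (Algebra.adjoin k ({s} : Set K)) a := by
    have ha' : IsIntegral (Algebra.adjoin k ({s} : Set K)) (a : K) := mem_ICS.1 a.2
    exact (isIntegral_algebraMap_iff (B := K) Subtype.val_injective).1 ha'
  have hint : IsIntegral V (ρ a) :=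
    IsIntegral.map_of_comp_eq φ ρ (by ext x; rfl) ha
  obtain ⟨y, hy⟩ := IsIntegrallyClosed.isIntegral_iff.1 hint
  rw [← hy]
  exact y.2

end Groth.Agent.Lib.Helper41.CurveAlg
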