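import Groth.Agent.Lib.Helper50.DvrSpec
import Mathlib.RingTheory.Polynomial.Basic
import Mathlib.RingTheory.Localization.AtPrime.Basic

/-!
# Approximating a valuation ring by a discrete valuation ring on finitely many elements

`exists_dvr_approx`: let `C` be a Noetherian ring mapping to a field `K` which is finitely
generated (as a field) over the image, `V` a valuation subring of `K` containing the image of `C`,
and `β j` finitely many elements of the maximal ideal of `V`, not all zero.  Then there is a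
discrete valuation subring `A` of `K` containing the image of `C`, with all `β j` in its maximal
ideal, and with the same centre on `C` as `V`.
-/

set_option autoImplicit false
universe u

namespace Groth.Agent.Lib.Helper41.DvrApprox

open IsLocalRing

theorem exists_dvr_approx {K : Type u} [Field K] {C : Type u} [CommRing C] [IsNoetherianRing C]
    (ρ : C →+* K) (V : ValuationSubring K) (hρ : ∀ c, ρ c ∈ V)
    {J : Type u} [Finite J] (β : J → K) (hβ : ∀ j, V.valuation (β j) < 1) (hne : ∃ j, β j ≠ 0)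
    (hfg : ∃ F : Finset K, Subfield.closure (Set.range ρ ∪ ↑F) = ⊤) :
    ∃ A : ValuationSubring K, IsDiscreteValuationRing A ∧ (∀ c, ρ c ∈ A) ∧
      (∀ j, A.valuation (β j) < 1) ∧
      ∀ c, (A.valuation (ρ c) < 1 ↔ V.valuation (ρ c) < 1) := by
  classical
  let P := MvPolynomial J C
  let φ : P →+* K := MvPolynomial.eval₂Hom ρ β
  have hφC : ∀ c, φ (MvPolynomial.C c) = ρ c := fun c => MvPolynomial.eval₂Hom_C ρ β c
  have hφX : ∀ j, φ (MvPolynomial.X j) = β j := fun j => MvPolynomial.eval₂Hom_X' ρ β j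
  have hφV : ∀ p : P, φ p ∈ V := by
    intro p
    induction p using MvPolynomial.induction_on with
    | C a => rw [hφC]; exact hρ a
    | add p q hp hq => rw [map_add]; exact V.add_mem _ _ hp hq
    | mul_X p j hp =>
      rw [map_mul, hφX]
      exact V.mul_mem _ _ hp ((V.valuation_le_one_iff _).mp (hβ j).le)
  let φV : P →+* V := φ.codRestrict V.toSubring hφV
  let 𝔮 : Ideal P := (maximalIdeal V).comap φV
  haveI : 𝔮.IsPrime := Ideal.comap_isPrime φV _
  have hmem𝔮 : ∀ p : P, p ∈ 𝔮 ↔ V.valuation (φ p) < 1 := by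
    intro p
    change φV p ∈ maximalIdeal V ↔ _
    rw [ValuationSubring.valuation_lt_one_iff]
    rfl
  let B := Localization.AtPrime 𝔮
  have hunit : ∀ s : 𝔮.primeCompl, IsUnit (φ s) := by
    intro s
    have h1 : ¬ V.valuation (φ s) < 1 := fun h => s.2 ((hmem𝔮 _).mpr h)
    have h2 : φ s ≠ 0 := by
      intro h0
      rw [h0, map_zero] at h1
      exact h1 zero_lt_one
    exact isUnit_iff_ne_zero.mpr h2
  let φB : B →+* K := IsLocalization.lift (M := 𝔮.primeCompl) (g := φ) hunit
  have hφB : ∀ p : P, φB (algebraMap P B p) = φ p := fun p => IsLocalization.lift_eq _ _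
  obtain ⟨j₀, hj₀⟩ := hne
  have hXmem : ∀ j, (MvPolynomial.X j : P) ∈ 𝔮 := by
    intro j
    rw [hmem𝔮, hφX]
    exact hβ j
  have hker : RingHom.ker φB ≠ maximalIdeal B := by
    intro h
    have h1 : algebraMap P B (MvPolynomial.X j₀) ∈ maximalIdeal B :=
      (IsLocalization.AtPrime.to_map_mem_maximal_iff B 𝔮 _).mpr (hXmem j₀)
    rw [← h, RingHom.mem_ker, hφB, hφX] at h1
    exact hj₀ h1
  have hfg' : ∃ F : Finset K, Subfield.closure (Set.range φB ∪ ↑F) = ⊤ := by
    obtain ⟨F, hF⟩ := hfg
    refine ⟨F, top_unique ?_⟩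
    rw [← hF]
    apply Subfield.closure_mono
    apply Set.union_subset_union_left
    rintro _ ⟨c, rfl⟩
    exact ⟨algebraMap P B (MvPolynomial.C c), by rw [hφB, hφC]⟩
  obtain ⟨R, hR, ψ, hψ, hcomp⟩ := Groth.Agent.Lib.Helper50.exists_dvr_factor φB hker hfg'
  have hψφ : ∀ p : P, ((ψ (algebraMap P B p) : R) : K) = φ p := by
    intro p
    rw [← hφB]
    exact congr($hcomp (algebraMap P B p))
  have hkey : ∀ p : P, φ p ∈ R ∧ (R.valuation (φ p) < 1 ↔ p ∈ 𝔮) := by
    intro p
    refine ⟨by rw [← hψφ]; exact (ψ _).2, ?_⟩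
    rw [← hψφ, ← ValuationSubring.valuation_lt_one_iff,
      ← IsLocalization.AtPrime.to_map_mem_maximal_iff B 𝔮 p]
    constructor
    · intro h1
      by_contra h2
      have h3 : IsUnit (algebraMap P B p) := by
        by_contra h4
        exact h2 h4
      exact h1 (h3.map ψ)
    · intro h1 h2
      exact h1 (hψ.map_nonunit _ h2)
  refine ⟨R, hR, fun c => ?_, fun j => ?_, fun c => ?_⟩
  · rw [← hφC]; exact (hkey _).1
  · rw [← hφX, (hkey _).2]; exact hXmem j
  · rw [← hφC, (hkey _).2, hmem𝔮]

end Groth.Agent.Lib.Helper41.DvrApprox
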