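import Groth.Agent.Lib.Helper41.CompVal
import Groth.Agent.Lib.Helper41.DvrApprox
import Mathlib.AlgebraicGeometry.ValuativeCriterion
import Mathlib.AlgebraicGeometry.Morphisms.FiniteType
import Mathlib.AlgebraicGeometry.Noetherian
import Mathlib.AlgebraicGeometry.ResidueField

/-!
# Centres of valuation rings of residue fields

For a point `ξ` of a scheme `X` and a valuation subring `V` of the residue field `κ(ξ)`, a centre
of `V` on `X` is a morphism `Spec V ⟶ X` restricting to the canonical morphism on `Spec κ(ξ)`.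
-/

set_option autoImplicit false
universe u

open CategoryTheory CategoryTheory.Limits AlgebraicGeometry IsLocalRing

namespace Groth.Agent.Lib.Helper41.ValCenter

variable {X S : Scheme.{u}}

/-- `V` has a centre on `X` lying in the open subset `X₀`. -/
def HasCenterIn (X₀ : X.Opens) (ξ : X) (V : ValuationSubring (X.residueField ξ)) : Prop :=
  ∃ l : Spec (CommRingCat.of V) ⟶ X,
    Spec.map (CommRingCat.ofHom V.subtype) ≫ l = X.fromSpecResidueField ξ ∧
      l.base (closedPoint V) ∈ X₀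

theorem SpecMap_evaluation_fromSpec {U : X.Opens} (hU : IsAffineOpen U) (ξ : X) (hξ : ξ ∈ U) :
    Spec.map (X.evaluation U ξ hξ) ≫ hU.fromSpec = X.fromSpecResidueField ξ := by
  rw [← Scheme.germ_residue, Spec.map_comp, Category.assoc, Scheme.fromSpecResidueField]
  congr 1
  exact hU.fromSpecStalk_eq_fromSpecStalk hξ

theorem hasCenterIn_of_evaluation_mem {X₀ U : X.Opens} (hU : IsAffineOpen U) {ξ : X} (hξ : ξ ∈ U)
    (hUX₀ : U ≤ X₀) {V : ValuationSubring (X.residueField ξ)}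
    (h : ∀ a : Γ(X, U), X.evaluation U ξ hξ a ∈ V) : HasCenterIn X₀ ξ V := by
  let ψ : Γ(X, U) ⟶ CommRingCat.of V :=
    CommRingCat.ofHom ((X.evaluation U ξ hξ).hom.codRestrict V.toSubring h)
  refine ⟨Spec.map ψ ≫ hU.fromSpec, ?_, ?_⟩
  · rw [← Category.assoc, ← Spec.map_comp, ← SpecMap_evaluation_fromSpec hU ξ hξ]
    rfl
  · apply hUX₀
    have : (Spec.map ψ ≫ hU.fromSpec).base (closedPoint V) ∈ Set.range hU.fromSpec.base :=
      ⟨_, rfl⟩
    rwa [hU.range_fromSpec] at this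

theorem HasCenterIn.exists_stalk {X₀ : X.Opens} {ξ : X} {V : ValuationSubring (X.residueField ξ)}
    (h : HasCenterIn X₀ ξ V) :
    ∃ (x : X) (hx : ξ ⤳ x), x ∈ X₀ ∧
      (∀ a, (X.presheaf.stalkSpecializes hx ≫ X.residue ξ) a ∈ V) ∧
      (∀ a ∈ maximalIdeal (X.presheaf.stalk x),
        V.valuation ((X.presheaf.stalkSpecializes hx ≫ X.residue ξ) a) < 1) := by
  obtain ⟨l, hl, hlX₀⟩ := h
  set x := l.base (closedPoint V) with hxdef
  have hξl : ξ = l.base ((Spec.map (CommRingCat.ofHom V.subtype)).base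
      (closedPoint (X.residueField ξ))) := by
    have := congrArg (fun q => q.base (closedPoint (X.residueField ξ))) hl
    exact (this.trans (Scheme.fromSpecResidueField_apply ξ _)).symm
  have hx : ξ ⤳ x := by
    rw [hξl]
    exact (IsLocalRing.specializes_closedPoint _).map l.continuous
  let σ : X.presheaf.stalk x ⟶ CommRingCat.of V := Scheme.stalkClosedPointTo l
  have hσ : Spec.map σ ≫ X.fromSpecStalk x = l := Scheme.Spec_stalkClosedPointTo_fromSpecStalk l
  have hring : σ ≫ CommRingCat.ofHom V.subtype = X.presheaf.stalkSpecializes hx ≫ X.residue ξ := by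
    apply Spec.map_injective
    apply (cancel_mono (X.fromSpecStalk x)).1
    rw [Spec.map_comp, Category.assoc, hσ, hl, Spec.map_comp, Category.assoc,
      Scheme.SpecMap_stalkSpecializes_fromSpecStalk, Scheme.fromSpecResidueField]
  refine ⟨x, hx, hlX₀, fun a => ?_, fun a ha => ?_⟩
  · rw [← hring]
    exact (σ.hom a).2
  · rw [← hring]
    have hloc : IsLocalHom σ.hom := inferInstanceAs (IsLocalHom (Scheme.stalkClosedPointTo l).hom)
    have h1 : σ.hom a ∈ maximalIdeal V := by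
      rw [mem_maximalIdeal, mem_nonunits_iff] at ha ⊢
      exact fun hu => ha (hloc.map_nonunit a hu)
    exact (V.valuation_lt_one_iff _).mp h1

theorem hasCenterIn_of_stalk {X₀ : X.Opens} {ξ x : X} (hx : ξ ⤳ x) (hxX₀ : x ∈ X₀)
    {V : ValuationSubring (X.residueField ξ)}
    (hmem : ∀ a, (X.presheaf.stalkSpecializes hx ≫ X.residue ξ) a ∈ V)
    (hlt : ∀ a ∈ maximalIdeal (X.presheaf.stalk x),
        V.valuation ((X.presheaf.stalkSpecializes hx ≫ X.residue ξ) a) < 1) :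
    HasCenterIn X₀ ξ V := by
  let φ : X.presheaf.stalk x →+* V :=
    (X.presheaf.stalkSpecializes hx ≫ X.residue ξ).hom.codRestrict V.toSubring hmem
  have hloc : IsLocalHom φ := ⟨fun a ha => by
    by_contra hna
    have hv := hlt a hna
    have h1 : V.valuation ((φ a : V) : X.residueField ξ) = 1 := (V.valuation_eq_one_iff (φ a)).1 ha
    exact (ne_of_lt hv) h1⟩
  let φc : X.presheaf.stalk x ⟶ CommRingCat.of V := CommRingCat.ofHom φ
  refine ⟨Spec.map φc ≫ X.fromSpecStalk x, ?_, ?_⟩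
  · rw [← Category.assoc, ← Spec.map_comp]
    have : φc ≫ CommRingCat.ofHom V.subtype = X.presheaf.stalkSpecializes hx ≫ X.residue ξ := rfl
    rw [this, Spec.map_comp, Category.assoc, Scheme.SpecMap_stalkSpecializes_fromSpecStalk,
      Scheme.fromSpecResidueField]
  · rw [Scheme.Hom.comp_apply]
    have h1 : Spec.map φc (closedPoint V) = closedPoint (X.presheaf.stalk x) :=
      IsLocalRing.comap_closedPoint φ
    rw [h1, Scheme.fromSpecStalk_closedPoint]
    exact hxX₀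

theorem HasCenterIn.mono {X₀ : X.Opens} {ξ : X} {V V' : ValuationSubring (X.residueField ξ)}
    (h : HasCenterIn X₀ ξ V) (hVV' : V ≤ V') : HasCenterIn X₀ ξ V' := by
  obtain ⟨l, hl, hlX₀⟩ := h
  let ι : V →+* V' := Subring.inclusion hVV'
  refine ⟨Spec.map (CommRingCat.ofHom ι) ≫ l, ?_, ?_⟩
  · rw [← Category.assoc, ← Spec.map_comp, ← hl]
    rfl
  · rw [Scheme.Hom.comp_apply]
    have h1 : (Spec.map (CommRingCat.ofHom ι)).base (closedPoint V') ⤳ closedPoint V :=
      IsLocalRing.specializes_closedPoint _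
    exact (h1.map l.continuous).mem_open X₀.2 hlX₀


/-! ### The base ring -/

/-- Evaluation of functions on an open `S₀` of `S` at a point `ξ` of `X` lying above `S₀`. -/
noncomputable def baseEval (f : X ⟶ S) (S₀ : S.Opens) (ξ : X) (hξ : ξ ∈ f ⁻¹ᵁ S₀) :
    Γ(S, S₀) ⟶ X.residueField ξ :=
  f.app S₀ ≫ X.evaluation (f ⁻¹ᵁ S₀) ξ hξ

theorem baseEval_eq_appLE (f : X ⟶ S) (S₀ : S.Opens) (ξ : X) (hξ : ξ ∈ f ⁻¹ᵁ S₀) {U : X.Opens}
    (hξU : ξ ∈ U) (e : U ≤ f ⁻¹ᵁ S₀) :
    baseEval f S₀ ξ hξ = f.appLE S₀ U e ≫ X.evaluation U ξ hξU := by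
  rw [baseEval, Scheme.Hom.appLE, Category.assoc]
  congr 1
  rw [Scheme.evaluation, Scheme.evaluation, ← Category.assoc, TopCat.Presheaf.germ_res]

theorem SpecMap_baseEval_fromSpec (f : X ⟶ S) {S₀ : S.Opens} (hS₀ : IsAffineOpen S₀) (ξ : X)
    (hξ : ξ ∈ f ⁻¹ᵁ S₀) :
    Spec.map (baseEval f S₀ ξ hξ) ≫ hS₀.fromSpec = X.fromSpecResidueField ξ ≫ f := by
  obtain ⟨U, hU, hξU, hUS₀⟩ := exists_isAffineOpen_mem_and_subset hξ
  rw [baseEval_eq_appLE f S₀ ξ hξ hξU hUS₀, Spec.map_comp, Category.assoc,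
    IsAffineOpen.SpecMap_appLE_fromSpec f hS₀ hU hUS₀, ← Category.assoc,
    SpecMap_evaluation_fromSpec hU ξ hξU]

/-- Two morphisms from the spectrum of a local ring `R` to `S`, both sending the closed point into
an affine open `S₀`, and agreeing after restriction along an injective `R → K`, are equal. -/
theorem eq_of_comp_eq_of_isAffineOpen {S₀ : S.Opens} (hS₀ : IsAffineOpen S₀) {R K : Type u}
    [CommRing R] [IsLocalRing R] [CommRing K] (ι : R →+* K) (hι : Function.Injective ι)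
    (a b : Spec (CommRingCat.of R) ⟶ S) (ha : a.base (closedPoint R) ∈ S₀)
    (hb : b.base (closedPoint R) ∈ S₀)
    (h : Spec.map (CommRingCat.ofHom ι) ≫ a = Spec.map (CommRingCat.ofHom ι) ≫ b) : a = b := by
  have hrange : ∀ c : Spec (CommRingCat.of R) ⟶ S, c.base (closedPoint R) ∈ S₀ →
      Set.range c.base ⊆ Set.range hS₀.fromSpec.base := by
    rintro c hc _ ⟨p, rfl⟩
    rw [hS₀.range_fromSpec]
    exact ((IsLocalRing.specializes_closedPoint p).map c.continuous).mem_open S₀.2 hc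
  let a' := IsOpenImmersion.lift hS₀.fromSpec a (hrange a ha)
  let b' := IsOpenImmersion.lift hS₀.fromSpec b (hrange b hb)
  have ha' : a' ≫ hS₀.fromSpec = a := IsOpenImmersion.lift_fac _ _ _
  have hb' : b' ≫ hS₀.fromSpec = b := IsOpenImmersion.lift_fac _ _ _
  have h1 : Spec.map (CommRingCat.ofHom ι) ≫ a' = Spec.map (CommRingCat.ofHom ι) ≫ b' := by
    apply (cancel_mono hS₀.fromSpec).1
    rw [Category.assoc, Category.assoc, ha', hb', h]
  rw [← Spec.map_preimage a', ← Spec.map_preimage b', ← Spec.map_comp, ← Spec.map_comp] at h1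
  have h2 := Spec.map_injective h1
  have h3 : Spec.preimage a' = Spec.preimage b' := by
    ext r
    apply hι
    exact congr($h2 r)
  rw [← ha', ← hb', ← Spec.map_preimage a', ← Spec.map_preimage b', h3]

theorem exists_finset_closure_eq_top (f : X ⟶ S) [LocallyOfFiniteType f] {S₀ : S.Opens}
    (hS₀ : IsAffineOpen S₀) (ξ : X) (hξ : ξ ∈ f ⁻¹ᵁ S₀) :
    ∃ F : Finset (X.residueField ξ),
      Subfield.closure (Set.range (baseEval f S₀ ξ hξ).hom ∪ ↑F) = ⊤ := by
  classical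
  obtain ⟨U, hU, hξU, e⟩ := exists_isAffineOpen_mem_and_subset hξ
  have hft := f.finiteType_appLE hS₀ hU e
  let _ := (f.appLE S₀ U e).hom.toAlgebra
  obtain ⟨F', hF'⟩ : (⊤ : Subalgebra Γ(S, S₀) Γ(X, U)).FG := hft.out
  refine ⟨F'.image (X.evaluation U ξ hξU), ?_⟩
  set E := Subfield.closure (Set.range (baseEval f S₀ ξ hξ).hom ∪
    ↑(F'.image (X.evaluation U ξ hξU))) with hE
  have hev : ∀ a : Γ(X, U), X.evaluation U ξ hξU a ∈ E := by
    intro a
    have ha : a ∈ Algebra.adjoin Γ(S, S₀) (F' : Set Γ(X, U)) := by rw [hF']; trivial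
    induction ha using Algebra.adjoin_induction with
    | mem a ha =>
      apply Subfield.subset_closure
      right
      rw [Finset.coe_image]
      exact ⟨a, ha, rfl⟩
    | algebraMap r =>
      apply Subfield.subset_closure
      left
      refine ⟨r, ?_⟩
      rw [baseEval_eq_appLE f S₀ ξ hξ hξU e]
      rfl
    | add a b _ _ iha ihb => rw [map_add]; exact add_mem iha ihb
    | mul a b _ _ iha ihb => rw [map_mul]; exact mul_mem iha ihb
  apply top_unique
  intro k _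
  obtain ⟨a, b, -, rfl⟩ := Groth.Agent.Lib.Helper50.exists_evaluation_div hU ξ hξU k
  exact div_mem (hev a) (hev b)


/-! ### Lemma G: from discrete valuation rings to all valuation rings at a point -/

/-- If every discrete valuation ring of `κ(ξ)` containing the image of `Γ(S, S₀)` and with the same
centre on `S₀` as `V` has a centre on `X` above `S₀`, then so has `V`. -/
theorem hasCenterIn_of_forall_dvr [IsLocallyNoetherian S] (f : X ⟶ S) [LocallyOfFiniteType f]
    [QuasiCompact f] {S₀ : S.Opens} (hS₀ : IsAffineOpen S₀) (ξ : X) (hξ : ξ ∈ f ⁻¹ᵁ S₀)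
    (V : ValuationSubring (X.residueField ξ)) (hV : ∀ c, baseEval f S₀ ξ hξ c ∈ V)
    (H : ∀ A : ValuationSubring (X.residueField ξ), IsDiscreteValuationRing A →
      (∀ c, baseEval f S₀ ξ hξ c ∈ A) →
      (∀ c, A.valuation (baseEval f S₀ ξ hξ c) < 1 ↔ V.valuation (baseEval f S₀ ξ hξ c) < 1) →
      HasCenterIn (f ⁻¹ᵁ S₀) ξ A) :
    HasCenterIn (f ⁻¹ᵁ S₀) ξ V := by
  classical
  by_contra hno
  have hcpt : IsCompact ((f ⁻¹ᵁ S₀ : X.Opens) : Set X) :=
    QuasiCompact.isCompact_preimage (f := f) _ S₀.2 hS₀.isCompact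
  obtain ⟨s, hs, hsU⟩ := isCompact_and_isOpen_iff_finite_and_eq_biUnion_affineOpens.mp
    ⟨hcpt, (f ⁻¹ᵁ S₀).2⟩
  have hle : ∀ U ∈ s, (U : X.Opens) ≤ f ⁻¹ᵁ S₀ := by
    intro U hU x hx
    change x ∈ ((f ⁻¹ᵁ S₀ : X.Opens) : Set X)
    rw [hsU]
    exact Set.mem_biUnion hU hx
  let J : Type u := {U : X.affineOpens // U ∈ s ∧ ξ ∈ (U : X.Opens)}
  haveI : Finite ↥s := hs.to_subtype
  haveI : Finite J := Finite.of_injective (fun j : J => (⟨j.1, j.2.1⟩ : ↥s))
    (fun a b hab => Subtype.ext (congrArg (fun t : ↥s => t.1) hab))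
  have hex : ∀ j : J, ∃ b : Γ(X, j.1), X.evaluation j.1 ξ j.2.2 b ∉ V := by
    intro j
    by_contra hcon
    push Not at hcon
    exact hno (hasCenterIn_of_evaluation_mem j.1.2 j.2.2 (hle j.1 j.2.1) hcon)
  choose b hb using hex
  let β : J → X.residueField ξ := fun j => (X.evaluation j.1 ξ j.2.2 (b j))⁻¹
  have hb0 : ∀ j, X.evaluation j.1 ξ j.2.2 (b j) ≠ 0 := fun j h0 => hb j (h0 ▸ V.zero_mem)
  have hβ : ∀ j, V.valuation (β j) < 1 := by
    intro j
    have h1 : ¬ V.valuation (X.evaluation j.1 ξ j.2.2 (b j)) ≤ 1 := fun h =>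
      hb j ((V.valuation_le_one_iff _).mp h)
    rw [not_le] at h1
    change V.valuation ((X.evaluation j.1 ξ j.2.2 (b j))⁻¹) < 1
    rw [map_inv₀]
    exact inv_lt_one_of_one_lt₀ h1
  have hJ : ∃ j : J, β j ≠ 0 := by
    have hξmem : ξ ∈ ((f ⁻¹ᵁ S₀ : X.Opens) : Set X) := hξ
    rw [hsU] at hξmem
    obtain ⟨U, hU, hξU⟩ := Set.mem_iUnion₂.mp hξmem
    exact ⟨⟨U, hU, hξU⟩, inv_ne_zero (hb0 _)⟩
  haveI : IsNoetherianRing Γ(S, S₀) := IsLocallyNoetherian.component_noetherian ⟨S₀, hS₀⟩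
  obtain ⟨A, hA, hAmem, hAβ, hAc⟩ := DvrApprox.exists_dvr_approx (baseEval f S₀ ξ hξ).hom V hV β hβ hJ
    (exists_finset_closure_eq_top f hS₀ ξ hξ)
  obtain ⟨x, hx, hxX₀, hxmem, -⟩ := (H A hA hAmem hAc).exists_stalk
  have hxmem' : x ∈ ((f ⁻¹ᵁ S₀ : X.Opens) : Set X) := hxX₀
  rw [hsU] at hxmem'
  obtain ⟨U, hU, hxU⟩ := Set.mem_iUnion₂.mp hxmem'
  have hξU : ξ ∈ (U : X.Opens) := hx.mem_open (U : X.Opens).2 hxU
  let j : J := ⟨U, hU, hξU⟩
  have h1 : X.evaluation j.1 ξ j.2.2 (b j) ∈ A := by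
    have h2 : X.evaluation j.1 ξ j.2.2 =
        X.presheaf.germ j.1 x hxU ≫ X.presheaf.stalkSpecializes hx ≫ X.residue ξ := by
      rw [← Category.assoc, TopCat.Presheaf.germ_stalkSpecializes]
      rfl
    rw [h2]
    exact hxmem _
  have h3 : A.valuation (X.evaluation j.1 ξ j.2.2 (b j)) ≤ 1 := (A.valuation_le_one_iff _).mpr h1
  have h4 : A.valuation (β j) < 1 := hAβ j
  have h5 : A.valuation (X.evaluation j.1 ξ j.2.2 (b j) * β j) = 1 := by
    rw [mul_inv_cancel₀ (hb0 j), map_one]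
  rw [map_mul] at h5
  have h6 : A.valuation (X.evaluation j.1 ξ j.2.2 (b j)) * A.valuation (β j) < 1 := by
    calc _ ≤ 1 * A.valuation (β j) := mul_le_mul_left h3 _
      _ = A.valuation (β j) := one_mul _
      _ < 1 := h4
  exact (ne_of_lt h6) h5


/-! ### Lemma T: from a point to its specializations -/

/-- Domination of valuation rings along a field extension: if `W → W'` is a local homomorphism
over `ι : k → k₁`, then `W` is the preimage of `W'` and the maximal ideals correspond. -/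
theorem mem_of_map_mem {k k₁ : Type*} [Field k] [Field k₁] (ι : k →+* k₁)
    (W : ValuationSubring k) (W' : ValuationSubring k₁)
    (hmem : ∀ w : W, (ι.comp W.subtype) w ∈ W'.toSubring)
    (hloc : IsLocalHom ((ι.comp W.subtype).codRestrict W'.toSubring hmem)) (a : k) :
    (ι a ∈ W' → a ∈ W) ∧ (W'.valuation (ι a) < 1 → W.valuation a < 1) := by
  have h1 : ι a ∈ W' → a ∈ W := by
    intro ha
    by_contra hna
    have hinv : a⁻¹ ∈ W := (W.mem_or_inv_mem a).resolve_left hna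
    have ha0 : a ≠ 0 := fun h0 => hna (h0 ▸ W.zero_mem)
    let w : W := ⟨a⁻¹, hinv⟩
    have hwnu : ¬ IsUnit w := by
      intro hu
      have hv : W.valuation a⁻¹ = 1 := (W.valuation_eq_one_iff w).mp hu
      rw [map_inv₀, inv_eq_one] at hv
      exact hna ((W.valuation_le_one_iff a).mp hv.le)
    have hw'nu : ¬ IsUnit ((ι.comp W.subtype).codRestrict W'.toSubring hmem w) :=
      fun hu => hwnu (hloc.map_nonunit w hu)
    apply hw'nu
    rw [W'.valuation_eq_one_iff]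
    change W'.valuation (ι a⁻¹) = 1
    have h2 : W'.valuation (ι a) ≤ 1 := (W'.valuation_le_one_iff _).mpr ha
    have h3 : W'.valuation (ι a⁻¹) ≤ 1 := (W'.valuation_le_one_iff _).mpr (hmem w)
    have h4 : W'.valuation (ι a) * W'.valuation (ι a⁻¹) = 1 := by
      rw [← map_mul, ← map_mul, mul_inv_cancel₀ ha0, map_one, map_one]
    by_contra h5
    have h6 : W'.valuation (ι a⁻¹) < 1 := lt_of_le_of_ne h3 h5
    have h7 : W'.valuation (ι a) * W'.valuation (ι a⁻¹) < 1 := by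
      calc _ ≤ 1 * W'.valuation (ι a⁻¹) := mul_le_mul_left h2 _
        _ = W'.valuation (ι a⁻¹) := one_mul _
        _ < 1 := h6
    exact (ne_of_lt h7) h4
  refine ⟨h1, fun hlt => ?_⟩
  have haW : a ∈ W := h1 ((W'.valuation_le_one_iff _).mp hlt.le)
  by_contra hge
  have h2 : W.valuation a = 1 :=
    le_antisymm ((W.valuation_le_one_iff a).mpr haW) (not_lt.mp hge)
  have hu : IsUnit (⟨a, haW⟩ : W) := (W.valuation_eq_one_iff ⟨a, haW⟩).mpr h2
  have hu' := hu.map ((ι.comp W.subtype).codRestrict W'.toSubring hmem)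
  rw [W'.valuation_eq_one_iff] at hu'
  exact (ne_of_lt hlt) hu'


theorem baseEval_eq_germ_comp (f : X ⟶ S) (S₀ : S.Opens) {ξ x₁ : X} (hsp : ξ ⤳ x₁)
    (hx₁ : x₁ ∈ f ⁻¹ᵁ S₀) :
    baseEval f S₀ ξ (hsp.mem_open (f ⁻¹ᵁ S₀).2 hx₁) =
      (f.app S₀ ≫ X.presheaf.germ (f ⁻¹ᵁ S₀) x₁ hx₁) ≫
        X.presheaf.stalkSpecializes hsp ≫ X.residue ξ := by
  rw [baseEval, Category.assoc, ← Category.assoc (X.presheaf.germ _ _ _),
    TopCat.Presheaf.germ_stalkSpecializes]
  rfl

/-- Spectrum of a ring map out of a stalk, followed by `fromSpecStalk`, lands in generizations. -/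
theorem SpecMap_fromSpecStalk_specializes {x : X} {R : CommRingCat.{u}}
    (ψ : X.presheaf.stalk x ⟶ R) (p : Spec R) :
    (Spec.map ψ ≫ X.fromSpecStalk x).base p ⤳ x := by
  have : (Spec.map ψ ≫ X.fromSpecStalk x).base p ∈ Set.range (X.fromSpecStalk x).base :=
    ⟨(Spec.map ψ).base p, rfl⟩
  rwa [Scheme.range_fromSpecStalk] at this

theorem hasCenterIn_of_specializes (f : X ⟶ S) [IsSeparated f] {S₀ : S.Opens}
    (hS₀ : IsAffineOpen S₀) {ξ x₁ : X} (hsp : ξ ⤳ x₁) (hx₁ : x₁ ∈ f ⁻¹ᵁ S₀)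
    (Hξ : ∀ V : ValuationSubring (X.residueField ξ),
      (∀ c, baseEval f S₀ ξ (hsp.mem_open (f ⁻¹ᵁ S₀).2 hx₁) c ∈ V) →
        HasCenterIn (f ⁻¹ᵁ S₀) ξ V)
    (W : ValuationSubring (X.residueField x₁)) (hW : ∀ c, baseEval f S₀ x₁ hx₁ c ∈ W) :
    HasCenterIn (f ⁻¹ᵁ S₀) x₁ W := by
  have hξ : ξ ∈ f ⁻¹ᵁ S₀ := hsp.mem_open (f ⁻¹ᵁ S₀).2 hx₁
  let θ : X.presheaf.stalk x₁ ⟶ X.residueField ξ := X.presheaf.stalkSpecializes hsp ≫ X.residue ξ
  obtain ⟨V₁, hθV₁, hθloc⟩ := IsLocalRing.exists_factor_valuationRing θ.hom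
  let θ' : X.presheaf.stalk x₁ →+* V₁ := θ.hom.codRestrict V₁.toSubring hθV₁
  haveI : IsLocalHom θ' := hθloc
  let ι : X.residueField x₁ →+* ResidueField V₁ := IsLocalRing.ResidueField.map θ'
  have hιres : ∀ t : X.presheaf.stalk x₁, ι ((X.residue x₁).hom t) = residue V₁ (θ' t) :=
    fun t => IsLocalRing.ResidueField.map_residue θ' t
  obtain ⟨W', hW'mem, hW'loc⟩ := IsLocalRing.exists_factor_valuationRing (ι.comp W.subtype)
  let V := CompVal.comp V₁ W'
  let g₁ : Γ(S, S₀) ⟶ X.presheaf.stalk x₁ := f.app S₀ ≫ X.presheaf.germ (f ⁻¹ᵁ S₀) x₁ hx₁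
  have hV : ∀ c, baseEval f S₀ ξ hξ c ∈ V := by
    intro c
    have h1 : baseEval f S₀ ξ hξ c = ((θ' (g₁.hom c) : V₁) : X.residueField ξ) := by
      rw [baseEval_eq_germ_comp f S₀ hsp hx₁]
      rfl
    rw [h1, CompVal.mem_comp_iff]
    refine ⟨(θ' (g₁.hom c)).2, ?_⟩
    have h2 : residue V₁ ⟨((θ' (g₁.hom c) : V₁) : X.residueField ξ), (θ' (g₁.hom c)).2⟩ =
        ι ((X.residue x₁).hom (g₁.hom c)) := (hιres _).symm
    rw [h2]
    exact hW'mem ⟨baseEval f S₀ x₁ hx₁ c, hW c⟩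
  obtain ⟨x, hx, hxX₀, hxmem, hxlt⟩ := (Hξ V hV).exists_stalk
  let θx : X.presheaf.stalk x ⟶ X.residueField ξ := X.presheaf.stalkSpecializes hx ≫ X.residue ξ
  have hxmemV₁ : ∀ a, θx.hom a ∈ V₁ := fun a => CompVal.comp_le V₁ W' (hxmem a)
  let θx' : X.presheaf.stalk x →+* V₁ := θx.hom.codRestrict V₁.toSubring hxmemV₁
  -- the two morphisms `Spec V₁ ⟶ X`
  let l₁ : Spec (CommRingCat.of V₁) ⟶ X := Spec.map (CommRingCat.ofHom θx') ≫ X.fromSpecStalk x
  let l₁' : Spec (CommRingCat.of V₁) ⟶ X := Spec.map (CommRingCat.ofHom θ') ≫ X.fromSpecStalk x₁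
  have hl₁ : Spec.map (CommRingCat.ofHom V₁.subtype) ≫ l₁ = X.fromSpecResidueField ξ := by
    change _ ≫ Spec.map _ ≫ _ = _
    rw [← Category.assoc, ← Spec.map_comp]
    have : CommRingCat.ofHom θx' ≫ CommRingCat.ofHom V₁.subtype = θx := rfl
    rw [this, Spec.map_comp, Category.assoc, Scheme.SpecMap_stalkSpecializes_fromSpecStalk,
      Scheme.fromSpecResidueField]
  have hl₁' : Spec.map (CommRingCat.ofHom V₁.subtype) ≫ l₁' = X.fromSpecResidueField ξ := by
    change _ ≫ Spec.map _ ≫ _ = _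
    rw [← Category.assoc, ← Spec.map_comp]
    have : CommRingCat.ofHom θ' ≫ CommRingCat.ofHom V₁.subtype = θ := rfl
    rw [this, Spec.map_comp, Category.assoc, Scheme.SpecMap_stalkSpecializes_fromSpecStalk,
      Scheme.fromSpecResidueField]
  have hf : l₁ ≫ f = l₁' ≫ f := by
    refine eq_of_comp_eq_of_isAffineOpen hS₀ V₁.subtype Subtype.val_injective _ _ ?_ ?_ ?_
    · exact (SpecMap_fromSpecStalk_specializes _ _).mem_open (f ⁻¹ᵁ S₀).2 hxX₀
    · exact (SpecMap_fromSpecStalk_specializes _ _).mem_open (f ⁻¹ᵁ S₀).2 hx₁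
    · have e1 := congrArg (· ≫ f) hl₁
      have e2 := congrArg (· ≫ f) hl₁'
      simp only [Category.assoc] at e1 e2
      exact e1.trans e2.symm
  have hU := IsSeparated.valuativeCriterion f
  have hc : CommSq (X.fromSpecResidueField ξ)
      (Spec.map (CommRingCat.ofHom (algebraMap V₁ (X.residueField ξ)))) f (l₁ ≫ f) :=
    ⟨by rw [← hl₁, Category.assoc]; rfl⟩
  have hsub := hU { R := V₁, K := X.residueField ξ, commSq := hc, .. }
  have hll : l₁ = l₁' :=
    congrArg CommSq.LiftStruct.l (hsub.elim ⟨l₁, hl₁, rfl⟩ ⟨l₁', hl₁', hf.symm⟩)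
  -- `x₁ ⤳ x`
  have hcl : l₁'.base (closedPoint V₁) = x₁ := by
    change (Spec.map (CommRingCat.ofHom θ') ≫ X.fromSpecStalk x₁).base (closedPoint V₁) = x₁
    rw [Scheme.Hom.comp_apply]
    have h1 : Spec.map (CommRingCat.ofHom θ') (closedPoint V₁) =
        closedPoint (X.presheaf.stalk x₁) := IsLocalRing.comap_closedPoint θ'
    rw [h1, Scheme.fromSpecStalk_closedPoint]
  have h₁ : x₁ ⤳ x := by
    rw [← hcl, ← hll]
    exact SpecMap_fromSpecStalk_specializes _ _
  -- the ring identity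
  have hring : CommRingCat.ofHom θx' =
      X.presheaf.stalkSpecializes h₁ ≫ CommRingCat.ofHom θ' := by
    apply Spec.map_injective
    apply (cancel_mono (X.fromSpecStalk x)).1
    rw [Spec.map_comp, Category.assoc, Scheme.SpecMap_stalkSpecializes_fromSpecStalk]
    exact hll
  have hval : ∀ a : X.presheaf.stalk x, θx' a = θ' ((X.presheaf.stalkSpecializes h₁).hom a) :=
    fun a => congr($hring a)
  have hkey : ∀ a : X.presheaf.stalk x,
      residue V₁ (θx' a) = ι ((X.presheaf.stalkSpecializes h₁ ≫ X.residue x₁) a) := by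
    intro a
    rw [hval]
    exact (hιres _).symm
  have hdom := mem_of_map_mem ι W W' hW'mem hW'loc
  refine hasCenterIn_of_stalk h₁ hxX₀ (fun a => ?_) (fun a ha => ?_)
  · apply (hdom _).1
    rw [← hkey]
    obtain ⟨h, hr⟩ := (CompVal.mem_comp_iff V₁ W').mp (hxmem a)
    exact hr
  · apply (hdom _).2
    rw [← hkey]
    exact CompVal.valuation_residue_lt_one V₁ W' (hxlt a ha) (hxmemV₁ a)


/-! ### The valuative criterion from discrete valuation rings at generic points -/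

/-- The lifting property for discrete valuation rings of the residue field at `ξ`. -/
def DvrLiftAt (f : X ⟶ S) (ξ : X) : Prop :=
  ∀ A : ValuationSubring (X.residueField ξ), IsDiscreteValuationRing A →
    ∀ y : Spec (CommRingCat.of A) ⟶ S,
      Spec.map (CommRingCat.ofHom A.subtype) ≫ y = X.fromSpecResidueField ξ ≫ f →
      ∃ l : Spec (CommRingCat.of A) ⟶ X, l ≫ f = y ∧
        Spec.map (CommRingCat.ofHom A.subtype) ≫ l = X.fromSpecResidueField ξ

/-- The structure morphism `Spec A ⟶ S` of a valuation subring containing the image of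
`Γ(S, S₀)`. -/
theorem exists_structure_morphism (f : X ⟶ S) {S₀ : S.Opens} (hS₀ : IsAffineOpen S₀) (ξ : X)
    (hξ : ξ ∈ f ⁻¹ᵁ S₀) (A : ValuationSubring (X.residueField ξ))
    (hA : ∀ c, baseEval f S₀ ξ hξ c ∈ A) :
    ∃ y : Spec (CommRingCat.of A) ⟶ S,
      Spec.map (CommRingCat.ofHom A.subtype) ≫ y = X.fromSpecResidueField ξ ≫ f ∧
      ∀ p, y.base p ∈ S₀ := by
  let ρ : Γ(S, S₀) ⟶ CommRingCat.of A :=
    CommRingCat.ofHom ((baseEval f S₀ ξ hξ).hom.codRestrict A.toSubring hA)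
  refine ⟨Spec.map ρ ≫ hS₀.fromSpec, ?_, fun p => ?_⟩
  · rw [← Category.assoc, ← Spec.map_comp, ← SpecMap_baseEval_fromSpec f hS₀ ξ hξ]
    rfl
  · have : (Spec.map ρ ≫ hS₀.fromSpec).base p ∈ Set.range hS₀.fromSpec.base := ⟨_, rfl⟩
    rwa [hS₀.range_fromSpec] at this

theorem DvrLiftAt.hasCenterIn [IsLocallyNoetherian S] {f : X ⟶ S} [LocallyOfFiniteType f]
    [QuasiCompact f] {ξ : X} (H : DvrLiftAt f ξ) {S₀ : S.Opens} (hS₀ : IsAffineOpen S₀)
    (hξ : ξ ∈ f ⁻¹ᵁ S₀) (V : ValuationSubring (X.residueField ξ))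
    (hV : ∀ c, baseEval f S₀ ξ hξ c ∈ V) : HasCenterIn (f ⁻¹ᵁ S₀) ξ V := by
  refine hasCenterIn_of_forall_dvr f hS₀ ξ hξ V hV (fun A hA hAmem _ => ?_)
  obtain ⟨y, hy, hyS₀⟩ := exists_structure_morphism f hS₀ ξ hξ A hAmem
  obtain ⟨l, hl₁, hl₂⟩ := H A hA y hy
  refine ⟨l, hl₂, ?_⟩
  change (l ≫ f).base (closedPoint A) ∈ S₀
  rw [hl₁]
  exact hyS₀ _

theorem valuativeCriterion_existence_of_dvrLiftAt [IsLocallyNoetherian S] (f : X ⟶ S)
    [IsSeparated f] [LocallyOfFiniteType f] [QuasiCompact f]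
    (H : ∀ x₁ : X, ∃ ξ : X, ξ ⤳ x₁ ∧ DvrLiftAt f ξ) : ValuativeCriterion.Existence f := by
  intro Sq
  let R := Sq.R
  let K := Sq.K
  obtain ⟨S₀, hS₀, hs₀, -⟩ := exists_isAffineOpen_mem_and_subset
    (show Sq.i₂.base (closedPoint R) ∈ (⊤ : S.Opens) from trivial)
  set x₁ : X := Sq.i₁.base (closedPoint K) with hx₁def
  let φ : X.residueField x₁ ⟶ CommRingCat.of K :=
    Scheme.descResidueField (Scheme.stalkClosedPointTo Sq.i₁)
  have hφ : Spec.map φ ≫ X.fromSpecResidueField x₁ = Sq.i₁ :=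
    Scheme.descResidueField_stalkClosedPointTo_fromSpecResidueField K X Sq.i₁
  have hw := Sq.commSq.w
  -- `x₁` lies over `S₀`
  have hx₁ : x₁ ∈ f ⁻¹ᵁ S₀ := by
    change (Sq.i₁ ≫ f).base (closedPoint K) ∈ S₀
    rw [hw, Scheme.Hom.comp_apply]
    exact ((IsLocalRing.specializes_closedPoint _).map Sq.i₂.continuous).mem_open S₀.2 hs₀
  -- the ring map `Γ(S, S₀) ⟶ R`
  have hrange : Set.range Sq.i₂.base ⊆ Set.range hS₀.fromSpec.base := by
    rintro _ ⟨p, rfl⟩
    rw [hS₀.range_fromSpec]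
    exact ((IsLocalRing.specializes_closedPoint p).map Sq.i₂.continuous).mem_open S₀.2 hs₀
  let i₂' := IsOpenImmersion.lift hS₀.fromSpec Sq.i₂ hrange
  have hi₂' : i₂' ≫ hS₀.fromSpec = Sq.i₂ := IsOpenImmersion.lift_fac _ _ _
  let τ : Γ(S, S₀) ⟶ CommRingCat.of R := Spec.preimage i₂'
  have hτ : Spec.map τ ≫ hS₀.fromSpec = Sq.i₂ := by rw [Spec.map_preimage, hi₂']
  have hτφ : baseEval f S₀ x₁ hx₁ ≫ φ = τ ≫ CommRingCat.ofHom (algebraMap R K) := by
    apply Spec.map_injective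
    apply (cancel_mono hS₀.fromSpec).1
    rw [Spec.map_comp, Category.assoc, SpecMap_baseEval_fromSpec f hS₀ x₁ hx₁, ← Category.assoc,
      hφ, hw, Spec.map_comp, Category.assoc, hτ]
  -- the valuation subring of `κ(x₁)`
  let RK : ValuationSubring K := (ValuationRing.valuation R K).valuationSubring
  have hRK : ∀ z : K, z ∈ RK ↔ ∃ r : R, algebraMap R K r = z := fun z =>
    ValuationRing.mem_integer_iff R K z
  let W : ValuationSubring (X.residueField x₁) := RK.comap φ.hom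
  have hW : ∀ c, baseEval f S₀ x₁ hx₁ c ∈ W := by
    intro c
    change φ.hom (baseEval f S₀ x₁ hx₁ c) ∈ RK
    rw [hRK]
    exact ⟨τ.hom c, (congr($hτφ c)).symm⟩
  -- the centre of `W`
  obtain ⟨ξ, hsp, Hξ⟩ := H x₁
  have hcen : HasCenterIn (f ⁻¹ᵁ S₀) x₁ W :=
    hasCenterIn_of_specializes f hS₀ hsp hx₁ (fun V hV => Hξ.hasCenterIn hS₀ _ V hV) W hW
  obtain ⟨lW, hlW, hlWcl⟩ := hcen
  -- the ring map `W → R`
  have hWint : ∀ w : W, (φ.hom.comp W.subtype) w ∈ (ValuationRing.valuation R K).integer :=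
    fun w => w.2
  let ω : W →+* R := (ValuationRing.equivInteger R K).symm.toRingHom.comp
    ((φ.hom.comp W.subtype).codRestrict (ValuationRing.valuation R K).integer hWint)
  have hω : ∀ w : W, algebraMap R K (ω w) = φ.hom (w : X.residueField x₁) := by
    intro w
    have h1 : ValuationRing.equivInteger R K (ω w) =
        ((φ.hom.comp W.subtype).codRestrict (ValuationRing.valuation R K).integer hWint) w :=
      (ValuationRing.equivInteger R K).apply_symm_apply _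
    exact congrArg Subtype.val h1
  have hωc : CommRingCat.ofHom ω ≫ CommRingCat.ofHom (algebraMap R K) =
      CommRingCat.ofHom W.subtype ≫ φ := by
    ext w
    exact hω w
  let l : Spec (CommRingCat.of R) ⟶ X := Spec.map (CommRingCat.ofHom ω) ≫ lW
  have hfac₁ : Spec.map (CommRingCat.ofHom (algebraMap R K)) ≫ l = Sq.i₁ := by
    change _ ≫ Spec.map _ ≫ lW = _
    rw [← Category.assoc, ← Spec.map_comp, hωc, Spec.map_comp, Category.assoc, hlW, hφ]
  have hfac₂ : l ≫ f = Sq.i₂ := by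
    refine eq_of_comp_eq_of_isAffineOpen hS₀ (algebraMap R K) (IsFractionRing.injective R K)
      _ _ ?_ hs₀ ?_
    · change (Spec.map (CommRingCat.ofHom ω) ≫ lW).base (closedPoint R) ∈ f ⁻¹ᵁ S₀
      rw [Scheme.Hom.comp_apply]
      exact ((IsLocalRing.specializes_closedPoint _).map lW.continuous).mem_open
        (f ⁻¹ᵁ S₀).2 hlWcl
    · have e1 := congrArg (· ≫ f) hfac₁
      simp only [Category.assoc] at e1
      rw [e1, hw]
  exact ⟨⟨{ l := l, fac_left := hfac₁, fac_right := hfac₂ }⟩⟩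

theorem isProper_of_dvrLiftAt [IsLocallyNoetherian S] (f : X ⟶ S)
    [IsSeparated f] [LocallyOfFiniteType f] [QuasiCompact f]
    (H : ∀ x₁ : X, ∃ ξ : X, ξ ⤳ x₁ ∧ DvrLiftAt f ξ) : IsProper f := by
  haveI : UniversallyClosed f :=
    UniversallyClosed.of_valuativeCriterion f (valuativeCriterion_existence_of_dvrLiftAt f H)
  exact {}

end Groth.Agent.Lib.Helper41.ValCenter
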