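import Groth.Agent.Lib.Helper41.Glue2
import Groth.Agent.Lib.Helper41.ValCenter
import Groth.Prelude.Def_Pi1
import Groth.Prelude.Def_CurvBase
import Mathlib

/-!
# Gluing two affine normal curves along a common localization into a complete curve
-/

set_option autoImplicit false
set_option linter.style.haveILetI false
universe u
open CategoryTheory CategoryTheory.Limits AlgebraicGeometry TopologicalSpace

namespace Groth.Agent.Lib.Helper41.CurveGlue

section general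

/-- Stalks of a scheme at points in the image of an open immersion from the spectrum of an
integrally closed domain are integrally closed domains. -/
theorem normal_of_isOpenImmersion_Spec {X : Scheme.{u}} {R : CommRingCat.{u}} [IsDomain R]
    [IsIntegrallyClosed R] (j : Spec R ⟶ X) [IsOpenImmersion j] (p : Spec R) :
    IsDomain (X.presheaf.stalk (j p)) ∧ IsIntegrallyClosed (X.presheaf.stalk (j p)) := by
  let e : X.presheaf.stalk (j p) ≃+* (Spec R).presheaf.stalk p :=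
    (asIso (j.stalkMap p)).commRingCatIsoToRingEquiv
  letI : Algebra ↑R ↑((Spec R).presheaf.stalk p) := StructureSheaf.stalkAlgebra (↑R) p
  haveI : IsLocalization.AtPrime (↑((Spec R).presheaf.stalk p)) p.asIdeal :=
    StructureSheaf.IsLocalization.to_stalk R p
  haveI : IsDomain ↑((Spec R).presheaf.stalk p) :=
    IsLocalization.isDomain_of_le_nonZeroDivisors (R := R) (M := p.asIdeal.primeCompl) _
      (Ideal.primeCompl_le_nonZeroDivisors _)
  haveI : IsIntegrallyClosed ↑((Spec R).presheaf.stalk p) :=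
    isIntegrallyClosed_of_isLocalization _ p.asIdeal.primeCompl
      (Ideal.primeCompl_le_nonZeroDivisors _)
  exact ⟨e.toMulEquiv.isDomain_iff.mpr inferInstance, IsIntegrallyClosed.of_equiv e.symm⟩

/-- The dimension of the stalk at the image of a closed point under an open immersion from an
affine scheme all of whose maximal ideals have height one. -/
theorem ringKrullDim_stalk_of_isOpenImmersion_Spec {X : Scheme.{u}} {R : CommRingCat.{u}}
    (hR : ∀ 𝔪 : Ideal R, 𝔪.IsMaximal → 𝔪.height = 1)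
    (j : Spec R ⟶ X) [IsOpenImmersion j] (p : Spec R) (hp : IsClosed ({j p} : Set X)) :
    ringKrullDim (X.presheaf.stalk (j p)) = 1 := by
  have hp' : IsClosed ({p} : Set (Spec R)) := by
    have : ({p} : Set (Spec R)) = j ⁻¹' {j p} := by
      ext q
      simp only [Set.mem_singleton_iff, Set.mem_preimage]
      exact ⟨fun h => by rw [h], fun h => j.isOpenEmbedding.injective h⟩
    rw [this]
    exact hp.preimage j.continuous
  have hmax : p.asIdeal.IsMaximal := (PrimeSpectrum.isClosed_singleton_iff_isMaximal p).1 hp'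
  rw [ringKrullDim_stalk_eq_coheight, coheight_eq_of_isOpenImmersion, ← idealHeight_eq_coheight,
    hR _ hmax]
  rfl

/-- The canonical point `Spec κ(j p) ⟶ X` factors through an open immersion `j : Spec R ⟶ X`. -/
theorem exists_SpecMap_comp_eq_fromSpecResidueField {X : Scheme.{u}} {R : CommRingCat.{u}}
    (j : Spec R ⟶ X) [IsOpenImmersion j] (p : Spec R) :
    ∃ ρ : R ⟶ X.residueField (j p), Spec.map ρ ≫ j = X.fromSpecResidueField (j p) := by
  refine ⟨CommRingCat.ofHom (algebraMap R p.asIdeal.ResidueField) ≫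
    (Scheme.Spec.residueFieldIso R p).inv ≫ inv (j.residueFieldMap p), ?_⟩
  rw [Spec.map_comp, Spec.map_comp, Category.assoc, Category.assoc,
    Scheme.Spec.map_residueFieldIso_inv_eq_fromSpecResidueField_assoc,
    ← Scheme.Hom.SpecMap_residueFieldMap_fromSpecResidueField j p, ← Spec.map_comp_assoc,
    IsIso.hom_inv_id, Spec.map_id, Category.id_comp]

end general

section pushout

variable {W Y₁ Y₂ S : Scheme.{u}} (g₁ : W ⟶ Y₁) (g₂ : W ⟶ Y₂) [IsOpenImmersion g₁]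
  [IsOpenImmersion g₂]

/-- The gluing of two integral schemes along a nonempty open is integral. -/
theorem isIntegral_pushout [IsIntegral Y₁] [IsIntegral Y₂] [Nonempty W] :
    IsIntegral (pushout g₁ g₂) := by
  haveI : IsReduced (pushout g₁ g₂) := by
    haveI : ∀ i, IsReduced ((pushoutCover g₁ g₂).X i) := by
      rintro (_ | _)
      · exact inferInstanceAs (IsReduced Y₁)
      · exact inferInstanceAs (IsReduced Y₂)
    exact IsReduced.of_openCover _ (pushoutCover g₁ g₂)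
  have hirr₁ : IsIrreducible (Set.range (pushout.inl g₁ g₂)) := by
    rw [← Set.image_univ]
    exact (IrreducibleSpace.isIrreducible_univ Y₁).image _
      (pushout.inl g₁ g₂).continuous.continuousOn
  have hsub : Set.range (pushout.inr g₁ g₂) ⊆ closure (Set.range (pushout.inl g₁ g₂)) := by
    rintro _ ⟨y₂, rfl⟩
    have hd : Dense (Set.range g₂) :=
      (g₂.isOpenEmbedding.isOpen_range).dense (Set.range_nonempty _)
    have h1 : y₂ ∈ closure (Set.range g₂) := hd y₂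
    have h2 := image_closure_subset_closure_image (pushout.inr g₁ g₂).continuous
      (Set.mem_image_of_mem _ h1)
    refine closure_mono ?_ h2
    rintro _ ⟨_, ⟨w, rfl⟩, rfl⟩
    refine ⟨g₁ w, ?_⟩
    rw [← Scheme.Hom.comp_apply, pushout.condition, Scheme.Hom.comp_apply]
  have huniv : closure (Set.range (pushout.inl g₁ g₂)) = Set.univ := by
    rw [Set.eq_univ_iff_forall]
    intro y
    rcases pushout_jointly_surjective g₁ g₂ y with ⟨y₁, rfl⟩ | ⟨y₂, rfl⟩
    · exact subset_closure ⟨y₁, rfl⟩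
    · exact hsub ⟨y₂, rfl⟩
  haveI : IrreducibleSpace ↥(pushout g₁ g₂) := by
    have := hirr₁.closure
    rw [huniv] at this
    exact (irreducibleSpace_def _).2 this
  exact isIntegral_of_irreducibleSpace_of_isReduced _

/-- Local finite type and quasi-compactness of a morphism out of a gluing of two pieces. -/
theorem locallyOfFiniteType_pushout_desc (p₁ : Y₁ ⟶ S) (p₂ : Y₂ ⟶ S) (hp : g₁ ≫ p₁ = g₂ ≫ p₂)
    [LocallyOfFiniteType p₁] [LocallyOfFiniteType p₂] :
    LocallyOfFiniteType (pushout.desc p₁ p₂ hp) := by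
  haveI : IsZariskiLocalAtSource @LocallyOfFiniteType.{u} :=
    HasRingHomProperty.instIsZariskiLocalAtSource (Q := RingHom.FiniteType)
  rw [IsZariskiLocalAtSource.iff_of_openCover (P := @LocallyOfFiniteType.{u}) (pushoutCover g₁ g₂)]
  rintro (_ | _)
  · change LocallyOfFiniteType (pushout.inl g₁ g₂ ≫ pushout.desc p₁ p₂ hp)
    rw [pushout.inl_desc]; infer_instance
  · change LocallyOfFiniteType (pushout.inr g₁ g₂ ≫ pushout.desc p₁ p₂ hp)
    rw [pushout.inr_desc]; infer_instance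

theorem compactSpace_pushout [CompactSpace Y₁] [CompactSpace Y₂] :
    CompactSpace ↥(pushout g₁ g₂) := by
  constructor
  have : (Set.univ : Set ↥(pushout g₁ g₂)) =
      Set.range (pushout.inl g₁ g₂) ∪ Set.range (pushout.inr g₁ g₂) := by
    ext y
    simp only [Set.mem_univ, Set.mem_union, Set.mem_range, true_iff]
    exact pushout_jointly_surjective g₁ g₂ y
  rw [this]
  exact (isCompact_range (pushout.inl g₁ g₂).continuous).union
    (isCompact_range (pushout.inr g₁ g₂).continuous)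

end pushout

section rings

open TensorProduct

variable (k A₁ A₂ A₁₂ : Type u) [Field k] [CommRing A₁] [CommRing A₂] [CommRing A₁₂]
  [Algebra k A₁] [Algebra k A₂] [Algebra k A₁₂] [Algebra A₁ A₁₂] [Algebra A₂ A₁₂]
  [IsScalarTower k A₁ A₁₂] [IsScalarTower k A₂ A₁₂]

theorem comp_eq :
    Spec.map (CommRingCat.ofHom (algebraMap A₁ A₁₂)) ≫ Spec.map (CommRingCat.ofHom (algebraMap k A₁)) =
      Spec.map (CommRingCat.ofHom (algebraMap A₂ A₁₂)) ≫
        Spec.map (CommRingCat.ofHom (algebraMap k A₂)) := by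
  rw [← Spec.map_comp, ← Spec.map_comp]
  congr 1
  ext c
  change algebraMap A₁ A₁₂ (algebraMap k A₁ c) = algebraMap A₂ A₁₂ (algebraMap k A₂ c)
  rw [← IsScalarTower.algebraMap_apply, ← IsScalarTower.algebraMap_apply]

theorem isClosedImmersion_lift (s₁ : A₁) (s₂ : A₂) [IsLocalization.Away s₁ A₁₂]
    (h12 : algebraMap A₁ A₁₂ s₁ * algebraMap A₂ A₁₂ s₂ = 1) :
    IsClosedImmersion (pullback.lift (Spec.map (CommRingCat.ofHom (algebraMap A₁ A₁₂)))
      (Spec.map (CommRingCat.ofHom (algebraMap A₂ A₁₂))) (comp_eq k A₁ A₂ A₁₂) :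
      Spec (CommRingCat.of A₁₂) ⟶ pullback (Spec.map (CommRingCat.ofHom (algebraMap k A₁)))
        (Spec.map (CommRingCat.ofHom (algebraMap k A₂)))) := by
  let m : A₁ ⊗[k] A₂ →ₐ[k] A₁₂ :=
    Algebra.TensorProduct.productMap (IsScalarTower.toAlgHom k A₁ A₁₂)
      (IsScalarTower.toAlgHom k A₂ A₁₂)
  have hm : Function.Surjective m := by
    intro b
    obtain ⟨n, a, hab⟩ := IsLocalization.Away.surj s₁ b
    refine ⟨a ⊗ₜ (s₂ ^ n), ?_⟩
    change m (a ⊗ₜ (s₂ ^ n)) = b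
    rw [Algebra.TensorProduct.productMap_apply_tmul]
    simp only [IsScalarTower.coe_toAlgHom', map_pow]
    rw [← hab, mul_assoc, ← mul_pow, h12, one_pow, mul_one]
  have key : pullback.lift (Spec.map (CommRingCat.ofHom (algebraMap A₁ A₁₂)))
      (Spec.map (CommRingCat.ofHom (algebraMap A₂ A₁₂))) (comp_eq k A₁ A₂ A₁₂) =
      Spec.map (CommRingCat.ofHom m.toRingHom) ≫ (pullbackSpecIso k A₁ A₂).inv := by
    apply pullback.hom_ext
    · rw [pullback.lift_fst, Category.assoc, pullbackSpecIso_inv_fst, ← Spec.map_comp]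
      congr 1
      ext a
      change algebraMap A₁ A₁₂ a = m (a ⊗ₜ 1)
      rw [Algebra.TensorProduct.productMap_apply_tmul]
      simp
    · rw [pullback.lift_snd, Category.assoc, pullbackSpecIso_inv_snd, ← Spec.map_comp]
      congr 1
      ext a
      change algebraMap A₂ A₁₂ a = m (1 ⊗ₜ a)
      rw [Algebra.TensorProduct.productMap_apply_tmul]
      simp
  rw [key]
  haveI : IsClosedImmersion (Spec.map (CommRingCat.ofHom m.toRingHom)) :=
    IsClosedImmersion.spec_of_surjective _ hm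
  infer_instance

end rings

section main

variable (k A₁ A₂ A₁₂ : Type u) [Field k] [CommRing A₁] [CommRing A₂] [CommRing A₁₂]
  [Algebra k A₁] [Algebra k A₂] [Algebra k A₁₂] [Algebra A₁ A₁₂] [Algebra A₂ A₁₂]
  [IsScalarTower k A₁ A₁₂] [IsScalarTower k A₂ A₁₂]

/-- The gluing map `Spec A₁₂ ⟶ Spec A`. -/
noncomputable abbrev gl (A A₁₂ : Type u) [CommRing A] [CommRing A₁₂] [Algebra A A₁₂] :
    Spec (CommRingCat.of A₁₂) ⟶ Spec (CommRingCat.of A) :=
  Spec.map (CommRingCat.ofHom (algebraMap A A₁₂))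

variable [IsOpenImmersion (gl A₁ A₁₂)] [IsOpenImmersion (gl A₂ A₁₂)]

/-- The glued curve. -/
noncomputable abbrev Cv : Scheme.{u} := pushout (gl A₁ A₁₂) (gl A₂ A₁₂)

/-- The structure morphism of the glued curve. -/
noncomputable abbrev str : Cv A₁ A₂ A₁₂ ⟶ Spec (CommRingCat.of k) :=
  pushout.desc (gl k A₁) (gl k A₂) (comp_eq k A₁ A₂ A₁₂)

theorem dvrLiftAt (s₁ : A₁) (s₂ : A₂)
    (h12 : algebraMap A₁ A₁₂ s₁ * algebraMap A₂ A₁₂ s₂ = 1)
    (hval₁ : ∀ (L : Type u) [Field L] (V : ValuationSubring L) (ρ : A₁ →+* L),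
      (∀ c : k, ρ (algebraMap k A₁ c) ∈ V) → ρ s₁ ∈ V → ∀ a, ρ a ∈ V)
    (hval₂ : ∀ (L : Type u) [Field L] (V : ValuationSubring L) (ρ : A₂ →+* L),
      (∀ c : k, ρ (algebraMap k A₂ c) ∈ V) → ρ s₂ ∈ V → ∀ a, ρ a ∈ V)
    (w : Spec (CommRingCat.of A₁₂)) :
    ValCenter.DvrLiftAt (str k A₁ A₂ A₁₂)
      ((gl A₁ A₁₂ ≫ pushout.inl (gl A₁ A₁₂) (gl A₂ A₁₂)) w) := by
  intro A _ y hy
  obtain ⟨ρ, hρ⟩ := exists_SpecMap_comp_eq_fromSpecResidueField
    (gl A₁ A₁₂ ≫ pushout.inl (gl A₁ A₁₂) (gl A₂ A₁₂)) w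
  let ψ := Spec.preimage y
  have hψ : Spec.map ψ = y := Spec.map_preimage y
  have hkey : ψ ≫ CommRingCat.ofHom A.subtype = CommRingCat.ofHom (algebraMap k A₁₂) ≫ ρ := by
    apply Spec.map_injective
    rw [Spec.map_comp, Spec.map_comp, hψ, hy, ← hρ, Category.assoc, Category.assoc,
      pushout.inl_desc]
    congr 1
    rw [← Spec.map_comp]
    congr 1
    ext c
    exact (IsScalarTower.algebraMap_apply k A₁ A₁₂ c).symm
  have hc : ∀ c : k, ((ψ.hom c : A) : _) = ρ.hom (algebraMap k A₁₂ c) := fun c =>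
    congr($hkey c)
  have hk : ∀ c : k, ρ.hom (algebraMap k A₁₂ c) ∈ A := fun c => by
    rw [← hc c]
    exact (ψ.hom c).2
  have h1 : ρ.hom (algebraMap A₁ A₁₂ s₁) * ρ.hom (algebraMap A₂ A₁₂ s₂) = 1 := by
    rw [← map_mul, h12, map_one]
  rcases A.mem_or_inv_mem (ρ.hom (algebraMap A₁ A₁₂ s₁)) with h | h
  · have hall := hval₁ _ A (ρ.hom.comp (algebraMap A₁ A₁₂)) (fun c => by
      change ρ.hom (algebraMap A₁ A₁₂ (algebraMap k A₁ c)) ∈ A
      rw [← IsScalarTower.algebraMap_apply]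
      exact hk c) h
    let τ : A₁ →+* A := (ρ.hom.comp (algebraMap A₁ A₁₂)).codRestrict A.toSubring hall
    refine ⟨Spec.map (CommRingCat.ofHom τ) ≫ pushout.inl (gl A₁ A₁₂) (gl A₂ A₁₂), ?_, ?_⟩
    · rw [Category.assoc, pushout.inl_desc, ← Spec.map_comp, ← hψ]
      congr 1
      ext c
      refine Eq.trans ?_ (hc c).symm
      change ρ.hom (algebraMap A₁ A₁₂ (algebraMap k A₁ c)) = _
      rw [← IsScalarTower.algebraMap_apply]
    · rw [← Category.assoc, ← Spec.map_comp, ← hρ, ← Category.assoc, ← Spec.map_comp]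
      rfl
  · have h' : ρ.hom (algebraMap A₂ A₁₂ s₂) ∈ A := by
      rwa [eq_inv_of_mul_eq_one_right h1]
    have hall := hval₂ _ A (ρ.hom.comp (algebraMap A₂ A₁₂)) (fun c => by
      change ρ.hom (algebraMap A₂ A₁₂ (algebraMap k A₂ c)) ∈ A
      rw [← IsScalarTower.algebraMap_apply]
      exact hk c) h'
    let τ : A₂ →+* A := (ρ.hom.comp (algebraMap A₂ A₁₂)).codRestrict A.toSubring hall
    refine ⟨Spec.map (CommRingCat.ofHom τ) ≫ pushout.inr (gl A₁ A₁₂) (gl A₂ A₁₂), ?_, ?_⟩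
    · rw [Category.assoc, pushout.inr_desc, ← Spec.map_comp, ← hψ]
      congr 1
      ext c
      refine Eq.trans ?_ (hc c).symm
      change ρ.hom (algebraMap A₂ A₁₂ (algebraMap k A₂ c)) = _
      rw [← IsScalarTower.algebraMap_apply]
    · have hcond : gl A₁ A₁₂ ≫ pushout.inl (gl A₁ A₁₂) (gl A₂ A₁₂) =
          gl A₂ A₁₂ ≫ pushout.inr (gl A₁ A₁₂) (gl A₂ A₁₂) := pushout.condition
      rw [← Category.assoc, ← Spec.map_comp, ← hρ]
      refine Eq.trans ?_ (congrArg (fun t => Spec.map ρ ≫ t) hcond).symm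
      rw [← Category.assoc, ← Spec.map_comp]
      rfl

theorem isIntegral_Cv [IsDomain A₁] [IsDomain A₂] [Nontrivial A₁₂] : IsIntegral (Cv A₁ A₂ A₁₂) :=
  isIntegral_pushout _ _

theorem isProper_str [IsDomain A₁] [IsDomain A₂] [Nontrivial A₁₂] [Algebra.FiniteType k A₁]
    [Algebra.FiniteType k A₂] (s₁ : A₁) (s₂ : A₂) [IsLocalization.Away s₁ A₁₂]
    (h12 : algebraMap A₁ A₁₂ s₁ * algebraMap A₂ A₁₂ s₂ = 1)
    (hval₁ : ∀ (L : Type u) [Field L] (V : ValuationSubring L) (ρ : A₁ →+* L),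
      (∀ c : k, ρ (algebraMap k A₁ c) ∈ V) → ρ s₁ ∈ V → ∀ a, ρ a ∈ V)
    (hval₂ : ∀ (L : Type u) [Field L] (V : ValuationSubring L) (ρ : A₂ →+* L),
      (∀ c : k, ρ (algebraMap k A₂ c) ∈ V) → ρ s₂ ∈ V → ∀ a, ρ a ∈ V) :
    IsProper (str k A₁ A₂ A₁₂) := by
  haveI : IsIntegral (Cv A₁ A₂ A₁₂) := isIntegral_Cv A₁ A₂ A₁₂
  haveI : IsSeparated (str k A₁ A₂ A₁₂) :=
    isSeparated_pushout_desc (gl A₁ A₁₂) (gl A₂ A₁₂) (gl k A₁) (gl k A₂) (comp_eq k A₁ A₂ A₁₂)
      (isClosedImmersion_lift k A₁ A₂ A₁₂ s₁ s₂ h12)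
  haveI : LocallyOfFiniteType (gl k A₁) :=
    (HasRingHomProperty.Spec_iff (P := @LocallyOfFiniteType)).2
      (RingHom.finiteType_algebraMap.2 inferInstance)
  haveI : LocallyOfFiniteType (gl k A₂) :=
    (HasRingHomProperty.Spec_iff (P := @LocallyOfFiniteType)).2
      (RingHom.finiteType_algebraMap.2 inferInstance)
  haveI : LocallyOfFiniteType (str k A₁ A₂ A₁₂) :=
    locallyOfFiniteType_pushout_desc _ _ _ _ _
  haveI : CompactSpace ↥(Cv A₁ A₂ A₁₂) := compactSpace_pushout _ _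
  haveI : QuasiCompact (str k A₁ A₂ A₁₂) := inferInstance
  have hmem : genericPoint ↥(Cv A₁ A₂ A₁₂) ∈
      (gl A₁ A₁₂ ≫ pushout.inl (gl A₁ A₁₂) (gl A₂ A₁₂)).opensRange := by
    refine ((genericPoint_spec ↥(Cv A₁ A₂ A₁₂)).mem_open_set_iff
      (gl A₁ A₁₂ ≫ pushout.inl (gl A₁ A₁₂) (gl A₂ A₁₂)).opensRange.isOpen).mpr ?_
    obtain ⟨w⟩ : Nonempty ↥(Spec (CommRingCat.of A₁₂)) := inferInstance
    exact ⟨_, trivial, ⟨w, rfl⟩⟩
  obtain ⟨w, hw⟩ := hmem
  refine ValCenter.isProper_of_dvrLiftAt (str k A₁ A₂ A₁₂) fun x₁ =>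
    ⟨(gl A₁ A₁₂ ≫ pushout.inl (gl A₁ A₁₂) (gl A₂ A₁₂)) w, ?_,
      dvrLiftAt k A₁ A₂ A₁₂ s₁ s₂ h12 hval₁ hval₂ w⟩
  rw [hw]
  exact genericPoint_specializes x₁

end main

section functionField

attribute [local instance] Curv2.stalkAlgebra

/-- The function field of an integral `k`-scheme containing `Spec A` as an open subscheme is the
fraction field of `A`, compatibly with `k`. -/
theorem exists_functionField_equiv (k A K : Type u) [Field k] [CommRing A] [IsDomain A]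
    [Algebra k A] [Field K] [Algebra k K] [Algebra A K] [IsScalarTower k A K] [IsFractionRing A K]
    (X : Scheme.{u}) [X.Over (Spec (CommRingCat.of k))] [IsIntegral X]
    (j : Spec (CommRingCat.of A) ⟶ X) [IsOpenImmersion j]
    (hj : j ≫ (X ↘ Spec (CommRingCat.of k)) = Spec.map (CommRingCat.ofHom (algebraMap k A))) :
    ∃ e : X.presheaf.stalk (genericPoint X) ≃+* K,
      ∀ c : k, e (algebraMap k (X.presheaf.stalk (genericPoint X)) c) = algebraMap k K c := by
  have hU : IsAffineOpen (j ''ᵁ ⊤) := (isAffineOpen_top _).image_of_isOpenImmersion j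
  haveI : Nonempty ↥(Spec (CommRingCat.of A)) := inferInstance
  haveI : Nonempty (j ''ᵁ ⊤) := by
    obtain ⟨p⟩ := ‹Nonempty ↥(Spec (CommRingCat.of A))›
    exact ⟨⟨j p, ⟨p, trivial, rfl⟩⟩⟩
  haveI : IsFractionRing Γ(X, j ''ᵁ ⊤) X.functionField :=
    functionField_isFractionRing_of_isAffineOpen X (j ''ᵁ ⊤) hU
  let α : Γ(X, j ''ᵁ ⊤) ≃+* A :=
    ((j.appIso ⊤) ≪≫ Scheme.ΓSpecIso (CommRingCat.of A)).commRingCatIsoToRingEquiv
  let e : X.functionField ≃+* K := IsFractionRing.ringEquivOfRingEquiv α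
  refine ⟨e, fun c => ?_⟩
  have hη : genericPoint X ∈ j ''ᵁ ⊤ :=
    ((genericPoint_spec X).mem_open_set_iff (j ''ᵁ ⊤).isOpen).mpr (by
      obtain ⟨x⟩ := ‹Nonempty (j ''ᵁ ⊤)›
      exact ⟨x.1, trivial, x.2⟩)
  have h1 : algebraMap k (X.presheaf.stalk (genericPoint X)) c =
      algebraMap Γ(X, j ''ᵁ ⊤) X.functionField
        ((X.presheaf.map (homOfLE (le_top : j ''ᵁ ⊤ ≤ ⊤)).op).hom
          (((X ↘ Spec (CommRingCat.of k)).appTop).hom
            ((Scheme.ΓSpecIso (CommRingCat.of k)).inv.hom c))) := by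
    change (X.presheaf.germ ⊤ (genericPoint X) trivial).hom _ = _
    rw [← X.presheaf.germ_res (homOfLE (le_top : j ''ᵁ ⊤ ≤ ⊤)) (genericPoint X) hη]
    rfl
  rw [h1]
  change IsFractionRing.ringEquivOfRingEquiv α _ = _
  rw [IsFractionRing.ringEquivOfRingEquiv_algebraMap, IsScalarTower.algebraMap_apply k A K]
  congr 1
  have h2 : (Scheme.ΓSpecIso (CommRingCat.of k)).inv ≫ (X ↘ Spec (CommRingCat.of k)).appTop ≫
      X.presheaf.map (homOfLE (le_top : j ''ᵁ ⊤ ≤ ⊤)).op ≫ (j.appIso ⊤).hom ≫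
        (Scheme.ΓSpecIso (CommRingCat.of A)).hom = CommRingCat.ofHom (algebraMap k A) := by
    rw [Scheme.Hom.appIso_hom', Scheme.Hom.map_appLE_assoc]
    have : j.appLE ⊤ ⊤ (by simp) = j.appTop := by
      rw [Scheme.Hom.appTop, Scheme.Hom.app_eq_appLE]
      rfl
    rw [this, ← Scheme.Hom.comp_appTop_assoc, hj, Scheme.ΓSpecIso_naturality, Iso.inv_hom_id_assoc]
  exact congr($h2 c)

/-- The complete normal curve glued from two affine charts. -/
theorem exists_curve (k A₁ A₂ A₁₂ K : Type u) [Field k] [CommRing A₁] [CommRing A₂] [CommRing A₁₂]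
    [Algebra k A₁] [Algebra k A₂] [Algebra k A₁₂] [Algebra A₁ A₁₂] [Algebra A₂ A₁₂]
    [IsScalarTower k A₁ A₁₂] [IsScalarTower k A₂ A₁₂]
    [IsDomain A₁] [IsDomain A₂] [Nontrivial A₁₂] [IsIntegrallyClosed A₁] [IsIntegrallyClosed A₂]
    [Algebra.FiniteType k A₁] [Algebra.FiniteType k A₂]
    [Field K] [Algebra k K] [Algebra A₁ K] [IsScalarTower k A₁ K] [IsFractionRing A₁ K]
    (s₁ : A₁) (s₂ : A₂) [IsLocalization.Away s₁ A₁₂] [IsLocalization.Away s₂ A₁₂]
    (h12 : algebraMap A₁ A₁₂ s₁ * algebraMap A₂ A₁₂ s₂ = 1)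
    (hht₁ : ∀ 𝔪 : Ideal A₁, 𝔪.IsMaximal → 𝔪.height = 1)
    (hht₂ : ∀ 𝔪 : Ideal A₂, 𝔪.IsMaximal → 𝔪.height = 1)
    (hval₁ : ∀ (L : Type u) [Field L] (V : ValuationSubring L) (ρ : A₁ →+* L),
      (∀ c : k, ρ (algebraMap k A₁ c) ∈ V) → ρ s₁ ∈ V → ∀ a, ρ a ∈ V)
    (hval₂ : ∀ (L : Type u) [Field L] (V : ValuationSubring L) (ρ : A₂ →+* L),
      (∀ c : k, ρ (algebraMap k A₂ c) ∈ V) → ρ s₂ ∈ V → ∀ a, ρ a ∈ V) :
    ∃ (X : Scheme.{u}) (_ : X.Over (Spec (CommRingCat.of k))) (_ : IsIntegral X),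
      IsProper (X ↘ (Spec (CommRingCat.of k))) ∧ Pi1.IsNormalScheme X ∧
      (∀ x : X, IsClosed ({x} : Set X) → ringKrullDim (X.presheaf.stalk x) = 1) ∧
      ∃ e : X.presheaf.stalk (genericPoint X) ≃+* K,
        ∀ c : k, e (algebraMap k (X.presheaf.stalk (genericPoint X)) c) = algebraMap k K c := by
  haveI : IsOpenImmersion (gl A₁ A₁₂) := IsOpenImmersion.of_isLocalization s₁
  haveI : IsOpenImmersion (gl A₂ A₁₂) := IsOpenImmersion.of_isLocalization s₂
  haveI hint : IsIntegral (Cv A₁ A₂ A₁₂) := isIntegral_Cv A₁ A₂ A₁₂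
  letI hov : (Cv A₁ A₂ A₁₂).Over (Spec (CommRingCat.of k)) := ⟨str k A₁ A₂ A₁₂⟩
  refine ⟨Cv A₁ A₂ A₁₂, hov, hint, isProper_str k A₁ A₂ A₁₂ s₁ s₂ h12 hval₁ hval₂, ?_, ?_, ?_⟩
  · intro x
    rcases pushout_jointly_surjective (gl A₁ A₁₂) (gl A₂ A₁₂) x with ⟨p, rfl⟩ | ⟨p, rfl⟩
    · exact normal_of_isOpenImmersion_Spec (R := CommRingCat.of A₁)
        (pushout.inl (gl A₁ A₁₂) (gl A₂ A₁₂)) p
    · exact normal_of_isOpenImmersion_Spec (R := CommRingCat.of A₂)
        (pushout.inr (gl A₁ A₁₂) (gl A₂ A₁₂)) p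
  · intro x hx
    rcases pushout_jointly_surjective (gl A₁ A₁₂) (gl A₂ A₁₂) x with ⟨p, rfl⟩ | ⟨p, rfl⟩
    · exact ringKrullDim_stalk_of_isOpenImmersion_Spec (R := CommRingCat.of A₁) hht₁
        (pushout.inl (gl A₁ A₁₂) (gl A₂ A₁₂)) p hx
    · exact ringKrullDim_stalk_of_isOpenImmersion_Spec (R := CommRingCat.of A₂) hht₂
        (pushout.inr (gl A₁ A₁₂) (gl A₂ A₁₂)) p hx
  · exact exists_functionField_equiv k A₁ K (Cv A₁ A₂ A₁₂) (pushout.inl (gl A₁ A₁₂) (gl A₂ A₁₂))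
      (pushout.inl_desc _ _ _)

end functionField

end Groth.Agent.Lib.Helper41.CurveGlue
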