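import Groth.Agent.Lib.Helper41.CurveAlg
import Groth.Agent.Lib.Helper41.CurveGlue

/-!
# Existence of a complete normal curve with a given function field
-/

set_option autoImplicit false
set_option linter.style.haveILetI false
universe u
open CategoryTheory CategoryTheory.Limits AlgebraicGeometry

namespace Groth.Agent.Lib.Helper41.CurveExist

open CurveAlg

attribute [local instance] Curv2.stalkAlgebra

theorem exists_normal_complete_curve (k : Type u) [Field k] (K : Type u) [Field K] [Algebra k K]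
    (hfg : (⊤ : IntermediateField k K).FG) (htr : Algebra.trdeg k K = 1) :
    ∃ (X : Scheme.{u}) (_ : X.Over (Spec (CommRingCat.of k))) (_ : IsIntegral X),
      IsProper (X ↘ (Spec (CommRingCat.of k))) ∧ Pi1.IsNormalScheme X ∧
      (∀ x : X, IsClosed ({x} : Set X) → ringKrullDim (X.presheaf.stalk x) = 1) ∧
      ∃ e : X.presheaf.stalk (genericPoint X) ≃+* K,
        ∀ c : k, e (algebraMap k (X.presheaf.stalk (genericPoint X)) c) = algebraMap k K c := by
  obtain ⟨t, ht⟩ := CurveField.exists_transcendental k K htr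
  have ht' : Transcendental k t⁻¹ := CurveField.transcendental_inv ht
  have ht0 : t ≠ 0 := fun h => ht (h ▸ isAlgebraic_zero)
  have h12 : t * t⁻¹ = 1 := mul_inv_cancel₀ ht0
  letI : Algebra (ICS k ({t} : Set K)) (ICS k ({t, t⁻¹} : Set K)) :=
    (Subalgebra.inclusion (ICS_mono (by simp) : ICS k ({t} : Set K) ≤
      ICS k ({t, t⁻¹} : Set K))).toRingHom.toAlgebra
  letI : Algebra (ICS k ({t⁻¹} : Set K)) (ICS k ({t, t⁻¹} : Set K)) :=
    (Subalgebra.inclusion (ICS_mono (by simp) : ICS k ({t⁻¹} : Set K) ≤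
      ICS k ({t, t⁻¹} : Set K))).toRingHom.toAlgebra
  haveI : IsScalarTower k (ICS k ({t} : Set K)) (ICS k ({t, t⁻¹} : Set K)) :=
    IsScalarTower.of_algebraMap_eq fun _ => rfl
  haveI : IsScalarTower k (ICS k ({t⁻¹} : Set K)) (ICS k ({t, t⁻¹} : Set K)) :=
    IsScalarTower.of_algebraMap_eq fun _ => rfl
  haveI : IsLocalization.Away (⟨t, self_mem_ICS t⟩ : ICS k ({t} : Set K))
      (ICS k ({t, t⁻¹} : Set K)) := isLocalization_ICS_left h12
  haveI : IsLocalization.Away (⟨t⁻¹, self_mem_ICS t⁻¹⟩ : ICS k ({t⁻¹} : Set K))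
      (ICS k ({t, t⁻¹} : Set K)) := isLocalization_ICS_right h12
  haveI : IsIntegrallyClosed (ICS k ({t} : Set K)) := isIntegrallyClosed_ICS _
  haveI : IsIntegrallyClosed (ICS k ({t⁻¹} : Set K)) := isIntegrallyClosed_ICS _
  haveI : Algebra.FiniteType k (ICS k ({t} : Set K)) := finiteType_ICS hfg htr ht
  haveI : Algebra.FiniteType k (ICS k ({t⁻¹} : Set K)) := finiteType_ICS hfg htr ht'
  haveI : IsFractionRing (ICS k ({t} : Set K)) K := isFractionRing_ICS htr ht
  exact CurveGlue.exists_curve k (ICS k ({t} : Set K)) (ICS k ({t⁻¹} : Set K))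
    (ICS k ({t, t⁻¹} : Set K)) K ⟨t, self_mem_ICS t⟩ ⟨t⁻¹, self_mem_ICS t⁻¹⟩
    (Subtype.ext h12)
    (fun 𝔪 h𝔪 => haveI := h𝔪; height_eq_one_ICS ht 𝔪)
    (fun 𝔪 h𝔪 => haveI := h𝔪; height_eq_one_ICS ht' 𝔪)
    (fun L _ V ρ hk hs a => map_mem_valuationSubring V ρ hk hs a)
    (fun L _ V ρ hk hs a => map_mem_valuationSubring V ρ hk hs a)

end Groth.Agent.Lib.Helper41.CurveExist
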