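import Mathlib

/-!
# Function fields of curves: finiteness over `k(s)` for a transcendental element `s`
-/

set_option autoImplicit false
universe u
open Cardinal

namespace Groth.Agent.Lib.Helper41.CurveField

variable (k K : Type u) [Field k] [Field K] [Algebra k K]

theorem exists_transcendental (htr : Algebra.trdeg k K = 1) : ∃ t : K, Transcendental k t := by
  have h : Algebra.trdeg k K ≠ 0 := by rw [htr]; exact one_ne_zero
  rw [trdeg_ne_zero_iff] at h
  exact h.transcendental

variable {k K}

theorem transcendental_inv {t : K} (ht : Transcendental k t) : Transcendental k t⁻¹ := by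
  intro h
  apply ht
  have := h.inv
  rwa [inv_inv] at this

theorem isAlgebraic_adjoin (htr : Algebra.trdeg k K = 1) {s : K} (hs : Transcendental k s) :
    Algebra.IsAlgebraic (Algebra.adjoin k ({s} : Set K)) K := by
  let x : PUnit.{u+1} → K := fun _ => s
  have hx : AlgebraicIndependent k x := algebraicIndependent_unique_type_iff.mpr hs
  have hb : IsTranscendenceBasis k x := by
    apply hx.isTranscendenceBasis_of_trdeg_le_of_finite
    rw [htr]
    simp
  have := hb.isAlgebraic
  have hr : Set.range x = {s} := by
    ext y; simp [x, eq_comm]
  rwa [hr] at this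

/-- `K` is finite over the fraction field of `k[s]` for `s` transcendental, when `K` is a finitely
generated field extension of transcendence degree one. -/
theorem finiteDimensional_of_transcendental (hfg : (⊤ : IntermediateField k K).FG)
    (htr : Algebra.trdeg k K = 1) {s : K} (hs : Transcendental k s)
    (F : Type u) [Field F] [Algebra (Algebra.adjoin k ({s} : Set K)) F]
    [IsFractionRing (Algebra.adjoin k ({s} : Set K)) F] [Algebra F K]
    [IsScalarTower (Algebra.adjoin k ({s} : Set K)) F K] [Algebra k F]
    [IsScalarTower k (Algebra.adjoin k ({s} : Set K)) F] :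
    FiniteDimensional F K := by
  haveI := isAlgebraic_adjoin htr hs
  haveI : Algebra.IsAlgebraic F K :=
    (IsFractionRing.comap_isAlgebraic_iff (A := Algebra.adjoin k ({s} : Set K))).mp inferInstance
  haveI : IsScalarTower k F K := by
    refine IsScalarTower.of_algebraMap_eq fun c => ?_
    rw [IsScalarTower.algebraMap_apply k (Algebra.adjoin k ({s} : Set K)) F,
      ← IsScalarTower.algebraMap_apply (Algebra.adjoin k ({s} : Set K)) F K,
      ← IsScalarTower.algebraMap_apply k (Algebra.adjoin k ({s} : Set K)) K]
  obtain ⟨S, hS⟩ := hfg
  have htop : IntermediateField.adjoin F (S : Set K) = ⊤ := by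
    rw [← IntermediateField.restrictScalars_eq_top_iff (K := k), ← top_le_iff, ← hS,
      IntermediateField.adjoin_le_iff]
    exact IntermediateField.subset_adjoin F (S : Set K)
  haveI : FiniteDimensional F (IntermediateField.adjoin F (S : Set K)) :=
    IntermediateField.finiteDimensional_adjoin
      fun x _ => (Algebra.IsAlgebraic.isAlgebraic x).isIntegral
  rw [htop] at this
  exact Module.Finite.equiv (IntermediateField.topEquiv (F := F) (E := K)).toLinearEquiv

end Groth.Agent.Lib.Helper41.CurveField
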