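import Groth.Agent.Lib.Helper38.FieldN2

/-!
# Finiteness of integral closures of finite type domains over a field (ring-level packaging)
-/

set_option autoImplicit false
universe u

namespace Groth.Agent.Lib.Helper41.CurveN2

/-- Let `A` be a domain of finite type over a field `k` with fraction field `F`, and `K` a field
which is an `A`-algebra through a finite ring map `φ : F → K`.  Then the integral closure of `A` in
`K` is a finite `A`-module. -/
theorem finite_integralClosure_field (k : Type u) [Field k] (A : Type u) [CommRing A] [IsDomain A]
    [Algebra k A] [Algebra.FiniteType k A] (F : Type u) [Field F] [Algebra A F]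
    [IsFractionRing A F] (K : Type u) [Field K] [Algebra A K] (φ : F →+* K) (hφ : φ.Finite)
    (hcomp : ∀ a : A, algebraMap A K a = φ (algebraMap A F a)) :
    Module.Finite A (integralClosure A K) := by
  have hinj : Function.Injective (algebraMap A K) := by
    intro a b hab
    rw [hcomp, hcomp] at hab
    exact IsFractionRing.injective A F (φ.injective hab)
  haveI : FaithfulSMul A K := (faithfulSMul_iff_algebraMap_injective A K).2 hinj
  letI := FractionRing.liftAlgebra A K
  haveI := FractionRing.isScalarTower_liftAlgebra A K
  let ψ : FractionRing A ≃ₐ[A] F := FractionRing.algEquiv A F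
  have hmap : algebraMap (FractionRing A) K = φ.comp (ψ : FractionRing A →+* F) := by
    apply IsLocalization.ringHom_ext (nonZeroDivisors A)
    ext a
    simp only [RingHom.comp_apply]
    rw [← IsScalarTower.algebraMap_apply A (FractionRing A) K, hcomp]
    congr 1
    exact (ψ.commutes a).symm
  have hfin : (algebraMap (FractionRing A) K).Finite := by
    rw [hmap]
    exact hφ.comp (RingHom.Finite.of_surjective _ ψ.surjective)
  have hfd : FiniteDimensional (FractionRing A) K := RingHom.finite_algebraMap.1 hfin
  exact Groth.Agent.Lib.Helper38.FieldN2.isN2_of_finiteType k A K hfd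

/-- Transfer of the previous statement along a ring isomorphism `K ≃+* L`. -/
theorem finite_integralClosure_of_equiv (k : Type u) [Field k] (A : Type u) [CommRing A]
    [IsDomain A] [Algebra k A] [Algebra.FiniteType k A] (F : Type u) [Field F] [Algebra A F]
    [IsFractionRing A F] (K : Type u) [Field K] (φ : F →+* K) (hφ : φ.Finite)
    (L : Type u) [CommRing L] [Algebra A L] (e : K ≃+* L)
    (hcomp : ∀ a : A, algebraMap A L a = e (φ (algebraMap A F a))) :
    Module.Finite A (integralClosure A L) := by
  letI : Algebra A K := ((e.symm : L →+* K).comp (algebraMap A L)).toAlgebra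
  have hAK : ∀ a : A, algebraMap A K a = φ (algebraMap A F a) := by
    intro a
    change e.symm (algebraMap A L a) = _
    rw [hcomp, RingEquiv.symm_apply_apply]
  have h1 := finite_integralClosure_field k A F K φ hφ hAK
  let eA : K ≃ₐ[A] L :=
    { e with
      commutes' := by
        intro a
        change e (e.symm (algebraMap A L a)) = _
        rw [RingEquiv.apply_symm_apply] }
  have h2 : (integralClosure A K).map (eA : K →ₐ[A] L) = integralClosure A L :=
    integralClosure_map_algEquiv eA
  rw [← h2]
  have h3 : (integralClosure A K).toSubmodule.FG := Module.Finite.iff_fg.1 h1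
  change Module.Finite A ↥(Subalgebra.toSubmodule ((integralClosure A K).map (eA : K →ₐ[A] L)))
  apply Module.Finite.iff_fg.2
  rw [Subalgebra.map_toSubmodule]
  exact h3.map _

end Groth.Agent.Lib.Helper41.CurveN2
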