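import Mathlib
import Groth.Prelude.Def_P1
import Groth.Prelude.Def_BlowUp2
import Groth.Prelude.Def_RegImm
import Groth.Agent.Lib.Helper41.FlatBlowExc
import Groth.Agent.Lib.Helper43.KRSmoothImm
import Groth.Agent.Lib.Helper43.RelRegImmBC
import Groth.Agent.Lib.Helper43.KoszulH1
import Groth.Agent.Lib.Helper98.KoszulLES
import Groth.Agent.Lib.Helper16.ProjSpaceSmooth
import Groth.Agent.Lib.Helper7.ProjSpaceProper
import Groth.Agent.S9272
import Groth.Agent.S2103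

/-!
# Base change of the deformation to the normal cone (helper41)
-/

set_option autoImplicit false
universe u
open CategoryTheory CategoryTheory.Limits AlgebraicGeometry TopologicalSpace Opposite

noncomputable section

namespace Groth.Agent.Lib.Helper41.DefConeBC

open Groth.Agent.Lib.Helper16.ProjSpaceSmooth

/-- the projection to `P^1_ℤ` -/
def fstP (X : Scheme.{u}) : CohB1.ProjSpaceOver 1 X ⟶ CohB1.ProjSpace 1 P1.R0.{u} :=
  pullback.fst _ _

theorem P_hom_ext {Z X : Scheme.{u}} {a b : Z ⟶ CohB1.ProjSpaceOver 1 X}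
    (h1 : a ≫ fstP X = b ≫ fstP X)
    (h2 : a ≫ CohB1.ProjSpaceOver.toBase 1 X = b ≫ CohB1.ProjSpaceOver.toBase 1 X) : a = b :=
  pullback.hom_ext h1 h2

theorem sect_fst (X : Scheme.{u}) (i : Fin (1 + 1)) :
    P1.sect X i ≫ fstP X = specULiftZIsTerminal.from X ≫ P1.point i :=
  pullback.lift_fst _ _ _

@[reassoc]
theorem sect_toBase (X : Scheme.{u}) (i : Fin (1 + 1)) :
    P1.sect X i ≫ CohB1.ProjSpaceOver.toBase 1 X = 𝟙 X :=
  pullback.lift_snd _ _ _

theorem toP1_fst {X Y : Scheme.{u}} (g : X ⟶ Y) : P1.toP1 g ≫ fstP Y = fstP X :=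
  (pullback.lift_fst _ _ _).trans (Category.comp_id _)

theorem toP1_toBase {X Y : Scheme.{u}} (g : X ⟶ Y) :
    P1.toP1 g ≫ CohB1.ProjSpaceOver.toBase 1 Y = CohB1.ProjSpaceOver.toBase 1 X ≫ g :=
  pullback.lift_snd _ _ _

theorem mapBase_fstP {X Y : Scheme.{u}} (g : X ⟶ Y) : mapBase 1 g ≫ fstP Y = fstP X :=
  mapBase_fst 1 g

theorem mapBase_toBase {X Y : Scheme.{u}} (g : X ⟶ Y) :
    mapBase 1 g ≫ CohB1.ProjSpaceOver.toBase 1 Y = CohB1.ProjSpaceOver.toBase 1 X ≫ g :=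
  pullback.lift_snd _ _ _

theorem toP1_eq_mapBase {X Y : Scheme.{u}} (g : X ⟶ Y) : P1.toP1 g = mapBase 1 g :=
  P_hom_ext ((toP1_fst g).trans (mapBase_fstP g).symm)
    ((toP1_toBase g).trans (mapBase_toBase g).symm)

theorem isPullback_toP1 {X Y : Scheme.{u}} (g : X ⟶ Y) :
    IsPullback (P1.toP1 g) (CohB1.ProjSpaceOver.toBase 1 X) (CohB1.ProjSpaceOver.toBase 1 Y) g := by
  rw [toP1_eq_mapBase]
  exact isPullback_mapBase 1 g

theorem sect_toP1 {X Y : Scheme.{u}} (g : X ⟶ Y) (i : Fin (1 + 1)) :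
    P1.sect X i ≫ P1.toP1 g = g ≫ P1.sect Y i := by
  apply P_hom_ext
  · rw [Category.assoc, toP1_fst, sect_fst, Category.assoc, sect_fst, ← Category.assoc]
    congr 1
    exact specULiftZIsTerminal.hom_ext _ _
  · rw [Category.assoc, toP1_toBase, sect_toBase_assoc, Category.assoc, sect_toBase,
      Category.comp_id]

theorem isPullback_sect {X Y : Scheme.{u}} (g : X ⟶ Y) (i : Fin (1 + 1)) :
    IsPullback g (P1.sect X i) (P1.sect Y i) (P1.toP1 g) := by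
  refine IsPullback.of_bot ?_ (sect_toP1 g i).symm (isPullback_toP1 g)
  rw [sect_toBase, sect_toBase]
  exact IsPullback.of_vert_isIso ⟨by simp⟩

instance isClosedImmersion_sect (X : Scheme.{u}) (i : Fin (1 + 1)) :
    IsClosedImmersion (P1.sect X i) := by
  haveI : IsClosedImmersion (P1.sect X i ≫ CohB1.ProjSpaceOver.toBase 1 X) := by
    rw [sect_toBase]; infer_instance
  exact IsClosedImmersion.of_comp (P1.sect X i) (CohB1.ProjSpaceOver.toBase 1 X)

theorem ker_comp_sect_comap {X X' Y Y' : Scheme.{u}} (i : Y ⟶ X) [IsClosedImmersion i]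
    (g : X' ⟶ X) (i' : Y' ⟶ X') (gY : Y' ⟶ Y) (hY : IsPullback gY i' i g) (k : Fin (1 + 1)) :
    (i' ≫ P1.sect X' k).ker = (i ≫ P1.sect X k).ker.comap (P1.toP1 g) := by
  have hP : IsPullback gY (i' ≫ P1.sect X' k) (i ≫ P1.sect X k) (P1.toP1 g) :=
    hY.paste_vert (isPullback_sect g k)
  have h1 : hP.flip.isoPullback.hom ≫ pullback.fst (P1.toP1 g) (i ≫ P1.sect X k) =
      i' ≫ P1.sect X' k := hP.flip.isoPullback_hom_fst
  rw [← h1, Scheme.Hom.ker_comp_of_isIso, Scheme.IdealSheafData.ker_fst_of_isClosedImmersion]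


theorem isRegularImmersion_koszul_of_codim {X Y : Scheme.{u}} (i : Y ⟶ X) (c : ℕ)
    (hi : RegImm.IsRegularImmersionOfCodim .regular c i) : RegImm.IsRegularImmersion .koszul i :=
  ⟨hi.1, fun z => by
    obtain ⟨U, hz, hci, rs, -, hrs, hker⟩ := hi.2 z
    have hrs' : RingTheory.Sequence.IsRegular Γ(X, U.1) rs := hrs
    exact ⟨U, hz, hci, rs,
      (Helper98.KoszulLES.koszul_of_weaklyRegular rs hrs'.toIsWeaklyRegular).1, hker⟩⟩

theorem isRegularImmersion_koszul_comp_sect {X Y : Scheme.{u}} (i : Y ⟶ X) [IsClosedImmersion i]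
    (hi : RegImm.IsRegularImmersion .koszul i) (k : Fin (1 + 1)) :
    RegImm.IsRegularImmersion .koszul (i ≫ P1.sect X k) :=
  (Groth.Agent.Lib.Helper43.KRSmoothImm.regImm_koszul_iff_of_smooth i (i ≫ P1.sect X k)
    (CohB1.ProjSpaceOver.toBase 1 X)
    (by rw [Category.assoc, sect_toBase, Category.comp_id])).1 hi

open Groth.Agent.Lib.Helper43.RegImmComp Groth.Agent.Lib.Helper43.KindImmDescent
  Groth.Agent.Lib.Helper43.RelRegImmBC in
/-- the infinitesimal neighbourhoods of a Koszul-regularly immersed closed subscheme which is flat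
over the base are flat over the base -/
theorem flat_pow_subschemeι {Q Y S : Scheme.{u}} (q : Q ⟶ S) (j : Y ⟶ Q) [IsClosedImmersion j]
    [Flat (j ≫ q)] (hj : RegImm.IsRegularImmersion .koszul j) (m : ℕ) (hm : 1 ≤ m) :
    Flat ((j.ker ^ m).subschemeι ≫ q) := by
  rw [HasRingHomProperty.iff_exists_appLE (P := @Flat)
    (RingHom.Flat.stableUnderComposition.stableUnderCompositionWithLocalizationAway
      RingHom.Flat.holdsForLocalizationAway).1]
  intro x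
  have hx : (j.ker ^ m).subschemeι x ∈ Set.range j := by
    have h1 : (j.ker ^ m).subschemeι x ∈ ((j.ker ^ m).support : Set Q) := by
      rw [← Scheme.IdealSheafData.range_subschemeι]
      exact ⟨x, rfl⟩
    rw [Scheme.IdealSheafData.support_pow _ m (by omega), Scheme.Hom.support_ker,
      j.isClosedEmbedding.isClosed_range.closure_eq] at h1
    exact h1
  obtain ⟨y, hy⟩ := hx
  obtain ⟨U₀, hyU₀, hci₀, rs, hrs, hker⟩ := hj.2 y
  obtain ⟨W, hW, hyW, -⟩ := exists_isAffineOpen_mem_and_subset (U := (⊤ : S.Opens))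
    (x := q (j y)) trivial
  obtain ⟨U₁, hU₁, hyU₁, hU₁le⟩ := exists_isAffineOpen_mem_and_subset
    (U := U₀.1 ⊓ q ⁻¹ᵁ W) (x := j y) ⟨hyU₀, hyW⟩
  have hle₀ : U₁ ≤ U₀.1 := fun z hz => (hU₁le hz).1
  have e : U₁ ≤ q ⁻¹ᵁ W := fun z hz => (hU₁le hz).2
  haveI := hci₀
  obtain ⟨hci₁, rs₁, -, hrs₁, hker₁⟩ :=
    chart_restrict .koszul j U₀.1 U₀.2 rs hrs hker U₁ hU₁ hle₀ y hyU₁
  haveI := hci₁
  letI : Algebra Γ(S, W) Γ(Q, U₁) := (q.appLE W U₁ e).hom.toAlgebra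
  haveI hfl1 : Module.Flat Γ(S, W) (Γ(Q, U₁) ⧸ Ideal.span (Set.range rs₁.get)) :=
    flat_quotient_of_chart q j W hW U₁ hU₁ e rs₁ hker₁
  have hq : CAlgX.IsQuasiRegular rs₁.get :=
    Groth.Agent.S2103.result _
      (Groth.Agent.Lib.Helper43.KoszulH1.isH1Regular_of_isKoszulRegularSeq rs₁ hrs₁)
  have hflm : Module.Flat Γ(S, W) (Γ(Q, U₁) ⧸ Ideal.span (Set.range rs₁.get) ^ m) :=
    Groth.Agent.S9272.flat_pow Γ(S, W) rs₁.get hq m
  -- the affine open of the subscheme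
  have hV : IsAffineOpen ((j.ker ^ m).subschemeι ⁻¹ᵁ U₁) := hU₁.preimage _
  have hxV : x ∈ (j.ker ^ m).subschemeι ⁻¹ᵁ U₁ := by
    change (j.ker ^ m).subschemeι x ∈ U₁
    rw [← hy]; exact hyU₁
  have e' : (j.ker ^ m).subschemeι ⁻¹ᵁ U₁ ≤ ((j.ker ^ m).subschemeι ≫ q) ⁻¹ᵁ W := by
    rw [Scheme.Hom.comp_preimage]
    exact (j.ker ^ m).subschemeι.preimage_mono e
  refine ⟨⟨W, hW⟩, ⟨_, hV⟩, hxV, e', ?_⟩
  have hcomp : ((j.ker ^ m).subschemeι ≫ q).appLE W ((j.ker ^ m).subschemeι ⁻¹ᵁ U₁) e' =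
      q.appLE W U₁ e ≫ (j.ker ^ m).subschemeι.app U₁ := by
    have h2 := Scheme.Hom.appLE_comp_appLE (j.ker ^ m).subschemeι q W U₁
      ((j.ker ^ m).subschemeι ⁻¹ᵁ U₁) e le_rfl
    rw [Scheme.Hom.appLE_eq_app] at h2
    exact h2.symm
  rw [hcomp]
  have hker_m : RingHom.ker ((j.ker ^ m).subschemeι.app U₁).hom =
      Ideal.span (Set.range rs₁.get) ^ m := by
    rw [Scheme.IdealSheafData.ker_subschemeι_app (j.ker ^ m) ⟨U₁, hU₁⟩,
      Scheme.IdealSheafData.ideal_pow, Pi.pow_apply, Scheme.Hom.ker_apply, hker₁,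
      ofList_eq_span_range_get]
  exact Groth.Agent.Lib.Helper41.FlatBlowExc.flat_comp_of_surjective
    ((j.ker ^ m).subschemeι.app U₁).hom
    ((j.ker ^ m).subschemeι_app_surjective ⟨U₁, hU₁⟩) _ hker_m hflm


/-- **Formation of the deformation to the normal cone commutes with base change.** -/
theorem isBlowUp_baseChange_defCone {S S' X X' Y Y' M M' : Scheme.{u}} (f : X ⟶ S)
    (i : Y ⟶ X) [IsClosedImmersion i] (c : ℕ)
    (hi : RegImm.IsRegularImmersionOfCodim RegImm.Kind.regular c i) [Flat (i ≫ f)]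
    (b : M ⟶ CohB1.ProjSpaceOver 1 X) (hb : BlowUp.IsBlowUp b (i ≫ P1.sect X 1).ker)
    (h : S' ⟶ S) (f' : X' ⟶ S') (g : X' ⟶ X) (hX : IsPullback g f' f h)
    (i' : Y' ⟶ X') (gY : Y' ⟶ Y) (hY : IsPullback gY i' i g)
    (b' : M' ⟶ CohB1.ProjSpaceOver 1 X') (μ : M' ⟶ M) (hM : IsPullback μ b' b (P1.toP1 g)) :
    BlowUp.IsBlowUp b' (i' ≫ P1.sect X' 1).ker := by
  have hj := isRegularImmersion_koszul_comp_sect i (isRegularImmersion_koszul_of_codim i c hi) 1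
  haveI : Flat ((i ≫ P1.sect X 1) ≫ (CohB1.ProjSpaceOver.toBase 1 X ≫ f)) := by
    rw [Category.assoc, sect_toBase_assoc]
    infer_instance
  have hfl : ∀ m : ℕ, 1 ≤ m → Flat (((i ≫ P1.sect X 1).ker ^ m).subschemeι ≫
      (CohB1.ProjSpaceOver.toBase 1 X ≫ f)) := fun m hm =>
    flat_pow_subschemeι (CohB1.ProjSpaceOver.toBase 1 X ≫ f) (i ≫ P1.sect X 1) hj m hm
  have hXQ : IsPullback (P1.toP1 g) (CohB1.ProjSpaceOver.toBase 1 X' ≫ f')
      (CohB1.ProjSpaceOver.toBase 1 X ≫ f) h := (isPullback_toP1 g).paste_vert hX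
  have key := Groth.Agent.Lib.Helper41.FlatBlowExc.isBlowUp_baseChange
    (CohB1.ProjSpaceOver.toBase 1 X ≫ f) (i ≫ P1.sect X 1).ker hfl b hb h (P1.toP1 g)
    (CohB1.ProjSpaceOver.toBase 1 X' ≫ f') hXQ μ b' hM
  rwa [← ker_comp_sect_comap i g i' gY hY 1] at key

end Groth.Agent.Lib.Helper41.DefConeBC
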