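import Groth.Agent.Lib.Helper41.DimOpenRing
import Groth.Agent.Lib.Helper41.ConnFib
import Groth.Agent.S3404

/-!
# Dimension formula for a morphism open at the generic points of the fibre (EGA IV 14.2.1)
-/

set_option autoImplicit false
universe u
open CategoryTheory CategoryTheory.Limits AlgebraicGeometry IsLocalRing TopologicalSpace

namespace Groth.Agent.Lib.Helper41.DimOpen

open Groth.Agent.Lib.Helper67.FiberStalk

/-- Translating a hypothesis on maximal points of the scheme-theoretic fibre to points of `X`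
(as in helper73's `isOpenAt_of_fiber_hyp`). -/
lemma isOpenAt_of_fiber_hyp {X Y : Scheme.{u}} (f : X ⟶ Y) (x : X)
    (h : ∀ z : ↥(f.fiber (f.base x)), f.asFiber x ∈ closure {z} →
      (∀ z' : ↥(f.fiber (f.base x)), z ∈ closure {z'} → z' = z) →
      EGA43.IsOpenAt f.base ((f.fiberι (f.base x)).base z))
    (ζ : X) (hζx : ζ ⤳ x) (hfζ : f ζ = f x)
    (hζmax : ∀ t : X, t ⤳ ζ → f t = f ζ → t = ζ) : EGA43.IsOpenAt f.base ζ := by
  let z : f.fiber (f x) := (f.fiberHomeo (f x)).symm ⟨ζ, hfζ⟩
  have hz : f.fiberι (f x) z = ζ := f.fiberι_fiberHomeo_symm (f x) ⟨ζ, hfζ⟩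
  have hemb := (f.fiberι (f x)).isEmbedding
  have h1 : f.asFiber x ∈ closure {z} := by
    rw [← specializes_iff_mem_closure, ← hemb.isInducing.specializes_iff, hz, f.fiberι_asFiber x]
    exact hζx
  have h2 : ∀ z' : ↥(f.fiber (f.base x)), z ∈ closure {z'} → z' = z := by
    intro z' hz'
    apply hemb.injective
    rw [hz]
    apply hζmax
    · rw [← hz]
      exact (specializes_iff_mem_closure.mpr hz').map (f.fiberι (f x)).continuous
    · have : f.fiberι (f x) z' ∈ Set.range (f.fiberι (f x)) := ⟨z', rfl⟩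
      rw [f.range_fiberι (f x)] at this
      exact this.trans hfζ.symm
  have := h z h1 h2
  have key : ∀ y : X, f.fiberι (f x) z = y → EGA43.IsOpenAt f.base y := by
    rintro _ rfl; exact this
  exact key ζ hz

/-- **Dimension formula** (EGA IV 14.2.1-type): if `f` is open at the generic points of the
irreducible components of the fibre through `x`, then
`dim O_{X,x} = dim O_{Y,f x} + dim O_{X_{f x},x}`. -/
theorem ringKrullDim_stalk_eq_add {X Y : Scheme.{u}} [IsLocallyNoetherian X]
    [IsLocallyNoetherian Y] (f : X ⟶ Y) (x : X)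
    (h : ∀ z : ↥(f.fiber (f.base x)), f.asFiber x ∈ closure {z} →
      (∀ z' : ↥(f.fiber (f.base x)), z ∈ closure {z'} → z' = z) →
      EGA43.IsOpenAt f.base ((f.fiberι (f.base x)).base z)) :
    ringKrullDim (X.presheaf.stalk x) =
      ringKrullDim (Y.presheaf.stalk (f.base x)) +
        ringKrullDim ((f.fiber (f.base x)).presheaf.stalk (f.asFiber x)) := by
  rw [ringKrullDim_eq_of_ringEquiv (fiberStalkEquiv f x)]
  apply le_antisymm (DimOpenRing.ringKrullDim_le_add (f.stalkMap x).hom)
  apply DimOpenRing.add_le_ringKrullDim (f.stalkMap x).hom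
  intro 𝔮₀ h𝔮₀ p
  haveI : 𝔮₀.IsPrime := h𝔮₀.1.1
  have hinjY : Function.Injective (Y.fromSpecStalk (f.base x)).base :=
    (Y.fromSpecStalk (f.base x)).isEmbedding.injective
  have hindX : Topology.IsInducing (X.fromSpecStalk x).base :=
    (X.fromSpecStalk x).isEmbedding.isInducing
  let P : PrimeSpectrum (X.presheaf.stalk x) := ⟨𝔮₀, inferInstance⟩
  let z : X := (X.fromSpecStalk x).base P
  have hzx : z ⤳ x := by
    have : z ∈ Set.range (X.fromSpecStalk x).base := ⟨P, rfl⟩
    rwa [Scheme.range_fromSpecStalk] at this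
  have hfz : f.base z = f.base x := (ConnFib.fromSpecStalk_mem_fiber_iff f x P).2 h𝔮₀.1.2
  have hmax : ∀ t : X, t ⤳ z → f.base t = f.base z → t = z := by
    intro t htz hft
    have htx : t ∈ Set.range (X.fromSpecStalk x).base := by
      rw [Scheme.range_fromSpecStalk]; exact htz.trans hzx
    obtain ⟨Q', rfl⟩ := htx
    let Q : PrimeSpectrum (X.presheaf.stalk x) := Q'
    have hQP : Q.asIdeal ≤ 𝔮₀ :=
      (PrimeSpectrum.le_iff_specializes Q P).2 (hindX.specializes_iff.1 htz)
    have hIQ := (ConnFib.fromSpecStalk_mem_fiber_iff f x Q).1 (hft.trans hfz)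
    have : Q = P := PrimeSpectrum.ext (le_antisymm hQP (h𝔮₀.2 ⟨Q.isPrime, hIQ⟩ hQP))
    change (X.fromSpecStalk x).base Q = (X.fromSpecStalk x).base P
    rw [this]
  have hopen : EGA43.IsOpenAt f.base z := isOpenAt_of_fiber_hyp f x h z hzx hfz hmax
  let y' : Y := (Y.fromSpecStalk (f.base x)).base p
  have hy' : y' ⤳ f.base z := by
    rw [hfz]
    have : y' ∈ Set.range (Y.fromSpecStalk (f.base x)).base := ⟨p, rfl⟩
    rwa [Scheme.range_fromSpecStalk] at this
  obtain ⟨x', hx'z, hfx'⟩ := (Groth.Agent.S3404.result f z).1 hopen y' hy'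
  have hx'x : x' ∈ Set.range (X.fromSpecStalk x).base := by
    rw [Scheme.range_fromSpecStalk]; exact hx'z.trans hzx
  obtain ⟨Q', rfl⟩ := hx'x
  let Q : PrimeSpectrum (X.presheaf.stalk x) := Q'
  refine ⟨Q, (PrimeSpectrum.le_iff_specializes Q P).2 (hindX.specializes_iff.1 hx'z), ?_⟩
  apply hinjY
  have := FlatDvrSch.map_fromSpecStalk f x Q'
  rw [hfx'] at this
  exact this.symm

end Groth.Agent.Lib.Helper41.DimOpen
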