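import Mathlib.RingTheory.Ideal.KrullsHeightTheorem
import Mathlib.RingTheory.Ideal.Height
import Mathlib.RingTheory.KrullDimension.NonZeroDivisors
import Mathlib.RingTheory.KrullDimension.Basic
import Mathlib.RingTheory.Ideal.MinimalPrime.Localization
import Mathlib.RingTheory.Localization.AtPrime.Basic
import Mathlib.RingTheory.LocalRing.RingHom.Basic
import Mathlib.Order.KrullDimension

/-!
# Dimension formula for a local homomorphism with going-down at the generic points of the fibre

The first part (`ringKrullDim_quotient_eq_coheight`, `exists_gt_coheight_eq_not_le`,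
`exists_comap_eq_coheight_le`) is taken from helper73's `DimFormula/OpenDim.lean` (ring lemma
section), made independent of the rest of that library.
-/

set_option autoImplicit false
open IsLocalRing

namespace Groth.Agent.Lib.Helper41.DimOpenRing

section RingLemma

variable {A : Type*} [CommRing A]

/-- `dim A/p` is the coheight of `p` in the spectrum. -/
lemma ringKrullDim_quotient_eq_coheight (p : PrimeSpectrum A) :
    ringKrullDim (A ⧸ p.asIdeal) = (Order.coheight p : WithBot ℕ∞) := by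
  rw [ringKrullDim_quotient, Order.coheight_eq_krullDim_Ici]
  have : PrimeSpectrum.zeroLocus (p.asIdeal : Set A) = Set.Ici p := by
    ext P
    simp only [PrimeSpectrum.mem_zeroLocus, SetLike.coe_subset_coe, Set.mem_Ici]
    rfl
  rw [this]

/-- Relative Krull principal ideal theorem: if `P₁` is minimal over `p + (x)`, there is no prime
strictly between `p` and `P₁`. -/
lemma eq_of_le_of_lt_of_mem_minimalPrimes [IsNoetherianRing A] (p P₁ Q : PrimeSpectrum A) (x : A)
    (hP₁ : P₁.asIdeal ∈ (p.asIdeal ⊔ Ideal.span {x}).minimalPrimes)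
    (hpQ : p ≤ Q) (hQP : Q < P₁) : Q = p := by
  have h1 := Ideal.map_height_le_one_of_mem_minimalPrimes hP₁
  let f := Ideal.Quotient.mk p.asIdeal
  have hker : RingHom.ker f = p.asIdeal := Ideal.mk_ker
  have hQk : RingHom.ker f ≤ Q.asIdeal := hker.trans_le hpQ
  have hPk : RingHom.ker f ≤ P₁.asIdeal := hQk.trans hQP.le
  haveI : (Q.asIdeal.map f).IsPrime :=
    Ideal.map_isPrime_of_surjective Ideal.Quotient.mk_surjective hQk
  haveI : (P₁.asIdeal.map f).IsPrime :=
    Ideal.map_isPrime_of_surjective Ideal.Quotient.mk_surjective hPk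
  have hcQ : (Q.asIdeal.map f).comap f = Q.asIdeal := by
    rw [Ideal.comap_map_of_surjective f Ideal.Quotient.mk_surjective]
    exact sup_eq_left.2 (by rw [← RingHom.ker_eq_comap_bot]; exact hQk)
  have hcP : (P₁.asIdeal.map f).comap f = P₁.asIdeal := by
    rw [Ideal.comap_map_of_surjective f Ideal.Quotient.mk_surjective]
    exact sup_eq_left.2 (by rw [← RingHom.ker_eq_comap_bot]; exact hPk)
  have hlt : Q.asIdeal.map f < P₁.asIdeal.map f := by
    refine lt_of_le_of_ne (Ideal.map_mono hQP.le) ?_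
    intro heq
    have : Q.asIdeal = P₁.asIdeal := by rw [← hcQ, ← hcP, heq]
    exact hQP.ne (PrimeSpectrum.ext this)
  have h2 : (Q.asIdeal.map f).height < (P₁.asIdeal.map f).height :=
    Ideal.height_strict_mono_of_isPrime_of_isPrime hlt
  have h3 : (Q.asIdeal.map f).height = 0 := by
    have : (Q.asIdeal.map f).height < 1 := h2.trans_le h1
    exact Order.lt_one_iff.1 this
  haveI : IsDomain (A ⧸ p.asIdeal) := Ideal.Quotient.isDomain _
  rw [Ideal.height_eq_zero_iff_eq_bot] at h3
  apply le_antisymm _ hpQ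
  change Q.asIdeal ≤ p.asIdeal
  rw [← hcQ, h3, ← RingHom.ker_eq_comap_bot, hker]

/-- In a Noetherian ring, if `p` has coheight `d + 1 ≥ 2` and `J ⊄ p`, there is a prime `p₁ ⊋ p`
of coheight `d` with `J ⊄ p₁`. -/
lemma exists_gt_coheight_eq_not_le [IsNoetherianRing A] (p : PrimeSpectrum A) (d : ℕ) (hd : 1 ≤ d)
    (hp : Order.coheight p = ((d : ℕ) : ℕ∞) + 1) (J : Ideal A) (hJ : ¬ J ≤ p.asIdeal) :
    ∃ p₁ : PrimeSpectrum A, p < p₁ ∧ Order.coheight p₁ = ((d : ℕ) : ℕ∞) ∧ ¬ J ≤ p₁.asIdeal := by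
  classical
  obtain ⟨-, ⟨P1', hpP1', hP1'⟩, hall⟩ := Order.coheight_eq_coe_add_one_iff.mp hp
  obtain ⟨d', rfl⟩ : ∃ d', d = d' + 1 := ⟨d - 1, by omega⟩
  have hP1'' : Order.coheight P1' = ((d' : ℕ) : ℕ∞) + 1 := by rw [hP1']; push_cast; rfl
  obtain ⟨-, ⟨P2, hP1'P2, hP2⟩, -⟩ := Order.coheight_eq_coe_add_one_iff.mp hP1''
  have hpP2 : p < P2 := hpP1'.trans hP1'P2
  -- minimal primes over `p + J`
  have hfin : (p.asIdeal ⊔ J).minimalPrimes.Finite :=
    Ideal.finite_minimalPrimes_of_isNoetherianRing A _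
  let M' : Finset (Ideal A) := hfin.toFinset.filter (fun q => ¬ P2.asIdeal ≤ q)
  let s : Finset (Ideal A) := insert p.asIdeal M'
  have hsprime : ∀ i ∈ s, i ≠ p.asIdeal → i ≠ p.asIdeal → (id i : Ideal A).IsPrime := by
    intro i hi hne _
    rw [Finset.mem_insert] at hi
    rcases hi with rfl | hi
    · exact absurd rfl hne
    · rw [Finset.mem_filter, Set.Finite.mem_toFinset] at hi
      exact hi.1.isPrime
  have havoid : ¬ ((P2.asIdeal : Set A) ⊆ ⋃ i ∈ (↑s : Set (Ideal A)), (id i : Ideal A)) := by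
    rw [Ideal.subset_union_prime p.asIdeal p.asIdeal hsprime]
    rintro ⟨i, hi, hle⟩
    rw [Finset.mem_insert] at hi
    rcases hi with rfl | hi
    · exact absurd (show P2 ≤ p from hle) (not_le_of_gt hpP2)
    · rw [Finset.mem_filter] at hi
      exact hi.2 hle
  rw [Set.not_subset] at havoid
  obtain ⟨x, hxP2, hxs⟩ := havoid
  have hxs' : ∀ i ∈ s, x ∉ i := by
    intro i hi hxi
    apply hxs
    simp only [Set.mem_iUnion]
    exact ⟨i, hi, hxi⟩
  have hxp : x ∉ p.asIdeal := hxs' _ (Finset.mem_insert_self _ _)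
  have hle2 : p.asIdeal ⊔ Ideal.span {x} ≤ P2.asIdeal := by
    rw [sup_le_iff]
    refine ⟨hpP2.le, ?_⟩
    rw [Ideal.span_le, Set.singleton_subset_iff]
    exact hxP2
  obtain ⟨P1i, hP1i, hP1iP2⟩ := Ideal.exists_minimalPrimes_le hle2
  have hP1prime : P1i.IsPrime := hP1i.1.1
  let P1 : PrimeSpectrum A := ⟨P1i, hP1prime⟩
  have hpP1le : p ≤ P1 := le_sup_left.trans hP1i.1.2
  have hxP1 : x ∈ P1i := hP1i.1.2 (Ideal.mem_sup_right (Ideal.mem_span_singleton_self x))
  have hpP1 : p < P1 := by
    refine lt_of_le_of_ne hpP1le ?_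
    intro heq
    apply hxp
    rw [heq]
    exact hxP1
  have hP1P2 : P1 < P2 := by
    refine lt_of_le_of_ne hP1iP2 ?_
    intro heq
    have := eq_of_le_of_lt_of_mem_minimalPrimes p P1 P1' x hP1i hpP1'.le (by rw [heq]; exact hP1'P2)
    exact absurd this (ne_of_gt hpP1')
  refine ⟨P1, hpP1, ?_, ?_⟩
  · apply le_antisymm (hall P1 hpP1)
    have := Order.coheight_add_one_le hP1P2
    rw [hP2] at this
    push_cast
    exact this
  · intro hJP1
    have hle3 : p.asIdeal ⊔ J ≤ P1i := sup_le hpP1le hJP1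
    obtain ⟨q, hq, hqP1⟩ := Ideal.exists_minimalPrimes_le hle3
    have hqprime : q.IsPrime := hq.1.1
    let Q : PrimeSpectrum A := ⟨q, hqprime⟩
    have hpQ : p ≤ Q := le_sup_left.trans hq.1.2
    have hQne : Q ≠ p := by
      intro heq
      apply hJ
      have : J ≤ q := le_sup_right.trans hq.1.2
      rw [← heq]
      exact this
    have hQP1 : Q = P1 := by
      by_contra hne
      exact hQne (eq_of_le_of_lt_of_mem_minimalPrimes p P1 Q x hP1i hpQ
        (lt_of_le_of_ne hqP1 hne))
    have hqM' : q ∈ M' := by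
      rw [Finset.mem_filter, Set.Finite.mem_toFinset]
      refine ⟨hq, ?_⟩
      intro hP2q
      have : P2 ≤ P1 := by rw [← hQP1]; exact hP2q
      exact absurd this (not_le_of_gt hP1P2)
    have hxq : x ∈ q := by
      have : q = P1i := congrArg PrimeSpectrum.asIdeal hQP1
      rw [this]
      exact hxP1
    exact hxs' q (Finset.mem_insert_of_mem hqM') hxq


/-- Let `φ : A → B` be a local homomorphism of Noetherian local rings and `p` a prime of `A` such
that all primes of `V(p)` in a nonempty open subset `D(I)` are contractions of primes of `B`. Then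
there is a prime `q` of `B` over `p` with `dim B/q ≥ dim A/p`. -/
theorem exists_comap_eq_coheight_le {B : Type*} [CommRing B] [IsNoetherianRing A] [IsLocalRing A]
    [IsNoetherianRing B] [IsLocalRing B] (φ : A →+* B) [IsLocalHom φ] (d : ℕ) :
    ∀ (p : PrimeSpectrum A) (I : Ideal A), ¬ I ≤ p.asIdeal → Order.coheight p = ((d : ℕ) : ℕ∞) →
      (∀ p' : PrimeSpectrum A, p ≤ p' → ¬ I ≤ p'.asIdeal →
        ∃ q' : PrimeSpectrum B, PrimeSpectrum.comap φ q' = p') →
      ∃ q : PrimeSpectrum B, PrimeSpectrum.comap φ q = p ∧ ((d : ℕ) : ℕ∞) ≤ Order.coheight q := by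
  classical
  induction d with
  | zero =>
    intro p I _ hp _
    refine ⟨IsLocalRing.closedPoint B, ?_, by simp⟩
    rw [IsLocalRing.comap_closedPoint]
    have hmax : IsMax p := Order.coheight_eq_zero.mp (by simpa using hp)
    have hle : p ≤ IsLocalRing.closedPoint A := IsLocalRing.le_maximalIdeal p.2.ne_top
    exact le_antisymm (hmax hle) hle
  | succ d ih =>
    intro p I hI hp hlift
    rcases Nat.eq_zero_or_pos d with rfl | hd
    · -- `d + 1 = 1`
      obtain ⟨q', hq'⟩ := hlift p le_rfl hI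
      refine ⟨q', hq', ?_⟩
      have hle : q' ≤ IsLocalRing.closedPoint B := IsLocalRing.le_maximalIdeal q'.2.ne_top
      have hne : q' ≠ IsLocalRing.closedPoint B := by
        intro heq
        rw [heq, IsLocalRing.comap_closedPoint] at hq'
        have h0 : Order.coheight (IsLocalRing.closedPoint A) = 0 := by
          rw [Order.coheight_eq_zero]
          intro t ht
          exact (IsLocalRing.le_maximalIdeal t.2.ne_top : t ≤ IsLocalRing.closedPoint A)
        rw [← hq', h0] at hp
        norm_num at hp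
      have := Order.coheight_add_one_le (lt_of_le_of_ne hle hne)
      calc ((0 + 1 : ℕ) : ℕ∞) = 0 + 1 := by norm_num
        _ ≤ Order.coheight (IsLocalRing.closedPoint B) + 1 := by gcongr; exact bot_le
        _ ≤ Order.coheight q' := this
    · -- `d + 1 ≥ 2`
      have hfin : (p.asIdeal.map φ).minimalPrimes.Finite :=
        Ideal.finite_minimalPrimes_of_isNoetherianRing B _
      let N : Finset (Ideal B) := hfin.toFinset.filter (fun q => q.comap φ ≠ p.asIdeal)
      let I' : Ideal A := I ⊓ N.inf (fun q => q.comap φ)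
      have hI'I : I' ≤ I := inf_le_left
      have hI'N : ∀ q ∈ N, I' ≤ q.comap φ := fun q hq => inf_le_right.trans (Finset.inf_le hq)
      have hI'p : ¬ I' ≤ p.asIdeal := by
        intro hle
        rcases p.2.inf_le.mp hle with h | h
        · exact hI h
        · obtain ⟨q, hqN, hqp⟩ := p.2.inf_le'.mp h
          rw [Finset.mem_filter, Set.Finite.mem_toFinset] at hqN
          apply hqN.2
          apply le_antisymm hqp
          rw [← Ideal.map_le_iff_le_comap]
          exact hqN.1.1.2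
      have hp' : Order.coheight p = ((d : ℕ) : ℕ∞) + 1 := by rw [hp]; push_cast; rfl
      obtain ⟨p₁, hpp₁, hp₁, hI'p₁⟩ := exists_gt_coheight_eq_not_le p d hd hp' I' hI'p
      obtain ⟨q₁, hq₁, hdq₁⟩ := ih p₁ I' hI'p₁ hp₁ (by
        intro p' hp₁p' hI'p'
        exact hlift p' (hpp₁.le.trans hp₁p') (fun h => hI'p' (hI'I.trans h)))
      have hmap : p.asIdeal.map φ ≤ q₁.asIdeal := by
        rw [Ideal.map_le_iff_le_comap]
        have : p ≤ PrimeSpectrum.comap φ q₁ := by rw [hq₁]; exact hpp₁.le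
        exact this
      obtain ⟨qi, hqi, hqiq₁⟩ := Ideal.exists_minimalPrimes_le hmap
      have hqiprime : qi.IsPrime := hqi.1.1
      let q : PrimeSpectrum B := ⟨qi, hqiprime⟩
      have hcomap : qi.comap φ = p.asIdeal := by
        by_contra hne
        have hqN : qi ∈ N := by
          rw [Finset.mem_filter, Set.Finite.mem_toFinset]
          exact ⟨hqi, hne⟩
        apply hI'p₁
        refine (hI'N qi hqN).trans ?_
        have h1 : qi.comap φ ≤ q₁.asIdeal.comap φ := Ideal.comap_mono hqiq₁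
        have h2 : q₁.asIdeal.comap φ = p₁.asIdeal := congrArg PrimeSpectrum.asIdeal hq₁
        rw [h2] at h1
        exact h1
      have hcomap' : PrimeSpectrum.comap φ q = p := PrimeSpectrum.ext hcomap
      refine ⟨q, hcomap', ?_⟩
      have hlt : q < q₁ := by
        refine lt_of_le_of_ne hqiq₁ ?_
        intro heq
        rw [heq, hq₁] at hcomap'
        exact absurd hcomap' (ne_of_gt hpp₁)
      have := Order.coheight_add_one_le hlt
      calc ((d + 1 : ℕ) : ℕ∞) = (d : ℕ∞) + 1 := by push_cast; rfl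
        _ ≤ Order.coheight q₁ + 1 := by gcongr
        _ ≤ Order.coheight q := this


end RingLemma

section DimFormula

lemma height_add_coheight_le {α : Type*} [Preorder α] (a : α) :
    ((Order.height a + Order.coheight a : ℕ∞) : WithBot ℕ∞) ≤ Order.krullDim α := by
  haveI : Nonempty α := ⟨a⟩
  rw [Order.krullDim_eq_iSup_height_add_coheight_of_nonempty, WithBot.coe_le_coe]
  exact le_iSup (fun a : α => Order.height a + Order.coheight a) a

lemma exists_nat_ringKrullDim (R : Type*) [CommRing R] [FiniteRingKrullDim R] :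
    ∃ n : ℕ, ringKrullDim R = n := by
  have h1 := ringKrullDim_ne_top (R := R)
  have h2 := ringKrullDim_ne_bot (R := R)
  cases h : ringKrullDim R with
  | bot => exact absurd h h2
  | coe a =>
    cases a with
    | top => exact absurd h h1
    | coe n => exact ⟨n, rfl⟩

variable {A B : Type*} [CommRing A] [CommRing B] [IsNoetherianRing A] [IsLocalRing A]
  [IsNoetherianRing B] [IsLocalRing B]

omit [IsNoetherianRing A] [IsNoetherianRing B] in
theorem isLocalRing_quotient_map (φ : A →+* B) [IsLocalHom φ] :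
    ∃ _ : Nontrivial (B ⧸ Ideal.map φ (maximalIdeal A)),
      IsLocalRing (B ⧸ Ideal.map φ (maximalIdeal A)) := by
  have hIle : Ideal.map φ (maximalIdeal A) ≤ maximalIdeal B :=
    ((local_hom_TFAE φ).out 0 2).1 ‹IsLocalHom φ›
  have hnt : Nontrivial (B ⧸ Ideal.map φ (maximalIdeal A)) :=
    Ideal.Quotient.nontrivial_iff.2 (fun h => by
      rw [h] at hIle
      exact (IsLocalRing.maximalIdeal.isMaximal B).ne_top (top_le_iff.1 hIle))
  exact ⟨hnt, IsLocalRing.of_surjective' (Ideal.Quotient.mk _) Ideal.Quotient.mk_surjective⟩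

/-- `dim B ≤ dim A + dim B/𝔪_A B`. -/
theorem ringKrullDim_le_add (φ : A →+* B) [IsLocalHom φ] :
    ringKrullDim B ≤ ringKrullDim A + ringKrullDim (B ⧸ Ideal.map φ (maximalIdeal A)) := by
  obtain ⟨hnt, hloc⟩ := isLocalRing_quotient_map φ
  have hIle : Ideal.map φ (maximalIdeal A) ≤ maximalIdeal B :=
    ((local_hom_TFAE φ).out 0 2).1 ‹IsLocalHom φ›
  algebraize [φ]
  have hcomap : (maximalIdeal B).comap φ = maximalIdeal A :=
    ((local_hom_TFAE φ).out 0 4).1 ‹IsLocalHom φ›
  haveI : (maximalIdeal B).LiesOver (maximalIdeal A) := ⟨hcomap.symm⟩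
  have h := Ideal.height_le_height_add_of_liesOver (maximalIdeal A) (maximalIdeal B)
  have hmax : (maximalIdeal B).map (Ideal.Quotient.mk (Ideal.map φ (maximalIdeal A))) =
      maximalIdeal (B ⧸ Ideal.map φ (maximalIdeal A)) := by
    apply IsLocalRing.eq_maximalIdeal
    exact Ideal.IsMaximal.map_of_surjective_of_ker_le Ideal.Quotient.mk_surjective
      (by rw [Ideal.mk_ker]; exact hIle)
  have h' : (maximalIdeal B).height ≤ (maximalIdeal A).height +
      (maximalIdeal (B ⧸ Ideal.map φ (maximalIdeal A))).height := by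
    rw [← hmax]; exact h
  rw [← IsLocalRing.maximalIdeal_height_eq_ringKrullDim,
    ← IsLocalRing.maximalIdeal_height_eq_ringKrullDim,
    ← IsLocalRing.maximalIdeal_height_eq_ringKrullDim]
  exact_mod_cast h'

/-- `dim A + dim B/𝔪_A B ≤ dim B` if every prime of `A` lifts to a prime contained in any given
minimal prime of `𝔪_A B`. -/
theorem add_le_ringKrullDim (φ : A →+* B) [IsLocalHom φ]
    (hgd : ∀ 𝔮₀ ∈ (Ideal.map φ (maximalIdeal A)).minimalPrimes, ∀ p : PrimeSpectrum A,
      ∃ 𝔮 : PrimeSpectrum B, 𝔮.asIdeal ≤ 𝔮₀ ∧ PrimeSpectrum.comap φ 𝔮 = p) :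
    ringKrullDim A + ringKrullDim (B ⧸ Ideal.map φ (maximalIdeal A)) ≤ ringKrullDim B := by
  classical
  obtain ⟨hnt, hloc⟩ := isLocalRing_quotient_map φ
  obtain ⟨n, hn⟩ := exists_nat_ringKrullDim (B ⧸ Ideal.map φ (maximalIdeal A))
  obtain ⟨d, hd⟩ := exists_nat_ringKrullDim A
  -- a chain in `B/I`
  obtain ⟨l, hl⟩ := (Order.le_krullDim_iff
    (α := PrimeSpectrum (B ⧸ Ideal.map φ (maximalIdeal A)))).1 (le_of_eq hn.symm)
  let c : PrimeSpectrum (B ⧸ Ideal.map φ (maximalIdeal A)) → PrimeSpectrum B :=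
    PrimeSpectrum.comap (Ideal.Quotient.mk _)
  have hc : StrictMono c := by
    apply Monotone.strictMono_of_injective
    · intro P P' h
      exact Ideal.comap_mono h
    · exact PrimeSpectrum.comap_injective_of_surjective _ Ideal.Quotient.mk_surjective
  have h1 : (n : ℕ∞) ≤ Order.coheight (c l.head) := by
    calc (n : ℕ∞) = l.length := by rw [hl]
      _ ≤ Order.coheight l.head := Order.length_le_coheight_head
      _ ≤ Order.coheight (c l.head) := Order.coheight_le_coheight_apply_of_strictMono c hc _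
  have hIP : Ideal.map φ (maximalIdeal A) ≤ (c l.head).asIdeal := by
    intro b hb
    change Ideal.Quotient.mk _ b ∈ l.head.asIdeal
    rw [Ideal.Quotient.eq_zero_iff_mem.2 hb]
    exact zero_mem _
  obtain ⟨𝔮₀, h𝔮₀, h𝔮₀le⟩ := Ideal.exists_minimalPrimes_le hIP
  haveI : 𝔮₀.IsPrime := h𝔮₀.1.1
  let Q₀ : PrimeSpectrum B := ⟨𝔮₀, inferInstance⟩
  have h2 : (n : ℕ∞) ≤ Order.coheight Q₀ :=
    h1.trans (Order.coheight_anti (show Q₀ ≤ c l.head from h𝔮₀le))
  -- a chain in `A`
  obtain ⟨lA, hlA⟩ := (Order.le_krullDim_iff (α := PrimeSpectrum A)).1 (le_of_eq hd.symm)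
  have hp : Order.coheight lA.head = (d : ℕ∞) := by
    apply le_antisymm
    · have h := Order.coheight_le_krullDim lA.head
      have h' : Order.krullDim (PrimeSpectrum A) = (d : WithBot ℕ∞) := hd
      rw [h'] at h
      exact_mod_cast h
    · rw [← hlA]; exact Order.length_le_coheight_head
  -- localize at `𝔮₀`
  let φ₀ : A →+* Localization.AtPrime 𝔮₀ := (algebraMap B (Localization.AtPrime 𝔮₀)).comp φ
  haveI : IsLocalHom φ₀ := by
    apply ((local_hom_TFAE φ₀).out 0 3).2
    intro a ha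
    have h3 : φ a ∈ 𝔮₀ := h𝔮₀.1.2 (Ideal.mem_map_of_mem φ ha)
    rw [← IsLocalization.AtPrime.under_maximalIdeal (Localization.AtPrime 𝔮₀) 𝔮₀] at h3
    exact h3
  obtain ⟨q, hq, hdq⟩ := exists_comap_eq_coheight_le φ₀ d lA.head ⊤
    (fun h => lA.head.2.ne_top (top_le_iff.1 h)) hp (by
      intro p' _ _
      obtain ⟨𝔮, h𝔮le, h𝔮p⟩ := hgd 𝔮₀ h𝔮₀ p'
      have hdisj : Disjoint (𝔮₀.primeCompl : Set B) 𝔮.asIdeal := by
        rw [Set.disjoint_left]
        intro b hb hb'
        exact hb (h𝔮le hb')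
      refine ⟨⟨Ideal.map (algebraMap B (Localization.AtPrime 𝔮₀)) 𝔮.asIdeal,
        IsLocalization.isPrime_of_isPrime_disjoint 𝔮₀.primeCompl _ _ 𝔮.2 hdisj⟩, ?_⟩
      apply PrimeSpectrum.ext
      change Ideal.comap φ₀ (Ideal.map (algebraMap B (Localization.AtPrime 𝔮₀)) 𝔮.asIdeal) =
        p'.asIdeal
      rw [← h𝔮p]
      change _ = Ideal.comap φ 𝔮.asIdeal
      rw [← Ideal.comap_comap]
      congr 1
      exact IsLocalization.under_map_of_isPrime_disjoint 𝔮₀.primeCompl _ 𝔮.2 hdisj)
  have h3 : (d : WithBot ℕ∞) ≤ ringKrullDim (Localization.AtPrime 𝔮₀) := by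
    calc (d : WithBot ℕ∞) ≤ ((Order.coheight q : ℕ∞) : WithBot ℕ∞) := by exact_mod_cast hdq
      _ ≤ Order.krullDim (PrimeSpectrum (Localization.AtPrime 𝔮₀)) :=
        Order.coheight_le_krullDim q
  rw [IsLocalization.AtPrime.ringKrullDim_eq_height 𝔮₀ (Localization.AtPrime 𝔮₀)] at h3
  have h4 : (d : ℕ∞) ≤ Order.height Q₀ := by
    rw [← PrimeSpectrum.height_eq_orderHeight]
    exact_mod_cast h3
  rw [hd, hn]
  calc ((d : ℕ) : WithBot ℕ∞) + ((n : ℕ) : WithBot ℕ∞)
      ≤ ((Order.height Q₀ + Order.coheight Q₀ : ℕ∞) : WithBot ℕ∞) := by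
        exact_mod_cast add_le_add h4 h2
    _ ≤ ringKrullDim B := height_add_coheight_le Q₀

end DimFormula

end Groth.Agent.Lib.Helper41.DimOpenRing
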