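import Mathlib

/-!
# A one-dimensional Noetherian local ring integrally closed in an overring where a parameter is
invertible is a discrete valuation ring
-/

open IsLocalRing

namespace Groth.Agent.Lib.Helper41

/-- In a local ring of dimension one, a prime other than the maximal ideal is minimal. -/
theorem mem_minimalPrimes_of_ne_maximalIdeal {S : Type*} [CommRing S] [IsLocalRing S]
    (hdim : ringKrullDim S = 1) (q : Ideal S) [q.IsPrime] (hq : q ≠ maximalIdeal S) :
    q ∈ minimalPrimes S := by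
  have hK : Ring.KrullDimLE 1 S := Ring.krullDimLE_iff.2 (by rw [hdim]; rfl)
  rcases Ring.krullDimLE_one_iff.1 hK q inferInstance with h | h
  · exact h
  · exact absurd (IsLocalRing.eq_maximalIdeal h) hq

/-- In a local ring of dimension one the maximal ideal is not a minimal prime. -/
theorem maximalIdeal_notMem_minimalPrimes {S : Type*} [CommRing S] [IsLocalRing S]
    (hdim : ringKrullDim S = 1) : maximalIdeal S ∉ minimalPrimes S := by
  intro h
  have h0 : (maximalIdeal S).height = 0 := Ideal.height_eq_zero_iff.2 h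
  have h1 := IsLocalRing.maximalIdeal_height_eq_ringKrullDim (R := S)
  rw [h0, hdim] at h1
  exact absurd h1 (by decide)

/-- Prime avoidance in a one-dimensional Noetherian local ring: some element of the maximal ideal
lies in no other prime. -/
theorem exists_mem_maximalIdeal_forall_prime_notMem {S : Type*} [CommRing S] [IsNoetherianRing S]
    [IsLocalRing S] (hdim : ringKrullDim S = 1) :
    ∃ a ∈ maximalIdeal S, ∀ q : Ideal S, q.IsPrime → q ≠ maximalIdeal S → a ∉ q := by
  classical
  have hfin : (minimalPrimes S).Finite := minimalPrimes.finite_of_isNoetherianRing S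
  by_contra hcon
  push Not at hcon
  have hsub : ((maximalIdeal S : Ideal S) : Set S) ⊆
      ⋃ q ∈ ((hfin.toFinset : Finset (Ideal S)) : Set (Ideal S)), ((q : Ideal S) : Set S) := by
    intro a ha
    obtain ⟨q, hq, hqm, haq⟩ := hcon a ha
    haveI := hq
    have hmin := mem_minimalPrimes_of_ne_maximalIdeal hdim q hqm
    simp only [Set.mem_iUnion]
    exact ⟨q, by simpa using hmin, haq⟩
  obtain ⟨q, hq, hle⟩ := (Ideal.subset_union_prime (f := fun q : Ideal S => q) ⊥ ⊥
    (fun i hi _ _ => (hfin.mem_toFinset.1 hi).1.1)).1 hsub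
  have hqmin : q ∈ minimalPrimes S := hfin.mem_toFinset.1 hq
  haveI : q.IsPrime := hqmin.1.1
  have : q = maximalIdeal S := le_antisymm (IsLocalRing.le_maximalIdeal (Ideal.IsPrime.ne_top ‹_›)) hle
  exact maximalIdeal_notMem_minimalPrimes hdim (this ▸ hqmin)

/-- If `y ∈ C` stabilises the image of a finitely generated ideal containing an element that
becomes a unit of `C`, then `y` is integral over `S`. -/
theorem isIntegralElem_of_mul_mem {S C : Type*} [CommRing S] [CommRing C] [IsNoetherianRing S]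
    (j : S →+* C) (I : Ideal S) (a : S) (ha : a ∈ I) (hau : IsUnit (j a)) (y : C)
    (hy : ∀ m ∈ I, ∃ s ∈ I, y * j m = j s) : j.IsIntegralElem y := by
  letI := j.toAlgebra
  let N : Submodule S C := Submodule.map (Algebra.linearMap S C) I
  have hNfg : N.FG := Submodule.FG.map _ (IsNoetherian.noetherian I)
  haveI : IsNoetherian S N := isNoetherian_of_fg_of_noetherian N hNfg
  let A' : Subalgebra S C :=
    { carrier := { x | ∀ n ∈ N, x * n ∈ N }
      mul_mem' := fun {x z} hx hz n hn => by rw [mul_assoc]; exact hx _ (hz _ hn)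
      one_mem' := fun n hn => by rwa [one_mul]
      add_mem' := fun {x z} hx hz n hn => by rw [add_mul]; exact N.add_mem (hx _ hn) (hz _ hn)
      zero_mem' := fun n _ => by rw [zero_mul]; exact N.zero_mem
      algebraMap_mem' := fun r n hn => by
        rw [← Algebra.smul_def]; exact N.smul_mem r hn }
  have hjaN : j a ∈ N := ⟨a, ha, rfl⟩
  let g : Subalgebra.toSubmodule A' →ₗ[S] N :=
    { toFun := fun x => ⟨x.1 * j a, x.2 _ hjaN⟩
      map_add' := fun x z => Subtype.ext (add_mul _ _ _)
      map_smul' := fun r x => Subtype.ext (by simp [Algebra.smul_def, mul_assoc]) }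
  have hg : Function.Injective g := by
    intro x z hxz
    have h1 : x.1 * j a = z.1 * j a := congrArg Subtype.val hxz
    exact Subtype.ext (hau.mul_left_injective h1)
  have hA'noeth : IsNoetherian S (Subalgebra.toSubmodule A') := isNoetherian_of_injective g hg
  have hyA' : y ∈ A' := by
    rintro _ ⟨m, hm, rfl⟩
    obtain ⟨s, hs, hys⟩ := hy m hm
    exact ⟨s, hs, hys.symm⟩
  exact isIntegral_of_submodule_noetherian A' hA'noeth y hyA'

/-- A Noetherian local ring of dimension one with principal maximal ideal is a discrete valuation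
ring (and a domain). -/
theorem isDVR_of_maximalIdeal_eq_span {S : Type*} [CommRing S] [IsNoetherianRing S]
    [IsLocalRing S] (hdim : ringKrullDim S = 1) (π : S)
    (hπ : maximalIdeal S = Ideal.span {π}) :
    ∃ _ : IsDomain S, IsDiscreteValuationRing S := by
  obtain ⟨q, hq⟩ := Ideal.nonempty_minimalPrimes (R := S) (I := ⊥) top_ne_bot.symm
  haveI : q.IsPrime := hq.1.1
  have hqm : q ≠ maximalIdeal S := fun h => maximalIdeal_notMem_minimalPrimes hdim (h ▸ hq)
  have hqle : q ≤ maximalIdeal S := IsLocalRing.le_maximalIdeal (Ideal.IsPrime.ne_top ‹_›)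
  have hπq : π ∉ q := fun h => hqm (le_antisymm hqle (by
    rw [hπ, Ideal.span_le]; simpa using h))
  have hqsmul : q ≤ maximalIdeal S • q := by
    intro x hx
    have hxm : x ∈ Ideal.span {π} := hπ ▸ hqle hx
    obtain ⟨x₁, rfl⟩ := Ideal.mem_span_singleton'.1 hxm
    have hx₁ : x₁ ∈ q := (Ideal.IsPrime.mem_or_mem ‹_› hx).resolve_right hπq
    rw [mul_comm]
    exact Submodule.smul_mem_smul (hπ ▸ Ideal.mem_span_singleton_self π) hx₁
  have hqbot : q = ⊥ := Submodule.eq_bot_of_le_smul_of_le_jacobson_bot (maximalIdeal S) q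
    (IsNoetherian.noetherian q) hqsmul (IsLocalRing.maximalIdeal_le_jacobson _)
  have hbot : (⊥ : Ideal S).IsPrime := hqbot ▸ ‹q.IsPrime›
  haveI : NoZeroDivisors S := ⟨fun {x z} h => by
    have := hbot.mem_or_mem (show x * z ∈ (⊥ : Ideal S) by simpa using h)
    simpa using this⟩
  haveI : IsDomain S := NoZeroDivisors.to_isDomain S
  refine ⟨inferInstance, ?_⟩
  have hnf : ¬ IsField S := fun hF => by
    have := ringKrullDim_eq_zero_of_isField hF
    rw [hdim] at this
    exact absurd this (by decide)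
  have hprin : (maximalIdeal S).IsPrincipal := ⟨⟨π, hπ⟩⟩
  exact ((IsDiscreteValuationRing.TFAE S hnf).out 0 4).mpr hprin


/-- A Noetherian local ring `S` of dimension one which is integrally closed in an overring `C` in
which some element of the maximal ideal of `S` becomes invertible is a discrete valuation ring. -/
theorem isDVR_of_integrallyClosedIn {S C : Type*} [CommRing S] [CommRing C] [IsNoetherianRing S]
    [IsLocalRing S] (hdim : ringKrullDim S = 1) (j : S →+* C) (hj : Function.Injective j)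
    (hic : ∀ c : C, j.IsIntegralElem c → c ∈ j.range)
    (a : S) (ha : a ∈ maximalIdeal S) (hau : IsUnit (j a)) :
    ∃ _ : IsDomain S, IsDiscreteValuationRing S := by
  classical
  have h1 : ∀ P : Ideal S, P.IsPrime → a ∈ P → P = maximalIdeal S := by
    intro P hP haP
    by_contra hne
    have hmin := mem_minimalPrimes_of_ne_maximalIdeal hdim P hne
    obtain ⟨Q, hQ, rfl⟩ := Ideal.exists_comap_eq_of_mem_minimalPrimes_of_injective hj P hmin
    exact hQ.ne_top (Ideal.eq_top_of_isUnit_mem _ (Ideal.mem_comap.1 haP) hau)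
  have h2 : maximalIdeal S ≤ (Ideal.span {a}).radical := by
    rw [Ideal.radical_eq_sInf]
    refine le_sInf fun J ⟨hJ1, hJ2⟩ => ?_
    rw [h1 J hJ2 (hJ1 (Ideal.mem_span_singleton_self a))]
  have hex : ∃ n, maximalIdeal S ^ n ≤ Ideal.span {a} :=
    Ideal.exists_pow_le_of_le_radical_of_fg h2 (IsNoetherian.noetherian _)
  have hn₀ : maximalIdeal S ^ (Nat.find hex) ≤ Ideal.span {a} := Nat.find_spec hex
  have hale : Ideal.span {a} ≤ maximalIdeal S := by
    rwa [Ideal.span_le, Set.singleton_subset_iff]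
  have hn₀pos : Nat.find hex ≠ 0 := by
    intro h0
    rw [h0, pow_zero, Ideal.one_eq_top] at hn₀
    exact (Ideal.IsPrime.ne_top inferInstance) (top_le_iff.1 (hn₀.trans hale))
  obtain ⟨k, hk⟩ := Nat.exists_eq_succ_of_ne_zero hn₀pos
  have hknot : ¬ maximalIdeal S ^ k ≤ Ideal.span {a} := Nat.find_min hex (by omega)
  obtain ⟨b, hbk, hba⟩ := SetLike.not_le_iff_exists.1 hknot
  have hbm : ∀ m ∈ maximalIdeal S, ∃ s, b * m = a * s := by
    intro m hm
    have h3 : b * m ∈ maximalIdeal S ^ (k + 1) := by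
      rw [pow_succ]; exact Ideal.mul_mem_mul hbk hm
    have h4 := hn₀ (by rw [hk]; exact h3)
    obtain ⟨s, hs⟩ := Ideal.mem_span_singleton'.1 h4
    exact ⟨s, by rw [← hs, mul_comm]⟩
  obtain ⟨u, hu⟩ := hau
  have hy : ∀ m s, b * m = a * s → (j b * ↑u⁻¹) * j m = j s := by
    intro m s h
    have h5 : j b * j m = j a * j s := by rw [← map_mul, ← map_mul, h]
    calc (j b * ↑u⁻¹) * j m = (j b * j m) * ↑u⁻¹ := by ring
      _ = (↑u * j s) * ↑u⁻¹ := by rw [h5, hu]
      _ = j s := by rw [mul_comm (↑u : C), mul_assoc, Units.mul_inv, mul_one]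
  by_cases hcase : ∀ m ∈ maximalIdeal S, ∀ s, b * m = a * s → s ∈ maximalIdeal S
  · exfalso
    have hint : j.IsIntegralElem (j b * ↑u⁻¹) :=
      isIntegralElem_of_mul_mem j (maximalIdeal S) a ha ⟨u, hu⟩ _ (fun m hm => by
        obtain ⟨s, hs⟩ := hbm m hm
        exact ⟨s, hcase m hm s hs, hy m s hs⟩)
    obtain ⟨r, hr⟩ := hic _ hint
    apply hba
    have h6 : j b = j (r * a) := by
      rw [map_mul, hr, ← hu, mul_assoc, Units.inv_mul, mul_one]
    rw [hj h6]
    exact Ideal.mem_span_singleton'.2 ⟨r, rfl⟩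
  · push Not at hcase
    obtain ⟨m, hm, s, hs, hsm⟩ := hcase
    have hsu : IsUnit s := by
      by_contra hns
      exact hsm ((IsLocalRing.mem_maximalIdeal s).2 hns)
    refine isDVR_of_maximalIdeal_eq_span hdim m (le_antisymm ?_ ?_)
    · intro m' hm'
      obtain ⟨s', hs'⟩ := hbm m' hm'
      have e1 := hy m s hs
      have e2 := hy m' s' hs'
      have h7 : j (m' * s) = j (s' * m) := by
        rw [map_mul, map_mul, ← e1, ← e2]; ring
      have h3 := hj h7
      obtain ⟨v, rfl⟩ := hsu
      rw [Ideal.mem_span_singleton']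
      exact ⟨s' * ↑v⁻¹, by
        calc s' * ↑v⁻¹ * m = (s' * m) * ↑v⁻¹ := by ring
          _ = m' * ↑v * ↑v⁻¹ := by rw [← h3]
          _ = m' := by rw [mul_assoc, Units.mul_inv, mul_one]⟩
    · rw [Ideal.span_le, Set.singleton_subset_iff]; exact hm


/-- Localisation preserves "injective and integrally closed in the overring". -/
theorem injective_and_intClosed_of_isLocalization {R₀ B S C : Type*} [CommRing R₀] [CommRing B]
    [CommRing S] [CommRing C] (τ : R₀ →+* B) (σ : R₀ →+* S) [Algebra B C] (ψ : S →+* C)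
    (hcomm : (algebraMap B C).comp τ = ψ.comp σ) (M : Submonoid R₀)
    (hS : @IsLocalization R₀ _ M S _ σ.toAlgebra)
    [hC : IsLocalization (M.map τ) C]
    (hτ : Function.Injective τ) (hic : ∀ b : B, τ.IsIntegralElem b → b ∈ τ.range) :
    Function.Injective ψ ∧ ∀ c : C, ψ.IsIntegralElem c → c ∈ ψ.range := by
  set β : B →+* C := algebraMap B C with hβ
  letI : Algebra R₀ B := τ.toAlgebra
  letI : Algebra R₀ S := σ.toAlgebra
  letI : Algebra S C := ψ.toAlgebra
  letI : Algebra R₀ C := (β.comp τ).toAlgebra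
  haveI : IsScalarTower R₀ B C := IsScalarTower.of_algebraMap_eq (fun _ => rfl)
  haveI : IsScalarTower R₀ S C := IsScalarTower.of_algebraMap_eq (fun r => by
    change (β.comp τ) r = ψ (σ r); rw [hcomm]; rfl)
  haveI : IsLocalization M S := hS
  haveI : IsLocalization (Algebra.algebraMapSubmonoid B M) C := hC
  have hcomm' : ∀ r, β (τ r) = ψ (σ r) := fun r => by
    have := congrArg (fun h : R₀ →+* C => h r) hcomm
    simpa using this
  constructor
  · rw [injective_iff_map_eq_zero]
    intro s hs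
    obtain ⟨⟨r, m⟩, hrm⟩ := IsLocalization.surj M s
    have hrm' : s * σ m = σ r := hrm
    have h1 : β (τ r) = 0 := by rw [hcomm', ← hrm', map_mul, hs, zero_mul]
    obtain ⟨⟨_, m', hm', rfl⟩, h2⟩ :=
      (IsLocalization.map_eq_zero_iff (Algebra.algebraMapSubmonoid B M) C (τ r)).1 h1
    have h3 : τ (m' * r) = 0 := by rw [map_mul]; exact h2
    have h4 : m' * r = 0 := by rwa [map_eq_zero_iff τ hτ] at h3
    have h5 : σ r = 0 := by
      have hu : IsUnit (σ m') := IsLocalization.map_units S ⟨m', hm'⟩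
      have : σ m' * σ r = 0 := by rw [← map_mul, h4, map_zero]
      exact (hu.mul_right_eq_zero).1 this
    have hu : IsUnit (σ m) := IsLocalization.map_units S m
    rw [h5] at hrm'
    exact (hu.mul_left_eq_zero).1 hrm'
  · intro c hc
    have hc' : IsIntegral S c := hc
    obtain ⟨⟨x, _, m₁, hm₁, rfl⟩, e⟩ := IsLocalization.surj (Algebra.algebraMapSubmonoid B M) c
    have e' : c * β (τ m₁) = β x := e
    obtain ⟨⟨m₂, hm₂⟩, hm₂s⟩ := IsIntegral.exists_multiple_integral_of_isLocalization M c hc'
    have hm₂s' : IsIntegral R₀ (β (τ m₂) * c) := by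
      have h0 : IsIntegral R₀ ((algebraMap R₀ C) m₂ * c) := by
        simpa [Submonoid.smul_def, Algebra.smul_def] using hm₂s
      exact h0
    have h1 : IsIntegral R₀ (algebraMap B C (m₂ • x)) := by
      have : algebraMap B C (m₂ • x) = (β (τ m₂) * c) * algebraMap R₀ C m₁ := by
        rw [Algebra.smul_def, map_mul]
        change β (τ m₂) * β x = β (τ m₂) * c * β (τ m₁)
        rw [← e']; ring
      rw [this]
      exact hm₂s'.mul isIntegral_algebraMap
    obtain ⟨m₃, hm₃, hm₃s⟩ := IsLocalization.exists_isIntegral_smul_of_isIntegral_map (Sₘ := C)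
      M (x := m₂ • x) h1
    obtain ⟨r, hr⟩ := hic _ hm₃s
    have hr' : τ r = τ m₃ * (τ m₂ * x) := by
      rw [hr]; simp [Algebra.smul_def]; rfl
    have hu : IsUnit (σ (m₁ * m₂ * m₃)) :=
      IsLocalization.map_units S ⟨m₁ * m₂ * m₃, mul_mem (mul_mem hm₁ hm₂) hm₃⟩
    obtain ⟨v, hv⟩ := hu
    refine ⟨σ r * ↑v⁻¹, ?_⟩
    have h2 : c * ψ (σ (m₁ * m₂ * m₃)) = ψ (σ r) := by
      rw [← hcomm', ← hcomm', hr', map_mul, map_mul, map_mul, map_mul, map_mul, map_mul, ← e']
      ring
    have h3 : ψ (↑v) * ψ (↑v⁻¹) = 1 := by rw [← map_mul, Units.mul_inv, map_one]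
    calc ψ (σ r * ↑v⁻¹) = ψ (σ r) * ψ (↑v⁻¹) := map_mul _ _ _
      _ = c * ψ ↑v * ψ (↑v⁻¹) := by rw [← h2, hv]
      _ = c := by rw [mul_assoc, h3, mul_one]


end Groth.Agent.Lib.Helper41
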