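import Groth.Agent.Lib.Helper41.DvrSep
import Mathlib.AlgebraicGeometry.Stalk
import Mathlib.AlgebraicGeometry.Noetherian
import Mathlib.RingTheory.Henselian

set_option autoImplicit false
universe u
open CategoryTheory CategoryTheory.Limits AlgebraicGeometry TopologicalSpace IsLocalRing

namespace Groth.Agent.Lib.Helper41

/-- Through any proper generization `ζ` of a point `x` with Noetherian local ring there is a DVR:
a morphism `Spec R ⟶ X` sending the closed point to `x` and the generic point to `ζ`. -/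
theorem exists_dvr_through {X : Scheme.{u}} (x ζ : X) [IsNoetherianRing ↑(X.presheaf.stalk x)]
    (hζx : ζ ⤳ x) (hne : ζ ≠ x) :
    ∃ (R : Type u) (_ : CommRing R) (_ : IsDomain R) (_ : IsDiscreteValuationRing R)
      (u : Spec (CommRingCat.of R) ⟶ X),
      u (closedPoint R) = x ∧
        ∀ t : ↥(Spec (CommRingCat.of (FractionRing R))),
          (Spec.map (CommRingCat.ofHom (algebraMap R (FractionRing R))) ≫ u) t = ζ := by
  let A : Type u := ↑(X.presheaf.stalk x)
  have hζr : ζ ∈ Set.range (X.fromSpecStalk x) := by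
    rw [Scheme.range_fromSpecStalk]; exact hζx
  obtain ⟨P, hP⟩ := hζr
  have hPne : P.asIdeal ≠ maximalIdeal A := by
    intro h
    apply hne
    have : P = closedPoint A := PrimeSpectrum.ext h
    rw [← hP, this]
    exact Scheme.fromSpecStalk_closedPoint
  let A' : Type u := A ⧸ P.asIdeal
  haveI : IsDomain A' := Ideal.Quotient.isDomain P.asIdeal
  haveI : IsLocalRing A' :=
    IsLocalRing.of_surjective' (Ideal.Quotient.mk P.asIdeal) Ideal.Quotient.mk_surjective
  have hnf : ¬ IsField A' := by
    intro hf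
    have : P.asIdeal.IsMaximal := Ideal.Quotient.maximal_of_isField _ hf
    exact hPne (IsLocalRing.eq_maximalIdeal this)
  let K' : Type u := FractionRing A'
  obtain ⟨O, hO, hmem, hlt⟩ :=
    Groth.Agent.Lib.Helper14.DvrDominate.exists_dvr_dominating A' hnf K'
  let φ' : A' →+* O := (algebraMap A' K').codRestrict O hmem
  have hφ'inj : Function.Injective φ' := by
    intro a b hab
    apply IsFractionRing.injective A' K'
    exact congrArg Subtype.val hab
  have hloc' : IsLocalHom φ' := ⟨fun a ha => by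
    by_contra hna
    have hv := hlt a hna
    have h1 : O.valuation ((φ' a : O) : K') = 1 := (O.valuation_eq_one_iff (φ' a)).1 ha
    exact (ne_of_lt hv) h1⟩
  have hlocq : IsLocalHom (Ideal.Quotient.mk P.asIdeal) := by
    apply isLocalHom_of_le_jacobson_bot
    rw [IsLocalRing.jacobson_eq_maximalIdeal ⊥ bot_ne_top]
    exact IsLocalRing.le_maximalIdeal P.2.ne_top
  let φ : A →+* O := φ'.comp (Ideal.Quotient.mk P.asIdeal)
  have hloc : IsLocalHom φ := RingHom.isLocalHom_comp _ _
  have hker : RingHom.ker φ = P.asIdeal := by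
    ext a
    rw [RingHom.mem_ker]
    change φ' (Ideal.Quotient.mk P.asIdeal a) = 0 ↔ _
    rw [map_eq_zero_iff φ' hφ'inj, Ideal.Quotient.eq_zero_iff_mem]
  let KO : Type u := FractionRing O
  let φc : X.presheaf.stalk x ⟶ CommRingCat.of O := CommRingCat.ofHom φ
  let u : Spec (CommRingCat.of O) ⟶ X := Spec.map φc ≫ X.fromSpecStalk x
  refine ⟨O, inferInstance, inferInstance, hO, u, ?_, ?_⟩
  · change (Spec.map φc ≫ X.fromSpecStalk x) (closedPoint O) = x
    rw [Scheme.Hom.comp_apply]
    have h1 : Spec.map φc (closedPoint O) = closedPoint A := IsLocalRing.comap_closedPoint φ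
    rw [h1]
    exact Scheme.fromSpecStalk_closedPoint
  · intro t
    rw [Scheme.Hom.comp_apply, Scheme.Hom.comp_apply, ← hP]
    congr 1
    apply PrimeSpectrum.ext
    change Ideal.comap φ (Ideal.comap (algebraMap O KO) t.asIdeal) = P.asIdeal
    have ht : t.asIdeal = ⊥ := Ideal.eq_bot_of_prime t.asIdeal
    rw [ht, ← RingHom.ker_eq_comap_bot,
      (RingHom.injective_iff_ker_eq_bot _).1 (IsFractionRing.injective O KO),
      ← RingHom.ker_eq_comap_bot, hker]

/-- In a Noetherian quasi-sober space, a point in the closure of a locally closed set `G ∩ F`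
is a specialization of a point of `G ∩ F`. -/
theorem exists_specializes_of_mem_closure_inter {α : Type*} [TopologicalSpace α]
    [NoetherianSpace α] [QuasiSober α] {G F : Set α} (hG : IsOpen G) (hF : IsClosed F) {x : α}
    (hx : x ∈ closure (G ∩ F)) : ∃ ζ ∈ G ∩ F, ζ ⤳ x := by
  obtain ⟨S, hSfin, hSc, hSirr, hS⟩ :=
    NoetherianSpace.exists_finite_set_isClosed_irreducible (isClosed_closure (s := G ∩ F))
  let S' : Set (Set α) := {t ∈ S | ∃ ζ ∈ G ∩ F, IsGenericPoint ζ t}
  have hS'fin : S'.Finite := hSfin.subset (fun t ht => ht.1)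
  have hS'c : IsClosed (⋃₀ S') := by
    rw [Set.sUnion_eq_biUnion]
    exact hS'fin.isClosed_biUnion fun t ht => hSc t ht.1
  have hsub : G ∩ F ⊆ ⋃₀ S' := by
    intro z hz
    have hz' : z ∈ ⋃₀ S := hS ▸ subset_closure hz
    obtain ⟨t, htS, hzt⟩ := hz'
    have hgen := (hSirr t htS).isGenericPoint_genericPoint (hSc t htS)
    set ζ := (hSirr t htS).genericPoint
    have hζz : ζ ⤳ z := by
      rw [specializes_iff_mem_closure, hgen.def]; exact hzt
    have hζG : ζ ∈ G := hζz.mem_open hG hz.1
    have hζt : ζ ∈ t := hgen.mem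
    have hζF : ζ ∈ F := by
      have : ζ ∈ closure (G ∩ F) := hS ▸ ⟨t, htS, hζt⟩
      exact (closure_minimal Set.inter_subset_right hF) this
    exact ⟨t, ⟨htS, ζ, ⟨hζG, hζF⟩, hgen⟩, hzt⟩
  obtain ⟨t, ⟨-, ζ, hζ, hgen⟩, hxt⟩ := closure_minimal hsub hS'c hx
  refine ⟨ζ, hζ, ?_⟩
  rw [specializes_iff_mem_closure, hgen.def]
  exact hxt

end Groth.Agent.Lib.Helper41
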