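import Groth.Agent.Lib.Helper14.DvrDominate
import Mathlib.RingTheory.Valuation.LocalSubring
import Mathlib.RingTheory.Polynomial.Ideal
import Mathlib.Topology.NoetherianSpace
import Mathlib.Topology.Sober

set_option autoImplicit false
universe u
open IsLocalRing

namespace Groth.Agent.Lib.Helper41

/-- A normal Noetherian local domain is the intersection of the DVRs of its fraction field
dominating it: an element of `K` outside `A` is excluded by some dominating DVR. -/
theorem exists_dvr_dominating_not_mem (A : Type u) [CommRing A] [IsDomain A] [IsNoetherianRing A]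
    [IsLocalRing A] [IsIntegrallyClosed A] (K : Type u) [Field K] [Algebra A K]
    [IsFractionRing A K] (c : K) (hc : c ∉ Set.range (algebraMap A K)) :
    ∃ O : ValuationSubring K, IsDiscreteValuationRing O ∧ (∀ a : A, algebraMap A K a ∈ O) ∧
      (∀ a ∈ maximalIdeal A, O.valuation (algebraMap A K a) < 1) ∧ c ∉ O := by
  classical
  have hc0 : c ≠ 0 := fun h => hc ⟨0, by rw [map_zero, h]⟩
  letI : Invertible c⁻¹ := invertibleOfNonzero (inv_ne_zero hc0)
  let B : Subalgebra A K := Algebra.adjoin A {c⁻¹}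
  let cinv : B := ⟨c⁻¹, Algebra.subset_adjoin rfl⟩
  have hJ : (maximalIdeal A).map (algebraMap A B) ⊔ Ideal.span {cinv} ≠ ⊤ := by
    intro htop
    obtain ⟨p, hp, hpx⟩ := Algebra.exists_aeval_invOf_eq_zero_of_idealMap_adjoin_sup_span_eq_top
      (c⁻¹) (maximalIdeal A) (maximalIdeal.isMaximal A).ne_top htop
    have hinv : ⅟(c⁻¹) = c := by
      rw [invOf_eq_inv, inv_inv]
    rw [hinv] at hpx
    have hunit : IsUnit p.leadingCoeff := by
      by_contra hnu
      have h1 : p.leadingCoeff ∈ maximalIdeal A := hnu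
      have h2 : (1 : A) ∈ maximalIdeal A := by
        have := (maximalIdeal A).sub_mem h1 hp
        simp at this
      exact (maximalIdeal.isMaximal A).ne_top ((Ideal.eq_top_iff_one _).2 h2)
    have hint : IsIntegral A c := by
      refine ⟨Polynomial.C (hunit.unit⁻¹ : Aˣ).1 * p, ?_, ?_⟩
      · rw [Polynomial.Monic, Polynomial.leadingCoeff_mul, Polynomial.leadingCoeff_C]
        exact hunit.val_inv_mul
      · rw [← Polynomial.aeval_def, map_mul, hpx, mul_zero]
    obtain ⟨a, ha⟩ := IsIntegrallyClosed.algebraMap_eq_of_integral hint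
    exact hc ⟨a, ha⟩
  obtain ⟨𝔫, h𝔫max, h𝔫⟩ := Ideal.exists_le_maximal _ hJ
  haveI : 𝔫.IsPrime := h𝔫max.isPrime
  have hcinv0 : cinv ≠ 0 := by
    intro h
    exact inv_ne_zero hc0 (congrArg Subtype.val h)
  have hcinv𝔫 : cinv ∈ 𝔫 := h𝔫 (Ideal.mem_sup_right (Ideal.subset_span rfl))
  have h𝔫0 : 𝔫 ≠ ⊥ := fun h => hcinv0 (by rw [h] at hcinv𝔫; exact hcinv𝔫)
  haveI : Algebra.FiniteType A B := Algebra.FiniteType.adjoin_of_finite (Set.finite_singleton _)
  haveI : IsNoetherianRing B := Algebra.FiniteType.isNoetherianRing A B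
  have hFr : IsFractionRing B K := IsFractionRing.of_field B K (fun z => by
    obtain ⟨a, b, -, rfl⟩ := IsFractionRing.div_surjective (A := A) z
    exact ⟨algebraMap A B a, algebraMap A B b, rfl⟩)
  have hfg : (⊤ : IntermediateField K K).FG := IntermediateField.fg_top K K
  obtain ⟨O, hO, hOmem, hOlt⟩ :=
    Groth.Agent.Lib.Helper14.DvrDominate.exists_dvr_of_prime B 𝔫 h𝔫0 K K hfg
  refine ⟨O, hO, fun a => hOmem (algebraMap A B a), fun a ha => ?_, ?_⟩
  · exact hOlt (algebraMap A B a) (h𝔫 (Ideal.mem_sup_left (Ideal.mem_map_of_mem _ ha)))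
  · intro hcO
    have h1 : O.valuation c⁻¹ < 1 := hOlt cinv hcinv𝔫
    have h2 : O.valuation c ≤ 1 := (O.valuation_le_one_iff c).2 hcO
    have h3 : O.valuation c * O.valuation c⁻¹ = 1 := by
      rw [← map_mul, mul_inv_cancel₀ hc0, map_one]
    have h4 : O.valuation c * O.valuation c⁻¹ < 1 := by
      calc O.valuation c * O.valuation c⁻¹ ≤ 1 * O.valuation c⁻¹ := by gcongr
        _ = O.valuation c⁻¹ := one_mul _
        _ < 1 := h1
    exact (ne_of_lt h4) h3

end Groth.Agent.Lib.Helper41
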