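import Mathlib.RingTheory.Localization.Away.Basic
import Mathlib.RingTheory.FiniteType
import Mathlib.RingTheory.IntegralClosure.IsIntegralClosure.Basic
import Mathlib.RingTheory.Adjoin.FG

/-!
# Finite subalgebras of integral algebras approximating finite-type localizations
-/

set_option autoImplicit false

namespace Groth.Agent.Lib.Helper41.ZMTFinAlg

variable {A B : Type*} [CommRing A] [CommRing B] [Algebra A B]

/-- If `B_b` is of finite type over `A`, there is a finite set `Y ⊆ B` such that any subalgebra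
`C` containing `b` and `Y` satisfies: every `a : B` has `b ^ m * a ∈ C` for some `m`. -/
theorem exists_finset_numerators (b : B) (hb : Algebra.FiniteType A (Localization.Away b)) :
    ∃ Y : Finset B, ∀ C : Subalgebra A B, b ∈ C → (↑Y : Set B) ⊆ C →
      ∀ a : B, ∃ m : ℕ, b ^ m * a ∈ C := by
  classical
  obtain ⟨t, ht⟩ := hb.out
  choose n y hny using fun z : Localization.Away b => IsLocalization.Away.surj b z
  refine ⟨t.image y, fun C hbC hYC a => ?_⟩
  have key : ∀ w : Localization.Away b, w ∈ Algebra.adjoin A (↑t : Set (Localization.Away b)) →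
      ∃ c ∈ C, ∃ m : ℕ, algebraMap B (Localization.Away b) c =
        algebraMap B (Localization.Away b) (b ^ m) * w := by
    intro w hw
    induction hw using Algebra.adjoin_induction with
    | mem z hz =>
      refine ⟨y z, hYC (by simpa using Finset.mem_image_of_mem y hz), n z, ?_⟩
      rw [← hny z, map_pow, mul_comm]
    | algebraMap r =>
      refine ⟨algebraMap A B r, C.algebraMap_mem r, 0, ?_⟩
      rw [pow_zero, map_one, one_mul, ← IsScalarTower.algebraMap_apply]
    | add w₁ w₂ _ _ h₁ h₂ =>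
      obtain ⟨c₁, hc₁, m₁, e₁⟩ := h₁
      obtain ⟨c₂, hc₂, m₂, e₂⟩ := h₂
      refine ⟨b ^ m₂ * c₁ + b ^ m₁ * c₂,
        C.add_mem (C.mul_mem (C.pow_mem hbC _) hc₁) (C.mul_mem (C.pow_mem hbC _) hc₂),
        m₁ + m₂, ?_⟩
      rw [map_add, map_mul, map_mul, e₁, e₂, pow_add, map_mul]
      ring
    | mul w₁ w₂ _ _ h₁ h₂ =>
      obtain ⟨c₁, hc₁, m₁, e₁⟩ := h₁
      obtain ⟨c₂, hc₂, m₂, e₂⟩ := h₂
      refine ⟨c₁ * c₂, C.mul_mem hc₁ hc₂, m₁ + m₂, ?_⟩
      rw [map_mul, e₁, e₂, pow_add, map_mul]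
      ring
  obtain ⟨c, hc, m, e⟩ := key (algebraMap B _ a) (by rw [ht]; trivial)
  rw [← map_mul] at e
  obtain ⟨⟨_, k, rfl⟩, hk⟩ := (IsLocalization.eq_iff_exists (Submonoid.powers b) _).1 e
  refine ⟨k + m, ?_⟩
  have : b ^ (k + m) * a = b ^ k * c := by
    rw [pow_add, mul_assoc]
    exact hk.symm
  rw [this]
  exact C.mul_mem (C.pow_mem hbC _) hc

/-- Finite subalgebra approximating finitely many finite-type localizations of an integral
algebra. -/
theorem exists_finite_subalgebra [Algebra.IsIntegral A B] (s : Finset B)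
    (hs : ∀ b ∈ s, Algebra.FiniteType A (Localization.Away b)) :
    ∃ C : Subalgebra A B, C.toSubmodule.FG ∧ (∀ b ∈ s, b ∈ C) ∧
      ∀ b ∈ s, ∀ a : B, ∃ m : ℕ, b ^ m * a ∈ C := by
  classical
  choose Y hY using fun b : s => exists_finset_numerators (A := A) b.1 (hs b.1 b.2)
  let G : Set B := (↑s : Set B) ∪ ⋃ b : s, (↑(Y b) : Set B)
  have hG : G.Finite := by
    refine s.finite_toSet.union (Set.finite_iUnion fun b => (Y b).finite_toSet)
  refine ⟨Algebra.adjoin A G, fg_adjoin_of_finite hG (fun x _ => Algebra.IsIntegral.isIntegral x),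
    fun b hb => Algebra.subset_adjoin (Or.inl hb), fun b hb a => ?_⟩
  refine hY ⟨b, hb⟩ (Algebra.adjoin A G) (Algebra.subset_adjoin (Or.inl hb)) ?_ a
  intro x hx
  exact Algebra.subset_adjoin (Or.inr (Set.mem_iUnion.2 ⟨⟨b, hb⟩, hx⟩))

end Groth.Agent.Lib.Helper41.ZMTFinAlg
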