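import Mathlib
import Groth.Agent.Lib.Helper41.ZMTFinAlg

/-!
# Zariski's main theorem, finite form, over an affine base
-/

set_option autoImplicit false
universe u
open CategoryTheory CategoryTheory.Limits AlgebraicGeometry TopologicalSpace

namespace Groth.Agent.Lib.Helper41.ZMTFinAff

/-- If `φ : C ⟶ B` induces a bijection `C_c → B_{φ c}`, then `Spec φ` is an isomorphism over the
basic open `D(c)`. -/
theorem isIso_morphismRestrict_SpecMap {C B : CommRingCat.{u}} (φ : C ⟶ B) (c : C)
    (h : Function.Bijective (Localization.awayMap φ.hom c)) :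
    IsIso (Spec.map φ ∣_ (PrimeSpectrum.basicOpen c : (Spec C).Opens)) := by
  let iV := Spec.map (CommRingCat.ofHom (algebraMap C (Localization.Away c)))
  let iU := Spec.map (CommRingCat.ofHom (algebraMap B (Localization.Away (φ.hom c))))
  let f' := Spec.map (CommRingCat.ofHom (Localization.awayMap φ.hom c))
  have H : iU ≫ Spec.map φ = f' ≫ iV := by
    simp only [iU, f', iV, ← Spec.map_comp]
    congr 1
    ext x
    simp [Localization.awayMap, IsLocalization.Away.map]
  have hV : iV.opensRange = PrimeSpectrum.basicOpen c :=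
    Scheme.Hom.opensRange_localizationAway c
  have hU : iU.opensRange = PrimeSpectrum.basicOpen (φ.hom c) :=
    Scheme.Hom.opensRange_localizationAway (φ.hom c)
  have H' : Spec.map φ ⁻¹ᵁ iV.opensRange = iU.opensRange := by
    rw [hV, hU]
    rfl
  have sq := IsOpenImmersion.isPullback f' iU iV (Spec.map φ) H H'
  haveI : IsIso f' := by
    have : IsIso (CommRingCat.ofHom (Localization.awayMap φ.hom c)) :=
      (ConcreteCategory.isIso_iff_bijective _).2 h
    exact inferInstanceAs (IsIso (Spec.map _))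
  have h1 : IsIso (pullback.snd (Spec.map φ) iV) := by
    have e := sq.flip.isoPullback_hom_snd
    have : pullback.snd (Spec.map φ) iV = sq.flip.isoPullback.inv ≫ f' := by
      rw [Iso.eq_inv_comp]; exact e
    rw [this]
    infer_instance
  have h2 : IsIso (Spec.map φ ∣_ iV.opensRange) :=
    ((MorphismProperty.isomorphisms Scheme).arrow_mk_iso_iff
      (morphismRestrictOpensRange (Spec.map φ) iV)).2 h1
  rw [hV] at h2
  exact h2

/-- Spec-level finite form of Zariski's main theorem. -/
theorem exists_finite_of_Spec {A B : CommRingCat.{u}} (ψ : A ⟶ B) (hψ : ψ.hom.IsIntegral)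
    {X : Scheme.{u}} (ν : X ⟶ Spec B) [IsOpenImmersion ν]
    (hc : IsCompact (ν.opensRange : Set (Spec B)))
    [LocallyOfFiniteType (ν ≫ Spec.map ψ)] :
    ∃ (C : CommRingCat.{u}) (α : A ⟶ C) (β : C ⟶ B), α ≫ β = ψ ∧ α.hom.Finite ∧
      IsOpenImmersion (ν ≫ Spec.map β) := by
  classical
  letI algAB : Algebra A B := ψ.hom.toAlgebra
  haveI : Algebra.IsIntegral A B := ⟨hψ⟩
  -- finite cover of the range by basic opens
  obtain ⟨s, hs⟩ := PrimeSpectrum.isCompact_isOpen_iff.1 ⟨hc, ν.opensRange.isOpen⟩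
  have hs1 : ∀ x : Spec B, x ∈ ν.opensRange → ∃ b ∈ s, b ∉ x.asIdeal := by
    intro x hx
    have hx' : (x : PrimeSpectrum B) ∈ (PrimeSpectrum.zeroLocus (↑s : Set B))ᶜ := by
      rw [hs]; exact hx
    have hx'' : ¬ ((↑s : Set B) ⊆ (x : PrimeSpectrum B).asIdeal) :=
      fun h => hx' ((PrimeSpectrum.mem_zeroLocus _ _).2 h)
    obtain ⟨b, hb, hbx⟩ := Set.not_subset.1 hx''
    exact ⟨b, hb, hbx⟩
  have hs2 : ∀ b ∈ s, ∀ x : Spec B, b ∉ x.asIdeal → x ∈ ν.opensRange := by
    intro b hb x hbx
    have : (x : PrimeSpectrum B) ∈ (PrimeSpectrum.zeroLocus (↑s : Set B))ᶜ :=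
      fun h => hbx ((PrimeSpectrum.mem_zeroLocus _ _).1 h hb)
    rw [hs] at this
    exact this
  -- finite type of the localizations
  have hft : ∀ b ∈ s, Algebra.FiniteType A (Localization.Away b) := by
    intro b hb
    let ι := Spec.map (CommRingCat.ofHom (algebraMap B (Localization.Away b)))
    have hrange : Set.range ι ⊆ Set.range ν := by
      rintro _ ⟨y, rfl⟩
      have hy : ι y ∈ ι.opensRange := ⟨y, rfl⟩
      rw [Scheme.Hom.opensRange_localizationAway] at hy
      exact hs2 b hb _ hy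
    let ℓ := IsOpenImmersion.lift ν ι hrange
    have hℓ : ℓ ≫ ν = ι := IsOpenImmersion.lift_fac ν ι hrange
    haveI : IsOpenImmersion (ℓ ≫ ν) := by rw [hℓ]; infer_instance
    haveI : IsOpenImmersion ℓ := IsOpenImmersion.of_comp ℓ ν
    have h1 : LocallyOfFiniteType (ℓ ≫ ν ≫ Spec.map ψ) := inferInstance
    rw [← Category.assoc, hℓ, ← Spec.map_comp] at h1
    have h2 := (HasRingHomProperty.Spec_iff (P := @LocallyOfFiniteType)).1 h1
    exact RingHom.finiteType_algebraMap.1 h2
  obtain ⟨Csub, hfg, hsC, hpow⟩ := ZMTFinAlg.exists_finite_subalgebra (A := A) s hft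
  refine ⟨CommRingCat.of Csub, CommRingCat.ofHom (algebraMap A Csub),
    CommRingCat.ofHom Csub.val.toRingHom, ?_, ?_, ?_⟩
  · ext a
    rfl
  · haveI : Module.Finite A Csub := ⟨(Submodule.fg_top _).2 hfg⟩
    exact RingHom.finite_algebraMap.2 inferInstance
  · set β : CommRingCat.of Csub ⟶ B := CommRingCat.ofHom Csub.val.toRingHom with hβ
    refine IsZariskiLocalAtTarget.of_range_subset_iSup (P := @IsOpenImmersion)
      (fun b : s => (PrimeSpectrum.basicOpen (⟨b.1, hsC b.1 b.2⟩ : Csub) :
        (Spec (CommRingCat.of Csub)).Opens)) ?_ ?_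
    · rintro _ ⟨x, rfl⟩
      obtain ⟨b, hb, hbx⟩ := hs1 (ν x) ⟨x, rfl⟩
      exact SetLike.mem_coe.2 (Opens.mem_iSup.2 ⟨⟨b, hb⟩, hbx⟩)
    · intro b
      set U : (Spec (CommRingCat.of Csub)).Opens :=
        PrimeSpectrum.basicOpen (⟨b.1, hsC b.1 b.2⟩ : Csub) with hU
      rw [morphismRestrict_comp]
      have h1 : IsIso (Spec.map β ∣_ U) := by
        apply isIso_morphismRestrict_SpecMap
        constructor
        · rw [Localization.awayMap_injective_iff]
          intro a ha
          refine ⟨0, ?_⟩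
          rw [pow_zero, one_mul]
          exact Subtype.ext ha
        · rw [Localization.awayMap_surjective_iff]
          intro a
          obtain ⟨m, hm⟩ := hpow b.1 b.2 a
          exact ⟨⟨_, hm⟩, m, rfl⟩
      have h2 : IsOpenImmersion (ν ∣_ (Spec.map β ⁻¹ᵁ U)) :=
        IsZariskiLocalAtTarget.restrict (P := @IsOpenImmersion) inferInstance _
      have h3 : IsOpenImmersion (Spec.map β ∣_ U) := inferInstance
      exact MorphismProperty.comp_mem @IsOpenImmersion _ _ h2 h3

/-- Finite form of Zariski's main theorem over an affine base. -/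
theorem exists_finite_of_isAffine {X S : Scheme.{u}} [IsAffine S] (f : X ⟶ S)
    [LocallyQuasiFinite f] [LocallyOfFiniteType f] [QuasiCompact f] [IsSeparated f] :
    ∃ (T : Scheme.{u}) (j : X ⟶ T) (π : T ⟶ S), IsOpenImmersion j ∧ IsFinite π ∧ j ≫ π = f := by
  haveI : IsAffine f.normalization := isAffine_of_isAffineHom f.fromNormalization
  let ν : X ⟶ Spec Γ(f.normalization, ⊤) := f.toNormalization ≫ f.normalization.isoSpec.hom
  let ψ : Γ(S, ⊤) ⟶ Γ(f.normalization, ⊤) := f.fromNormalization.appTop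
  have hνψ : ν ≫ Spec.map ψ = f ≫ S.isoSpec.hom := by
    simp only [ν, ψ, Category.assoc]
    rw [Scheme.isoSpec_hom_naturality, ← Category.assoc, f.toNormalization_fromNormalization]
  haveI : LocallyOfFiniteType (ν ≫ Spec.map ψ) := by rw [hνψ]; infer_instance
  have hψ : ψ.hom.IsIntegral :=
    IsIntegralHom.isIntegral_app f.fromNormalization ⊤ (isAffineOpen_top S)
  haveI : CompactSpace X := QuasiCompact.compactSpace_of_compactSpace f
  have hc : IsCompact (ν.opensRange : Set (Spec Γ(f.normalization, ⊤))) := by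
    change IsCompact (Set.range ν)
    exact isCompact_range ν.continuous
  obtain ⟨C, α, β, hαβ, hfin, hopen⟩ := exists_finite_of_Spec ψ hψ ν hc
  refine ⟨Spec C, ν ≫ Spec.map β, Spec.map α ≫ S.isoSpec.inv, hopen, ?_, ?_⟩
  · haveI : IsFinite (Spec.map α) := (IsFinite.SpecMap_iff α).2 hfin
    infer_instance
  · rw [Category.assoc, ← Category.assoc (Spec.map β), ← Spec.map_comp, hαβ, ← Category.assoc,
      hνψ, Category.assoc, Iso.hom_inv_id, Category.comp_id]

end Groth.Agent.Lib.Helper41.ZMTFinAff
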