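import Mathlib
import Groth.Agent.Lib.Helper41.Glue2
import Groth.Agent.Lib.Helper41.CurveGlue
import Groth.Agent.Lib.Helper41.ZMTFinAff

set_option autoImplicit false
set_option linter.style.haveILetI false
set_option linter.unusedSectionVars false

universe u
open CategoryTheory CategoryTheory.Limits AlgebraicGeometry TopologicalSpace

namespace Groth.Agent.Lib.Helper41.ZMTFinGlue

open Groth.Agent.Lib.Helper41

/-- A morphism admits a finite-form Zariski-main-theorem factorisation: an open immersion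
followed by a finite morphism. -/
def ZMTF {X S : Scheme.{u}} (f : X ⟶ S) : Prop :=
  ∃ (T : Scheme.{u}) (j : X ⟶ T) (π : T ⟶ S), IsOpenImmersion j ∧ IsFinite π ∧ j ≫ π = f

theorem ZMTF.of_arrow_iso {X S X' S' : Scheme.{u}} {a : X ⟶ S} {b : X' ⟶ S'}
    (e : Arrow.mk a ≅ Arrow.mk b) (h : ZMTF b) : ZMTF a := by
  obtain ⟨T, j, π, hj, hπ, hfac⟩ := h
  have hw : e.hom.left ≫ b = a ≫ e.hom.right := e.hom.w
  haveI : IsIso e.hom.right := inferInstance
  refine ⟨T, e.hom.left ≫ j, π ≫ inv e.hom.right, inferInstance, inferInstance, ?_⟩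
  rw [Category.assoc, ← Category.assoc j, hfac, ← Category.assoc, hw, Category.assoc,
    IsIso.hom_inv_id, Category.comp_id]

/-- One can always take the open immersion in a finite-form factorisation to be dominant. -/
theorem ZMTF.exists_dominant {X S : Scheme.{u}} {f : X ⟶ S} [QuasiCompact f] (h : ZMTF f) :
    ∃ (T : Scheme.{u}) (j : X ⟶ T) (π : T ⟶ S), IsOpenImmersion j ∧ IsDominant j ∧ IsFinite π ∧
      j ≫ π = f := by
  obtain ⟨T, j, π, hj, hπ, hfac⟩ := h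
  haveI : QuasiCompact (j ≫ π) := by rw [hfac]; infer_instance
  haveI : QuasiCompact j := QuasiCompact.of_comp j π
  have h1 : IsOpenImmersion (j.toImage ≫ j.imageι) := by rw [Scheme.Hom.toImage_imageι]; exact hj
  have h2 : IsOpenImmersion j.toImage :=
    MorphismProperty.of_postcomp (W := @IsOpenImmersion) (W' := MorphismProperty.monomorphisms _)
      j.toImage j.imageι (inferInstance : Mono j.imageι) h1
  refine ⟨j.image, j.toImage, j.imageι ≫ π, h2, inferInstance, inferInstance, ?_⟩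
  rw [← Category.assoc, Scheme.Hom.toImage_imageι, hfac]

section pushout

variable {W Y₁ Y₂ S : Scheme.{u}} (g₁ : W ⟶ Y₁) (g₂ : W ⟶ Y₂) [IsOpenImmersion g₁]
  [IsOpenImmersion g₂] (p₁ : Y₁ ⟶ S) (p₂ : Y₂ ⟶ S) (hp : g₁ ≫ p₁ = g₂ ≫ p₂)

theorem desc_inl_apply (y : Y₁) : pushout.desc p₁ p₂ hp (pushout.inl g₁ g₂ y) = p₁ y := by
  rw [← Scheme.Hom.comp_apply, pushout.inl_desc]

theorem desc_inr_apply (y : Y₂) : pushout.desc p₁ p₂ hp (pushout.inr g₁ g₂ y) = p₂ y := by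
  rw [← Scheme.Hom.comp_apply, pushout.inr_desc]

theorem locallyQuasiFinite_pushout_desc [LocallyQuasiFinite p₁] [LocallyQuasiFinite p₂] :
    LocallyQuasiFinite (pushout.desc p₁ p₂ hp) := by
  haveI : IsZariskiLocalAtSource @LocallyQuasiFinite.{u} :=
    HasRingHomProperty.instIsZariskiLocalAtSource (Q := RingHom.QuasiFinite)
  rw [IsZariskiLocalAtSource.iff_of_openCover (P := @LocallyQuasiFinite.{u}) (pushoutCover g₁ g₂)]
  rintro (_ | _)
  · change LocallyQuasiFinite (pushout.inl g₁ g₂ ≫ pushout.desc p₁ p₂ hp)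
    rw [pushout.inl_desc]; infer_instance
  · change LocallyQuasiFinite (pushout.inr g₁ g₂ ≫ pushout.desc p₁ p₂ hp)
    rw [pushout.inr_desc]; infer_instance

theorem quasiCompact_pushout_desc [QuasiCompact p₁] [QuasiCompact p₂] :
    QuasiCompact (pushout.desc p₁ p₂ hp) := by
  constructor
  intro U hU hUc
  have : (pushout.desc p₁ p₂ hp) ⁻¹' U =
      pushout.inl g₁ g₂ '' (p₁ ⁻¹' U) ∪ pushout.inr g₁ g₂ '' (p₂ ⁻¹' U) := by
    ext y
    constructor
    · intro hy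
      rcases pushout_jointly_surjective g₁ g₂ y with ⟨y₁, rfl⟩ | ⟨y₂, rfl⟩
      · left
        refine ⟨y₁, ?_, rfl⟩
        have := desc_inl_apply g₁ g₂ p₁ p₂ hp y₁
        simp only [Set.mem_preimage] at hy ⊢
        rwa [this] at hy
      · right
        refine ⟨y₂, ?_, rfl⟩
        have := desc_inr_apply g₁ g₂ p₁ p₂ hp y₂
        simp only [Set.mem_preimage] at hy ⊢
        rwa [this] at hy
    · rintro (⟨y₁, hy₁, rfl⟩ | ⟨y₂, hy₂, rfl⟩)
      · simp only [Set.mem_preimage] at hy₁ ⊢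
        rwa [desc_inl_apply]
      · simp only [Set.mem_preimage] at hy₂ ⊢
        rwa [desc_inr_apply]
  rw [this]
  exact ((QuasiCompact.isCompact_preimage (f := p₁) U hU hUc).image
      (pushout.inl g₁ g₂).continuous).union
    ((QuasiCompact.isCompact_preimage (f := p₂) U hU hUc).image (pushout.inr g₁ g₂).continuous)

/-- If the first projection of `Y₁ ×ₛ Y₂` lands in the open `W ⊆ Y₁` and `p₂` is separated,
then the graph `W ⟶ Y₁ ×ₛ Y₂` is a closed immersion. -/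
theorem isClosedImmersion_lift_of_range_subset [IsSeparated p₂]
    (hr : Set.range (pullback.fst p₁ p₂) ⊆ Set.range g₁) :
    IsClosedImmersion (pullback.lift g₁ g₂ hp : W ⟶ pullback p₁ p₂) := by
  let r : pullback p₁ p₂ ⟶ W := IsOpenImmersion.lift g₁ (pullback.fst p₁ p₂) hr
  have hr1 : r ≫ g₁ = pullback.fst p₁ p₂ := IsOpenImmersion.lift_fac _ _ _
  have hℓr : pullback.lift g₁ g₂ hp ≫ r = 𝟙 W := by
    rw [← cancel_mono g₁, Category.assoc, hr1, pullback.lift_fst, Category.id_comp]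
  haveI : IsSeparated (r ≫ g₁) := by rw [hr1]; infer_instance
  haveI : IsSeparated r := IsSeparated.of_comp r g₁
  haveI : IsClosedImmersion (pullback.lift g₁ g₂ hp ≫ r) := by rw [hℓr]; infer_instance
  exact IsClosedImmersion.of_comp (pullback.lift g₁ g₂ hp) r

end pushout

section restrict

/-- If an open immersion `i : Y ⟶ Z` has range exactly `φ ⁻¹ U`, then `φ ∣_ U` is isomorphic to
the induced map `Y ⟶ U`. -/
theorem exists_iso_morphismRestrict {Y Z S : Scheme.{u}} (i : Y ⟶ Z) [IsOpenImmersion i]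
    (φ : Z ⟶ S) (U : S.Opens) (q : Y ⟶ ↑U) (hq : i ≫ φ = q ≫ U.ι)
    (hr : Set.range i = φ ⁻¹' (U : Set S)) :
    ∃ e : Y ≅ ↑(φ ⁻¹ᵁ U), e.hom ≫ φ ∣_ U = q := by
  have hr' : Set.range i = Set.range (φ ⁻¹ᵁ U).ι := by
    rw [hr, Scheme.Opens.range_ι]; rfl
  refine ⟨IsOpenImmersion.isoOfRangeEq i (φ ⁻¹ᵁ U).ι hr', ?_⟩
  rw [← cancel_mono U.ι, Category.assoc, morphismRestrict_ι, ← Category.assoc,
    IsOpenImmersion.isoOfRangeEq_hom_fac, hq]

theorem morphismRestrict_of_range_eq (P : MorphismProperty Scheme.{u}) [P.RespectsIso]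
    {Y Z S : Scheme.{u}} (i : Y ⟶ Z) [IsOpenImmersion i]
    (φ : Z ⟶ S) (U : S.Opens) (q : Y ⟶ ↑U) (hq : i ≫ φ = q ≫ U.ι)
    (hr : Set.range i = φ ⁻¹' (U : Set S)) (h : P q) : P (φ ∣_ U) := by
  obtain ⟨e, he⟩ := exists_iso_morphismRestrict i φ U q hq hr
  rw [← he] at h
  exact (P.cancel_left_of_respectsIso e.hom _).1 h

/-- A target-local property that holds over `V` holds over every smaller open. -/
theorem morphismRestrict_of_le (P : MorphismProperty Scheme.{u}) [IsZariskiLocalAtTarget P]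
    {X S : Scheme.{u}} (f : X ⟶ S) {U V : S.Opens} (hUV : U ≤ V) (h : P (f ∣_ V)) :
    P (f ∣_ U) := by
  have h1 : P (f ∣_ V ∣_ (V.ι ⁻¹ᵁ U)) := IsZariskiLocalAtTarget.restrict h _
  rw [P.arrow_mk_iso_iff (morphismRestrictRestrict f V _)] at h1
  have e : V.ι ''ᵁ (V.ι ⁻¹ᵁ U) = U := by
    rw [Scheme.Hom.image_preimage_eq_opensRange_inf, Scheme.Opens.opensRange_ι]
    exact inf_eq_right.mpr hUV
  rwa [P.arrow_mk_iso_iff (morphismRestrictEq f e)] at h1

theorem morphismRestrict_morphismRestrict_iff (P : MorphismProperty Scheme.{u}) [P.RespectsIso]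
    {X S : Scheme.{u}} (f : X ⟶ S) (W : S.Opens) (Ω : (W : Scheme.{u}).Opens) :
    P (f ∣_ W ∣_ Ω) ↔ P (f ∣_ W.ι ''ᵁ Ω) :=
  P.arrow_mk_iso_iff (morphismRestrictRestrict f W Ω)

/-- The key surjectivity claim: a dominant open immersion into a separated scheme over `B` which
is universally closed over an open `Ω ⊆ B` is surjective over `Ω`. -/
theorem mem_range_of_mem_of_universallyClosed {Y T B : Scheme.{u}} (j : Y ⟶ T) (π : T ⟶ B)
    [IsOpenImmersion j] [IsDominant j] [IsSeparated π] (Ω : B.Opens)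
    (hΩ : UniversallyClosed ((j ≫ π) ∣_ Ω)) (t : T) (ht : π t ∈ Ω) : t ∈ Set.range j := by
  have hcomp : (j ≫ π) ∣_ Ω = j ∣_ (π ⁻¹ᵁ Ω) ≫ π ∣_ Ω := morphismRestrict_comp j π Ω
  haveI : IsSeparated (π ∣_ Ω) :=
    IsZariskiLocalAtTarget.restrict (P := @IsSeparated) (inferInstance : IsSeparated π) Ω
  haveI : UniversallyClosed (j ∣_ (π ⁻¹ᵁ Ω) ≫ π ∣_ Ω) := by rw [← hcomp]; exact hΩ
  haveI : UniversallyClosed (j ∣_ (π ⁻¹ᵁ Ω)) :=
    UniversallyClosed.of_comp_of_isSeparated (j ∣_ (π ⁻¹ᵁ Ω)) (π ∣_ Ω)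
  haveI : IsDominant (j ∣_ (π ⁻¹ᵁ Ω)) :=
    IsZariskiLocalAtTarget.restrict (P := @IsDominant) (inferInstance : IsDominant j) _
  have hsurj : Function.Surjective (j ∣_ (π ⁻¹ᵁ Ω)) := (j ∣_ (π ⁻¹ᵁ Ω)).surjective
  obtain ⟨y, hy⟩ := hsurj ⟨t, ht⟩
  refine ⟨(j ⁻¹ᵁ (π ⁻¹ᵁ Ω)).ι y, ?_⟩
  rw [← Scheme.Hom.comp_apply, ← morphismRestrict_ι, Scheme.Hom.comp_apply, hy]
  rfl

end restrict

section step

variable {X S : Scheme.{u}} (f : X ⟶ S)

/-- First gluing: enlarge `X` so that `f` becomes finite over `V`. -/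
theorem exists_finite_over_open [LocallyQuasiFinite f] [LocallyOfFiniteType f]
    [QuasiCompact f] [IsSeparated f] (V : S.Opens) [QuasiCompact V.ι] (hV : ZMTF (f ∣_ V)) :
    ∃ (X' : Scheme.{u}) (i : X ⟶ X') (f' : X' ⟶ S), IsOpenImmersion i ∧ i ≫ f' = f ∧
      LocallyQuasiFinite f' ∧ LocallyOfFiniteType f' ∧ QuasiCompact f' ∧ IsSeparated f' ∧
      IsFinite (f' ∣_ V) := by
  obtain ⟨TV, jV, pV, hjV, hpV, hfacV⟩ := hV
  have hp : (f ⁻¹ᵁ V).ι ≫ f = jV ≫ (pV ≫ V.ι) := by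
    rw [← Category.assoc, hfacV, morphismRestrict_ι]
  have hfin : IsFinite (pushout.desc f (pV ≫ V.ι) hp ∣_ V) := by
    refine morphismRestrict_of_range_eq @IsFinite (pushout.inr (f ⁻¹ᵁ V).ι jV)
      (pushout.desc f (pV ≫ V.ι) hp) V pV (pushout.inr_desc _ _ _) ?_ hpV
    ext y
    constructor
    · rintro ⟨t, rfl⟩
      change pushout.desc f (pV ≫ V.ι) hp (pushout.inr (f ⁻¹ᵁ V).ι jV t) ∈ V
      rw [desc_inr_apply, Scheme.Hom.comp_apply]
      exact (pV t).2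
    · intro hy
      rcases pushout_jointly_surjective (f ⁻¹ᵁ V).ι jV y with ⟨x, rfl⟩ | ⟨t, rfl⟩
      · have hx : f x ∈ V := by
          have : pushout.desc f (pV ≫ V.ι) hp (pushout.inl (f ⁻¹ᵁ V).ι jV x) ∈ V := hy
          rwa [desc_inl_apply] at this
        refine ⟨jV ⟨x, hx⟩, ?_⟩
        exact ((pushout_inl_eq_inr_iff (f ⁻¹ᵁ V).ι jV x (jV ⟨x, hx⟩)).2 ⟨⟨x, hx⟩, rfl, rfl⟩).symm
      · exact ⟨t, rfl⟩
  refine ⟨pushout (f ⁻¹ᵁ V).ι jV, pushout.inl _ _, pushout.desc f (pV ≫ V.ι) hp, inferInstance,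
    pushout.inl_desc _ _ _, locallyQuasiFinite_pushout_desc _ _ _ _ _,
    CurveGlue.locallyOfFiniteType_pushout_desc _ _ _ _ _, quasiCompact_pushout_desc _ _ _ _ _,
    ?_, hfin⟩
  refine isSeparated_pushout_desc _ _ _ _ hp
    (isClosedImmersion_lift_of_range_subset _ _ _ _ hp ?_)
  rintro _ ⟨z, rfl⟩
  rw [Scheme.Opens.range_ι]
  change f (pullback.fst f (pV ≫ V.ι) z) ∈ V
  rw [← Scheme.Hom.comp_apply, pullback.condition, Scheme.Hom.comp_apply, Scheme.Hom.comp_apply]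
  exact (pV _).2

/-- Second gluing: if `f` is already finite over `V` and `W` is affine with `V ⊔ W = ⊤`, then `f`
admits a finite-form factorisation. -/
theorem zmtf_of_finite_over_open [LocallyQuasiFinite f] [LocallyOfFiniteType f]
    [QuasiCompact f] [IsSeparated f] (V W : S.Opens) (hVW : V ⊔ W = ⊤) (hW : IsAffineOpen W)
    (hV : IsFinite (f ∣_ V)) : ZMTF f := by
  haveI : IsAffine ↑W := hW
  haveI : QuasiCompact (f ∣_ W) :=
    IsZariskiLocalAtTarget.restrict (P := @QuasiCompact) (inferInstance : QuasiCompact f) W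
  haveI : IsSeparated (f ∣_ W) :=
    IsZariskiLocalAtTarget.restrict (P := @IsSeparated) (inferInstance : IsSeparated f) W
  haveI : LocallyOfFiniteType (f ∣_ W) :=
    IsZariskiLocalAtTarget.restrict (P := @LocallyOfFiniteType)
      (inferInstance : LocallyOfFiniteType f) W
  have h0 : ZMTF (f ∣_ W) := ZMTFinAff.exists_finite_of_isAffine (f ∣_ W)
  obtain ⟨TW, jW, πW, hjW, hdW, hπW, hfacW⟩ := h0.exists_dominant
  have hp : (f ⁻¹ᵁ W).ι ≫ f = jW ≫ (πW ≫ W.ι) := by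
    rw [← Category.assoc, hfacW, morphismRestrict_ι]
  -- the surjectivity claim over `V ⊓ W`
  have hclaim : ∀ t : TW, (πW ≫ W.ι) t ∈ V → t ∈ Set.range jW := by
    intro t ht
    have hle : W.ι ''ᵁ (W.ι ⁻¹ᵁ V) ≤ V := by
      rw [Scheme.Hom.image_preimage_eq_opensRange_inf]
      exact inf_le_right
    have h1 : IsFinite (f ∣_ W ∣_ (W.ι ⁻¹ᵁ V)) :=
      (morphismRestrict_morphismRestrict_iff @IsFinite f W _).2
        (morphismRestrict_of_le @IsFinite f hle hV)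
    have h2 : UniversallyClosed ((jW ≫ πW) ∣_ (W.ι ⁻¹ᵁ V)) := by
      rw [hfacW]; infer_instance
    exact mem_range_of_mem_of_universallyClosed jW πW (W.ι ⁻¹ᵁ V) h2 t ht
  refine ⟨pushout (f ⁻¹ᵁ W).ι jW, pushout.inl _ _, pushout.desc f (πW ≫ W.ι) hp, inferInstance,
    ?_, pushout.inl_desc _ _ _⟩
  refine IsZariskiLocalAtTarget.of_forall_exists_morphismRestrict (P := @IsFinite) ?_
  intro x
  have hx : x ∈ V ⊔ W := by rw [hVW]; trivial
  rcases hx with hx | hx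
  · refine ⟨V, hx, ?_⟩
    refine morphismRestrict_of_range_eq @IsFinite
      ((f ⁻¹ᵁ V).ι ≫ pushout.inl (f ⁻¹ᵁ W).ι jW) (pushout.desc f (πW ≫ W.ι) hp) V (f ∣_ V)
      ?_ ?_ hV
    · rw [Category.assoc, pushout.inl_desc, morphismRestrict_ι]
    · have key : ∀ x' : X, f x' ∈ V →
          pushout.inl (f ⁻¹ᵁ W).ι jW x' ∈ Set.range ((f ⁻¹ᵁ V).ι ≫ pushout.inl (f ⁻¹ᵁ W).ι jW) :=
        fun x' hx' => ⟨⟨x', hx'⟩, by rw [Scheme.Hom.comp_apply]; rfl⟩
      ext z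
      constructor
      · rintro ⟨y, rfl⟩
        change pushout.desc f (πW ≫ W.ι) hp (((f ⁻¹ᵁ V).ι ≫ pushout.inl (f ⁻¹ᵁ W).ι jW) y) ∈ V
        rw [Scheme.Hom.comp_apply, desc_inl_apply]
        exact y.2
      · intro hz
        rcases pushout_jointly_surjective (f ⁻¹ᵁ W).ι jW z with ⟨x', rfl⟩ | ⟨t, rfl⟩
        · apply key
          have : pushout.desc f (πW ≫ W.ι) hp (pushout.inl (f ⁻¹ᵁ W).ι jW x') ∈ V := hz
          rwa [desc_inl_apply] at this
        · have ht : (πW ≫ W.ι) t ∈ V := by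
            have : pushout.desc f (πW ≫ W.ι) hp (pushout.inr (f ⁻¹ᵁ W).ι jW t) ∈ V := hz
            rwa [desc_inr_apply] at this
          obtain ⟨y, rfl⟩ := hclaim t ht
          have e : pushout.inr (f ⁻¹ᵁ W).ι jW (jW y) =
              pushout.inl (f ⁻¹ᵁ W).ι jW ((f ⁻¹ᵁ W).ι y) :=
            ((pushout_inl_eq_inr_iff (f ⁻¹ᵁ W).ι jW _ _).2 ⟨y, rfl, rfl⟩).symm
          rw [e]
          apply key
          have : pushout.desc f (πW ≫ W.ι) hp (pushout.inr (f ⁻¹ᵁ W).ι jW (jW y)) ∈ V := hz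
          rwa [e, desc_inl_apply] at this
  · refine ⟨W, hx, ?_⟩
    refine morphismRestrict_of_range_eq @IsFinite (pushout.inr (f ⁻¹ᵁ W).ι jW)
      (pushout.desc f (πW ≫ W.ι) hp) W πW (pushout.inr_desc _ _ _) ?_ hπW
    ext z
    constructor
    · rintro ⟨t, rfl⟩
      change pushout.desc f (πW ≫ W.ι) hp (pushout.inr (f ⁻¹ᵁ W).ι jW t) ∈ W
      rw [desc_inr_apply, Scheme.Hom.comp_apply]
      exact (πW t).2
    · intro hz
      rcases pushout_jointly_surjective (f ⁻¹ᵁ W).ι jW z with ⟨x', rfl⟩ | ⟨t, rfl⟩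
      · have hx' : f x' ∈ W := by
          have : pushout.desc f (πW ≫ W.ι) hp (pushout.inl (f ⁻¹ᵁ W).ι jW x') ∈ W := hz
          rwa [desc_inl_apply] at this
        refine ⟨jW ⟨x', hx'⟩, ?_⟩
        exact ((pushout_inl_eq_inr_iff (f ⁻¹ᵁ W).ι jW x' (jW ⟨x', hx'⟩)).2
          ⟨⟨x', hx'⟩, rfl, rfl⟩).symm
      · exact ⟨t, rfl⟩

/-- The gluing step of the finite form of Zariski's main theorem. -/
theorem zmtf_step [LocallyQuasiFinite f] [LocallyOfFiniteType f]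
    [QuasiCompact f] [IsSeparated f] (V W : S.Opens) (hVW : V ⊔ W = ⊤) (hW : IsAffineOpen W)
    [QuasiCompact V.ι] (hV : ZMTF (f ∣_ V)) : ZMTF f := by
  obtain ⟨X', i, f', hi, hif, h1, h2, h3, h4, h5⟩ := exists_finite_over_open f V hV
  obtain ⟨T, j, π, hj, hπ, hfac⟩ := zmtf_of_finite_over_open f' V W hVW hW h5
  exact ⟨T, i ≫ j, π, inferInstance, hπ, by rw [Category.assoc, hfac, hif]⟩

end step

section induction

variable {X S : Scheme.{u}} (f : X ⟶ S)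

theorem zmtf_morphismRestrict_bot : ZMTF (f ∣_ (⊥ : S.Opens)) := by
  haveI : IsEmpty ↑((⊥ : S.Opens) : Scheme.{u}) := ⟨fun x => x.2⟩
  haveI : IsIso (f ∣_ (⊥ : S.Opens)) := isIso_of_isEmpty _
  exact ⟨_, 𝟙 _, f ∣_ ⊥, inferInstance, inferInstance, Category.id_comp _⟩

theorem zmtf_morphismRestrict_sup [QuasiSeparatedSpace S] [LocallyQuasiFinite f]
    [LocallyOfFiniteType f] [QuasiCompact f] [IsSeparated f] (S₀ : S.Opens)
    (hS₀ : IsCompact (S₀ : Set S)) (U : S.Opens) (hU : IsAffineOpen U)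
    (h : ZMTF (f ∣_ S₀)) : ZMTF (f ∣_ (S₀ ⊔ U)) := by
  set Y : S.Opens := S₀ ⊔ U with hY
  haveI : QuasiCompact (f ∣_ Y) :=
    IsZariskiLocalAtTarget.restrict (P := @QuasiCompact) (inferInstance : QuasiCompact f) Y
  haveI : IsSeparated (f ∣_ Y) :=
    IsZariskiLocalAtTarget.restrict (P := @IsSeparated) (inferInstance : IsSeparated f) Y
  haveI : LocallyOfFiniteType (f ∣_ Y) :=
    IsZariskiLocalAtTarget.restrict (P := @LocallyOfFiniteType)
      (inferInstance : LocallyOfFiniteType f) Y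
  have e₀ : Y.ι ''ᵁ (Y.ι ⁻¹ᵁ S₀) = S₀ := by
    rw [Scheme.Hom.image_preimage_eq_opensRange_inf, Scheme.Opens.opensRange_ι]
    exact inf_eq_right.mpr le_sup_left
  have e₁ : Y.ι ''ᵁ (Y.ι ⁻¹ᵁ U) = U := by
    rw [Scheme.Hom.image_preimage_eq_opensRange_inf, Scheme.Opens.opensRange_ι]
    exact inf_eq_right.mpr le_sup_right
  have hW : IsAffineOpen (Y.ι ⁻¹ᵁ U) := by
    rw [← Y.ι.isAffineOpen_iff_of_isOpenImmersion, e₁]; exact hU
  have hVW : Y.ι ⁻¹ᵁ S₀ ⊔ Y.ι ⁻¹ᵁ U = ⊤ := by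
    ext x
    simp only [Opens.coe_sup, Set.mem_union, SetLike.mem_coe, Opens.coe_top, Set.mem_univ,
      iff_true]
    exact x.2
  haveI : QuasiSeparatedSpace ↑(Y : Scheme.{u}) :=
    Y.ι.isOpenEmbedding.quasiSeparatedSpace
  have hc : IsCompact ((Y.ι ⁻¹ᵁ S₀ : (Y : Scheme.{u}).Opens) : Set ↑(Y : Scheme.{u})) := by
    rw [Y.ι.isOpenEmbedding.isInducing.isCompact_iff]
    have : Y.ι '' ((Y.ι ⁻¹ᵁ S₀ : (Y : Scheme.{u}).Opens) : Set ↑(Y : Scheme.{u})) =
        ((Y.ι ''ᵁ (Y.ι ⁻¹ᵁ S₀) : S.Opens) : Set S) := rfl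
    rw [this, e₀]
    exact hS₀
  haveI : CompactSpace ↑((Y.ι ⁻¹ᵁ S₀ : (Y : Scheme.{u}).Opens) : Scheme.{u}) :=
    isCompact_iff_compactSpace.mp hc
  haveI : QuasiCompact (Y.ι ⁻¹ᵁ S₀).ι := quasiCompact_of_compactSpace _
  refine zmtf_step (f ∣_ Y) (Y.ι ⁻¹ᵁ S₀) (Y.ι ⁻¹ᵁ U) hVW hW ?_
  exact ZMTF.of_arrow_iso (morphismRestrictRestrict f Y _ ≪≫ morphismRestrictEq f e₀) h

theorem zmtf_morphismRestrict_of_isCompact [QuasiSeparatedSpace S] [LocallyQuasiFinite f]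
    [LocallyOfFiniteType f] [QuasiCompact f] [IsSeparated f] (U : S.Opens)
    (hU : IsCompact (U : Set S)) : ZMTF (f ∣_ U) := by
  refine compact_open_induction_on (P := fun U => ZMTF (f ∣_ U)) U hU
    (zmtf_morphismRestrict_bot f) ?_
  intro S₀ hS₀ U h
  exact zmtf_morphismRestrict_sup f S₀ hS₀ U.1 U.2 h

/-- **Zariski's main theorem, finite form**: a separated quasi-finite morphism of finite type to a
quasi-compact quasi-separated scheme factors as an open immersion followed by a finite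
morphism. -/
theorem zmtf_of_qcqs [CompactSpace S] [QuasiSeparatedSpace S] [LocallyQuasiFinite f]
    [LocallyOfFiniteType f] [QuasiCompact f] [IsSeparated f] : ZMTF f := by
  have h := zmtf_morphismRestrict_of_isCompact f ⊤ isCompact_univ
  haveI : IsIso (f ⁻¹ᵁ (⊤ : S.Opens)).ι := inferInstanceAs (IsIso X.topIso.hom)
  refine ZMTF.of_arrow_iso (Arrow.isoMk (asIso (f ⁻¹ᵁ (⊤ : S.Opens)).ι) S.topIso ?_).symm h
  change (f ⁻¹ᵁ (⊤ : S.Opens)).ι ≫ f = f ∣_ ⊤ ≫ S.topIso.hom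
  rw [Scheme.topIso_hom]
  exact (morphismRestrict_ι f ⊤).symm

end induction

end Groth.Agent.Lib.Helper41.ZMTFinGlue
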