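import Mathlib
import Groth.Agent.Lib.Helper41.ZMTFinGlue

set_option autoImplicit false
universe u
open CategoryTheory CategoryTheory.Limits AlgebraicGeometry TopologicalSpace

namespace Groth.Agent.Lib.Helper41.FiniteExtend

open Groth.Agent.Lib.Helper41.ZMTFinGlue

/-- An open immersion `i : Y ⟶ Z` whose range is the preimage of the open `U` under `φ` exhibits
`Y` as the pullback of `φ` along `U.ι`. -/
theorem isPullback_of_range_eq {Y Z S : Scheme.{u}} (i : Y ⟶ Z) [IsOpenImmersion i]
    (φ : Z ⟶ S) (U : S.Opens) (q : Y ⟶ ↑U) (hq : i ≫ φ = q ≫ U.ι)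
    (hr : Set.range i = φ ⁻¹' (U : Set S)) : IsPullback i q φ U.ι := by
  have hr' : Set.range i = Set.range (φ ⁻¹ᵁ U).ι := by
    rw [hr, Scheme.Opens.range_ι]; rfl
  let e := IsOpenImmersion.isoOfRangeEq i (φ ⁻¹ᵁ U).ι hr'
  have h1 : e.hom ≫ (φ ⁻¹ᵁ U).ι = i := IsOpenImmersion.isoOfRangeEq_hom_fac _ _ _
  have h2 : e.hom ≫ φ ∣_ U = q := by
    rw [← cancel_mono U.ι, Category.assoc, morphismRestrict_ι, ← Category.assoc, h1, hq]
  exact IsPullback.of_iso (isPullback_morphismRestrict φ U).flip e.symm (Iso.refl _) (Iso.refl _)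
    (Iso.refl _) (by simp [← h1]) (by simp [← h2]) (by simp) (by simp)

/-- Stacks 0CNU-type: a finite surjective cover of a quasi-compact open `U` of a qcqs scheme `S`
extends to a finite surjective cover of `S`. -/
theorem exists_finite_extension {S V : Scheme.{u}} [CompactSpace S] [QuasiSeparatedSpace S]
    (U : S.Opens) (hU : IsCompact (U : Set S)) (v : V ⟶ (U : Scheme.{u})) [IsFinite v]
    [Surjective v] :
    ∃ (V' : Scheme.{u}) (π : V' ⟶ S) (i : V ⟶ V'), Surjective π ∧ IsFinite π ∧
      IsPullback i v π U.ι := by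
  haveI : CompactSpace (U : Scheme.{u}) := isCompact_iff_compactSpace.mp hU
  haveI : QuasiCompact U.ι := quasiCompact_of_compactSpace U.ι
  let f : V ⟶ S := v ≫ U.ι
  obtain ⟨T, j, π₀, hj, hπ₀, hfac⟩ := zmtf_of_qcqs f
  haveI := hj
  haveI := hπ₀
  haveI : QuasiCompact (j ≫ π₀) := by rw [hfac]; infer_instance
  haveI : QuasiCompact j := QuasiCompact.of_comp j π₀
  let T' : Scheme.{u} := j.image
  let j' : V ⟶ T' := j.toImage
  let π' : T' ⟶ S := j.imageι ≫ π₀
  have hfac' : j' ≫ π' = v ≫ U.ι := by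
    change j.toImage ≫ j.imageι ≫ π₀ = _
    rw [← Category.assoc, Scheme.Hom.toImage_imageι, hfac]
  haveI : IsOpenImmersion j' := inferInstanceAs (IsOpenImmersion j.toImage)
  haveI : IsDominant j' := inferInstanceAs (IsDominant j.toImage)
  haveI : IsFinite π' := inferInstanceAs (IsFinite (j.imageι ≫ π₀))
  have hUC : UniversallyClosed ((j' ≫ π') ∣_ U) := by
    rw [hfac']
    refine morphismRestrict_of_range_eq @UniversallyClosed (𝟙 V) (v ≫ U.ι) U v (by simp) ?_
      inferInstance
    ext y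
    refine ⟨fun _ => ?_, fun _ => ⟨y, rfl⟩⟩
    change (v ≫ U.ι) y ∈ U
    rw [Scheme.Hom.comp_apply]
    exact (v y).2
  have hrange : Set.range j' = π' ⁻¹' (U : Set S) := by
    ext t
    constructor
    · rintro ⟨y, rfl⟩
      change π' (j' y) ∈ U
      rw [← Scheme.Hom.comp_apply, hfac', Scheme.Hom.comp_apply]
      exact (v y).2
    · intro ht
      exact mem_range_of_mem_of_universallyClosed j' π' U hUC t ht
  let Zc : Closeds S := ⟨(U : Set S)ᶜ, U.2.isClosed_compl⟩
  let I : S.IdealSheafData := Scheme.IdealSheafData.vanishingIdeal Zc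
  let Z : Scheme.{u} := I.subscheme
  let ιZ : Z ⟶ S := I.subschemeι
  have hZr : Set.range ιZ = (U : Set S)ᶜ := by
    change Set.range I.subschemeι = _
    rw [Scheme.IdealSheafData.range_subschemeι]
    exact Scheme.IdealSheafData.coe_support_vanishingIdeal Zc
  haveI : IsFinite ιZ := inferInstanceAs (IsFinite I.subschemeι)
  refine ⟨T' ⨿ Z, coprod.desc π' ιZ, j' ≫ coprod.inl, ⟨fun s => ?_⟩, inferInstance, ?_⟩
  · by_cases hs : s ∈ U
    · obtain ⟨y, hy⟩ := v.surjective ⟨s, hs⟩
      refine ⟨(j' ≫ coprod.inl) y, ?_⟩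
      rw [← Scheme.Hom.comp_apply, Category.assoc, coprod.inl_desc, hfac', Scheme.Hom.comp_apply, hy]
      rfl
    · have : s ∈ Set.range ιZ := by rw [hZr]; exact hs
      obtain ⟨z, rfl⟩ := this
      refine ⟨(coprod.inr : Z ⟶ T' ⨿ Z) z, ?_⟩
      rw [← Scheme.Hom.comp_apply, coprod.inr_desc]
  · apply isPullback_of_range_eq
    · rw [Category.assoc, coprod.inl_desc, hfac']
    · ext x
      obtain ⟨(t | z), rfl⟩ := (coprodMk T' Z).surjective x
      · rw [coprodMk_inl]
        simp only [Set.mem_preimage, SetLike.mem_coe]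
        rw [← Scheme.Hom.comp_apply, coprod.inl_desc]
        constructor
        · rintro ⟨y, hy⟩
          rw [Scheme.Hom.comp_apply] at hy
          have hinj := (coprod.inl : T' ⟶ T' ⨿ Z).isOpenEmbedding.injective hy
          have : t ∈ Set.range j' := ⟨y, hinj⟩
          rw [hrange] at this
          exact this
        · intro ht
          have : t ∈ Set.range j' := by rw [hrange]; exact ht
          obtain ⟨y, rfl⟩ := this
          exact ⟨y, Scheme.Hom.comp_apply _ _ _⟩
      · rw [coprodMk_inr]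
        simp only [Set.mem_preimage, SetLike.mem_coe]
        rw [← Scheme.Hom.comp_apply, coprod.inr_desc]
        constructor
        · rintro ⟨y, hy⟩
          rw [Scheme.Hom.comp_apply] at hy
          exact absurd hy (inl_ne_inr _ _ _ _)
        · intro hz
          have : ιZ z ∈ (U : Set S)ᶜ := by rw [← hZr]; exact ⟨z, rfl⟩
          exact absurd hz this

end Groth.Agent.Lib.Helper41.FiniteExtend
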