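import Mathlib
import Groth.Agent.Lib.Helper41.FiniteExtend

set_option autoImplicit false
universe u
open CategoryTheory CategoryTheory.Limits AlgebraicGeometry TopologicalSpace

namespace Groth.Agent.Lib.Helper41.FiniteExtend

open Groth.Agent.Lib.Helper41.ZMTFinGlue

/-- A finite morphism to a quasi-compact open `U` of a qcqs scheme `S` extends to a finite morphism
to `S` (no surjectivity needed or claimed). -/
theorem exists_finite_extension' {S V : Scheme.{u}} [CompactSpace S] [QuasiSeparatedSpace S]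
    (U : S.Opens) (hU : IsCompact (U : Set S)) (v : V ⟶ (U : Scheme.{u})) [IsFinite v] :
    ∃ (V' : Scheme.{u}) (π : V' ⟶ S) (i : V ⟶ V'), IsFinite π ∧ IsPullback i v π U.ι := by
  haveI : CompactSpace (U : Scheme.{u}) := isCompact_iff_compactSpace.mp hU
  haveI : QuasiCompact U.ι := quasiCompact_of_compactSpace U.ι
  let f : V ⟶ S := v ≫ U.ι
  obtain ⟨T, j, π₀, hj, hπ₀, hfac⟩ := zmtf_of_qcqs f
  haveI := hj
  haveI := hπ₀
  haveI : QuasiCompact (j ≫ π₀) := by rw [hfac]; infer_instance
  haveI : QuasiCompact j := QuasiCompact.of_comp j π₀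
  let T' : Scheme.{u} := j.image
  let j' : V ⟶ T' := j.toImage
  let π' : T' ⟶ S := j.imageι ≫ π₀
  have hfac' : j' ≫ π' = v ≫ U.ι := by
    change j.toImage ≫ j.imageι ≫ π₀ = _
    rw [← Category.assoc, Scheme.Hom.toImage_imageι, hfac]
  haveI : IsOpenImmersion j' := inferInstanceAs (IsOpenImmersion j.toImage)
  haveI : IsDominant j' := inferInstanceAs (IsDominant j.toImage)
  haveI : IsFinite π' := inferInstanceAs (IsFinite (j.imageι ≫ π₀))
  have hUC : UniversallyClosed ((j' ≫ π') ∣_ U) := by
    rw [hfac']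
    refine morphismRestrict_of_range_eq @UniversallyClosed (𝟙 V) (v ≫ U.ι) U v (by simp) ?_
      inferInstance
    ext y
    refine ⟨fun _ => ?_, fun _ => ⟨y, rfl⟩⟩
    change (v ≫ U.ι) y ∈ U
    rw [Scheme.Hom.comp_apply]
    exact (v y).2
  have hrange : Set.range j' = π' ⁻¹' (U : Set S) := by
    ext t
    constructor
    · rintro ⟨y, rfl⟩
      change π' (j' y) ∈ U
      rw [← Scheme.Hom.comp_apply, hfac', Scheme.Hom.comp_apply]
      exact (v y).2
    · intro ht
      exact mem_range_of_mem_of_universallyClosed j' π' U hUC t ht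
  exact ⟨T', π', j', inferInstance, isPullback_of_range_eq j' π' U v hfac' hrange⟩

end Groth.Agent.Lib.Helper41.FiniteExtend
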