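import Mathlib
import Groth.Prelude.Def_Frob
import Groth.Agent.Lib.Helper82.EffCartier

/-!
# Frobenius-twisted correspondences are contracting (Varshavsky's lemma)
-/

set_option autoImplicit false
universe u
open CategoryTheory CategoryTheory.Limits AlgebraicGeometry

namespace Groth.Agent.Lib.Helper41.FrobContract

open FrobSch

section Iter

variable (X : Scheme.{u}) (p : ℕ) [Fact p.Prime] [IsCharP X p]

theorem frobIter_apply (m : ℕ) (x : X) : (End.asHom (End.of (frob X p) ^ m)) x = x := by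
  induction m with
  | zero => rfl
  | succ m ih =>
    have h : End.asHom (End.of (frob X p) ^ (m + 1)) =
        frob X p ≫ End.asHom (End.of (frob X p) ^ m) := by
      rw [pow_succ, End.mul_def]
    rw [h, Scheme.Hom.comp_apply, frob_apply, ih]

theorem le_frobIter_preimage (m : ℕ) (U : X.Opens) :
    U ≤ (End.asHom (End.of (frob X p) ^ m)) ⁻¹ᵁ U := by
  intro x hx
  change (End.asHom (End.of (frob X p) ^ m)) x ∈ U
  rw [frobIter_apply]; exact hx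

theorem frobIter_appLE (m : ℕ) (U : X.Opens) (s : Γ(X, U)) :
    ((End.asHom (End.of (frob X p) ^ m)).appLE U U (le_frobIter_preimage X p m U)).hom s =
      s ^ (p ^ m) := by
  induction m with
  | zero =>
    have h : End.asHom (End.of (frob X p) ^ 0) = 𝟙 X := by rw [pow_zero]; rfl
    have h2 : ∀ (f : X ⟶ X) (hf : f = 𝟙 X) (e : U ≤ f ⁻¹ᵁ U), (f.appLE U U e).hom s = s := by
      intro f hf e
      subst hf
      have : X.presheaf.map (homOfLE e).op = 𝟙 _ := X.presheaf.map_id _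
      simp only [Scheme.Hom.appLE, Scheme.Hom.id_app]
      rw [this]; rfl
    rw [h2 _ h, pow_zero, pow_one]
  | succ m ih =>
    have h : End.asHom (End.of (frob X p) ^ (m + 1)) =
        frob X p ≫ End.asHom (End.of (frob X p) ^ m) := by
      rw [pow_succ, End.mul_def]
    have h2 : ∀ (f : X ⟶ X) (hf : f = frob X p ≫ End.asHom (End.of (frob X p) ^ m))
        (e : U ≤ f ⁻¹ᵁ U), (f.appLE U U e).hom s = s ^ (p ^ (m + 1)) := by
      intro f hf e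
      subst hf
      have h3 := Scheme.Hom.appLE_comp_appLE (frob X p) (End.asHom (End.of (frob X p) ^ m))
        U U U (le_frobIter_preimage X p m U) (le_refl U)
      rw [← h3, CommRingCat.comp_apply, ih]
      have h4 : ((frob X p).appLE U U (le_refl U)).hom (s ^ p ^ m) = (s ^ p ^ m) ^ p := by
        have : (frob X p).appLE U U (le_refl U) = (frob X p).app U :=
          Scheme.Hom.appLE_eq_app (frob X p)
        rw [this]
        exact frob_app X p U _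
      rw [h4, ← pow_mul, pow_succ]
    exact h2 _ h _

end Iter

/-- In a pushout square of commutative rings, a subring containing both images is everything. -/
theorem pushout_subring_eq_top {R₀ B Rh C : CommRingCat.{u}} {f : R₀ ⟶ B} {g : R₀ ⟶ Rh}
    {inl : B ⟶ C} {inr : Rh ⟶ C} (h : IsPushout f g inl inr) (T : Subring C)
    (hl : ∀ b, inl.hom b ∈ T) (hr : ∀ x, inr.hom x ∈ T) (c : C) : c ∈ T := by
  let incl : CommRingCat.of T ⟶ C := CommRingCat.ofHom T.subtype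
  let inl' : B ⟶ CommRingCat.of T := CommRingCat.ofHom (inl.hom.codRestrict T hl)
  let inr' : Rh ⟶ CommRingCat.of T := CommRingCat.ofHom (inr.hom.codRestrict T hr)
  have w' : f ≫ inl' = g ≫ inr' := by
    ext r
    exact congr($(h.w).hom r)
  have h1 : inl ≫ (h.desc inl' inr' w' ≫ incl) = inl := by
    rw [← Category.assoc, h.inl_desc]; rfl
  have h2 : inr ≫ (h.desc inl' inr' w' ≫ incl) = inr := by
    rw [← Category.assoc, h.inr_desc]; rfl
  have h3 : h.desc inl' inr' w' ≫ incl = 𝟙 C :=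
    h.hom_ext (by rw [h1, Category.comp_id]) (by rw [h2, Category.comp_id])
  have h4 : c = incl.hom ((h.desc inl' inr' w').hom c) := congr($(h3.symm).hom c)
  rw [h4]
  exact ((h.desc inl' inr' w').hom c).2

theorem appLE_congr_hom {X Y : Scheme.{u}} {f g : X ⟶ Y} (h : f = g) (U : Y.Opens) (V : X.Opens)
    (e : V ≤ f ⁻¹ᵁ U) : f.appLE U V e = g.appLE U V (h ▸ e) := by
  subst h; rfl

theorem sq_topIso {X Y : Scheme.{u}} (f : X ⟶ Y) (U : Y.Opens) :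
    (f ∣_ U).appTop ≫ (f ⁻¹ᵁ U).topIso.hom = U.topIso.hom ≫ f.app U := by
  rw [Scheme.Hom.appTop, morphismRestrict_app']
  simp only [Scheme.Opens.topIso_hom, Scheme.Hom.app_eq_appLE]
  exact (Scheme.Hom.appLE_map _ _ _).trans (Scheme.Hom.map_appLE _ _ _).symm

theorem sq_ι {X Y : Scheme.{u}} (q : X ⟶ Y) (U : X.Opens) :
    (U.ι ≫ q).appTop ≫ U.topIso.hom = q.appLE ⊤ U le_top := by
  rw [Scheme.Hom.comp_appTop, Category.assoc]
  change q.appTop ≫ X.presheaf.map (homOfLE (x := U.ι ''ᵁ ⊤) le_top).op ≫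
    X.presheaf.map (eqToHom U.ι_image_top.symm).op = _
  rw [← Functor.map_comp]
  rfl

/-- iterate of the `p`-power endomorphism -/
theorem powHom_pow_apply (p : ℕ) [Fact p.Prime] (R : Type u) [CommRing R] (h : (p : R) = 0)
    (m : ℕ) (r : R) : (powHom p R h ^ m) r = r ^ (p ^ m) := by
  induction m generalizing r with
  | zero => simp
  | succ m ih =>
    rw [pow_succ, RingHom.mul_def, RingHom.comp_apply, powHom_apply, ih, ← pow_mul, pow_succ,
      mul_comm]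

section Main

variable {C C₀ X : Scheme.{u}} (p : ℕ) [Fact p.Prime]
    (k₀ : Type u) [Field k₀]
    (K : Type u) [Field K] [Algebra k₀ K] [IsAlgClosure k₀ K]
    (f₀ : C₀ ⟶ Spec (CommRingCat.of k₀)) [FrobSch.IsCharP C₀ p]
    (πC₀ : C ⟶ C₀) (πK : C ⟶ Spec (CommRingCat.of K))
    (hC : IsPullback πC₀ πK f₀ (Spec.map (CommRingCat.ofHom (algebraMap k₀ K))))
    (m : ℕ) (Fr : C ⟶ C)
    (hFr₀ : Fr ≫ πC₀ = πC₀ ≫ End.asHom (End.of (FrobSch.frob C₀ p) ^ m))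
    (hFrK : Fr ≫ πK = πK)

omit [IsAlgClosure k₀ K] in
include hC in
theorem isAffineHom_πC₀ : IsAffineHom πC₀ :=
  MorphismProperty.of_isPullback hC.flip (inferInstance :
    IsAffineHom (Spec.map (CommRingCat.ofHom (algebraMap k₀ K))))

include hFr₀ in
theorem le_Fr_preimage (U₀ : C₀.Opens) : πC₀ ⁻¹ᵁ U₀ ≤ Fr ⁻¹ᵁ (πC₀ ⁻¹ᵁ U₀) := by
  intro x hx
  change πC₀ (Fr x) ∈ U₀
  rw [← Scheme.Hom.comp_apply, hFr₀, Scheme.Hom.comp_apply, frobIter_apply]
  exact hx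

include hC hFr₀ hFrK in
/-- every pulled-back function is a `p^m`-th power -/
theorem exists_pow_eq (U₀ : C₀.Opens) (hU₀ : IsAffineOpen U₀) (t : Γ(C, πC₀ ⁻¹ᵁ U₀)) :
    ∃ t' : Γ(C, πC₀ ⁻¹ᵁ U₀),
      t' ^ (p ^ m) = (Fr.appLE (πC₀ ⁻¹ᵁ U₀) (πC₀ ⁻¹ᵁ U₀) (le_Fr_preimage p πC₀ m Fr hFr₀ U₀)).hom t := by
  haveI : IsCharP C p := IsCharP.of_hom πC₀ p
  haveI : IsAffine U₀ := hU₀
  have h0 : (p : Γ(C, πC₀ ⁻¹ᵁ U₀)) = 0 := natCast_eq_zero_app C p _
  set ρ := (Fr.appLE (πC₀ ⁻¹ᵁ U₀) (πC₀ ⁻¹ᵁ U₀) (le_Fr_preimage p πC₀ m Fr hFr₀ U₀)).hom with hρ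
  let T : Subring Γ(C, πC₀ ⁻¹ᵁ U₀) := ((powHom p _ h0 ^ m).range).comap ρ
  have hT : ∀ t, t ∈ T ↔ ∃ t', t' ^ (p ^ m) = ρ t := by
    intro t
    change (∃ t', (powHom p _ h0 ^ m) t' = ρ t) ↔ _
    simp only [powHom_pow_apply]
  rw [← hT]
  -- the pushout square
  have hpb : IsPullback (πC₀ ∣_ U₀) ((πC₀ ⁻¹ᵁ U₀).ι ≫ πK) (U₀.ι ≫ f₀)
      (Spec.map (CommRingCat.ofHom (algebraMap k₀ K))) :=
    (isPullback_morphismRestrict πC₀ U₀).paste_vert hC
  have hpo := isPushout_appTop_of_isPullback hpb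
  let T' : Subring Γ((πC₀ ⁻¹ᵁ U₀ : C.Opens), ⊤) := T.comap (πC₀ ⁻¹ᵁ U₀).topIso.hom.hom
  have key : (πC₀ ⁻¹ᵁ U₀).topIso.inv.hom t ∈ T' := by
    refine pushout_subring_eq_top hpo T' ?_ ?_ _
    · intro b
      change (πC₀ ⁻¹ᵁ U₀).topIso.hom.hom ((πC₀ ∣_ U₀).appTop.hom b) ∈ T
      have e1 : (πC₀ ⁻¹ᵁ U₀).topIso.hom.hom ((πC₀ ∣_ U₀).appTop.hom b) =
          (πC₀.app U₀).hom (U₀.topIso.hom.hom b) := congr($(sq_topIso πC₀ U₀).hom b)
      rw [e1, hT]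
      set a := U₀.topIso.hom.hom b
      refine ⟨(πC₀.app U₀).hom a, ?_⟩
      have e2 : πC₀.app U₀ ≫ Fr.appLE (πC₀ ⁻¹ᵁ U₀) (πC₀ ⁻¹ᵁ U₀)
          (le_Fr_preimage p πC₀ m Fr hFr₀ U₀) =
          (End.asHom (End.of (frob C₀ p) ^ m)).appLE U₀ U₀ (le_frobIter_preimage C₀ p m U₀) ≫
            πC₀.app U₀ := by
        rw [Scheme.Hom.app_eq_appLE, Scheme.Hom.appLE_comp_appLE, Scheme.Hom.appLE_comp_appLE]
        exact appLE_congr_hom hFr₀ _ _ _
      have e3 := congr($(e2).hom a)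
      rw [CommRingCat.comp_apply, CommRingCat.comp_apply, frobIter_appLE, map_pow] at e3
      exact e3.symm
    · intro x
      change (πC₀ ⁻¹ᵁ U₀).topIso.hom.hom (((πC₀ ⁻¹ᵁ U₀).ι ≫ πK).appTop.hom x) ∈ T
      have e1 : (πC₀ ⁻¹ᵁ U₀).topIso.hom.hom (((πC₀ ⁻¹ᵁ U₀).ι ≫ πK).appTop.hom x) =
          (πK.appLE ⊤ (πC₀ ⁻¹ᵁ U₀) le_top).hom x := congr($(sq_ι πK (πC₀ ⁻¹ᵁ U₀)).hom x)
      rw [e1, hT]
      -- x is a p^m-th power
      haveI : IsAlgClosed K := IsAlgClosure.isAlgClosed k₀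
      obtain ⟨y, hy⟩ := IsAlgClosed.exists_pow_nat_eq
        ((Scheme.ΓSpecIso (CommRingCat.of K)).hom.hom x) (pow_pos (Fact.out : p.Prime).pos m)
      have hx : x = ((Scheme.ΓSpecIso (CommRingCat.of K)).inv.hom y) ^ (p ^ m) := by
        rw [← map_pow, hy]
        exact (congr($((Scheme.ΓSpecIso (CommRingCat.of K)).hom_inv_id).hom x)).symm
      refine ⟨(πK.appLE ⊤ (πC₀ ⁻¹ᵁ U₀) le_top).hom ((Scheme.ΓSpecIso (CommRingCat.of K)).inv.hom y), ?_⟩
      have e2 : πK.appLE ⊤ (πC₀ ⁻¹ᵁ U₀) le_top ≫ Fr.appLE (πC₀ ⁻¹ᵁ U₀) (πC₀ ⁻¹ᵁ U₀)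
          (le_Fr_preimage p πC₀ m Fr hFr₀ U₀) = πK.appLE ⊤ (πC₀ ⁻¹ᵁ U₀) le_top := by
        rw [Scheme.Hom.appLE_comp_appLE]
        exact appLE_congr_hom hFrK _ _ _
      have e3 := congr($(e2).hom x)
      rw [CommRingCat.comp_apply] at e3
      rw [hρ, e3, hx, map_pow]
  have : (πC₀ ⁻¹ᵁ U₀).topIso.hom.hom ((πC₀ ⁻¹ᵁ U₀).topIso.inv.hom t) = t :=
    congr($((πC₀ ⁻¹ᵁ U₀).topIso.inv_hom_id).hom t)
  rw [← this]
  exact key

include hC hFr₀ hFrK in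
theorem main (c₁ c₂ : C ⟶ X) (I : X.IdealSheafData) (d : ℕ)
    (hd : (I.comap c₂).radical ^ d ≤ I.comap c₂) (hn : d < p ^ m)
    (hinv : (Fr ≫ c₁).base '' (c₂.base ⁻¹' (I.support : Set X)) ⊆ (I.support : Set X)) :
    I.comap (Fr ≫ c₁) ≤ I.comap c₂ ∧ I.comap (Fr ≫ c₁) ^ d ≤ I.comap c₂ ^ (d + 1) := by
  set L := I.comap (Fr ≫ c₁) with hL
  set J := I.comap c₂ with hJ
  haveI := isAffineHom_πC₀ k₀ K f₀ πC₀ πK hC
  -- (1) L ≤ √J
  have hsupp : J.support ≤ L.support := by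
    intro x hx
    rw [hJ, Scheme.IdealSheafData.support_comap] at hx
    rw [hL, Scheme.IdealSheafData.support_comap]
    exact hinv ⟨x, hx, rfl⟩
  have hLrad : L ≤ J.radical := by
    calc L ≤ L.radical := Scheme.IdealSheafData.le_radical _
      _ = Scheme.IdealSheafData.vanishingIdeal L.support :=
          Scheme.IdealSheafData.vanishingIdeal_support.symm
      _ ≤ Scheme.IdealSheafData.vanishingIdeal J.support :=
          Scheme.IdealSheafData.vanishingIdeal_antimono hsupp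
      _ = J.radical := Scheme.IdealSheafData.vanishingIdeal_support
  -- (2) L ≤ (√J)^q
  have hLq : L ≤ J.radical ^ (p ^ m) := by
    refine Scheme.IdealSheafData.le_of_iSup_eq_top
      (fun U₀ : C₀.affineOpens => (⟨πC₀ ⁻¹ᵁ U₀.1, U₀.2.preimage πC₀⟩ : C.affineOpens)) ?_ ?_
    · have h1 : ⨆ U : C₀.affineOpens, (U.1 : C₀.Opens) = ⊤ := iSup_affineOpens_eq_top C₀
      have h2 := congrArg (fun W => πC₀ ⁻¹ᵁ W) h1
      simp only [Scheme.Hom.preimage_iSup, Scheme.Hom.preimage_top] at h2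
      exact h2
    · intro U₀
      have e0 : L = (I.comap c₁).comap Fr := Scheme.IdealSheafData.comap_comp _ _ _
      have e1 := Groth.Agent.Lib.Helper82.ideal_comap_of_le Fr (I.comap c₁) (πC₀ ⁻¹ᵁ U₀.1)
        (U₀.2.preimage πC₀) (πC₀ ⁻¹ᵁ U₀.1) (U₀.2.preimage πC₀)
        (le_Fr_preimage p πC₀ m Fr hFr₀ U₀.1)
      rw [← e0] at e1
      rw [Scheme.IdealSheafData.ideal_pow]
      change L.ideal ⟨πC₀ ⁻¹ᵁ U₀.1, _⟩ ≤ (J.radical.ideal ⟨πC₀ ⁻¹ᵁ U₀.1, _⟩) ^ (p ^ m)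
      rw [Scheme.IdealSheafData.radical_ideal]
      conv_lhs => rw [e1]
      rw [Ideal.map_le_iff_le_comap]
      intro g hg
      rw [Ideal.mem_comap]
      obtain ⟨t', ht'⟩ := exists_pow_eq p k₀ K f₀ πC₀ πK hC m Fr hFr₀ hFrK U₀.1 U₀.2 g
      rw [← ht']
      apply Ideal.pow_mem_pow
      have h3 : t' ^ (p ^ m) ∈ L.ideal ⟨πC₀ ⁻¹ᵁ U₀.1, U₀.2.preimage πC₀⟩ := by
        rw [e1, ht']
        exact Ideal.mem_map_of_mem _ hg
      have h4 := hLrad ⟨πC₀ ⁻¹ᵁ U₀.1, U₀.2.preimage πC₀⟩ h3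
      rw [Scheme.IdealSheafData.radical_ideal] at h4
      have h5 := (Ideal.radical_isRadical _) ⟨p ^ m, h4⟩
      exact h5
  have h0 : (0 : C.IdealSheafData) ≤ J.radical := bot_le
  have h1 : J.radical ≤ 1 := le_top
  have hq1 : d + 1 ≤ p ^ m := hn
  constructor
  · calc L ≤ J.radical ^ (p ^ m) := hLq
      _ ≤ J.radical ^ d := pow_le_pow_of_le_one h0 h1 (by omega)
      _ ≤ J := hd
  · calc L ^ d ≤ (J.radical ^ (p ^ m)) ^ d := pow_le_pow_left₀ bot_le hLq d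
      _ = J.radical ^ (p ^ m * d) := (pow_mul _ _ _).symm
      _ ≤ J.radical ^ (d * (d + 1)) := pow_le_pow_of_le_one h0 h1 (by nlinarith)
      _ = (J.radical ^ d) ^ (d + 1) := pow_mul _ _ _
      _ ≤ J ^ (d + 1) := pow_le_pow_left₀ bot_le hd _

end Main

end Groth.Agent.Lib.Helper41.FrobContract
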