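import Mathlib
import Groth.Agent.Lib.Helper41.FrobContract
import Groth.Agent.Lib.Helper82.BlowUpMul

/-!
# Frobenius-twisted correspondences: contraction near fixed points
-/

set_option autoImplicit false
universe u
open CategoryTheory CategoryTheory.Limits AlgebraicGeometry

namespace Groth.Agent.Lib.Helper41.FrobContract

open FrobSch

section General

variable {C C₀ X : Scheme.{u}} (p : ℕ) [Fact p.Prime]
    (k₀ : Type u) [Field k₀]
    (K : Type u) [Field K] [Algebra k₀ K] [IsAlgClosure k₀ K]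
    (f₀ : C₀ ⟶ Spec (CommRingCat.of k₀)) [FrobSch.IsCharP C₀ p]
    (πC₀ : C ⟶ C₀) (πK : C ⟶ Spec (CommRingCat.of K))
    (hC : IsPullback πC₀ πK f₀ (Spec.map (CommRingCat.ofHom (algebraMap k₀ K))))
    (m : ℕ) (Fr : C ⟶ C)
    (hFr₀ : Fr ≫ πC₀ = πC₀ ≫ End.asHom (End.of (FrobSch.frob C₀ p) ^ m))
    (hFrK : Fr ≫ πK = πK)

include hC hFr₀ hFrK in
theorem le_radical_pow {W : Scheme.{u}} (w : W ⟶ C) (c₁ c₂ : C ⟶ X) (I : X.IdealSheafData)
    (hinv : ∀ y : W, c₂ (w y) ∈ I.support → (Fr ≫ c₁) (w y) ∈ I.support) :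
    I.comap (w ≫ Fr ≫ c₁) ≤ (I.comap (w ≫ c₂)).radical ^ (p ^ m) := by
  set L := I.comap (w ≫ Fr ≫ c₁) with hL
  set J := I.comap (w ≫ c₂) with hJ
  haveI := isAffineHom_πC₀ k₀ K f₀ πC₀ πK hC
  have hsupp : J.support ≤ L.support := by
    intro x hx
    rw [hJ, Scheme.IdealSheafData.support_comap] at hx
    rw [hL, Scheme.IdealSheafData.support_comap]
    exact hinv x hx
  have hLrad : L ≤ J.radical := by
    calc L ≤ L.radical := Scheme.IdealSheafData.le_radical _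
      _ = Scheme.IdealSheafData.vanishingIdeal L.support :=
          Scheme.IdealSheafData.vanishingIdeal_support.symm
      _ ≤ Scheme.IdealSheafData.vanishingIdeal J.support :=
          Scheme.IdealSheafData.vanishingIdeal_antimono hsupp
      _ = J.radical := Scheme.IdealSheafData.vanishingIdeal_support
  -- the cover of `W`
  have key : ∀ y : W, ∃ (V : W.affineOpens) (U₀ : C₀.affineOpens), y ∈ V.1 ∧
      V.1 ≤ (w ≫ πC₀) ⁻¹ᵁ U₀.1 := by
    intro y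
    obtain ⟨U₀, hU₀, hyU₀, -⟩ := exists_isAffineOpen_mem_and_subset (U := ⊤)
      (x := (w ≫ πC₀) y) (by simp)
    obtain ⟨V, hV, hyV, hVU⟩ := exists_isAffineOpen_mem_and_subset
      (U := (w ≫ πC₀) ⁻¹ᵁ U₀) (x := y) hyU₀
    exact ⟨⟨V, hV⟩, ⟨U₀, hU₀⟩, hyV, hVU⟩
  choose V U₀ hyV hVU using key
  refine Scheme.IdealSheafData.le_of_iSup_eq_top V ?_ ?_
  · exact top_le_iff.mp (fun y _ ↦ TopologicalSpace.Opens.mem_iSup.mpr ⟨y, hyV y⟩)
  · intro y
    have hle1 : (V y).1 ≤ w ⁻¹ᵁ (πC₀ ⁻¹ᵁ (U₀ y).1) := hVU y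
    have hle2 : (V y).1 ≤ (w ≫ Fr) ⁻¹ᵁ (πC₀ ⁻¹ᵁ (U₀ y).1) := fun z hz =>
      le_Fr_preimage p πC₀ m Fr hFr₀ (U₀ y).1 (hle1 hz)
    have e0 : L = (I.comap c₁).comap (w ≫ Fr) := by
      rw [hL, ← Category.assoc]
      exact Scheme.IdealSheafData.comap_comp _ _ _
    have e1 := Groth.Agent.Lib.Helper82.ideal_comap_of_le (w ≫ Fr) (I.comap c₁) (V y).1 (V y).2
      (πC₀ ⁻¹ᵁ (U₀ y).1) ((U₀ y).2.preimage πC₀) hle2
    rw [← e0] at e1
    have e2 : (w ≫ Fr).appLE (πC₀ ⁻¹ᵁ (U₀ y).1) (V y).1 hle2 =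
        Fr.appLE (πC₀ ⁻¹ᵁ (U₀ y).1) (πC₀ ⁻¹ᵁ (U₀ y).1)
          (le_Fr_preimage p πC₀ m Fr hFr₀ (U₀ y).1) ≫
        w.appLE (πC₀ ⁻¹ᵁ (U₀ y).1) (V y).1 hle1 := by
      rw [Scheme.Hom.appLE_comp_appLE]
    rw [Scheme.IdealSheafData.ideal_pow]
    change L.ideal (V y) ≤ (J.radical.ideal (V y)) ^ (p ^ m)
    rw [Scheme.IdealSheafData.radical_ideal]
    have e1' : L.ideal (V y) = Ideal.map ((w ≫ Fr).appLE (πC₀ ⁻¹ᵁ (U₀ y).1) (V y).1 hle2).hom
        ((I.comap c₁).ideal ⟨πC₀ ⁻¹ᵁ (U₀ y).1, (U₀ y).2.preimage πC₀⟩) := e1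
    conv_lhs => rw [e1']
    rw [Ideal.map_le_iff_le_comap]
    intro g hg
    rw [Ideal.mem_comap]
    obtain ⟨t', ht'⟩ := exists_pow_eq p k₀ K f₀ πC₀ πK hC m Fr hFr₀ hFrK (U₀ y).1 (U₀ y).2 g
    have e3 : ((w ≫ Fr).appLE (πC₀ ⁻¹ᵁ (U₀ y).1) (V y).1 hle2).hom g =
        ((w.appLE (πC₀ ⁻¹ᵁ (U₀ y).1) (V y).1 hle1).hom t') ^ (p ^ m) := by
      rw [e2, CommRingCat.comp_apply, ← ht', map_pow]
    rw [e3]
    apply Ideal.pow_mem_pow
    have h3 : ((w.appLE (πC₀ ⁻¹ᵁ (U₀ y).1) (V y).1 hle1).hom t') ^ (p ^ m) ∈ L.ideal (V y) := by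
      rw [e1', ← e3]
      exact Ideal.mem_map_of_mem _ hg
    have h4 := hLrad (V y) h3
    rw [Scheme.IdealSheafData.radical_ideal] at h4
    exact (Ideal.radical_isRadical _) ⟨p ^ m, h4⟩

end General

section OpenRestrict

variable {C : Scheme.{u}}

theorem comap_pow {X Y : Scheme.{u}} (f : X ⟶ Y) (A : Y.IdealSheafData) (d : ℕ) :
    (A ^ d).comap f = (A.comap f) ^ d := by
  induction d with
  | zero =>
    rw [pow_zero, pow_zero]
    exact Scheme.IdealSheafData.comap_top f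
  | succ d ih => rw [pow_succ, pow_succ, Groth.Agent.Lib.Helper82.comap_mul, ih]

theorem comap_radical_of_isOpenImmersion {X Y : Scheme.{u}} (f : X ⟶ Y) [IsOpenImmersion f]
    (A : Y.IdealSheafData) : (A.radical).comap f = (A.comap f).radical := by
  ext U : 2
  rw [Scheme.IdealSheafData.radical_ideal, Scheme.IdealSheafData.ideal_comap_of_isOpenImmersion,
    Scheme.IdealSheafData.ideal_comap_of_isOpenImmersion, Scheme.IdealSheafData.radical_ideal,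
    Ideal.comap_radical]

theorem chain {W : Scheme.{u}} (L J : W.IdealSheafData) (q d : ℕ) (hLq : L ≤ J.radical ^ q)
    (hd : J.radical ^ d ≤ J) (hn : d < q) : L ≤ J ∧ L ^ d ≤ J ^ (d + 1) := by
  have h0 : (0 : W.IdealSheafData) ≤ J.radical := bot_le
  have h1 : J.radical ≤ 1 := le_top
  constructor
  · calc L ≤ J.radical ^ q := hLq
      _ ≤ J.radical ^ d := pow_le_pow_of_le_one h0 h1 (by omega)
      _ ≤ J := hd
  · calc L ^ d ≤ (J.radical ^ q) ^ d := pow_le_pow_left₀ bot_le hLq d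
      _ = J.radical ^ (q * d) := (pow_mul _ _ _).symm
      _ ≤ J.radical ^ (d * (d + 1)) := pow_le_pow_of_le_one h0 h1 (by nlinarith)
      _ = (J.radical ^ d) ^ (d + 1) := pow_mul _ _ _
      _ ≤ J ^ (d + 1) := pow_le_pow_left₀ bot_le hd _

theorem isClosed_of_subset_discrete {T : Type*} [TopologicalSpace T] {S F : Set T}
    (hS : IsClosed S) (hd : IsDiscrete S) (hF : F ⊆ S) : IsClosed F := by
  haveI : DiscreteTopology S := hd.to_subtype
  have h1 : IsClosed (Subtype.val '' (Subtype.val ⁻¹' F : Set S)) :=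
    hS.isClosedEmbedding_subtypeVal.isClosedMap _ (isClosed_discrete _)
  rw [Subtype.image_preimage_coe, Set.inter_eq_right.mpr hF] at h1
  exact h1

end OpenRestrict

section Fixed

variable {C C₀ X : Scheme.{u}} (p : ℕ) [Fact p.Prime]
    (k₀ : Type u) [Field k₀]
    (K : Type u) [Field K] [Algebra k₀ K] [IsAlgClosure k₀ K]
    (f₀ : C₀ ⟶ Spec (CommRingCat.of k₀)) [FrobSch.IsCharP C₀ p]
    (πC₀ : C ⟶ C₀) (πK : C ⟶ Spec (CommRingCat.of K))
    (hC : IsPullback πC₀ πK f₀ (Spec.map (CommRingCat.ofHom (algebraMap k₀ K))))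
    (m : ℕ) (Fr : C ⟶ C)
    (hFr₀ : Fr ≫ πC₀ = πC₀ ≫ End.asHom (End.of (FrobSch.frob C₀ p) ^ m))
    (hFrK : Fr ≫ πK = πK)

include hC hFr₀ hFrK in
theorem main2 (pX : X ⟶ Spec (CommRingCat.of K)) (c₁ c₂ : C ⟶ X) [LocallyQuasiFinite c₂]
    (hcomm : (Fr ≫ c₁) ≫ pX = c₂ ≫ pX) (d : ℕ) (hn : d < p ^ m)
    (x : X) (hx : IsClosed ({x} : Set X))
    (hd : ((Scheme.IdealSheafData.vanishingIdeal ⟨{x}, hx⟩).comap c₂).radical ^ d ≤
        (Scheme.IdealSheafData.vanishingIdeal ⟨{x}, hx⟩).comap c₂) :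
    ∃ W : C.Opens,
      (pullback.lift (Fr ≫ c₁) c₂ hcomm).base ⁻¹' Set.range (pullback.diagonal pX).base ⊆ (W : Set C) ∧
      (Scheme.IdealSheafData.vanishingIdeal ⟨{x}, hx⟩).comap (W.ι ≫ Fr ≫ c₁) ≤
        (Scheme.IdealSheafData.vanishingIdeal ⟨{x}, hx⟩).comap (W.ι ≫ c₂) ∧
      ∃ k : ℕ, (Scheme.IdealSheafData.vanishingIdeal ⟨{x}, hx⟩).comap (W.ι ≫ Fr ≫ c₁) ^ k ≤
        (Scheme.IdealSheafData.vanishingIdeal ⟨{x}, hx⟩).comap (W.ι ≫ c₂) ^ (k + 1) := by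
  set Ix := Scheme.IdealSheafData.vanishingIdeal ⟨{x}, hx⟩ with hIx
  have hsuppx : ∀ z : X, z ∈ Ix.support ↔ z = x := by
    intro z
    have : (Ix.support : Set X) = {x} := by
      rw [hIx, Scheme.IdealSheafData.coe_support_vanishingIdeal]
      rfl
    rw [← SetLike.mem_coe, this, Set.mem_singleton_iff]
  let F : Set C := {y | c₂ y = x ∧ (Fr ≫ c₁) y ≠ x}
  have hFcl : IsClosed F :=
    isClosed_of_subset_discrete (hx.preimage c₂.continuous) (c₂.isDiscrete_preimage_singleton x)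
      (fun y hy => hy.1)
  let W : C.Opens := ⟨Fᶜ, hFcl.isOpen_compl⟩
  refine ⟨W, ?_, ?_⟩
  · intro y hy hyF
    obtain ⟨z, hz⟩ := hy
    have h1 : z = (Fr ≫ c₁) y := by
      have e1 : (pullback.diagonal pX ≫ pullback.fst pX pX) z = z := by
        rw [pullback.diagonal_fst]; rfl
      have e2 : (pullback.lift (Fr ≫ c₁) c₂ hcomm ≫ pullback.fst pX pX) y = (Fr ≫ c₁) y := by
        rw [pullback.lift_fst]
      rw [← e1, ← e2, Scheme.Hom.comp_apply, Scheme.Hom.comp_apply]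
      exact congrArg _ hz
    have h2 : z = c₂ y := by
      have e1 : (pullback.diagonal pX ≫ pullback.snd pX pX) z = z := by
        rw [pullback.diagonal_snd]; rfl
      have e2 : (pullback.lift (Fr ≫ c₁) c₂ hcomm ≫ pullback.snd pX pX) y = c₂ y := by
        rw [pullback.lift_snd]
      rw [← e1, ← e2, Scheme.Hom.comp_apply, Scheme.Hom.comp_apply]
      exact congrArg _ hz
    exact hyF.2 (h1 ▸ h2.trans hyF.1)
  · have hinvW : ∀ y : W, c₂ (W.ι y) ∈ Ix.support → (Fr ≫ c₁) (W.ι y) ∈ Ix.support := by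
      intro y hy
      rw [hsuppx] at hy ⊢
      by_contra hne
      exact y.2 ⟨hy, hne⟩
    have hLq := le_radical_pow p k₀ K f₀ πC₀ πK hC m Fr hFr₀ hFrK W.ι c₁ c₂ Ix hinvW
    have hdW : (Ix.comap (W.ι ≫ c₂)).radical ^ d ≤ Ix.comap (W.ι ≫ c₂) := by
      rw [Scheme.IdealSheafData.comap_comp, ← comap_radical_of_isOpenImmersion, ← comap_pow]
      exact Scheme.IdealSheafData.comap_mono _ hd
    have := chain _ _ (p ^ m) d hLq hdW hn
    exact ⟨this.1, d, this.2⟩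

end Fixed

end Groth.Agent.Lib.Helper41.FrobContract
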