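import Mathlib
import Groth.Agent.Lib.Helper41.FrobContract2

/-!
# Contracting correspondences: the fixed points over an invariant subscheme are open and closed
-/

set_option autoImplicit false
universe u
open CategoryTheory CategoryTheory.Limits AlgebraicGeometry

namespace Groth.Agent.Lib.Helper41.FixContract

open Groth.Agent.Lib.Helper41.FrobContract

/-- On a locally Noetherian scheme, if `I ^ k ≤ I ^ (k + 1)` with `k > 0` then the support of `I`
is open (adapted from helper88's `support_eq`). -/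
theorem isOpen_support_of_pow_le (X : Scheme.{u}) [IsLocallyNoetherian X]
    (I : X.IdealSheafData) (k : ℕ) (hk : 0 < k) (h : I ^ k ≤ I ^ (k + 1)) :
    IsOpen (I.support : Set X) := by
  rw [isOpen_iff_forall_mem_open]
  intro x hx
  obtain ⟨_, ⟨U, hU, rfl⟩, hxU, -⟩ :=
    X.isBasis_affineOpens.exists_subset_of_mem_open (Set.mem_univ x) isOpen_univ
  have hnoeth : IsNoetherianRing Γ(X, U) :=
    IsLocallyNoetherian.component_noetherian ⟨U, hU⟩
  have hJ : (I.ideal ⟨U, hU⟩) ^ k ≤ (I.ideal ⟨U, hU⟩) • (I.ideal ⟨U, hU⟩) ^ k := by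
    have h1 := h ⟨U, hU⟩
    simp only [Scheme.IdealSheafData.ideal_pow, Pi.pow_apply] at h1
    rw [smul_eq_mul, ← pow_succ']
    exact h1
  obtain ⟨r, hr1, hr0⟩ := Submodule.exists_sub_one_mem_and_smul_eq_zero_of_fg_of_le_smul
    (I.ideal ⟨U, hU⟩) ((I.ideal ⟨U, hU⟩) ^ k) (IsNoetherian.noetherian _) hJ
  have hxr : x ∈ X.basicOpen r := by
    by_contra hxr
    have hx1 : x ∈ X.basicOpen (r - 1) := by
      rw [Scheme.mem_basicOpen _ _ x hxU] at hxr ⊢
      rw [map_sub, map_one]
      have hsum : X.presheaf.germ U x hxU r + (1 - X.presheaf.germ U x hxU r) = 1 := by ring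
      rcases IsLocalRing.isUnit_or_isUnit_of_add_one hsum with h' | h'
      · exact absurd h' hxr
      · have := h'.neg
        rwa [neg_sub] at this
    rw [SetLike.mem_coe, Scheme.IdealSheafData.mem_support_iff_of_mem (U := ⟨U, hU⟩) hxU,
      Scheme.mem_zeroLocus_iff] at hx
    exact hx (r - 1) hr1 hx1
  refine ⟨X.basicOpen r, ?_, (X.basicOpen r).isOpen, hxr⟩
  intro y hy
  have hyU : y ∈ U := X.basicOpen_le r hy
  rw [← Scheme.IdealSheafData.support_pow I k hk.ne', SetLike.mem_coe,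
    Scheme.IdealSheafData.mem_support_iff_of_mem (U := ⟨U, hU⟩) hyU, Scheme.mem_zeroLocus_iff]
  intro j hj hyj
  have hj' : j ∈ (I.ideal ⟨U, hU⟩) ^ k := hj
  have h0 : r * j = 0 := hr0 j hj'
  have h1 : y ∈ X.basicOpen (r * j) := by
    rw [Scheme.basicOpen_mul]; exact ⟨hy, hyj⟩
  rw [h0, Scheme.basicOpen_zero] at h1
  exact h1

theorem main {C X Fx : Scheme.{u}} (k : Type u) [Field k]
    (pC : C ⟶ Spec (CommRingCat.of k)) [LocallyOfFiniteType pC]
    (pX : X ⟶ Spec (CommRingCat.of k)) (c₁ c₂ : C ⟶ X) (hc : c₁ ≫ pX = c₂ ≫ pX)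
    (i : Fx ⟶ C) (δ : Fx ⟶ X) (hF : IsPullback i δ (pullback.lift c₁ c₂ hc) (pullback.diagonal pX))
    (I : X.IdealSheafData) (W : C.Opens) (hW : Set.range i.base ⊆ (W : Set C))
    (k₀ : ℕ) (hpow : I.comap (W.ι ≫ c₁) ^ k₀ ≤ I.comap (W.ι ≫ c₂) ^ (k₀ + 1))
    (β : Fx.Opens) (hβ : _root_.IsConnected (β : Set Fx))
    (hβZ : (δ.base '' (β : Set Fx) ∩ (I.support : Set X)).Nonempty) :
    (β : Set Fx) ⊆ δ.base ⁻¹' (I.support : Set X) := by
  -- `Fx` is locally Noetherian
  haveI : IsLocallyNoetherian C := LocallyOfFiniteType.isLocallyNoetherian pC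
  haveI : IsImmersion i := MorphismProperty.of_isPullback hF.flip
    (inferInstance : IsImmersion (pullback.diagonal pX))
  haveI : IsLocallyNoetherian Fx := LocallyOfFiniteType.isLocallyNoetherian i
  -- both composites are `δ`
  have h1 : i ≫ c₁ = δ := by
    have := congrArg (· ≫ pullback.fst pX pX) hF.w
    simp only [Category.assoc, pullback.lift_fst, pullback.diagonal_fst, Category.comp_id] at this
    exact this
  have h2 : i ≫ c₂ = δ := by
    have := congrArg (· ≫ pullback.snd pX pX) hF.w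
    simp only [Category.assoc, pullback.lift_snd, pullback.diagonal_snd, Category.comp_id] at this
    exact this
  -- factor `i` through `W`
  have hrange : Set.range i.base ⊆ Set.range W.ι.base := by
    rw [Scheme.Opens.range_ι]; exact hW
  let i' : Fx ⟶ W := IsOpenImmersion.lift W.ι i hrange
  have hi' : i' ≫ W.ι = i := IsOpenImmersion.lift_fac _ _ _
  have hkey : (I.comap δ) ^ k₀ ≤ (I.comap δ) ^ (k₀ + 1) := by
    have e1 : (I.comap (W.ι ≫ c₁)).comap i' = I.comap δ := by
      rw [← Scheme.IdealSheafData.comap_comp, ← Category.assoc, hi', h1]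
    have e2 : (I.comap (W.ι ≫ c₂)).comap i' = I.comap δ := by
      rw [← Scheme.IdealSheafData.comap_comp, ← Category.assoc, hi', h2]
    have : (I.comap (W.ι ≫ c₁) ^ k₀).comap i' ≤ (I.comap (W.ι ≫ c₂) ^ (k₀ + 1)).comap i' :=
      Scheme.IdealSheafData.comap_mono i' hpow
    rwa [comap_pow, comap_pow, e1, e2] at this
  have hsupp : ((I.comap δ).support : Set Fx) = δ.base ⁻¹' (I.support : Set X) := by
    rw [Scheme.IdealSheafData.support_comap]; rfl
  rw [← hsupp]
  obtain ⟨_, ⟨b, hbβ, rfl⟩, hbZ⟩ := hβZ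
  have hb : b ∈ ((I.comap δ).support : Set Fx) := by rw [hsupp]; exact hbZ
  rcases Nat.eq_zero_or_pos k₀ with rfl | hk
  · exfalso
    rw [pow_zero, zero_add, pow_one] at hkey
    have htop : I.comap δ = ⊤ := top_le_iff.mp hkey
    rw [htop, Scheme.IdealSheafData.support_top] at hb
    exact hb
  · have hclopen : IsClopen ((I.comap δ).support : Set Fx) :=
      ⟨(I.comap δ).support.isClosed, isOpen_support_of_pow_le Fx _ k₀ hk hkey⟩
    exact hβ.isPreconnected.subset_isClopen hclopen ⟨b, hbβ, hb⟩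

end Groth.Agent.Lib.Helper41.FixContract
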