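import Mathlib
import Groth.Agent.Lib.Helper41.FixContract

/-!
# The fixed points of a sufficiently Frobenius-twisted correspondence are finite and discrete
-/

set_option autoImplicit false
universe u
open CategoryTheory CategoryTheory.Limits AlgebraicGeometry

namespace Groth.Agent.Lib.Helper41.FixContract

open Groth.Agent.Lib.Helper41.FrobContract

theorem isOpen_preimage_support {C X Fx : Scheme.{u}} (k : Type u) [Field k]
    (pC : C ⟶ Spec (CommRingCat.of k)) [LocallyOfFiniteType pC]
    (pX : X ⟶ Spec (CommRingCat.of k)) (c₁ c₂ : C ⟶ X) (hc : c₁ ≫ pX = c₂ ≫ pX)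
    (i : Fx ⟶ C) (δ : Fx ⟶ X) (hF : IsPullback i δ (pullback.lift c₁ c₂ hc) (pullback.diagonal pX))
    (I : X.IdealSheafData) (W : C.Opens) (hW : Set.range i.base ⊆ (W : Set C))
    (k₀ : ℕ) (hpow : I.comap (W.ι ≫ c₁) ^ k₀ ≤ I.comap (W.ι ≫ c₂) ^ (k₀ + 1)) :
    IsOpen (δ.base ⁻¹' (I.support : Set X)) := by
  haveI : IsLocallyNoetherian C := LocallyOfFiniteType.isLocallyNoetherian pC
  haveI : IsImmersion i := MorphismProperty.of_isPullback hF.flip
    (inferInstance : IsImmersion (pullback.diagonal pX))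
  haveI : IsLocallyNoetherian Fx := LocallyOfFiniteType.isLocallyNoetherian i
  have h1 : i ≫ c₁ = δ := by
    have := congrArg (· ≫ pullback.fst pX pX) hF.w
    simp only [Category.assoc, pullback.lift_fst, pullback.diagonal_fst, Category.comp_id] at this
    exact this
  have h2 : i ≫ c₂ = δ := by
    have := congrArg (· ≫ pullback.snd pX pX) hF.w
    simp only [Category.assoc, pullback.lift_snd, pullback.diagonal_snd, Category.comp_id] at this
    exact this
  have hrange : Set.range i.base ⊆ Set.range W.ι.base := by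
    rw [Scheme.Opens.range_ι]; exact hW
  let i' : Fx ⟶ W := IsOpenImmersion.lift W.ι i hrange
  have hi' : i' ≫ W.ι = i := IsOpenImmersion.lift_fac _ _ _
  have hkey : (I.comap δ) ^ k₀ ≤ (I.comap δ) ^ (k₀ + 1) := by
    have e1 : (I.comap (W.ι ≫ c₁)).comap i' = I.comap δ := by
      rw [← Scheme.IdealSheafData.comap_comp, ← Category.assoc, hi', h1]
    have e2 : (I.comap (W.ι ≫ c₂)).comap i' = I.comap δ := by
      rw [← Scheme.IdealSheafData.comap_comp, ← Category.assoc, hi', h2]
    have : (I.comap (W.ι ≫ c₁) ^ k₀).comap i' ≤ (I.comap (W.ι ≫ c₂) ^ (k₀ + 1)).comap i' :=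
      Scheme.IdealSheafData.comap_mono i' hpow
    rwa [comap_pow, comap_pow, e1, e2] at this
  have hsupp : ((I.comap δ).support : Set Fx) = δ.base ⁻¹' (I.support : Set X) := by
    rw [Scheme.IdealSheafData.support_comap]; rfl
  rw [← hsupp]
  rcases Nat.eq_zero_or_pos k₀ with rfl | hk
  · rw [pow_zero, zero_add, pow_one] at hkey
    have htop : I.comap δ = ⊤ := top_le_iff.mp hkey
    rw [htop, Scheme.IdealSheafData.support_top]
    exact isOpen_empty
  · exact isOpen_support_of_pow_le Fx _ k₀ hk hkey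

section Fin

variable {C C₀ X Fx : Scheme.{u}} (p : ℕ) [Fact p.Prime]
    (k₀ : Type u) [Field k₀]
    (K : Type u) [Field K] [Algebra k₀ K] [IsAlgClosure k₀ K]
    (f₀ : C₀ ⟶ Spec (CommRingCat.of k₀)) [LocallyOfFiniteType f₀] [QuasiCompact f₀]
    [FrobSch.IsCharP C₀ p]
    (πC₀ : C ⟶ C₀) (πK : C ⟶ Spec (CommRingCat.of K))
    (hC : IsPullback πC₀ πK f₀ (Spec.map (CommRingCat.ofHom (algebraMap k₀ K))))
    (m : ℕ) (Fr : C ⟶ C)
    (hFr₀ : Fr ≫ πC₀ = πC₀ ≫ End.asHom (End.of (FrobSch.frob C₀ p) ^ m))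
    (hFrK : Fr ≫ πK = πK)

include hC hFr₀ hFrK in
theorem main3 (pX : X ⟶ Spec (CommRingCat.of K)) [LocallyOfFiniteType pX]
    (c₁ c₂ : C ⟶ X)
    [LocallyQuasiFinite c₂] [LocallyOfFiniteType c₂]
    (hcomm : (Fr ≫ c₁) ≫ pX = c₂ ≫ pX) (d : ℕ) (hn : d < p ^ m)
    (hd : ∀ (x : X) (hx : IsClosed ({x} : Set X)),
      ((Scheme.IdealSheafData.vanishingIdeal ⟨{x}, hx⟩).comap c₂).radical ^ d ≤
        (Scheme.IdealSheafData.vanishingIdeal ⟨{x}, hx⟩).comap c₂)
    (i : Fx ⟶ C) (δ : Fx ⟶ X)
    (hF : IsPullback i δ (pullback.lift (Fr ≫ c₁) c₂ hcomm) (pullback.diagonal pX)) :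
    Finite Fx ∧ DiscreteTopology Fx := by
  haveI : IsAlgClosed K := IsAlgClosure.isAlgClosed k₀
  -- finiteness conditions on `C`
  haveI : LocallyOfFiniteType πK := MorphismProperty.of_isPullback hC (inferInstance :
    LocallyOfFiniteType f₀)
  haveI : QuasiCompact πK := MorphismProperty.of_isPullback hC (inferInstance : QuasiCompact f₀)
  haveI : IsLocallyNoetherian C := LocallyOfFiniteType.isLocallyNoetherian πK
  haveI : CompactSpace C := QuasiCompact.compactSpace_of_compactSpace πK
  haveI : IsNoetherian C := {}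
  haveI : IsImmersion i := MorphismProperty.of_isPullback hF.flip
    (inferInstance : IsImmersion (pullback.diagonal pX))
  haveI : JacobsonSpace C := LocallyOfFiniteType.jacobsonSpace πK
  haveI : JacobsonSpace X := LocallyOfFiniteType.jacobsonSpace pX
  haveI : JacobsonSpace Fx := LocallyOfFiniteType.jacobsonSpace i
  have h2 : i ≫ c₂ = δ := by
    have := congrArg (· ≫ pullback.snd pX pX) hF.w
    simp only [Category.assoc, pullback.lift_snd, pullback.diagonal_snd, Category.comp_id] at this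
    exact this
  have hδ : ∀ b : Fx, δ b = c₂ (i b) := fun b => by rw [← h2]; rfl
  -- points over closed points are open
  have hopen : ∀ b : Fx, IsClosed ({δ b} : Set X) → IsOpen ({b} : Set Fx) := by
    intro b hx
    obtain ⟨W, hW, -, k, hk⟩ := main2 p k₀ K f₀ πC₀ πK hC m Fr hFr₀ hFrK pX c₁ c₂ hcomm d hn
      (δ b) hx (hd _ hx)
    have hW' : Set.range i.base ⊆ (W : Set C) := by
      rintro _ ⟨b', rfl⟩
      apply hW
      refine ⟨δ b', ?_⟩
      have := congrArg (fun f : Fx ⟶ _ => f b') hF.w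
      exact this.symm
    have hO := isOpen_preimage_support K πK pX (Fr ≫ c₁) c₂ hcomm i δ hF
      (Scheme.IdealSheafData.vanishingIdeal ⟨{δ b}, hx⟩) W hW' k hk
    have hsupp : ((Scheme.IdealSheafData.vanishingIdeal ⟨{δ b}, hx⟩).support : Set X) = {δ b} := by
      rw [Scheme.IdealSheafData.coe_support_vanishingIdeal]; rfl
    rw [hsupp] at hO
    have hdisc : _root_.IsDiscrete (δ.base ⁻¹' ({δ b} : Set X)) := by
      have h3 : δ.base ⁻¹' ({δ b} : Set X) = i.base ⁻¹' (c₂.base ⁻¹' {δ b}) := by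
        ext z
        simp only [Set.mem_preimage, Set.mem_singleton_iff]
        rw [← hδ z]
      rw [h3]
      exact (c₂.isDiscrete_preimage_singleton (δ b)).preimage i.continuous.continuousOn
        i.isEmbedding.injective
    obtain ⟨u, hu, hub⟩ := (isDiscrete_iff_forall_mem_exists_isOpen.mp hdisc) b rfl
    have h8 : IsOpen (u ∩ δ.base ⁻¹' ({δ b} : Set X)) := hu.inter hO
    rw [hub] at h8
    exact h8
  -- every point is a closed point
  have hall : ∀ b : Fx, IsOpen ({b} : Set Fx) := by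
    intro b
    obtain ⟨b₀, hb₀, hb₀c⟩ := nonempty_inter_closedPoints (X := Fx) (Z := closure {b})
      ⟨b, subset_closure rfl⟩ isClosed_closure.isLocallyClosed
    have h4 : IsClosed ({i b₀} : Set C) := i.closePoints_subset_preimage_closedPoints hb₀c
    have h5 : IsClosed ({c₂ (i b₀)} : Set X) := c₂.closePoints_subset_preimage_closedPoints h4
    have h6 : IsOpen ({b₀} : Set Fx) := hopen b₀ (by rw [hδ]; exact h5)
    have h7 : b ∈ ({b₀} : Set Fx) := by
      have : b ⤳ b₀ := specializes_iff_mem_closure.mpr hb₀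
      exact this.mem_open h6 rfl
    rw [Set.mem_singleton_iff] at h7
    rw [h7]; exact h6
  haveI hdt : DiscreteTopology Fx := discreteTopology_iff_isOpen_singleton.mpr hall
  haveI : TopologicalSpace.NoetherianSpace C := inferInstance
  haveI : TopologicalSpace.NoetherianSpace Fx := i.isEmbedding.toIsInducing.noetherianSpace
  exact ⟨finite_of_compact_of_discrete, hdt⟩

end Fin

end Groth.Agent.Lib.Helper41.FixContract
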