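import Mathlib.RingTheory.Flat.TorsionFree
import Mathlib.RingTheory.DiscreteValuationRing.Basic
import Mathlib.RingTheory.Nakayama
import Mathlib.RingTheory.Ideal.MinimalPrime.Basic
import Mathlib.RingTheory.Spectrum.Prime.Topology
import Mathlib.RingTheory.RingHom.Flat

/-!
# Flatness over a discrete valuation ring from a reduced special fibre

`flat_of_isReduced_quotient`: let `O` be a DVR and `φ : O →+* R` a local homomorphism to a
Noetherian local ring such that `R / 𝔪_O R` is reduced and every prime of `R` minimal over `𝔪_O R`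
contains a prime lying over `(0)`. Then `φ` is flat.
-/

set_option autoImplicit false
open IsLocalRing

namespace Groth.Agent.Lib.Helper41.FlatDvr

variable {O R : Type*} [CommRing O] [IsDomain O] [IsDiscreteValuationRing O]
  [CommRing R] [IsNoetherianRing R] [IsLocalRing R]

/-- The key step: the image of a uniformizer is a nonzerodivisor. -/
theorem eq_zero_of_pow_mul_eq_zero (φ : O →+* R) [IsLocalHom φ]
    (hred : (Ideal.map φ (maximalIdeal O)).IsRadical)
    (hgen : ∀ 𝔭 ∈ (Ideal.map φ (maximalIdeal O)).minimalPrimes,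
      ∃ 𝔮 : Ideal R, 𝔮.IsPrime ∧ 𝔮 ≤ 𝔭 ∧ 𝔮.comap φ = ⊥)
    {ϖ : O} (hϖ : Irreducible ϖ) (n : ℕ) (a : R) (ha : φ ϖ ^ n * a = 0) : a = 0 := by
  classical
  set π : R := φ ϖ with hπ
  have hI : Ideal.map φ (maximalIdeal O) = Ideal.span {π} := by
    rw [hϖ.maximalIdeal_eq, Ideal.map_span, Set.image_singleton]
  -- the torsion ideal
  let T : Ideal R :=
    { carrier := {a | ∃ n : ℕ, π ^ n * a = 0}
      zero_mem' := ⟨0, by simp⟩
      add_mem' := by
        rintro a b ⟨n, hn⟩ ⟨m, hm⟩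
        refine ⟨n + m, ?_⟩
        rw [mul_add, pow_add, mul_assoc, mul_assoc, hm, mul_zero, mul_comm (π ^ m) a,
          ← mul_assoc, hn, zero_mul, add_zero]
      smul_mem' := by
        rintro c a ⟨n, hn⟩
        refine ⟨n, ?_⟩
        rw [smul_eq_mul, mul_left_comm, hn, mul_zero] }
  have hπne : ∀ 𝔮 : Ideal R, 𝔮.IsPrime → 𝔮.comap φ = ⊥ → π ∉ 𝔮 := by
    intro 𝔮 _ h𝔮 hmem
    have : ϖ ∈ 𝔮.comap φ := hmem
    rw [h𝔮, Ideal.mem_bot] at this
    exact hϖ.ne_zero this
  have hTI : T ≤ Ideal.span {π} • T := by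
    intro a ha
    obtain ⟨n, hn⟩ := ha
    have haI : a ∈ Ideal.map φ (maximalIdeal O) := by
      rw [← hred.radical, Ideal.radical_eq_sInf, Ideal.mem_sInf]
      intro J hJ
      -- `J` prime containing `I`: contains a minimal prime
      haveI : J.IsPrime := hJ.2
      obtain ⟨𝔭, h𝔭, h𝔭J⟩ := Ideal.exists_minimalPrimes_le (I := Ideal.map φ (maximalIdeal O))
        (J := J) hJ.1
      obtain ⟨𝔮, h𝔮p, h𝔮le, h𝔮bot⟩ := hgen 𝔭 h𝔭
      have h1 : π ^ n * a ∈ 𝔮 := by rw [hn]; exact zero_mem _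
      have h2 : a ∈ 𝔮 := (h𝔮p.mem_or_mem h1).resolve_left
        (fun h => hπne 𝔮 h𝔮p h𝔮bot (h𝔮p.mem_of_pow_mem n h))
      exact h𝔭J (h𝔮le h2)
    rw [hI, Ideal.mem_span_singleton'] at haI
    obtain ⟨b, rfl⟩ := haI
    have hb : b ∈ T := ⟨n + 1, by rw [pow_succ, mul_assoc, mul_comm π b]; exact hn⟩
    rw [mul_comm]
    exact Submodule.smul_mem_smul (Ideal.mem_span_singleton_self π) hb
  have hπm : π ∈ maximalIdeal R := by
    rw [mem_maximalIdeal, mem_nonunits_iff]
    intro hu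
    exact hϖ.not_isUnit (isUnit_of_map_unit φ ϖ hu)
  have hTbot : T = ⊥ := by
    refine Submodule.eq_bot_of_le_smul_of_le_jacobson_bot (Ideal.span {π}) T
      (IsNoetherian.noetherian T) hTI ?_
    rw [Ideal.span_singleton_le_iff_mem, IsLocalRing.jacobson_eq_maximalIdeal ⊥ bot_ne_top]
    exact hπm
  have : a ∈ T := ⟨n, ha⟩
  rw [hTbot] at this
  exact this

/-- **Flatness over a DVR** from a reduced special fibre all of whose generic points generize into
the generic fibre. -/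
theorem flat_of_isRadical (φ : O →+* R) [IsLocalHom φ]
    (hred : (Ideal.map φ (maximalIdeal O)).IsRadical)
    (hgen : ∀ 𝔭 ∈ (Ideal.map φ (maximalIdeal O)).minimalPrimes,
      ∃ 𝔮 : Ideal R, 𝔮.IsPrime ∧ 𝔮 ≤ 𝔭 ∧ 𝔮.comap φ = ⊥) : φ.Flat := by
  letI := φ.toAlgebra
  change Module.Flat O R
  rw [Module.Flat.flat_iff_torsion_eq_bot_of_isBezout, eq_bot_iff]
  intro a ha
  rw [Submodule.mem_torsion_iff] at ha
  obtain ⟨⟨r, hr⟩, hra⟩ := ha
  obtain ⟨ϖ, hϖ⟩ := IsDiscreteValuationRing.exists_irreducible O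
  obtain ⟨n, u, hu⟩ := IsDiscreteValuationRing.eq_unit_mul_pow_irreducible
    (nonZeroDivisors.ne_zero hr) hϖ
  rw [Submodule.mem_bot]
  refine eq_zero_of_pow_mul_eq_zero φ hred hgen hϖ n a ?_
  have h1 : φ r * a = 0 := hra
  rw [hu, map_mul, mul_assoc] at h1
  have hu' : IsUnit (φ (u : O)) := u.isUnit.map φ
  exact (hu'.mul_right_eq_zero).1 (by rw [← map_pow]; exact h1)

end Groth.Agent.Lib.Helper41.FlatDvr
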