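import Mathlib
import Groth.Agent.Lib.Helper41.ZMTFinGlue

set_option autoImplicit false
universe u
open CategoryTheory CategoryTheory.Limits AlgebraicGeometry TopologicalSpace

namespace Groth.Agent.Lib.Helper41

/-- If `f` restricts to an isomorphism over `W`, then `f.app U` is an isomorphism for every
open `U ≤ W`. -/
theorem isIso_app_of_isIso_morphismRestrict {X Y : Scheme.{u}} (f : X ⟶ Y) (W U : Y.Opens)
    (hUW : U ≤ W) (h : IsIso (f ∣_ W)) : IsIso (f.app U) := by
  have h1 : IsIso (f ∣_ U) :=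
    ZMTFinGlue.morphismRestrict_of_le (MorphismProperty.isomorphisms Scheme.{u}) f hUW h
  have h2 : IsIso ((f ∣_ U).app ⊤) := inferInstance
  rw [morphismRestrict_app] at h2
  have h3 : IsIso (f.app (U.ι ''ᵁ ⊤)) :=
    @IsIso.of_isIso_comp_right _ _ _ _ _ _
      (X.presheaf.map (eqToHom (image_morphismRestrict_preimage f U ⊤)).op) inferInstance h2
  have e : U.ι ''ᵁ ⊤ = U := Scheme.Opens.ι_image_top U
  exact e ▸ h3

/-- A closed immersion into a scheme flat over a domain `R` which is an isomorphism over the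
open `D(ϖ)`, `ϖ ≠ 0`, is an isomorphism: the ideal of the closed subscheme is `ϖ`-power torsion,
and a flat `R`-module has no `ϖ`-torsion. -/
theorem isIso_of_isClosedImmersion_of_flat_of_generic {R : Type u} [CommRing R] [IsDomain R]
    (ϖ : R) (hϖ : ϖ ≠ 0) {E P : Scheme.{u}} (e : E ⟶ P) [IsClosedImmersion e]
    (p : P ⟶ Spec (CommRingCat.of R)) [Flat p]
    (h : IsIso (e ∣_ (p ⁻¹ᵁ (PrimeSpectrum.basicOpen ϖ)))) : IsIso e := by
  rw [IsClosedImmersion.isIso_iff_ker_eq_bot]
  ext U : 2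
  rw [Scheme.Hom.ker_apply, Scheme.IdealSheafData.ideal_bot, Pi.bot_apply,
    ← RingHom.injective_iff_ker_eq_bot, injective_iff_map_eq_zero]
  intro a ha
  set s : Γ(Spec (CommRingCat.of R), ⊤) := (Scheme.ΓSpecIso (CommRingCat.of R)).inv ϖ with hs
  have hle : (U : P.Opens) ≤ p ⁻¹ᵁ ⊤ := le_top
  set t : Γ(P, U) := p.appLE ⊤ U hle s with ht
  have hbasic : P.basicOpen t = (U : P.Opens) ⊓ p ⁻¹ᵁ (PrimeSpectrum.basicOpen ϖ) := by
    rw [ht, Scheme.basicOpen_appLE]
    congr 2
    rw [basicOpen_eq_of_affine]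
  have hiso : IsIso (e.app (P.basicOpen t)) :=
    isIso_app_of_isIso_morphismRestrict e _ _ (hbasic ▸ inf_le_right) h
  have hres : (P.presheaf.map (homOfLE (P.basicOpen_le t)).op) a = 0 := by
    have hinj := (ConcreteCategory.bijective_of_isIso (e.app (P.basicOpen t))).1
    apply hinj
    rw [map_zero]
    have hnat := e.naturality (homOfLE (P.basicOpen_le t)).op
    have := congr($hnat a)
    rw [CommRingCat.comp_apply, CommRingCat.comp_apply] at this
    rw [this, ha, map_zero]
  have hloc := U.2.isLocalization_basicOpen t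
  obtain ⟨⟨_, n, rfl⟩, hn⟩ := (IsLocalization.map_eq_zero_iff (Submonoid.powers t) _ a).1 hres
  have hflat : (p.appLE ⊤ U hle).hom.Flat := p.flat_appLE (isAffineOpen_top _) U.2 hle
  algebraize [(p.appLE ⊤ U hle).hom]
  have hdom : IsDomain Γ(Spec (CommRingCat.of R), ⊤) :=
    (Scheme.ΓSpecIso (CommRingCat.of R)).commRingCatIsoToRingEquiv.toMulEquiv.isDomain
  have hs0 : s ≠ 0 := by
    intro h0
    apply hϖ
    have := congr((Scheme.ΓSpecIso (CommRingCat.of R)).hom $h0)
    simpa [hs] using this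
  have hreg : IsSMulRegular Γ(P, U) (s ^ n) :=
    Module.Flat.isSMulRegular_of_nonZeroDivisors
      (mem_nonZeroDivisors_of_ne_zero (pow_ne_zero n hs0))
  apply hreg
  show s ^ n • a = s ^ n • 0
  rw [smul_zero, Algebra.smul_def, RingHom.algebraMap_toAlgebra, map_pow]
  exact hn

end Groth.Agent.Lib.Helper41
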