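import Mathlib.AlgebraicGeometry.Gluing
import Mathlib.AlgebraicGeometry.Restrict
import Mathlib.AlgebraicGeometry.Cover.MorphismProperty
import Mathlib.AlgebraicGeometry.Cover.Open

set_option autoImplicit false
universe u
open CategoryTheory CategoryTheory.Limits AlgebraicGeometry TopologicalSpace

namespace Groth.Agent.Lib.Helper41

/-- Gluing two morphisms defined on opens `U`, `V` of `X` that agree on `U ⊓ V` to a morphism on
`U ⊔ V`. -/
theorem exists_glue_sup {X Y : Scheme.{u}} (U V : X.Opens) (f : (U : Scheme.{u}) ⟶ Y)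
    (g : (V : Scheme.{u}) ⟶ Y)
    (hfg : X.homOfLE (inf_le_left : U ⊓ V ≤ U) ≫ f = X.homOfLE (inf_le_right : U ⊓ V ≤ V) ≫ g) :
    ∃ k : ((U ⊔ V : X.Opens) : Scheme.{u}) ⟶ Y,
      X.homOfLE (le_sup_left : U ≤ U ⊔ V) ≫ k = f ∧ X.homOfLE (le_sup_right : V ≤ U ⊔ V) ≫ k = g := by
  let jU : (U : Scheme.{u}) ⟶ ((U ⊔ V : X.Opens) : Scheme.{u}) := X.homOfLE le_sup_left
  let jV : (V : Scheme.{u}) ⟶ ((U ⊔ V : X.Opens) : Scheme.{u}) := X.homOfLE le_sup_right
  let 𝒰 : ((U ⊔ V : X.Opens) : Scheme.{u}).OpenCover :=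
    Scheme.Cover.mkOfCovers WalkingPair (fun a => WalkingPair.casesOn a (U : Scheme.{u}) V)
      (fun a => WalkingPair.casesOn a jU jV)
      (fun x => by
        rcases x with ⟨x, hx | hx⟩
        · exact ⟨.left, ⟨x, hx⟩, Subtype.ext (by
            change (jU ≫ (U ⊔ V).ι) ⟨x, hx⟩ = x
            rw [X.homOfLE_ι]; rfl)⟩
        · exact ⟨.right, ⟨x, hx⟩, Subtype.ext (by
            change (jV ≫ (U ⊔ V).ι) ⟨x, hx⟩ = x
            rw [X.homOfLE_ι]; rfl)⟩)
      (fun a => by
        cases a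
        · exact inferInstanceAs (IsOpenImmersion jU)
        · exact inferInstanceAs (IsOpenImmersion jV))
  -- the comparison map from the pullback to the intersection
  have key : pullback.fst jU jV ≫ f = pullback.snd jU jV ≫ g := by
    have hrange : Set.range (pullback.fst jU jV ≫ U.ι) ⊆ Set.range (U ⊓ V).ι := by
      rintro _ ⟨p, rfl⟩
      rw [Scheme.Opens.range_ι]
      refine ⟨?_, ?_⟩
      · exact ((pullback.fst jU jV) p).2
      · have : (pullback.fst jU jV ≫ U.ι) p = (pullback.snd jU jV ≫ V.ι) p := by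
          have h1 : pullback.fst jU jV ≫ U.ι = pullback.snd jU jV ≫ V.ι := by
            rw [← X.homOfLE_ι (le_sup_left : U ≤ U ⊔ V), ← X.homOfLE_ι (le_sup_right : V ≤ U ⊔ V),
              ← Category.assoc, ← Category.assoc]
            exact congrArg (· ≫ (U ⊔ V).ι) pullback.condition
          rw [h1]
        rw [this]
        exact ((pullback.snd jU jV) p).2
    let l : pullback jU jV ⟶ ((U ⊓ V : X.Opens) : Scheme.{u}) :=
      IsOpenImmersion.lift (U ⊓ V).ι (pullback.fst jU jV ≫ U.ι) hrange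
    have hl : l ≫ (U ⊓ V).ι = pullback.fst jU jV ≫ U.ι := IsOpenImmersion.lift_fac _ _ _
    have h1 : pullback.fst jU jV = l ≫ X.homOfLE (inf_le_left : U ⊓ V ≤ U) := by
      rw [← cancel_mono U.ι, Category.assoc, X.homOfLE_ι, hl]
    have h2 : pullback.snd jU jV = l ≫ X.homOfLE (inf_le_right : U ⊓ V ≤ V) := by
      rw [← cancel_mono V.ι, Category.assoc, X.homOfLE_ι, hl]
      rw [← X.homOfLE_ι (le_sup_left : U ≤ U ⊔ V), ← X.homOfLE_ι (le_sup_right : V ≤ U ⊔ V),
        ← Category.assoc, ← Category.assoc]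
      exact (congrArg (· ≫ (U ⊔ V).ι) pullback.condition).symm
    rw [h1, h2, Category.assoc, Category.assoc, hfg]
  let m : ∀ a, 𝒰.X a ⟶ Y := fun a => WalkingPair.casesOn a f g
  have hcompat : ∀ a b, pullback.fst (𝒰.f a) (𝒰.f b) ≫ m a = pullback.snd (𝒰.f a) (𝒰.f b) ≫ m b := by
    rintro (_ | _) (_ | _)
    · have : pullback.fst jU jU = pullback.snd jU jU := (cancel_mono jU).1 pullback.condition
      change pullback.fst jU jU ≫ f = pullback.snd jU jU ≫ f
      rw [this]
    · exact key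
    · change pullback.fst jV jU ≫ g = pullback.snd jV jU ≫ f
      rw [← pullbackSymmetry_hom_comp_snd, ← pullbackSymmetry_hom_comp_fst jV jU,
        Category.assoc, Category.assoc, key]
    · have : pullback.fst jV jV = pullback.snd jV jV := (cancel_mono jV).1 pullback.condition
      change pullback.fst jV jV ≫ g = pullback.snd jV jV ≫ g
      rw [this]
  refine ⟨𝒰.glueMorphisms m hcompat, ?_, ?_⟩
  · exact 𝒰.ι_glueMorphisms m hcompat .left
  · exact 𝒰.ι_glueMorphisms m hcompat .right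

/-- Morphisms out of `U ⊔ V` are determined by their restrictions to `U` and `V`. -/
theorem hom_ext_sup {X Y : Scheme.{u}} (U V : X.Opens)
    (k₁ k₂ : ((U ⊔ V : X.Opens) : Scheme.{u}) ⟶ Y)
    (hU : X.homOfLE (le_sup_left : U ≤ U ⊔ V) ≫ k₁ = X.homOfLE (le_sup_left : U ≤ U ⊔ V) ≫ k₂)
    (hV : X.homOfLE (le_sup_right : V ≤ U ⊔ V) ≫ k₁ = X.homOfLE (le_sup_right : V ≤ U ⊔ V) ≫ k₂) :
    k₁ = k₂ := by
  let jU : (U : Scheme.{u}) ⟶ ((U ⊔ V : X.Opens) : Scheme.{u}) := X.homOfLE le_sup_left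
  let jV : (V : Scheme.{u}) ⟶ ((U ⊔ V : X.Opens) : Scheme.{u}) := X.homOfLE le_sup_right
  let 𝒰 : ((U ⊔ V : X.Opens) : Scheme.{u}).OpenCover :=
    Scheme.Cover.mkOfCovers WalkingPair (fun a => WalkingPair.casesOn a (U : Scheme.{u}) V)
      (fun a => WalkingPair.casesOn a jU jV)
      (fun x => by
        rcases x with ⟨x, hx | hx⟩
        · exact ⟨.left, ⟨x, hx⟩, Subtype.ext (by
            change (jU ≫ (U ⊔ V).ι) ⟨x, hx⟩ = x
            rw [X.homOfLE_ι]; rfl)⟩
        · exact ⟨.right, ⟨x, hx⟩, Subtype.ext (by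
            change (jV ≫ (U ⊔ V).ι) ⟨x, hx⟩ = x
            rw [X.homOfLE_ι]; rfl)⟩)
      (fun a => by
        cases a
        · exact inferInstanceAs (IsOpenImmersion jU)
        · exact inferInstanceAs (IsOpenImmersion jV))
  refine 𝒰.hom_ext _ _ ?_
  rintro (_ | _)
  · exact hU
  · exact hV

end Groth.Agent.Lib.Helper41
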