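import Mathlib.RingTheory.Jacobson.Ring
import Mathlib.RingTheory.Localization.Integral
import Mathlib.RingTheory.Algebraic.Integral
import Mathlib.RingTheory.FiniteType

set_option autoImplicit false
set_option linter.style.haveILetI false

namespace Groth.Agent.Lib.Helper41

open Polynomial

section

theorem isAlgebraic_of_finiteType_field (B k : Type*) [CommRing B] [Field k] [Algebra B k]
    [FaithfulSMul B k] [Algebra.FiniteType B k] : Algebra.IsAlgebraic B k := by
  haveI : IsDomain B := IsDomain.of_faithfulSMul B k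
  letI := FractionRing.liftAlgebra B k
  haveI := FractionRing.isScalarTower_liftAlgebra B k
  haveI : Algebra.FiniteType (FractionRing B) k :=
    Algebra.FiniteType.of_restrictScalars_finiteType B _ _
  haveI : Module.Finite (FractionRing B) k := finite_of_finite_type_of_isJacobsonRing _ _
  haveI : Algebra.IsAlgebraic (FractionRing B) k := Algebra.IsAlgebraic.of_finite _ _
  exact (IsFractionRing.comap_isAlgebraic_iff (A := B) (K := FractionRing B) (C := k)).mpr
    inferInstance

theorem exists_ne_zero_forall_dvd_pow (B k : Type*) [CommRing B] [Field k] [Algebra B k]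
    [FaithfulSMul B k] [Algebra.FiniteType B k] :
    ∃ d : B, d ≠ 0 ∧ ∀ b : B, b ≠ 0 → ∃ (n : ℕ) (c : B), b * c = d ^ n := by
  classical
  haveI : IsDomain B := IsDomain.of_faithfulSMul B k
  have hinj : Function.Injective (algebraMap B k) := FaithfulSMul.algebraMap_injective B k
  have halg : Algebra.IsAlgebraic B k := isAlgebraic_of_finiteType_field B k
  obtain ⟨s, hs⟩ := (Algebra.FiniteType.out : (⊤ : Subalgebra B k).FG)
  choose m hm0 hmint using fun x : k => (halg.isAlgebraic x).exists_integral_multiple
  set d : B := ∏ x ∈ s, m x with hd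
  have hd0 : d ≠ 0 := Finset.prod_ne_zero_iff.mpr fun x _ => hm0 x
  have hdk : algebraMap B k d ≠ 0 := fun h => hd0 (hinj (by rw [h, map_zero]))
  set y : k := (algebraMap B k d)⁻¹ with hy
  set C : Subalgebra B k := Algebra.adjoin B {y} with hC
  have hyC : y ∈ C := Algebra.subset_adjoin (Set.mem_singleton y)
  -- every element of C has a multiple by a power of d in B
  have hCmem : ∀ z ∈ C, ∃ (n : ℕ) (c : B), z * (algebraMap B k d) ^ n = algebraMap B k c := by
    intro z hz
    induction hz using Algebra.adjoin_induction with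
    | mem x hx =>
      rw [Set.mem_singleton_iff] at hx
      refine ⟨1, 1, ?_⟩
      rw [hx, hy, pow_one, inv_mul_cancel₀ hdk, map_one]
    | algebraMap r => exact ⟨0, r, by simp⟩
    | add x z _ _ hx hz =>
      obtain ⟨n1, c1, h1⟩ := hx
      obtain ⟨n2, c2, h2⟩ := hz
      refine ⟨n1 + n2, c1 * d ^ n2 + c2 * d ^ n1, ?_⟩
      rw [map_add, map_mul, map_mul, map_pow, map_pow, ← h1, ← h2]
      ring
    | mul x z _ _ hx hz =>
      obtain ⟨n1, c1, h1⟩ := hx
      obtain ⟨n2, c2, h2⟩ := hz
      refine ⟨n1 + n2, c1 * c2, ?_⟩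
      rw [map_mul, ← h1, ← h2]
      ring
  -- generators are integral over C
  have hsint : ∀ x ∈ s, IsIntegral C x := by
    intro x hx
    obtain ⟨e, he⟩ := Finset.dvd_prod_of_mem m hx
    have h1 : IsIntegral C (m x • x) := (hmint x).tower_top
    have h2 : IsIntegral C (algebraMap B k e * y) := by
      have : algebraMap B k e * y = algebraMap C k ⟨algebraMap B k e * y,
        C.mul_mem (C.algebraMap_mem e) hyC⟩ := rfl
      rw [this]
      exact isIntegral_algebraMap
    have h3 : x = (algebraMap B k e * y) * (m x • x) := by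
      rw [Algebra.smul_def, hy]
      have : algebraMap B k d = algebraMap B k (m x) * algebraMap B k e := by
        rw [← map_mul, ← he]
      rw [this]
      have hmx : algebraMap B k (m x) ≠ 0 := fun h => hm0 x (hinj (by rw [h, map_zero]))
      have hex : algebraMap B k e ≠ 0 := by
        intro h
        apply hdk
        rw [this, h, mul_zero]
      field_simp
    rw [h3]
    exact h2.mul h1
  have hint : Algebra.IsIntegral C k := by
    refine ⟨fun z => ?_⟩
    have hz : z ∈ Algebra.adjoin B (s : Set k) := by rw [hs]; trivial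
    induction hz using Algebra.adjoin_induction with
    | mem x hx => exact hsint x hx
    | algebraMap r =>
      have : algebraMap B k r = algebraMap C k ⟨algebraMap B k r, C.algebraMap_mem r⟩ := rfl
      rw [this]
      exact isIntegral_algebraMap
    | add x z _ _ hx hz => exact hx.add hz
    | mul x z _ _ hx hz => exact hx.mul hz
  refine ⟨d, hd0, fun b hb => ?_⟩
  have hbk : algebraMap B k b ≠ 0 := fun h => hb (hinj (by rw [h, map_zero]))
  haveI : FaithfulSMul C k := (faithfulSMul_iff_algebraMap_injective C k).mpr Subtype.val_injective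
  have hloc : IsLocalHom (algebraMap C k) := Algebra.IsIntegral.isLocalHom C k
  have hu : IsUnit (⟨algebraMap B k b, C.algebraMap_mem b⟩ : C) := by
    apply hloc.map_nonunit
    exact IsUnit.mk0 _ hbk
  obtain ⟨c, hc⟩ := hu.exists_right_inv
  obtain ⟨n, c', hc'⟩ := hCmem c.1 c.2
  refine ⟨n, c', hinj ?_⟩
  have hc1 : algebraMap B k b * c.1 = 1 := congrArg Subtype.val hc
  rw [map_mul, map_pow, ← hc', ← mul_assoc, hc1, one_mul]

end

theorem exists_forall_prime_eq_ker {A k : Type*} [CommRing A] [Field k] (φ : A →+* k)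
    (hφ : φ.FiniteType) :
    ∃ f : A, φ f ≠ 0 ∧ ∀ q : Ideal A, q.IsPrime → RingHom.ker φ ≤ q → f ∉ q → q = RingHom.ker φ := by
  let B := A ⧸ RingHom.ker φ
  letI : Algebra B k := (RingHom.kerLift φ).toAlgebra
  have hinj : Function.Injective (algebraMap B k) := RingHom.kerLift_injective φ
  haveI : FaithfulSMul B k := (faithfulSMul_iff_algebraMap_injective B k).mpr hinj
  haveI : Algebra.FiniteType B k := by
    have h1 : φ = (RingHom.kerLift φ).comp (Ideal.Quotient.mk (RingHom.ker φ)) := by
      ext x; rfl
    rw [h1] at hφ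
    exact hφ.of_comp_finiteType
  obtain ⟨d, hd0, hd⟩ := exists_ne_zero_forall_dvd_pow B k
  obtain ⟨f, rfl⟩ := Ideal.Quotient.mk_surjective d
  refine ⟨f, ?_, fun q hq hle hfq => le_antisymm ?_ hle⟩
  · intro h
    apply hd0
    rw [Ideal.Quotient.eq_zero_iff_mem]
    exact h
  · intro a ha
    by_contra hna
    have ha0 : (Ideal.Quotient.mk (RingHom.ker φ) a) ≠ 0 := by
      rwa [Ne, Ideal.Quotient.eq_zero_iff_mem]
    obtain ⟨n, c, hc⟩ := hd _ ha0
    obtain ⟨c, rfl⟩ := Ideal.Quotient.mk_surjective c
    rw [← map_mul, ← map_pow, Ideal.Quotient.eq] at hc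
    have h2 : f ^ n ∈ q := by
      have h3 : a * c - f ^ n ∈ q := hle hc
      have h4 : a * c ∈ q := q.mul_mem_right c ha
      have := q.sub_mem h4 h3
      simpa using this
    exact hfq (hq.mem_of_pow_mem n h2)

end Groth.Agent.Lib.Helper41
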