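import Mathlib
import Groth.Agent.Lib.Helper41.ZMTFinGlue

/-!
# Henselian couples: sections of étale separated morphisms (EGA IV 18.5.4 a ⇒ b) (helper41)
-/

set_option autoImplicit false
universe u
open CategoryTheory CategoryTheory.Limits AlgebraicGeometry TopologicalSpace

namespace Groth.Agent.Lib.Helper41.HensCouple

/-- Hypothesis (a): clopens lift uniquely along every finite `S' ⟶ S`. -/
def HypA {S S₀ : Scheme.{u}} (i : S₀ ⟶ S) : Prop :=
  ∀ (S' : Scheme.{u}) (g : S' ⟶ S), IsFinite g →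
    ∀ V : Set ↥(pullback g i), IsClopen V →
      ∃! U : Set ↥S', IsClopen U ∧ (pullback.fst g i).base ⁻¹' U = V

theorem locallyQuasiFinite_of_etale {X Y : Scheme.{u}} (f : X ⟶ Y) [Etale f] :
    LocallyQuasiFinite f := by
  refine ⟨fun {U} hU {V} hV e => ?_⟩
  have h := f.etale_appLE hU hV e
  algebraize [(f.appLE U V e).hom]
  have : Algebra.Etale Γ(Y, U) Γ(X, V) := h
  exact inferInstanceAs (Algebra.QuasiFinite Γ(Y, U) Γ(X, V))

theorem isOpenImmersion_of_section {X Y : Scheme.{u}} (p : X ⟶ Y) [Etale p] (s : Y ⟶ X)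
    (hs : s ≫ p = 𝟙 Y) : IsOpenImmersion s := by
  haveI : Etale (s ≫ p) := by rw [hs]; infer_instance
  haveI : Etale s := MorphismProperty.of_postcomp (W := @Etale) (W' := @Etale) s p ‹Etale p› ‹_›
  haveI : Mono s := mono_of_mono_fac hs
  exact IsOpenImmersion.of_flat_of_mono s

theorem isClosedImmersion_of_section {X Y : Scheme.{u}} (p : X ⟶ Y) [IsSeparated p] (s : Y ⟶ X)
    (hs : s ≫ p = 𝟙 Y) : IsClosedImmersion s := by
  haveI : IsClosedImmersion (s ≫ p) := by rw [hs]; infer_instance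
  exact MorphismProperty.of_postcomp (W := @IsClosedImmersion) (W' := @IsSeparated) s p ‹_› ‹_›

theorem exists_compact_open_superset {X : Scheme.{u}} (K : Set X) (hK : IsCompact K) :
    ∃ W : X.Opens, IsCompact (W : Set X) ∧ K ⊆ (W : Set X) := by
  classical
  have hex : ∀ x : X, ∃ W : X.affineOpens, x ∈ W.1 := by
    intro x
    obtain ⟨_, ⟨W, hW, rfl⟩, hxW, -⟩ :=
      X.isBasis_affineOpens.exists_subset_of_mem_open (Set.mem_univ x) isOpen_univ
    exact ⟨⟨W, hW⟩, hxW⟩
  choose W hxW using hex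
  obtain ⟨t, ht⟩ := hK.elim_finite_subcover (fun x : X => ((W x).1 : Set X))
    (fun x => (W x).1.isOpen) (fun x _ => Set.mem_iUnion.mpr ⟨x, hxW x⟩)
  refine ⟨⨆ x ∈ t, (W x).1, ?_, ?_⟩
  · have : ((⨆ x ∈ t, (W x).1 : X.Opens) : Set X) = ⋃ x ∈ t, ((W x).1 : Set X) := by
      simp
    rw [this]
    exact t.isCompact_biUnion fun x _ => (W x).2.isCompact
  · intro x hx
    have := ht hx
    simpa using this

section

variable {S S₀ : Scheme.{u}} (i : S₀ ⟶ S) (ha : HypA i)
include ha

/-- A closed subset of a finite `S`-scheme which does not meet the preimage of `S₀` is empty. -/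
theorem eq_empty_of_disjoint {T : Scheme.{u}} (π : T ⟶ S) [IsFinite π] (Z : Set T)
    (hZ : IsClosed Z) (hdisj : ∀ z ∈ Z, π z ∉ Set.range i) : Z = ∅ := by
  let Zc : Closeds T := ⟨Z, hZ⟩
  let I : T.IdealSheafData := Scheme.IdealSheafData.vanishingIdeal Zc
  let ιZ : I.subscheme ⟶ T := I.subschemeι
  have hZr : Set.range ιZ = Z := by
    change Set.range I.subschemeι = _
    rw [Scheme.IdealSheafData.range_subschemeι]
    exact Scheme.IdealSheafData.coe_support_vanishingIdeal Zc
  haveI : IsFinite ιZ := inferInstanceAs (IsFinite I.subschemeι)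
  have hfin : IsFinite (ιZ ≫ π) := inferInstance
  haveI hemp : IsEmpty ↥(pullback (ιZ ≫ π) i) := by
    refine ⟨fun p => ?_⟩
    have h1 : (ιZ ≫ π) ((pullback.fst (ιZ ≫ π) i) p) = i ((pullback.snd (ιZ ≫ π) i) p) := by
      rw [← Scheme.Hom.comp_apply, ← Scheme.Hom.comp_apply, pullback.condition]
    have h2 : ιZ ((pullback.fst (ιZ ≫ π) i) p) ∈ Z := by
      rw [← hZr]; exact ⟨_, rfl⟩
    exact hdisj _ h2 ⟨(pullback.snd (ιZ ≫ π) i) p, by rw [← h1, Scheme.Hom.comp_apply]⟩
  obtain ⟨U, -, huniq⟩ := ha I.subscheme (ιZ ≫ π) hfin ∅ isClopen_empty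
  have e1 := huniq ∅ ⟨isClopen_empty, Set.eq_empty_of_isEmpty _⟩
  have e2 := huniq Set.univ ⟨isClopen_univ, Set.eq_empty_of_isEmpty _⟩
  have e3 : (Set.univ : Set I.subscheme) = ∅ := e2.trans e1.symm
  rw [← hZr]
  rw [Set.range_eq_empty_iff]
  exact Set.univ_eq_empty_iff.mp e3

/-- A finite open immersion whose range contains `S₀` is an isomorphism. -/
theorem isIso_of_isOpenImmersion_of_finite {T : Scheme.{u}} (h : T ⟶ S) [IsOpenImmersion h]
    [IsFinite h] (hr : Set.range i ⊆ Set.range h) : IsIso h := by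
  have hcl : IsClosed (Set.range h) := h.isClosedMap.isClosed_range
  have hop : IsOpen (Set.range h) := h.isOpenEmbedding.isOpen_range
  have hempty : (Set.range h)ᶜ = ∅ := by
    refine eq_empty_of_disjoint i ha (𝟙 S) (Set.range h)ᶜ hop.isClosed_compl ?_
    intro z hz hzi
    exact hz (hr (by simpa using hzi))
  apply isIso_of_isOpenImmersion_of_opensRange_eq_top
  ext x
  simp only [Scheme.Hom.coe_opensRange, Opens.coe_top, Set.mem_univ, iff_true]
  by_contra hx
  have : x ∈ (Set.range h)ᶜ := hx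
  rw [hempty] at this
  exact this

/-- Two sections of an étale separated morphism which agree on `S₀` are equal. -/
theorem section_unique {S' : Scheme.{u}} (g : S' ⟶ S) [Etale g] [IsSeparated g]
    (u u' : S ⟶ S') (hu : u ≫ g = 𝟙 S) (hu' : u' ≫ g = 𝟙 S) (h : i ≫ u = i ≫ u') : u = u' := by
  haveI : IsOpenImmersion u' := isOpenImmersion_of_section g u' hu'
  haveI : IsClosedImmersion u' := isClosedImmersion_of_section g u' hu'
  have hfs : pullback.fst u u' = pullback.snd u u' := by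
    have := pullback.condition (f := u) (g := u')
    have h2 := congrArg (· ≫ g) this
    simpa [Category.assoc, hu, hu'] using h2
  haveI : IsOpenImmersion (pullback.fst u u') := inferInstance
  haveI : IsFinite (pullback.fst u u') := inferInstance
  haveI : IsIso (pullback.fst u u') := by
    refine isIso_of_isOpenImmersion_of_finite i ha (pullback.fst u u') ?_
    rw [Scheme.Pullback.range_fst]
    rintro _ ⟨s₀, rfl⟩
    refine ⟨i s₀, ?_⟩
    rw [← Scheme.Hom.comp_apply, ← Scheme.Hom.comp_apply, h]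
  rw [← cancel_epi (pullback.fst u u')]
  conv_rhs => rw [hfs]
  exact pullback.condition

/-- A finite étale `S`-scheme which is an isomorphism over `S₀` and covers `S₀` is an isomorphism. -/
theorem isIso_of_finite_etale {U : Scheme.{u}} (h : U ⟶ S) [IsFinite h] [Etale h]
    [IsIso (pullback.snd h i)] (hr : Set.range i ⊆ Set.range h) : IsIso h := by
  let Δ := pullback.diagonal h
  haveI : IsOpenImmersion Δ := inferInstanceAs (IsOpenImmersion (pullback.diagonal h))
  let q : pullback h h ⟶ S := pullback.fst h h ≫ h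
  haveI : IsFinite q := inferInstanceAs (IsFinite (pullback.fst h h ≫ h))
  have key : pullback.fst q i ≫ pullback.fst h h = pullback.fst q i ≫ pullback.snd h h := by
    have ea : (pullback.fst q i ≫ pullback.fst h h) ≫ h = pullback.snd q i ≫ i := by
      rw [Category.assoc]; exact pullback.condition
    have eb : (pullback.fst q i ≫ pullback.snd h h) ≫ h = pullback.snd q i ≫ i := by
      rw [Category.assoc, ← pullback.condition (f := h) (g := h)]; exact pullback.condition
    have e' : pullback.lift _ _ ea = pullback.lift _ _ eb := by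
      rw [← cancel_mono (pullback.snd h i)]
      rw [pullback.lift_snd, pullback.lift_snd]
    have := congrArg (· ≫ pullback.fst h i) e'
    rwa [pullback.lift_fst, pullback.lift_fst] at this
  have hfac : pullback.fst q i = (pullback.fst q i ≫ pullback.fst h h) ≫ Δ := by
    apply pullback.hom_ext
    · simp [Δ]
    · simp [Δ, key]
  have hsurj : (Set.range Δ)ᶜ = ∅ := by
    refine eq_empty_of_disjoint i ha q (Set.range Δ)ᶜ Δ.isOpenEmbedding.isOpen_range.isClosed_compl ?_
    intro z hz hzi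
    apply hz
    have : z ∈ Set.range (pullback.fst q i) := by
      rw [Scheme.Pullback.range_fst]; exact hzi
    obtain ⟨y, rfl⟩ := this
    rw [hfac, Scheme.Hom.comp_apply]
    exact ⟨_, rfl⟩
  haveI : IsIso Δ := by
    apply isIso_of_isOpenImmersion_of_opensRange_eq_top
    ext x
    simp only [Scheme.Hom.coe_opensRange, Opens.coe_top, Set.mem_univ, iff_true]
    by_contra hx
    have : x ∈ (Set.range Δ)ᶜ := hx
    rw [hsurj] at this
    exact this
  haveI : Mono h := (pullback.isIso_diagonal_iff h).mp ‹IsIso Δ›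
  haveI : IsOpenImmersion h := IsOpenImmersion.of_flat_of_mono h
  exact isIso_of_isOpenImmersion_of_finite i ha h hr

end

set_option maxHeartbeats 800000 in
/-- Existence of a section extending a given lift over `S₀` (EGA IV 18.5.4 a ⇒ b). -/
theorem exists_section {S S₀ : Scheme.{u}} (i : S₀ ⟶ S) (ha : HypA i) [IsClosedImmersion i]
    [CompactSpace ↥S] [QuasiSeparatedSpace ↥S] {S' : Scheme.{u}} (g : S' ⟶ S) [Etale g]
    [IsSeparated g] (v₀ : S₀ ⟶ S') (hv₀ : v₀ ≫ g = i) :
    ∃ u : S ⟶ S', u ≫ g = 𝟙 S ∧ i ≫ u = v₀ := by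
  haveI : CompactSpace ↥S₀ := i.isClosedEmbedding.compactSpace
  obtain ⟨W, hWc, hW⟩ :=
    exists_compact_open_superset (Set.range v₀) (isCompact_range v₀.continuous)
  haveI : CompactSpace ↥(W : Scheme.{u}) := isCompact_iff_compactSpace.mp hWc
  let gW : (W : Scheme.{u}) ⟶ S := W.ι ≫ g
  haveI : Etale gW := inferInstanceAs (Etale (W.ι ≫ g))
  haveI : IsSeparated gW := inferInstanceAs (IsSeparated (W.ι ≫ g))
  haveI : QuasiCompact gW := inferInstance
  haveI : LocallyQuasiFinite gW := locallyQuasiFinite_of_etale gW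
  haveI : LocallyOfFiniteType gW := inferInstance
  obtain ⟨T, j, π, hj, hπ, hfac⟩ := ZMTFinGlue.zmtf_of_qcqs gW
  -- lift of v₀
  let w₀ : S₀ ⟶ W := IsOpenImmersion.lift W.ι v₀ (by rw [Scheme.Opens.range_ι]; exact hW)
  have hw₀ : w₀ ≫ W.ι = v₀ := IsOpenImmersion.lift_fac _ _ _
  have hw₀g : w₀ ≫ gW = i := by
    change w₀ ≫ W.ι ≫ g = i
    rw [← Category.assoc, hw₀, hv₀]
  let t₀ : S₀ ⟶ T := w₀ ≫ j
  have ht₀ : t₀ ≫ π = i := by
    change (w₀ ≫ j) ≫ π = i
    rw [Category.assoc, hfac, hw₀g]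
  -- the section σ of T₀ → S₀
  let σ : S₀ ⟶ pullback π i := pullback.lift t₀ (𝟙 S₀) (by rw [ht₀, Category.id_comp])
  have hσ1 : σ ≫ pullback.fst π i = t₀ := pullback.lift_fst _ _ _
  have hσ2 : σ ≫ pullback.snd π i = 𝟙 S₀ := pullback.lift_snd _ _ _
  have hVclosed : IsClosed (Set.range σ) := by
    haveI := isClosedImmersion_of_section (pullback.snd π i) σ hσ2
    exact σ.isClosedEmbedding.isClosed_range
  have hVopen : IsOpen (Set.range σ) := by
    let σW : S₀ ⟶ pullback gW i := pullback.lift w₀ (𝟙 S₀) (by rw [Category.id_comp, hw₀g])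
    have hσW : σW ≫ pullback.snd gW i = 𝟙 S₀ := pullback.lift_snd _ _ _
    haveI : IsOpenImmersion σW := isOpenImmersion_of_section (pullback.snd gW i) σW hσW
    let j₀ : pullback gW i ⟶ pullback π i :=
      pullback.map gW i π i j (𝟙 S₀) (𝟙 S) (by rw [Category.comp_id, hfac]) (by simp)
    have hj₀1 : j₀ ≫ pullback.fst π i = pullback.fst gW i ≫ j := pullback.lift_fst _ _ _
    have hj₀2 : j₀ ≫ pullback.snd π i = pullback.snd gW i ≫ 𝟙 S₀ := pullback.lift_snd _ _ _
    have hσW1 : σW ≫ pullback.fst gW i = w₀ := pullback.lift_fst _ _ _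
    have : σ = σW ≫ j₀ := by
      apply pullback.hom_ext
      · rw [hσ1, Category.assoc, hj₀1, ← Category.assoc, hσW1]
      · rw [hσ2, Category.assoc, hj₀2, Category.comp_id, hσW]
    rw [this]
    exact (σW ≫ j₀).isOpenEmbedding.isOpen_range
  obtain ⟨U, ⟨hUclopen, hUV⟩, -⟩ := ha T π hπ (Set.range σ) ⟨hVclosed, hVopen⟩
  have hmemU : ∀ s₀ : S₀, t₀ s₀ ∈ U := by
    intro s₀
    have : σ s₀ ∈ (pullback.fst π i).base ⁻¹' U := by rw [hUV]; exact ⟨s₀, rfl⟩
    have h2 : (pullback.fst π i) (σ s₀) ∈ U := this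
    rwa [← Scheme.Hom.comp_apply, hσ1] at h2
  have hUj : U ⊆ Set.range j := by
    have hempty : U \ Set.range j = ∅ := by
      refine eq_empty_of_disjoint i ha π (U \ Set.range j)
        (hUclopen.isClosed.sdiff j.isOpenEmbedding.isOpen_range) ?_
      rintro z ⟨hzU, hzj⟩ hzi
      apply hzj
      have : z ∈ Set.range (pullback.fst π i) := by
        rw [Scheme.Pullback.range_fst]; exact hzi
      obtain ⟨y, rfl⟩ := this
      have hy : y ∈ Set.range σ := by rw [← hUV]; exact hzU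
      obtain ⟨s₀, rfl⟩ := hy
      rw [← Scheme.Hom.comp_apply, hσ1]
      exact ⟨w₀ s₀, (Scheme.Hom.comp_apply _ _ _).symm⟩
    intro z hz
    by_contra hzj
    have : z ∈ U \ Set.range j := ⟨hz, hzj⟩
    rw [hempty] at this
    exact this
  let 𝒰 : T.Opens := ⟨U, hUclopen.isOpen⟩
  haveI : IsClosedImmersion 𝒰.ι := IsClosedImmersion.of_isPreimmersion 𝒰.ι
    (by rw [Scheme.Opens.range_ι]; exact hUclopen.isClosed)
  let k : (𝒰 : Scheme.{u}) ⟶ W :=
    IsOpenImmersion.lift j 𝒰.ι (by rw [Scheme.Opens.range_ι]; exact hUj)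
  have hk : k ≫ j = 𝒰.ι := IsOpenImmersion.lift_fac _ _ _
  haveI : IsOpenImmersion k := by
    haveI : IsOpenImmersion (k ≫ j) := by rw [hk]; infer_instance
    exact IsOpenImmersion.of_comp k j
  let h : (𝒰 : Scheme.{u}) ⟶ S := 𝒰.ι ≫ π
  have hh : h = k ≫ W.ι ≫ g := by
    change 𝒰.ι ≫ π = _
    rw [← hk, Category.assoc, hfac]
  haveI : IsFinite h := inferInstanceAs (IsFinite (𝒰.ι ≫ π))
  haveI : Etale h := by rw [hh]; infer_instance
  let τ₀ : S₀ ⟶ 𝒰 := IsOpenImmersion.lift 𝒰.ι t₀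
    (by rw [Scheme.Opens.range_ι]; rintro _ ⟨s₀, rfl⟩; exact hmemU s₀)
  have hτ₀ : τ₀ ≫ 𝒰.ι = t₀ := IsOpenImmersion.lift_fac _ _ _
  have hτ₀h : τ₀ ≫ h = i := by
    change τ₀ ≫ 𝒰.ι ≫ π = i
    rw [← Category.assoc, hτ₀, ht₀]
  have hr : Set.range i ⊆ Set.range h := by
    rintro _ ⟨s₀, rfl⟩
    exact ⟨τ₀ s₀, by rw [← Scheme.Hom.comp_apply, hτ₀h]⟩
  haveI : IsIso (pullback.snd h i) := by
    let σ' : S₀ ⟶ pullback h i := pullback.lift τ₀ (𝟙 S₀) (by rw [hτ₀h, Category.id_comp])
    have hσ' : σ' ≫ pullback.snd h i = 𝟙 S₀ := pullback.lift_snd _ _ _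
    haveI : IsOpenImmersion σ' := isOpenImmersion_of_section (pullback.snd h i) σ' hσ'
    let m : pullback h i ⟶ pullback π i :=
      pullback.map h i π i 𝒰.ι (𝟙 S₀) (𝟙 S) (by simp [h]) (by simp)
    have hm1 : m ≫ pullback.fst π i = pullback.fst h i ≫ 𝒰.ι := pullback.lift_fst _ _ _
    have hm2 : m ≫ pullback.snd π i = pullback.snd h i ≫ 𝟙 S₀ := pullback.lift_snd _ _ _
    have hσ'1 : σ' ≫ pullback.fst h i = τ₀ := pullback.lift_fst _ _ _
    have hm : σ' ≫ m = σ := by
      apply pullback.hom_ext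
      · rw [hσ1, Category.assoc, hm1, ← Category.assoc, hσ'1, hτ₀]
      · rw [hσ2, Category.assoc, hm2, Category.comp_id, hσ']
    haveI : IsIso σ' := by
      apply isIso_of_isOpenImmersion_of_opensRange_eq_top
      ext y
      simp only [Scheme.Hom.coe_opensRange, Opens.coe_top, Set.mem_univ, iff_true]
      have hy : m y ∈ Set.range σ := by
        rw [← hUV]
        change (pullback.fst π i) (m y) ∈ U
        rw [← Scheme.Hom.comp_apply]
        rw [hm1, Scheme.Hom.comp_apply]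
        exact ((pullback.fst h i) y).2
      obtain ⟨s₀, hs₀⟩ := hy
      refine ⟨s₀, m.isOpenEmbedding.injective ?_⟩
      rw [← Scheme.Hom.comp_apply, hm, hs₀]
    haveI : IsIso (σ' ≫ pullback.snd h i) := by rw [hσ']; infer_instance
    exact IsIso.of_isIso_comp_left σ' (pullback.snd h i)
  haveI : IsIso h := isIso_of_finite_etale i ha h hr
  refine ⟨inv h ≫ k ≫ W.ι, ?_, ?_⟩
  · rw [Category.assoc, Category.assoc, ← hh, IsIso.inv_hom_id]
  · have e1 : i ≫ inv h = τ₀ := by
      rw [← hτ₀h, Category.assoc, IsIso.hom_inv_id, Category.comp_id]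
    have e2 : τ₀ ≫ k = w₀ := by
      rw [← cancel_mono j, Category.assoc, hk, hτ₀]
    rw [← Category.assoc, e1, ← Category.assoc, e2, hw₀]

end Groth.Agent.Lib.Helper41.HensCouple
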