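import Groth.Agent.Lib.Helper9.HenselSplit
import Groth.Agent.Lib.Helper21.ProperOver

/-!
# Quasi-finite separated schemes over a henselian local ring

Scheme-level consequences of the splitting of quasi-finite algebras over henselian local rings
(`Groth.Agent.Lib.Helper9.exists_idempotent_of_quasiFiniteAt`).
-/

set_option autoImplicit false
universe u
open CategoryTheory AlgebraicGeometry IsLocalRing

namespace Groth.Agent.Lib.Helper41.HensQF

theorem henselianLocalRing_of_isAdicComplete (R : Type u) [CommRing R] [IsLocalRing R]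
    [IsAdicComplete (IsLocalRing.maximalIdeal R) R] : HenselianLocalRing R := by
  have h : HenselianRing R (IsLocalRing.maximalIdeal R) := inferInstance
  exact { is_henselian := fun f hf a₀ h₁ h₂ => h.is_henselian f hf a₀ h₁ (h₂.map _) }

theorem algebra_quasiFiniteAt_of_SpecMap {R S : CommRingCat.{u}} (φ : R ⟶ S) (x : Spec S)
    (h : (Spec.map φ).QuasiFiniteAt x) :
    letI := φ.hom.toAlgebra
    Algebra.QuasiFiniteAt R x.asIdeal := by
  algebraize [φ.hom]
  let := Localization.AtPrime.algebraOfLiesOver (x.asIdeal.under R) x.asIdeal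
  have h1 : Algebra.QuasiFinite (Localization.AtPrime (x.asIdeal.under R))
      (Localization.AtPrime x.asIdeal) := by
    rw [← RingHom.quasiFinite_algebraMap]
    exact (RingHom.QuasiFinite.respectsIso.arrow_mk_iso_iff
      (Scheme.arrowStalkMapSpecIso φ x)).mp h
  exact .trans _ (Localization.AtPrime (x.asIdeal.under R)) _

/-- Every nonempty closed subset of the spectrum of a local ring contains the closed point. -/
theorem closedPoint_mem_of_isClosed {R : Type u} [CommRing R] [IsLocalRing R]
    {C : Set (PrimeSpectrum R)} (hC : IsClosed C) (hne : C.Nonempty) : closedPoint R ∈ C := by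
  obtain ⟨p, hp⟩ := hne
  exact (IsLocalRing.specializes_closedPoint p).mem_closed hC hp

/-- **Local splitting.** Let `R` be a henselian local ring, `f : X ⟶ Spec R` separated and locally of
finite type, and `x` a point over the closed point at which `f` is quasi-finite. Then `x` has an
affine open and closed neighbourhood `W`, finite over `Spec R`, which is a local scheme with closed
point `x`. -/
theorem exists_clopen_finite_nhd (R : Type u) [CommRing R] [HenselianLocalRing R] {X : Scheme.{u}}
    (f : X ⟶ Spec (CommRingCat.of R)) [LocallyOfFiniteType f] [IsSeparated f]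
    (x : X) (hx : f.base x = closedPoint R) (hqf : f.QuasiFiniteAt x) :
    ∃ W : X.Opens, x ∈ W ∧ IsAffineOpen W ∧ IsClosed (W : Set X) ∧ IsFinite (W.ι ≫ f) ∧
      (∀ w ∈ W, f.base w = closedPoint R → w = x) ∧ (∀ w ∈ W, w ⤳ x) := by
  obtain ⟨V, hV, hxV, -⟩ := exists_isAffineOpen_mem_and_subset
    (show x ∈ (⊤ : X.Opens) from trivial)
  let S : CommRingCat.{u} := Γ(X, V)
  let φ : CommRingCat.of R ⟶ S := Spec.preimage (hV.fromSpec ≫ f)
  have hφ : Spec.map φ = hV.fromSpec ≫ f := Spec.map_preimage _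
  letI : Algebra R S := φ.hom.toAlgebra
  haveI : LocallyOfFiniteType (Spec.map φ) := by rw [hφ]; infer_instance
  have hft : φ.hom.FiniteType :=
    (HasRingHomProperty.Spec_iff (P := @LocallyOfFiniteType)).mp inferInstance
  haveI : Algebra.FiniteType R S := hft
  let x' : Spec S := hV.primeIdealOf ⟨x, hxV⟩
  have hx' : hV.fromSpec.base x' = x := hV.fromSpec_primeIdealOf ⟨x, hxV⟩
  let q : Ideal S := x'.asIdeal
  haveI : q.IsPrime := x'.isPrime
  have hcomap : ∀ z : Spec S, z.asIdeal.comap φ.hom = (f.base (hV.fromSpec.base z)).asIdeal := by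
    intro z
    have h1 : (Spec.map φ).base z = f.base (hV.fromSpec.base z) := by rw [hφ]; rfl
    exact congrArg PrimeSpectrum.asIdeal h1
  haveI : q.LiesOver (maximalIdeal R) := ⟨by
    change maximalIdeal R = q.comap φ.hom
    rw [hcomap x', hx', hx]
    rfl⟩
  haveI : Algebra.QuasiFiniteAt R q := by
    apply algebra_quasiFiniteAt_of_SpecMap φ x'
    rw [hφ, Scheme.Hom.quasiFiniteAt_comp_iff_of_isOpenImmersion, hx']
    exact hqf
  obtain ⟨e, he, heq, hfin, huniq⟩ :=
    Groth.Agent.Lib.Helper9.exists_idempotent_of_quasiFiniteAt (R := R) q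
  let W : X.Opens := X.basicOpen e
  have hWV : W ≤ V := X.basicOpen_le e
  have hW : IsAffineOpen W := hV.basicOpen e
  have hmemW : ∀ z : Spec S, hV.fromSpec.base z ∈ W ↔ e ∉ z.asIdeal := by
    intro z
    change z ∈ hV.fromSpec ⁻¹ᵁ X.basicOpen e ↔ _
    rw [hV.fromSpec_preimage_basicOpen e]
    rfl
  have hxW : x ∈ W := by
    rw [← hx', hmemW]
    exact heq
  -- finiteness
  let ρ : S ⟶ Γ(X, W) := X.presheaf.map (homOfLE hWV).op
  have hfinW : IsFinite (W.ι ≫ f) := by
    have h1 : W.ι ≫ f = hW.isoSpec.hom ≫ Spec.map (φ ≫ ρ) := by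
      rw [Spec.map_comp, hφ, ← Category.assoc (Spec.map ρ), hV.map_fromSpec hW (homOfLE hWV).op,
        ← Category.assoc, hW.isoSpec_hom_fromSpec]
    rw [h1, MorphismProperty.cancel_left_of_respectsIso @IsFinite, IsFinite.SpecMap_iff]
    haveI := hV.isLocalization_basicOpen e
    let ε : Localization.Away e ≃ₐ[S] Γ(X, W) :=
      IsLocalization.algEquiv (Submonoid.powers e) _ _
    have h2 : (algebraMap R (Localization.Away e)).Finite := RingHom.finite_algebraMap.mpr hfin
    have h3 : ((ε : Localization.Away e →+* Γ(X, W))).Finite :=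
      RingHom.Finite.of_surjective _ ε.surjective
    have h4 : (φ ≫ ρ).hom = (ε : Localization.Away e →+* Γ(X, W)).comp
        (algebraMap R (Localization.Away e)) := by
      ext r
      change ρ.hom (φ.hom r) = ε (algebraMap R (Localization.Away e) r)
      rw [IsScalarTower.algebraMap_apply R S (Localization.Away e), ε.commutes]
      rfl
    rw [h4]
    exact h3.comp h2
  haveI := hfinW
  -- closedness
  have hclosed : IsClosed (W : Set X) := by
    haveI : UniversallyClosed W.ι := UniversallyClosed.of_comp_of_isSeparated W.ι f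
    have := W.ι.isClosedMap.isClosed_range
    rwa [Scheme.Opens.range_ι] at this
  -- uniqueness over the closed point
  have huniqW : ∀ w ∈ W, f.base w = closedPoint R → w = x := by
    intro w hw hfw
    let z : Spec S := hV.primeIdealOf ⟨w, hWV hw⟩
    have hz : hV.fromSpec.base z = w := hV.fromSpec_primeIdealOf ⟨w, hWV hw⟩
    have h1 : z.asIdeal = q := by
      haveI : z.asIdeal.IsPrime := z.isPrime
      refine huniq z.asIdeal z.isPrime ⟨?_⟩ ((hmemW z).mp (hz ▸ hw))
      change maximalIdeal R = z.asIdeal.comap φ.hom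
      rw [hcomap z, hz, hfw]
      rfl
    have h2 : z = x' := PrimeSpectrum.ext h1
    rw [← hz, h2, hx']
  refine ⟨W, hxW, hW, hclosed, hfinW, huniqW, fun w hw => ?_⟩
  -- every point of `W` specializes to `x`
  have hcl : IsClosedMap (W.ι ≫ f).base := (W.ι ≫ f).isClosedMap
  let C : Set (W : Scheme.{u}) := W.ι.base ⁻¹' closure {w}
  have hC : IsClosed C := isClosed_closure.preimage W.ι.continuous
  have h1 : closedPoint R ∈ (W.ι ≫ f).base '' C :=
    closedPoint_mem_of_isClosed (hcl C hC)
      ⟨_, ⟨⟨w, hw⟩, subset_closure (Set.mem_singleton w), rfl⟩⟩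
  obtain ⟨w', hw'C, hw'⟩ := h1
  have h2 : W.ι.base w' = x := huniqW _ w'.2 hw'
  rw [specializes_iff_mem_closure, ← h2]
  exact hw'C

/-- Over a local base, every point of an open subscheme finite over the base specializes to a point
of the closed fibre. -/
theorem exists_specializes_closedFibre {R : Type u} [CommRing R] [IsLocalRing R] {X : Scheme.{u}}
    (f : X ⟶ Spec (CommRingCat.of R)) (W : X.Opens) (hfin : IsFinite (W.ι ≫ f)) (w : X)
    (hw : w ∈ W) : ∃ w' ∈ W, w ⤳ w' ∧ f.base w' = closedPoint R := by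
  haveI := hfin
  have hcl : IsClosedMap (W.ι ≫ f).base := (W.ι ≫ f).isClosedMap
  let C : Set (W : Scheme.{u}) := W.ι.base ⁻¹' closure {w}
  have hC : IsClosed C := isClosed_closure.preimage W.ι.continuous
  have h1 : closedPoint R ∈ (W.ι ≫ f).base '' C :=
    closedPoint_mem_of_isClosed (hcl C hC)
      ⟨_, ⟨⟨w, hw⟩, subset_closure (Set.mem_singleton w), rfl⟩⟩
  obtain ⟨w', hw'C, hw'⟩ := h1
  exact ⟨W.ι.base w', w'.2, specializes_iff_mem_closure.mpr hw'C, hw'⟩

/-- An open subscheme finite over a local base is contained in every open subset containing the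
closed fibre. -/
theorem le_of_isFinite_of_closedFibre_subset {R : Type u} [CommRing R] [IsLocalRing R]
    {X : Scheme.{u}} (f : X ⟶ Spec (CommRingCat.of R)) (W W' : X.Opens)
    (hfin : IsFinite (W.ι ≫ f)) (hW' : ∀ x : X, f.base x = closedPoint R → x ∈ W') : W ≤ W' := by
  intro w hw
  obtain ⟨w', -, hsp, hw'⟩ := exists_specializes_closedFibre f W hfin w hw
  exact hsp.mem_open W'.2 (hW' w' hw')

/-- If all points of an affine open `W` specialize to `x ∈ W`, then `Γ(X, W)` is the local ring of
`X` at `x`. -/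
theorem germ_bijective_of_forall_specializes {X : Scheme.{u}} {W : X.Opens} (hW : IsAffineOpen W)
    (x : X) (hxW : x ∈ W) (h : ∀ w ∈ W, w ⤳ x) :
    Function.Bijective (X.presheaf.germ W x hxW).hom := by
  letI : Algebra Γ(X, W) (X.presheaf.stalk x) :=
    TopCat.Presheaf.algebra_section_stalk X.presheaf (⟨x, hxW⟩ : W)
  haveI : IsLocalization.AtPrime (X.presheaf.stalk x) (hW.primeIdealOf ⟨x, hxW⟩).asIdeal :=
    hW.isLocalization_stalk ⟨x, hxW⟩
  have hunit : (hW.primeIdealOf ⟨x, hxW⟩).asIdeal.primeCompl ≤ IsUnit.submonoid Γ(X, W) := by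
    intro t ht
    change IsUnit t
    by_contra hnu
    obtain ⟨M, hM, htM⟩ := exists_max_ideal_of_mem_nonunits hnu
    let z : Spec Γ(X, W) := ⟨M, hM.isPrime⟩
    have hw : hW.fromSpec.base z ∈ W := by
      have : hW.fromSpec.base z ∈ Set.range hW.fromSpec.base := ⟨z, rfl⟩
      rwa [hW.range_fromSpec] at this
    have h1 : hW.fromSpec.base z ⤳ hW.fromSpec.base (hW.primeIdealOf ⟨x, hxW⟩) := by
      rw [hW.fromSpec_primeIdealOf ⟨x, hxW⟩]
      exact h _ hw
    have h2 : z ⤳ hW.primeIdealOf ⟨x, hxW⟩ :=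
      (hW.fromSpec.isOpenEmbedding.isInducing.specializes_iff).mp h1
    have h3 : z.asIdeal ≤ (hW.primeIdealOf ⟨x, hxW⟩).asIdeal :=
      (PrimeSpectrum.le_iff_specializes _ _).mpr h2
    exact ht (h3 htM)
  let ε := IsLocalization.atUnits Γ(X, W) _ (S := X.presheaf.stalk x) hunit
  have hε : ∀ r, ε r = (X.presheaf.germ W x hxW).hom r := fun r => by
    have := ε.commutes r
    exact this
  have hb := ε.bijective
  have heq : (ε : Γ(X, W) → X.presheaf.stalk x) = (X.presheaf.germ W x hxW).hom := funext hε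
  rw [← heq]
  exact hb

/-- The ring map `R ⟶ Γ(X, W)` of an affine open `W` finite over `Spec R` is finite. -/
theorem finite_of_isFinite_ι_comp {X : Scheme.{u}} {R : CommRingCat.{u}} (f : X ⟶ Spec R)
    {W : X.Opens} (hW : IsAffineOpen W) (h : IsFinite (W.ι ≫ f)) :
    ((Scheme.ΓSpecIso R).inv ≫ f.appTop ≫
      X.presheaf.map (homOfLE (le_top : W ≤ ⊤)).op).hom.Finite := by
  have h1 : Spec.map ((Scheme.ΓSpecIso R).inv ≫ f.appTop ≫
      X.presheaf.map (homOfLE (le_top : W ≤ ⊤)).op) = hW.fromSpec ≫ f := by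
    have h2 : f.appTop ≫ X.presheaf.map (homOfLE (le_top : W ≤ ⊤)).op =
        f.appLE ⊤ W le_top := rfl
    rw [h2, Spec.map_comp, ← Scheme.isoSpec_Spec_inv, ← IsAffineOpen.fromSpec_top,
      IsAffineOpen.SpecMap_appLE_fromSpec]
  rw [← IsFinite.SpecMap_iff, h1, ← hW.isoSpec_inv_ι, Category.assoc]
  haveI := h
  infer_instance

/-- **Global splitting.** A quasi-finite separated scheme over a henselian local ring has an open
and closed subscheme, finite over the base, containing the closed fibre. -/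
theorem exists_clopen_finite (R : Type u) [CommRing R] [HenselianLocalRing R] {X : Scheme.{u}}
    (f : X ⟶ Spec (CommRingCat.of R)) [LocallyQuasiFinite f] [LocallyOfFiniteType f]
    [QuasiCompact f] [IsSeparated f] :
    ∃ U : X.Opens, IsClosed (U : Set X) ∧ IsFinite (U.ι ≫ f) ∧
      ∀ x : X, f.base x = closedPoint R → x ∈ U := by
  classical
  have hF : (f.base ⁻¹' {closedPoint R}).Finite := f.finite_preimage_singleton _
  have key : ∀ x : X, f.base x = closedPoint R →
      ∃ W : X.Opens, x ∈ W ∧ IsClosed (W : Set X) ∧ IsFinite (W.ι ≫ f) := fun x hx => by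
    obtain ⟨W, h1, -, h2, h3, -, -⟩ := exists_clopen_finite_nhd R f x hx (f.quasiFiniteAt x)
    exact ⟨W, h1, h2, h3⟩
  choose! W hW1 hW2 hW3 using key
  let ι : Type u := ↥(f.base ⁻¹' {closedPoint R})
  haveI : Finite ι := hF.to_subtype
  let U : X.Opens := ⨆ i : ι, W i.1
  have hUclosed : IsClosed (U : Set X) := by
    rw [TopologicalSpace.Opens.coe_iSup]
    exact isClosed_iUnion_of_finite (fun i : ι => hW2 i.1 i.2)
  have hmem : ∀ x, f.base x = closedPoint R → x ∈ U := fun x hx =>
    TopologicalSpace.Opens.mem_iSup.mpr ⟨⟨x, hx⟩, hW1 x hx⟩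
  refine ⟨U, hUclosed, ?_, hmem⟩
  haveI : IsClosedImmersion U.ι :=
    IsClosedImmersion.of_isPreimmersion _ (by rw [Scheme.Opens.range_ι]; exact hUclosed)
  haveI : UniversallyClosed (U.ι ≫ f) := by
    refine Groth.Agent.Lib.Helper21.ProperOver.universallyClosed_of_family
      (fun i : ι => X.homOfLE (le_iSup (fun i : ι => W i.1) i)) (U.ι ≫ f) (fun i => ?_) ?_
    · rw [← Category.assoc, Scheme.homOfLE_ι]
      haveI := hW3 i.1 i.2
      infer_instance
    · rw [Set.eq_univ_iff_forall]
      intro u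
      obtain ⟨i, hi⟩ := TopologicalSpace.Opens.mem_iSup.mp u.2
      refine Set.mem_iUnion.mpr ⟨i, ⟨⟨u.1, hi⟩, U.ι.isOpenEmbedding.injective ?_⟩⟩
      rw [← Scheme.Hom.comp_apply, Scheme.homOfLE_ι]
      rfl
  haveI : IsProper (U.ι ≫ f) := {}
  exact IsFinite.of_isProper_of_locallyQuasiFinite _

theorem locallyQuasiFinite_of_etale {X Y : Scheme.{u}} (f : X ⟶ Y) [Etale f] :
    LocallyQuasiFinite f := by
  have h := ‹Etale f›
  rw [HasRingHomProperty.eq_affineLocally @Etale] at h
  rw [HasRingHomProperty.eq_affineLocally @LocallyQuasiFinite]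
  refine affineLocally_le (fun {R S} _ _ φ hφ => ?_) f h
  letI := φ.toAlgebra
  haveI : Algebra.Etale R S := hφ
  change Algebra.QuasiFinite R S
  infer_instance

end Groth.Agent.Lib.Helper41.HensQF
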