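import Mathlib.AlgebraicGeometry.SpreadingOut
import Mathlib.AlgebraicGeometry.Noetherian
import Mathlib.AlgebraicGeometry.Stalk
import Mathlib.AlgebraicGeometry.FunctionField

set_option autoImplicit false
universe u
open CategoryTheory CategoryTheory.Limits AlgebraicGeometry TopologicalSpace

namespace Groth.Agent.Lib.Helper41

/-- A point of a germ-injective scheme whose local ring is a domain has an integral affine open
neighbourhood on which the germ map is injective. -/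
theorem exists_isIntegral_nhd_of_isDomain_stalk {X : Scheme.{u}} (x : X) [X.IsGermInjectiveAt x]
    [IsDomain ↑(X.presheaf.stalk x)] :
    ∃ (W : X.Opens) (hxW : x ∈ W), IsAffineOpen W ∧ IsIntegral (W : Scheme.{u}) ∧
      IsDomain Γ(X, W) ∧ Function.Injective (X.presheaf.germ W x hxW) := by
  obtain ⟨W, hxW, hW, hinj⟩ := X.exists_germ_injective x
  have hdom : IsDomain Γ(X, W) :=
    Function.Injective.isDomain (X.presheaf.germ W x hxW).hom hinj
  refine ⟨W, hxW, hW, ?_, hdom, hinj⟩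
  have : IsAffine (W : Scheme.{u}) := hW
  have : Nonempty (W : Scheme.{u}) := ⟨⟨x, hxW⟩⟩
  have : IsDomain Γ((W : Scheme.{u}), ⊤) :=
    (W.topIso.commRingCatIsoToRingEquiv).toMulEquiv.isDomain
  exact isIntegral_of_isAffine_of_isDomain _

/-- The generic point of `Spec 𝒪_{X,x}` (for `𝒪_{X,x}` a domain, `X` germ-injective at `x`) is
sent into every dense open subset of `X`. -/
theorem fromSpecStalk_bot_mem_of_dense {X : Scheme.{u}} (x : X) [X.IsGermInjectiveAt x]
    [IsDomain ↑(X.presheaf.stalk x)] (U : X.Opens) (hU : Dense (U : Set ↥X)) :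
    X.fromSpecStalk x ⟨⊥, Ideal.isPrime_bot⟩ ∈ U := by
  obtain ⟨W, hxW, hW, -, hdom, hinj⟩ := exists_isIntegral_nhd_of_isDomain_stalk x
  obtain ⟨w, hwW, hwU⟩ := hU.inter_open_nonempty W W.isOpen ⟨x, hxW⟩
  rw [← hW.fromSpecStalk_eq_fromSpecStalk hxW, IsAffineOpen.fromSpecStalk, Scheme.Hom.comp_apply]
  let η : ↥(Spec Γ(X, W)) := (⟨⊥, Ideal.isPrime_bot⟩ : PrimeSpectrum Γ(X, W))
  have h1 : Spec.map (X.presheaf.germ W x hxW) ⟨⊥, Ideal.isPrime_bot⟩ = η := by
    apply PrimeSpectrum.ext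
    change Ideal.comap (X.presheaf.germ W x hxW).hom ⊥ = ⊥
    rw [← RingHom.ker_eq_comap_bot]
    exact (RingHom.injective_iff_ker_eq_bot _).1 hinj
  rw [h1]
  have h2 : hW.fromSpec η ⤳ w := by
    have h3 : η ⤳ hW.primeIdealOf ⟨w, hwW⟩ :=
      (PrimeSpectrum.le_iff_specializes
        (⟨⊥, Ideal.isPrime_bot⟩ : PrimeSpectrum Γ(X, W)) (hW.primeIdealOf ⟨w, hwW⟩)).1
        (bot_le (a := (hW.primeIdealOf ⟨w, hwW⟩).asIdeal))
    have h4 := h3.map hW.fromSpec.continuous
    rwa [hW.fromSpec_primeIdealOf ⟨w, hwW⟩] at h4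
  exact h2.mem_open U.isOpen hwU

end Groth.Agent.Lib.Helper41
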