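import Mathlib.AlgebraicGeometry.SpreadingOut
import Mathlib.AlgebraicGeometry.Noetherian
import Mathlib.AlgebraicGeometry.Stalk
import Mathlib.AlgebraicGeometry.FunctionField
import Groth.Agent.Lib.Helper41.ValCritSection

set_option autoImplicit false
universe u
open CategoryTheory CategoryTheory.Limits AlgebraicGeometry TopologicalSpace

namespace Groth.Agent.Lib.Helper41

/-- If `W` is an integral open neighbourhood of `x` and `𝒪_{X,x}` is a domain, the generic point of
`Spec 𝒪_{X,x}` maps to a point specializing to every point of `W`. -/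
theorem fromSpecStalk_bot_specializes_of_isIntegral {X : Scheme.{u}} (x : X)
    [IsDomain ↑(X.presheaf.stalk x)] (W : X.Opens) [IsIntegral (W : Scheme.{u})] (hxW : x ∈ W)
    (w : X) (hw : w ∈ W) :
    X.fromSpecStalk x (⟨⊥, Ideal.isPrime_bot⟩ : PrimeSpectrum ↑(X.presheaf.stalk x)) ⤳ w := by
  let g : X := W.ι (genericPoint (W : Scheme.{u}))
  have hgw : ∀ w' (hw' : w' ∈ W), g ⤳ w' := fun w' hw' => by
    let w'' : (W : Scheme.{u}) := ⟨w', hw'⟩
    exact (genericPoint_specializes w'').map W.ι.continuous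
  have hgx : g ∈ Set.range (X.fromSpecStalk x) := by
    rw [Scheme.range_fromSpecStalk]
    exact hgw x hxW
  obtain ⟨p, hp⟩ := hgx
  have h1 : (⟨⊥, Ideal.isPrime_bot⟩ : PrimeSpectrum ↑(X.presheaf.stalk x)) ⤳ p :=
    (PrimeSpectrum.le_iff_specializes _ p).1 (bot_le (a := p.asIdeal))
  have h2 := h1.map (X.fromSpecStalk x).continuous
  rw [hp] at h2
  exact h2.trans (hgw w hw)

/-- A point with domain local ring on a reduced scheme with finitely many irreducible components
has an integral open neighbourhood. -/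
theorem exists_isIntegral_nhd_of_finite_irreducibleComponents {X : Scheme.{u}} [IsReduced X]
    (hfin : (irreducibleComponents ↥X).Finite) (x : X) [IsDomain ↑(X.presheaf.stalk x)] :
    ∃ W : X.Opens, x ∈ W ∧ IsIntegral (W : Scheme.{u}) := by
  let ξ : X := X.fromSpecStalk x (⟨⊥, Ideal.isPrime_bot⟩ : PrimeSpectrum ↑(X.presheaf.stalk x))
  -- every irreducible component through `x` is the closure of `ξ`
  have huniq : ∀ Z ∈ irreducibleComponents ↥X, x ∈ Z → Z = closure {ξ} := by
    intro Z hZ hxZ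
    have hZc := isClosed_of_mem_irreducibleComponents Z hZ
    have hη := hZ.1.isGenericPoint_genericPoint hZc
    set η := hZ.1.genericPoint
    have hηx : η ⤳ x := by
      rw [specializes_iff_mem_closure, hη.def]; exact hxZ
    have hηr : η ∈ Set.range (X.fromSpecStalk x) := by
      rw [Scheme.range_fromSpecStalk]; exact hηx
    obtain ⟨p, hp⟩ := hηr
    have h1 : (⟨⊥, Ideal.isPrime_bot⟩ : PrimeSpectrum ↑(X.presheaf.stalk x)) ⤳ p :=
      (PrimeSpectrum.le_iff_specializes _ p).1 (bot_le (a := p.asIdeal))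
    have h2 : ξ ⤳ η := hp ▸ h1.map (X.fromSpecStalk x).continuous
    have h3 : Z ⊆ closure {ξ} := by
      rw [← hη.def]
      exact closure_minimal (Set.singleton_subset_iff.2 (specializes_iff_mem_closure.1 h2))
        isClosed_closure
    exact Set.Subset.antisymm h3 (hZ.2 isIrreducible_singleton.closure h3)
  let Z₀ : Set ↥X := irreducibleComponent x
  have hZ₀ : Z₀ ∈ irreducibleComponents ↥X := irreducibleComponent_mem_irreducibleComponents x
  have hZ₀ξ : Z₀ = closure {ξ} := huniq Z₀ hZ₀ mem_irreducibleComponent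
  let C : Set ↥X := ⋃₀ (irreducibleComponents ↥X \ {Z₀})
  have hCc : IsClosed C := by
    change IsClosed (⋃₀ (irreducibleComponents ↥X \ {Z₀}))
    rw [Set.sUnion_eq_biUnion]
    exact hfin.sdiff.isClosed_biUnion fun W hW ↦ isClosed_of_mem_irreducibleComponents W hW.1
  let W : X.Opens := ⟨Cᶜ, hCc.isOpen_compl⟩
  have hxW : x ∈ W := by
    rintro ⟨Z, ⟨hZ, hZne⟩, hxZ⟩
    exact hZne ((huniq Z hZ hxZ).trans hZ₀ξ.symm)
  have hWZ : ∀ w ∈ W, ξ ⤳ w := by
    intro w hw
    have hwZ : irreducibleComponent w = Z₀ := by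
      by_contra hne
      exact hw ⟨_, ⟨irreducibleComponent_mem_irreducibleComponents w, hne⟩,
        mem_irreducibleComponent⟩
    have : w ∈ closure {ξ} := by
      rw [← hZ₀ξ, ← hwZ]; exact mem_irreducibleComponent
    exact specializes_iff_mem_closure.2 this
  have hξW : ξ ∈ W := (hWZ x hxW).mem_open W.isOpen hxW
  refine ⟨W, hxW, ?_⟩
  have : IrreducibleSpace ↥(W.toScheme) := by
    have hne : Nonempty ↥(W.toScheme) := ⟨⟨x, hxW⟩⟩
    refine { toPreirreducibleSpace := ⟨?_⟩, toNonempty := hne }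
    rintro A B hA hB ⟨a, -, ha⟩ ⟨b, -, hb⟩
    let ξ' : ↥(W.toScheme) := ⟨ξ, hξW⟩
    have hind : Topology.IsInducing (W.ι : ↥(W.toScheme) → X) :=
      W.ι.isOpenEmbedding.isEmbedding.isInducing
    have h1 : ∀ c : ↥(W.toScheme), ξ' ⤳ c := fun c =>
      hind.specializes_iff.1 (hWZ c.1 c.2)
    exact ⟨ξ', trivial, (h1 a).mem_open hA ha, (h1 b).mem_open hB hb⟩
  exact isIntegral_of_irreducibleSpace_of_isReduced _

/-- Germ-injectivity at a point with an integral open neighbourhood. -/
theorem isGermInjectiveAt_of_isIntegral_nhd {X : Scheme.{u}} (x : X) (W : X.Opens)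
    [IsIntegral (W : Scheme.{u})] (hxW : x ∈ W) : X.IsGermInjectiveAt x := by
  have h : X.IsGermInjectiveAt (W.ι ⟨x, hxW⟩) := inferInstance
  exact h

end Groth.Agent.Lib.Helper41
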