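import Mathlib
import Groth.Agent.Lib.Helper43.KoszulH1
import Groth.Agent.Lib.Helper43.KoszulGen
import Groth.Agent.Lib.Helper43.SeqFlatBC
import Groth.Agent.Lib.Helper41.FlatBlowAlg

/-!
# The affine blow-up algebra of a Koszul-regular sequence

For a Koszul-regular sequence `a, v₁, …, vₙ` the chart `A[I/a]` of the blow-up is
`A[x₁, …, xₙ]/(a xⱼ - vⱼ)`, and therefore commutes with every base change `A → A'` for which the
image sequence stays Koszul-regular.
-/

set_option autoImplicit false
universe u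
open MvPolynomial TensorProduct

namespace Groth.Agent.Lib.Helper41.KoszulBlowAlg

open Groth.Agent.Lib.Helper41.FlatBlowAlg

section H1

variable {P : Type u} [CommRing P]

/-- For an `H₁`-regular sequence `x, L'`, the element `x` is a nonzerodivisor modulo `L'`. -/
theorem mem_ofList_of_h1 (x : P) (L' : List P) (h : CAlgX.IsH1Regular (x :: L').get) (F : P)
    (hF : x * F ∈ Ideal.ofList L') : F ∈ Ideal.ofList L' := by
  have hF' : x * F ∈ Ideal.span (Set.range L'.get) := by
    rw [Set.range_list_get]; exact hF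
  obtain ⟨c, hc⟩ := (Ideal.mem_span_range_iff_exists_fun).mp hF'
  let w : Fin (L'.length + 1) → P := Fin.cons F (fun j => - c j)
  have hrel : ∑ i : Fin (L'.length + 1), w i * (x :: L').get i = 0 := by
    rw [Fin.sum_univ_succ]
    have h0 : w 0 * (x :: L').get 0 = F * x := rfl
    have hs : ∀ j : Fin L'.length, w j.succ * (x :: L').get j.succ = - (c j * L'.get j) := by
      intro j
      change (- c j) * L'.get j = _
      ring
    rw [h0, Finset.sum_congr rfl (fun j _ => hs j), Finset.sum_neg_distrib, hc]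
    ring
  have hw := h w hrel
  have hle : Submodule.span P {u : Fin (L'.length + 1) → P | ∃ i j : Fin (L'.length + 1),
      u = Pi.single i ((x :: L').get j) - Pi.single j ((x :: L').get i)} ≤
      Submodule.comap (LinearMap.proj (R := P) (φ := fun _ : Fin (L'.length + 1) => P) 0)
        (Ideal.ofList L') := by
    rw [Submodule.span_le]
    rintro u ⟨i, j, rfl⟩
    change (Pi.single i ((x :: L').get j) - Pi.single j ((x :: L').get i) :
      Fin (L'.length + 1) → P) 0 ∈ Ideal.ofList L'
    rw [Pi.sub_apply, Pi.single_apply, Pi.single_apply]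
    have hmem : ∀ k : Fin (L'.length + 1), k ≠ 0 → (x :: L').get k ∈ Ideal.ofList L' := by
      intro k hk
      obtain ⟨k', rfl⟩ := Fin.exists_succ_eq_of_ne_zero hk
      exact Ideal.subset_span (List.get_mem L' k')
    by_cases hi : (0 : Fin (L'.length + 1)) = i
    · by_cases hj : (0 : Fin (L'.length + 1)) = j
      · subst hi; subst hj; simp
      · rw [if_pos hi, if_neg hj, sub_zero]
        exact hmem j (fun e => hj e.symm)
    · by_cases hj : (0 : Fin (L'.length + 1)) = j
      · rw [if_neg hi, if_pos hj, zero_sub]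
        exact neg_mem (hmem i (fun e => hi e.symm))
      · rw [if_neg hi, if_neg hj, sub_zero]
        exact zero_mem _
  exact hle hw

end H1

section Pres

variable {A : Type u} [CommRing A] (a : A) {n : ℕ} (v : Fin n → A)

/-- The relations `a xⱼ - vⱼ`. -/
noncomputable def rel (j : Fin n) : MvPolynomial (Fin n) A := C a * X j - C (v j)

/-- The ideal of relations. -/
noncomputable def relIdeal : Ideal (MvPolynomial (Fin n) A) := Ideal.span (Set.range (rel a v))

theorem rel_mem (j : Fin n) : rel a v j ∈ relIdeal a v := Ideal.subset_span ⟨j, rfl⟩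

theorem ofList_ofFn_rel : Ideal.ofList (List.ofFn (rel a v)) = relIdeal a v := by
  unfold relIdeal Ideal.ofList
  congr 1
  ext y
  simp [List.mem_ofFn]

theorem ofList_relList :
    Ideal.ofList ((a :: List.ofFn v).map (C : A →+* MvPolynomial (Fin n) A)) =
      Ideal.ofList (C a :: List.ofFn (rel a v)) := by
  apply le_antisymm
  · rw [Ideal.ofList, Ideal.span_le]
    intro y hy
    obtain ⟨z, hz, rfl⟩ := List.mem_map.mp hy
    rcases List.mem_cons.mp hz with rfl | hz
    · exact Ideal.subset_span List.mem_cons_self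
    · obtain ⟨j, rfl⟩ := (List.mem_ofFn' _ _).mp hz
      have h1 : (C (v j) : MvPolynomial (Fin n) A) = C a * X j - rel a v j := by
        unfold rel; ring
      rw [SetLike.mem_coe, h1]
      refine sub_mem (Ideal.mul_mem_right _ _ (Ideal.subset_span List.mem_cons_self)) ?_
      exact Ideal.subset_span (List.mem_cons_of_mem _ ((List.mem_ofFn' _ _).mpr ⟨j, rfl⟩))
  · rw [Ideal.ofList, Ideal.span_le]
    intro y hy
    have hCa : (C a : MvPolynomial (Fin n) A) ∈
        Ideal.ofList ((a :: List.ofFn v).map (C : A →+* MvPolynomial (Fin n) A)) :=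
      Ideal.subset_span (List.mem_map.mpr ⟨a, List.mem_cons_self, rfl⟩)
    rcases List.mem_cons.mp hy with rfl | hy
    · exact hCa
    · obtain ⟨j, rfl⟩ := (List.mem_ofFn' _ _).mp hy
      refine sub_mem (Ideal.mul_mem_right _ _ hCa) ?_
      exact Ideal.subset_span (List.mem_map.mpr
        ⟨v j, List.mem_cons_of_mem _ ((List.mem_ofFn' _ _).mpr ⟨j, rfl⟩), rfl⟩)

/-- `a` is a nonzerodivisor modulo the relations. -/
theorem C_mul_mem_relIdeal (h : LCI.IsKoszulRegularSeq A (a :: List.ofFn v))
    (F : MvPolynomial (Fin n) A) (hF : C a * F ∈ relIdeal a v) : F ∈ relIdeal a v := by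
  have hflat : (C : A →+* MvPolynomial (Fin n) A).Flat := by
    rw [← MvPolynomial.algebraMap_eq]
    exact RingHom.flat_algebraMap_iff.mpr inferInstance
  have h1 := Groth.Agent.Lib.Helper43.SeqFlatBC.koszulRegular_of_flat
    (C : A →+* MvPolynomial (Fin n) A) hflat _ h
  have h2 := Groth.Agent.Lib.Helper43.KoszulGen.koszulRegular_of_same_length _
    (C a :: List.ofFn (rel a v)) (by simp) (ofList_relList a v) h1
  have h3 := Groth.Agent.Lib.Helper43.KoszulH1.isH1Regular_of_isKoszulRegularSeq _ h2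
  rw [← ofList_ofFn_rel] at hF ⊢
  exact mem_ofList_of_h1 (C a) _ h3 F hF

theorem C_pow_mul_mem_relIdeal (h : LCI.IsKoszulRegularSeq A (a :: List.ofFn v)) (k : ℕ)
    (F : MvPolynomial (Fin n) A) (hF : C a ^ k * F ∈ relIdeal a v) : F ∈ relIdeal a v := by
  induction k with
  | zero => simpa using hF
  | succ k ih =>
    apply ih
    apply C_mul_mem_relIdeal a v h
    rw [← mul_assoc, ← pow_succ']
    exact hF

/-- Clearing denominators modulo the relations. -/
theorem exists_pow_mul_sub_mem (F : MvPolynomial (Fin n) A) :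
    ∃ (d : ℕ) (x : A), C a ^ d * F - C x ∈ relIdeal a v := by
  induction F using MvPolynomial.induction_on with
  | C c => exact ⟨0, c, by simp⟩
  | add F G hF hG =>
    obtain ⟨d₁, x₁, h₁⟩ := hF
    obtain ⟨d₂, x₂, h₂⟩ := hG
    refine ⟨d₁ + d₂, a ^ d₂ * x₁ + a ^ d₁ * x₂, ?_⟩
    have e : C a ^ (d₁ + d₂) * (F + G) - C (a ^ d₂ * x₁ + a ^ d₁ * x₂) =
        C a ^ d₂ * (C a ^ d₁ * F - C x₁) + C a ^ d₁ * (C a ^ d₂ * G - C x₂) := by
      simp only [map_add, map_mul, map_pow]
      ring
    rw [e]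
    exact add_mem (Ideal.mul_mem_left _ _ h₁) (Ideal.mul_mem_left _ _ h₂)
  | mul_X F j hF =>
    obtain ⟨d, x, h⟩ := hF
    refine ⟨d + 1, x * v j, ?_⟩
    have e : C a ^ (d + 1) * (F * X j) - C (x * v j) =
        (C a ^ d * F - C x) * (C a * X j) + C x * rel a v j := by
      unfold rel
      simp only [map_mul]
      ring
    rw [e]
    exact add_mem (Ideal.mul_mem_right _ _ h) (Ideal.mul_mem_left _ _ (rel_mem a v j))

end Pres

section Chart

variable {A B : Type u} [CommRing A] [CommRing B] [Algebra A B] (a : A) {n : ℕ} (v : Fin n → A)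
  (hc : IsChart (R := A) (Ideal.ofList (a :: List.ofFn v)) a (algebraMap A B))

include hc

theorem exists_beta (j : Fin n) : ∃ β : B, algebraMap A B a * β = algebraMap A B (v j) := by
  have hmem : v j ∈ (Ideal.ofList (a :: List.ofFn v)) ^ 1 := by
    rw [pow_one]
    exact Ideal.subset_span (List.mem_cons_of_mem _ ((List.mem_ofFn' _ _).mpr ⟨j, rfl⟩))
  obtain ⟨β, hβ⟩ := hc.div 1 (v j) hmem
  exact ⟨β, by simpa using hβ⟩

/-- The coordinates `vⱼ/a` of the chart. -/
noncomputable def beta (j : Fin n) : B := (exists_beta a v hc j).choose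

theorem beta_spec (j : Fin n) : algebraMap A B a * beta a v hc j = algebraMap A B (v j) :=
  (exists_beta a v hc j).choose_spec

/-- The map from the polynomial ring to the chart. -/
noncomputable def toChart : MvPolynomial (Fin n) A →ₐ[A] B := MvPolynomial.aeval (beta a v hc)

theorem toChart_rel (j : Fin n) : toChart a v hc (rel a v j) = 0 := by
  unfold toChart rel
  rw [map_sub, map_mul, MvPolynomial.aeval_C, MvPolynomial.aeval_C, MvPolynomial.aeval_X,
    beta_spec, sub_self]

theorem toChart_eq_zero_of_mem (F : MvPolynomial (Fin n) A) (hF : F ∈ relIdeal a v) :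
    toChart a v hc F = 0 := by
  have : relIdeal a v ≤ RingHom.ker (toChart a v hc).toRingHom := by
    unfold relIdeal
    rw [Ideal.span_le]
    rintro _ ⟨j, rfl⟩
    exact toChart_rel a v hc j
  exact this hF

theorem exists_mul_of_mem (z : A) (hz : z ∈ Ideal.ofList (a :: List.ofFn v)) :
    ∃ q ∈ (toChart a v hc).range, algebraMap A B a * q = algebraMap A B z := by
  induction hz using Submodule.span_induction with
  | mem x hx =>
    rcases List.mem_cons.mp hx with rfl | hx
    · exact ⟨1, one_mem _, mul_one _⟩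
    · obtain ⟨j, rfl⟩ := (List.mem_ofFn' _ _).mp hx
      exact ⟨beta a v hc j, ⟨X j, by simp [toChart]⟩, beta_spec a v hc j⟩
  | zero => exact ⟨0, zero_mem _, by simp⟩
  | add x y _ _ hx hy =>
    obtain ⟨q₁, hq₁, e₁⟩ := hx
    obtain ⟨q₂, hq₂, e₂⟩ := hy
    exact ⟨q₁ + q₂, add_mem hq₁ hq₂, by rw [mul_add, e₁, e₂, map_add]⟩
  | smul c x _ hx =>
    obtain ⟨q, hq, e⟩ := hx
    refine ⟨algebraMap A B c * q, mul_mem (Subalgebra.algebraMap_mem _ c) hq, ?_⟩
    rw [smul_eq_mul, map_mul, ← e]
    ring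

theorem exists_pow_mul_of_mem (k : ℕ) (z : A)
    (hz : z ∈ (Ideal.ofList (a :: List.ofFn v)) ^ k) :
    ∃ q ∈ (toChart a v hc).range, algebraMap A B a ^ k * q = algebraMap A B z := by
  induction k generalizing z with
  | zero => exact ⟨algebraMap A B z, Subalgebra.algebraMap_mem _ z, by simp⟩
  | succ k ih =>
    rw [pow_succ] at hz
    refine Submodule.mul_induction_on hz ?_ ?_
    · intro y hy w hw
      obtain ⟨q₁, hq₁, e₁⟩ := ih y hy
      obtain ⟨q₂, hq₂, e₂⟩ := exists_mul_of_mem a v hc w hw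
      refine ⟨q₁ * q₂, mul_mem hq₁ hq₂, ?_⟩
      rw [map_mul, ← e₁, ← e₂]
      ring
    · intro x y hx hy
      obtain ⟨q₁, hq₁, e₁⟩ := hx
      obtain ⟨q₂, hq₂, e₂⟩ := hy
      exact ⟨q₁ + q₂, add_mem hq₁ hq₂, by rw [mul_add, e₁, e₂, map_add]⟩

theorem toChart_surjective : Function.Surjective (toChart a v hc) := by
  intro β
  obtain ⟨k, x, hx, e⟩ := hc.den β
  obtain ⟨q, hq, e'⟩ := exists_pow_mul_of_mem a v hc k x hx
  have : β = q := hc.cancel_pow k (e.trans e'.symm)
  rw [this]
  exact hq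

theorem mem_relIdeal_of_toChart_eq_zero (h : LCI.IsKoszulRegularSeq A (a :: List.ofFn v))
    (F : MvPolynomial (Fin n) A) (hF : toChart a v hc F = 0) : F ∈ relIdeal a v := by
  obtain ⟨d, x, hdx⟩ := exists_pow_mul_sub_mem a v F
  have h1 := toChart_eq_zero_of_mem a v hc _ hdx
  rw [map_sub, map_mul, hF, mul_zero, zero_sub, neg_eq_zero] at h1
  have h2 : algebraMap A B x = 0 := by
    have : toChart a v hc (C x) = algebraMap A B x := by simp [toChart]
    rw [← this]; exact h1
  obtain ⟨m, hm⟩ := hc.ker x h2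
  apply C_pow_mul_mem_relIdeal a v h (m + d)
  have e : C a ^ (m + d) * F = C a ^ m * (C a ^ d * F - C x) + C (a ^ m * x) := by
    simp only [map_mul, map_pow]
    ring
  rw [e, hm, map_zero, add_zero]
  exact Ideal.mul_mem_left _ _ hdx

end Chart

section Tensor

variable {A A' : Type u} [CommRing A] [CommRing A'] [Algebra A A'] (a : A) {n : ℕ} (v : Fin n → A)

/-- `Q → Q'`. -/
noncomputable def psi1 : (MvPolynomial (Fin n) A ⧸ relIdeal a v) →ₐ[A]
    (MvPolynomial (Fin n) A' ⧸ relIdeal (algebraMap A A' a) (fun j => algebraMap A A' (v j))) :=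
  Ideal.Quotient.liftₐ (relIdeal a v)
    ((Ideal.Quotient.mkₐ A (relIdeal (algebraMap A A' a) (fun j => algebraMap A A' (v j)))).comp
      (MvPolynomial.aeval (fun j => (X j : MvPolynomial (Fin n) A'))))
    (by
      have : relIdeal a v ≤ RingHom.ker ((Ideal.Quotient.mkₐ A
          (relIdeal (algebraMap A A' a) (fun j => algebraMap A A' (v j)))).comp
          (MvPolynomial.aeval (fun j => (X j : MvPolynomial (Fin n) A')))).toRingHom := by
        unfold relIdeal
        rw [Ideal.span_le]
        rintro _ ⟨j, rfl⟩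
        change Ideal.Quotient.mk _ (MvPolynomial.aeval (fun j => (X j : MvPolynomial (Fin n) A'))
          (rel a v j)) = 0
        rw [Ideal.Quotient.eq_zero_iff_mem]
        have : MvPolynomial.aeval (fun j => (X j : MvPolynomial (Fin n) A')) (rel a v j) =
            rel (algebraMap A A' a) (fun j => algebraMap A A' (v j)) j := by
          unfold rel
          rw [map_sub, map_mul, MvPolynomial.aeval_C, MvPolynomial.aeval_C, MvPolynomial.aeval_X,
            MvPolynomial.algebraMap_apply, MvPolynomial.algebraMap_apply]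
        rw [this]
        exact rel_mem _ _ j
      exact fun x hx => this hx)

theorem psi1_mk (F : MvPolynomial (Fin n) A) :
    psi1 (A' := A') a v (Ideal.Quotient.mk _ F) =
      Ideal.Quotient.mk _ (MvPolynomial.aeval (fun j => (X j : MvPolynomial (Fin n) A')) F) :=
  rfl

/-- `Q ⊗ A' → Q'`. -/
noncomputable def Psi : (MvPolynomial (Fin n) A ⧸ relIdeal a v) ⊗[A] A' →ₐ[A]
    (MvPolynomial (Fin n) A' ⧸ relIdeal (algebraMap A A' a) (fun j => algebraMap A A' (v j))) :=
  Algebra.TensorProduct.lift (psi1 a v)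
    (IsScalarTower.toAlgHom A A' (MvPolynomial (Fin n) A' ⧸
      relIdeal (algebraMap A A' a) (fun j => algebraMap A A' (v j))))
    (fun _ _ => Commute.all _ _)

theorem Psi_tmul (q : MvPolynomial (Fin n) A ⧸ relIdeal a v) (c : A') :
    Psi a v (q ⊗ₜ[A] c) = psi1 a v q * algebraMap A' _ c := by
  unfold Psi
  rw [Algebra.TensorProduct.lift_tmul]
  rfl

theorem tmul_algebraMap_eq (q : MvPolynomial (Fin n) A ⧸ relIdeal a v) (x : A) :
    q ⊗ₜ[A] (algebraMap A A' x) =
      ((Ideal.Quotient.mk (relIdeal a v) (C x)) * q) ⊗ₜ[A] (1 : A') := by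
  rw [Algebra.algebraMap_eq_smul_one, ← TensorProduct.smul_tmul]
  have : x • q = (Ideal.Quotient.mk (relIdeal a v) (C x)) * q := (Algebra.smul_def x q).trans rfl
  rw [this]

/-- `Q' → Q ⊗ A'`. -/
noncomputable def Phi :
    (MvPolynomial (Fin n) A' ⧸ relIdeal (algebraMap A A' a) (fun j => algebraMap A A' (v j))) →+*
      (MvPolynomial (Fin n) A ⧸ relIdeal a v) ⊗[A] A' :=
  Ideal.Quotient.lift _
    (MvPolynomial.eval₂Hom
      (Algebra.TensorProduct.includeRight :
        A' →ₐ[A] (MvPolynomial (Fin n) A ⧸ relIdeal a v) ⊗[A] A').toRingHom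
      (fun j => (Ideal.Quotient.mk (relIdeal a v) (X j)) ⊗ₜ[A] (1 : A')))
    (by
      have : relIdeal (algebraMap A A' a) (fun j => algebraMap A A' (v j)) ≤ RingHom.ker
          (MvPolynomial.eval₂Hom
            (Algebra.TensorProduct.includeRight :
              A' →ₐ[A] (MvPolynomial (Fin n) A ⧸ relIdeal a v) ⊗[A] A').toRingHom
            (fun j => (Ideal.Quotient.mk (relIdeal a v) (X j)) ⊗ₜ[A] (1 : A'))) := by
        unfold relIdeal
        rw [Ideal.span_le]
        rintro _ ⟨j, rfl⟩
        rw [SetLike.mem_coe, RingHom.mem_ker]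
        unfold rel
        rw [map_sub, map_mul, MvPolynomial.eval₂Hom_C, MvPolynomial.eval₂Hom_C,
          MvPolynomial.eval₂Hom_X']
        change ((1 : MvPolynomial (Fin n) A ⧸ relIdeal a v) ⊗ₜ[A] (algebraMap A A' a)) *
          ((Ideal.Quotient.mk (relIdeal a v) (X j)) ⊗ₜ[A] (1 : A')) -
          ((1 : MvPolynomial (Fin n) A ⧸ relIdeal a v) ⊗ₜ[A] (algebraMap A A' (v j))) = 0
        rw [tmul_algebraMap_eq, tmul_algebraMap_eq, Algebra.TensorProduct.tmul_mul_tmul,
          mul_one, mul_one, mul_one, ← map_mul, sub_eq_zero]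
        congr 1
        rw [Ideal.Quotient.eq]
        exact rel_mem a v j
      exact fun x hx => this hx)

theorem Phi_mk (G : MvPolynomial (Fin n) A') :
    Phi a v (Ideal.Quotient.mk _ G) = MvPolynomial.eval₂Hom
      (Algebra.TensorProduct.includeRight :
        A' →ₐ[A] (MvPolynomial (Fin n) A ⧸ relIdeal a v) ⊗[A] A').toRingHom
      (fun j => (Ideal.Quotient.mk (relIdeal a v) (X j)) ⊗ₜ[A] (1 : A')) G :=
  rfl

theorem Phi_psi1 (q : MvPolynomial (Fin n) A ⧸ relIdeal a v) :
    Phi a v (psi1 a v q) = q ⊗ₜ[A] (1 : A') := by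
  obtain ⟨F, rfl⟩ := Ideal.Quotient.mk_surjective q
  rw [psi1_mk, Phi_mk]
  have key : (MvPolynomial.eval₂Hom
      (Algebra.TensorProduct.includeRight :
        A' →ₐ[A] (MvPolynomial (Fin n) A ⧸ relIdeal a v) ⊗[A] A').toRingHom
      (fun j => (Ideal.Quotient.mk (relIdeal a v) (X j)) ⊗ₜ[A] (1 : A'))).comp
      (MvPolynomial.aeval (fun j => (X j : MvPolynomial (Fin n) A'))).toRingHom =
      (Algebra.TensorProduct.includeLeft :
        (MvPolynomial (Fin n) A ⧸ relIdeal a v) →ₐ[A]
          (MvPolynomial (Fin n) A ⧸ relIdeal a v) ⊗[A] A').toRingHom.comp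
        (Ideal.Quotient.mk (relIdeal a v)) := by
    apply MvPolynomial.ringHom_ext
    · intro x
      change MvPolynomial.eval₂Hom _ _ (MvPolynomial.aeval
        (fun j => (X j : MvPolynomial (Fin n) A')) (C x)) =
        (Ideal.Quotient.mk (relIdeal a v) (C x)) ⊗ₜ[A] (1 : A')
      rw [MvPolynomial.aeval_C, MvPolynomial.algebraMap_apply, MvPolynomial.eval₂Hom_C]
      change (1 : MvPolynomial (Fin n) A ⧸ relIdeal a v) ⊗ₜ[A] (algebraMap A A' x) = _
      rw [tmul_algebraMap_eq, mul_one]
    · intro j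
      change MvPolynomial.eval₂Hom _ _ (MvPolynomial.aeval
        (fun j => (X j : MvPolynomial (Fin n) A')) (X j)) =
        (Ideal.Quotient.mk (relIdeal a v) (X j)) ⊗ₜ[A] (1 : A')
      rw [MvPolynomial.aeval_X, MvPolynomial.eval₂Hom_X']
  exact congrArg (fun f => f F) key

theorem Phi_algebraMap (c : A') :
    Phi a v (algebraMap A' _ c) =
      (1 : MvPolynomial (Fin n) A ⧸ relIdeal a v) ⊗ₜ[A] c := by
  change Phi a v (Ideal.Quotient.mk _ (C c)) = _
  rw [Phi_mk, MvPolynomial.eval₂Hom_C]
  rfl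

theorem Phi_Psi (z : (MvPolynomial (Fin n) A ⧸ relIdeal a v) ⊗[A] A') :
    Phi a v (Psi a v z) = z := by
  induction z using TensorProduct.induction_on with
  | zero => simp
  | tmul q c =>
    rw [Psi_tmul, map_mul, Phi_psi1, Phi_algebraMap, Algebra.TensorProduct.tmul_mul_tmul,
      mul_one, one_mul]
  | add x y hx hy => rw [map_add, map_add, hx, hy]

/-- `a ⊗ 1` is a nonzerodivisor of `Q ⊗ A'` when the image sequence is Koszul-regular. -/
theorem mk_C_tmul_one_mem_nonZeroDivisors
    (h' : LCI.IsKoszulRegularSeq A'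
      (algebraMap A A' a :: List.ofFn (fun j => algebraMap A A' (v j)))) :
    ((Ideal.Quotient.mk (relIdeal a v) (C a)) ⊗ₜ[A] (1 : A')) ∈
      nonZeroDivisors ((MvPolynomial (Fin n) A ⧸ relIdeal a v) ⊗[A] A') := by
  have hinj : Function.Injective (Psi (A' := A') a v).toRingHom :=
    Function.LeftInverse.injective (g := Phi a v) (Phi_Psi a v)
  apply mem_nonZeroDivisors_of_injective (f := (Psi (A' := A') a v).toRingHom) hinj
  change Psi (A' := A') a v _ ∈ _
  rw [Psi_tmul, map_one, mul_one, psi1_mk, MvPolynomial.aeval_C, MvPolynomial.algebraMap_apply,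
    mem_nonZeroDivisors_iff_right]
  intro x hx
  obtain ⟨F, rfl⟩ := Ideal.Quotient.mk_surjective x
  rw [← map_mul, Ideal.Quotient.eq_zero_iff_mem] at hx
  rw [Ideal.Quotient.eq_zero_iff_mem]
  apply C_mul_mem_relIdeal _ _ h'
  rw [mul_comm]
  exact hx

end Tensor

section Main

variable {A B A' : Type u} [CommRing A] [CommRing B] [CommRing A'] [Algebra A B] [Algebra A A']
  (a : A) {n : ℕ} (v : Fin n → A) (I : Ideal A) (hI : I = Ideal.ofList (a :: List.ofFn v))
  (hc : IsChart (R := A) I a (algebraMap A B))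

include hI hc in
/-- The chart of the blow-up of a Koszul-regular sequence commutes with base changes keeping the
sequence Koszul-regular: `a ⊗ 1` stays a nonzerodivisor. -/
theorem tmul_one_mem_nonZeroDivisors (h : LCI.IsKoszulRegularSeq A (a :: List.ofFn v))
    (h' : LCI.IsKoszulRegularSeq A'
      (algebraMap A A' a :: List.ofFn (fun j => algebraMap A A' (v j)))) :
    ((algebraMap A B a) ⊗ₜ[A] (1 : A')) ∈ nonZeroDivisors (B ⊗[A] A') := by
  subst hI
  let f : (MvPolynomial (Fin n) A ⧸ relIdeal a v) →ₐ[A] B :=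
    Ideal.Quotient.liftₐ (relIdeal a v) (toChart a v hc) (toChart_eq_zero_of_mem a v hc)
  have hf : Function.Bijective f := by
    constructor
    · rw [injective_iff_map_eq_zero]
      intro q hq
      obtain ⟨F, rfl⟩ := Ideal.Quotient.mk_surjective q
      rw [Ideal.Quotient.eq_zero_iff_mem]
      exact mem_relIdeal_of_toChart_eq_zero a v hc h F hq
    · intro β
      obtain ⟨F, rfl⟩ := toChart_surjective a v hc β
      exact ⟨Ideal.Quotient.mk _ F, rfl⟩
  let e : (MvPolynomial (Fin n) A ⧸ relIdeal a v) ≃ₐ[A] B := AlgEquiv.ofBijective f hf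
  let T : B ⊗[A] A' ≃ₐ[A] (MvPolynomial (Fin n) A ⧸ relIdeal a v) ⊗[A] A' :=
    Algebra.TensorProduct.congr e.symm AlgEquiv.refl
  apply mem_nonZeroDivisors_of_injective (f := T.toRingEquiv.toRingHom) T.injective
  change T _ ∈ _
  have e1 : T ((algebraMap A B a) ⊗ₜ[A] (1 : A')) =
      (Ideal.Quotient.mk (relIdeal a v) (C a)) ⊗ₜ[A] (1 : A') := by
    change (e.symm (algebraMap A B a)) ⊗ₜ[A] (1 : A') = _
    rw [AlgEquiv.commutes]
    rfl
  rw [e1]
  exact mk_C_tmul_one_mem_nonZeroDivisors a v h'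

end Main

end Groth.Agent.Lib.Helper41.KoszulBlowAlg
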