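import Mathlib
import Groth.Agent.Lib.Helper41.FlatBlowGeom
import Groth.Agent.Lib.Helper41.KoszulBlowAlg
import Groth.Agent.Lib.Helper43.KRPoly
import Groth.Prelude.Def_RegImm

/-!
# Blow-ups in Koszul-regular ideals commute with Tor-independent base change
-/

set_option autoImplicit false
universe u
open CategoryTheory CategoryTheory.Limits AlgebraicGeometry HomogeneousLocalization TensorProduct

namespace Groth.Agent.Lib.Helper41.KoszulBlowGeom

open Groth.Agent.Lib.Helper82 Groth.Agent.Lib.Helper41.ReesChart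
  Groth.Agent.Lib.Helper41.BlowUpAffine Groth.Agent.Lib.Helper41.BlowUpSpec
  Groth.Agent.Lib.Helper41.FlatBlowAlg Groth.Agent.Lib.Helper41.FlatBlowGeom

section Gen

variable {A : Type u} [CommRing A] (I : Ideal A)

theorem tm_mem_span_gen (G : Set A) (hG : I = Ideal.span G) (x : A) (hx : x ∈ I) :
    tm I x hx ∈ Ideal.span (Set.range fun g : {g : A // g ∈ G} =>
      tm I g.1 (hG ▸ Ideal.subset_span g.2)) := by
  have key : ∀ (y : A) (_ : y ∈ Ideal.span G) (hy' : y ∈ I),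
      tm I y hy' ∈ Ideal.span (Set.range fun g : {g : A // g ∈ G} =>
        tm I g.1 (hG ▸ Ideal.subset_span g.2)) := by
    intro y hy
    induction hy using Submodule.span_induction with
    | mem g hg =>
      intro hy'
      exact Ideal.subset_span ⟨⟨g, hg⟩, rfl⟩
    | zero =>
      intro hy'
      have : tm I 0 hy' = 0 := Subtype.ext (by
        change Polynomial.monomial 1 (0 : A) = 0
        rw [map_zero])
      rw [this]
      exact zero_mem _
    | add y z hy hz ihy ihz =>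
      intro hy'
      have hyI : y ∈ I := hG ▸ hy
      have hzI : z ∈ I := hG ▸ hz
      have : tm I (y + z) hy' = tm I y hyI + tm I z hzI := Subtype.ext (by
        change Polynomial.monomial 1 (y + z) = Polynomial.monomial 1 y + Polynomial.monomial 1 z
        rw [map_add])
      rw [this]
      exact add_mem (ihy hyI) (ihz hzI)
    | smul c y hy ihy =>
      intro hy'
      have hyI : y ∈ I := hG ▸ hy
      have : tm I (c • y) hy' = algebraMap A (reesAlgebra I) c * tm I y hyI := Subtype.ext (by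
        change Polynomial.monomial 1 (c • y) = Polynomial.C c * Polynomial.monomial 1 y
        rw [Polynomial.C_mul_monomial, smul_eq_mul])
      rw [this]
      exact Ideal.mul_mem_left _ _ (ihy hyI)
  exact key x (hG ▸ hx) hx

theorem exists_mem_range_chart_gen (G : Set A) (hG : I = Ideal.span G) (p : Bl I) :
    ∃ (a : A) (_ : a ∈ G) (ha : a ∈ I), p ∈ (chart I a ha).opensRange := by
  have hle : (HomogeneousIdeal.irrelevant (Rees.deg (reesAlgebra I))).toIdeal ≤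
      Ideal.span (Set.range fun g : {g : A // g ∈ G} =>
        tm I g.1 (hG ▸ Ideal.subset_span g.2)) := by
    refine le_trans (irrelevant_le_span I) ?_
    rw [Ideal.span_le]
    rintro _ ⟨a, rfl⟩
    exact tm_mem_span_gen I G hG a.1 a.2
  have h := Proj.iSup_basicOpen_eq_top (Rees.deg (reesAlgebra I))
    (fun g : {g : A // g ∈ G} => tm I g.1 (hG ▸ Ideal.subset_span g.2)) hle
  have hp : p ∈ (⊤ : (Bl I).Opens) := trivial
  rw [← h] at hp
  obtain ⟨g, hg⟩ := TopologicalSpace.Opens.mem_iSup.mp hp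
  refine ⟨g.1, g.2, hG ▸ Ideal.subset_span g.2, ?_⟩
  rw [Proj.opensRange_awayι]
  exact hg

end Gen

/-- Atlas of an abstract blow-up over an affine open of the base, with charts indexed by a
generating set of the ideal. -/
theorem exists_chart_gen {X X' : Scheme.{u}} (𝓘 : X.IdealSheafData) (b : X' ⟶ X)
    (hb : BlowUp.IsBlowUp b 𝓘) (V : X.affineOpens) (x' : X') (hx' : b x' ∈ V.1)
    (G : Set Γ(X, V.1)) (hG : 𝓘.ideal V = Ideal.span G) :
    ∃ (a : Γ(X, V.1)) (_ : a ∈ G) (ha : a ∈ 𝓘.ideal V)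
      (c : Spec (CommRingCat.of (Away (Rees.deg (reesAlgebra (𝓘.ideal V)))
        (tm (𝓘.ideal V) a ha))) ⟶ X'),
      IsOpenImmersion c ∧ x' ∈ Set.range c ∧
      c ≫ b = Spec.map (CommRingCat.ofHom (ιB (𝓘.ideal V) a ha)) ≫ V.2.fromSpec := by
  have hP := isBlowUp_fst_of_flat V.2.fromSpec 𝓘 b hb
  rw [comap_fromSpec] at hP
  have hπ := BlowUpSpec.isBlowUp_π (𝓘.ideal V)
  obtain ⟨c₀, hc₀, -⟩ := hP.2 _ (BlowUpSpec.π (𝓘.ideal V)) hπ.1
  haveI : IsIso c₀ := Groth.Agent.Lib.Helper41.BlowUpExist.isIso_of_isBlowUp _ _ _ hπ hP c₀ hc₀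
  obtain ⟨y, hy⟩ : b x' ∈ Set.range V.2.fromSpec := by
    rw [V.2.range_fromSpec]; exact hx'
  obtain ⟨z, hz1, hz2⟩ := Scheme.Pullback.exists_preimage_pullback (f := V.2.fromSpec) (g := b)
    y x' hy
  obtain ⟨a, haG, ha, q, hq⟩ := exists_mem_range_chart_gen (𝓘.ideal V) G hG ((inv c₀) z)
  refine ⟨a, haG, ha, BlowUpSpec.chart (𝓘.ideal V) a ha ≫ c₀ ≫ pullback.snd V.2.fromSpec b,
    inferInstance, ⟨q, ?_⟩, ?_⟩
  · rw [Scheme.Hom.comp_apply, Scheme.Hom.comp_apply, hq, ← Scheme.Hom.comp_apply (inv c₀) c₀,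
      IsIso.inv_hom_id]
    exact hz2
  · rw [Category.assoc, Category.assoc, ← pullback.condition, ← Category.assoc c₀, hc₀,
      ← Category.assoc, BlowUpSpec.chart_π]

/-- Formal part of base change of blow-ups. -/
theorem isBlowUp_of_isPullback {X X' Y Y' : Scheme.{u}} (𝓘 : X.IdealSheafData) (b : X' ⟶ X)
    (hb : BlowUp.IsBlowUp b 𝓘) (pX : Y ⟶ X) (pX' : Y' ⟶ X') (bT : Y' ⟶ Y)
    (hX' : IsPullback pX' bT b pX) (hE : BlowUp.IsEffCartierIdeal (𝓘.comap (pX' ≫ b))) :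
    BlowUp.IsBlowUp bT (𝓘.comap pX) := by
  refine ⟨?_, ?_⟩
  · rw [← Scheme.IdealSheafData.comap_comp, ← hX'.w]
    exact hE
  · intro Z k hk
    rw [← Scheme.IdealSheafData.comap_comp] at hk
    obtain ⟨t, ht, htu⟩ := hb.2 Z (k ≫ pX) hk
    refine ⟨hX'.lift t k ht, hX'.lift_snd _ _ _, ?_⟩
    intro k' hk'
    apply hX'.hom_ext
    · rw [hX'.lift_fst]
      apply htu
      rw [Category.assoc, hX'.w, ← Category.assoc, hk']
    · rw [hX'.lift_snd]
      exact hk'

theorem ideal_eq_top_of_not_mem_support {X : Scheme.{u}} (𝓘 : X.IdealSheafData)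
    (U : X.affineOpens) (h : ∀ x ∈ U.1, x ∉ 𝓘.support) : 𝓘.ideal U = ⊤ := by
  have h1 : X.zeroLocus (U := U.1) (𝓘.ideal U : Set Γ(X, U.1)) ∩ U.1 = ∅ := by
    rw [← 𝓘.coe_support_inter U]
    ext x
    simp only [Set.mem_inter_iff, Set.mem_empty_iff_false, iff_false, not_and]
    intro hx hxU
    exact h x hxU hx
  rw [← U.2.fromSpec_image_zeroLocus, Set.image_eq_empty] at h1
  exact PrimeSpectrum.zeroLocus_empty_iff_eq_top.mp h1

section Main

variable {X X' B : Scheme.{u}} (𝓘 : X.IdealSheafData)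
  (h𝓘 : RegImm.IsRegularIdeal .koszul 𝓘) (g : X' ⟶ X)
  (hg : ∀ (U : X.affineOpens) (rs : List Γ(X, U.1)), LCI.IsKoszulRegularSeq Γ(X, U.1) rs →
    𝓘.ideal U = Ideal.ofList rs → ∀ (V : X'.affineOpens) (e : V.1 ≤ g ⁻¹ᵁ U.1),
      LCI.IsKoszulRegularSeq Γ(X', V.1) (rs.map fun r => (g.appLE U.1 V.1 e).hom r))

include h𝓘 in
theorem exists_koszul_nhd (x : X) : ∃ (U : X.affineOpens) (rs : List Γ(X, U.1)), x ∈ U.1 ∧
    LCI.IsKoszulRegularSeq Γ(X, U.1) rs ∧ 𝓘.ideal U = Ideal.ofList rs := by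
  by_cases hx : x ∈ 𝓘.support
  · obtain ⟨U, hxU, rs, hrs, hI⟩ := h𝓘 x hx
    exact ⟨U, rs, hxU, hrs, hI⟩
  · have hopen : IsOpen ((𝓘.support : Set X)ᶜ) := 𝓘.support.isClosed.isOpen_compl
    obtain ⟨U, hU, hxU, hUs⟩ := exists_isAffineOpen_mem_and_subset
      (U := (⟨(𝓘.support : Set X)ᶜ, hopen⟩ : X.Opens)) (x := x) hx
    refine ⟨⟨U, hU⟩, [1], hxU, ?_, ?_⟩
    · exact Groth.Agent.Lib.Helper43.KRPoly.koszulRegular_singleton 1 (IsSMulRegular.one _)
    · rw [ideal_eq_top_of_not_mem_support 𝓘 ⟨U, hU⟩ (fun y hy => hUs hy)]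
      simp [Ideal.ofList]

include h𝓘 hg in
/-- The exceptional ideal stays effective Cartier after a Tor-independent base change. -/
theorem isEffCartierIdeal_comap_pullback (b : B ⟶ X) (hb : BlowUp.IsBlowUp b 𝓘) :
    BlowUp.IsEffCartierIdeal (𝓘.comap (pullback.fst b g ≫ b)) := by
  classical
  intro z
  set x' := pullback.fst b g z with hx'
  set t₀ := pullback.snd b g z with ht₀
  have hst : b x' = g t₀ := by
    have := congr($(pullback.condition (f := b) (g := g)) z)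
    simpa using this
  obtain ⟨⟨U, hU⟩, rs, hxU, hrs, hI⟩ := exists_koszul_nhd 𝓘 h𝓘 (b x')
  replace hxU : b x' ∈ U := hxU
  obtain ⟨V', hV', htV', hV'U⟩ :=
    exists_isAffineOpen_mem_and_subset (U := g ⁻¹ᵁ U) (x := t₀) (by
      change g t₀ ∈ U
      rw [← hst]; exact hxU)
  replace hV'U : V' ≤ g ⁻¹ᵁ U := hV'U
  obtain ⟨a, haG, ha, c, hc, hxc, hcb⟩ := exists_chart_gen 𝓘 b hb ⟨U, hU⟩ x' hxU
    {r | r ∈ rs} hI
  haveI := hc
  replace haG : a ∈ rs := haG
  letI : Algebra Γ(X, U) Γ(X', V') := (g.appLE U V' hV'U).hom.toAlgebra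
  letI : Algebra Γ(X, U) (Away (Rees.deg (reesAlgebra (𝓘.ideal ⟨U, hU⟩)))
      (tm (𝓘.ideal ⟨U, hU⟩) a ha)) :=
    ((ιB (𝓘.ideal ⟨U, hU⟩) a ha).comp (algebraMap Γ(X, U) Γ(X, U))).toAlgebra
  have hch : IsChart (R := Γ(X, U)) (𝓘.ideal ⟨U, hU⟩) a
      (algebraMap Γ(X, U) (Away (Rees.deg (reesAlgebra (𝓘.ideal ⟨U, hU⟩)))
        (tm (𝓘.ideal ⟨U, hU⟩) a ha))) :=
    isChart_Bc (R := Γ(X, U)) (𝓘.ideal ⟨U, hU⟩) a ha
  -- reorder the sequence
  have hperm : rs.Perm (a :: rs.erase a) := List.perm_cons_erase haG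
  have hl : List.ofFn (rs.erase a).get = rs.erase a := List.ofFn_get _
  have hI' : 𝓘.ideal ⟨U, hU⟩ = Ideal.ofList (a :: List.ofFn (rs.erase a).get) := by
    rw [hl, hI]
    unfold Ideal.ofList
    congr 1
    ext y
    exact hperm.mem_iff
  have hKR : LCI.IsKoszulRegularSeq Γ(X, U) (a :: List.ofFn (rs.erase a).get) := by
    rw [hl]
    refine Groth.Agent.Lib.Helper43.KoszulGen.koszulRegular_of_same_length rs _
      hperm.length_eq ?_ hrs
    unfold Ideal.ofList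
    congr 1
    ext y
    exact hperm.mem_iff
  have hKR' : LCI.IsKoszulRegularSeq Γ(X', V')
      (algebraMap Γ(X, U) Γ(X', V') a ::
        List.ofFn (fun j => algebraMap Γ(X, U) Γ(X', V') ((rs.erase a).get j))) := by
    have h0 := hg ⟨U, hU⟩ rs hrs hI ⟨V', hV'⟩ hV'U
    have hperm' := hperm.map (fun r => (g.appLE U V' hV'U).hom r)
    have e : (algebraMap Γ(X, U) Γ(X', V') a ::
        List.ofFn (fun j => algebraMap Γ(X, U) Γ(X', V') ((rs.erase a).get j))) =
        (a :: rs.erase a).map (fun r => (g.appLE U V' hV'U).hom r) := by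
      rw [List.map_cons]
      congr 1
      conv_rhs => rw [← hl]
      rw [List.map_ofFn]
      rfl
    rw [e]
    refine Groth.Agent.Lib.Helper43.KoszulGen.koszulRegular_of_same_length _ _
      hperm'.length_eq ?_ h0
    unfold Ideal.ofList
    congr 1
    ext y
    exact hperm'.mem_iff
  have hnzd := Groth.Agent.Lib.Helper41.KoszulBlowAlg.tmul_one_mem_nonZeroDivisors
    (A' := Γ(X', V')) a (rs.erase a).get (𝓘.ideal ⟨U, hU⟩) hI' hch hKR hKR'
  have e₁ : Spec.map (CommRingCat.ofHom (algebraMap Γ(X, U)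
        (Away (Rees.deg (reesAlgebra (𝓘.ideal ⟨U, hU⟩))) (tm (𝓘.ideal ⟨U, hU⟩) a ha)))) ≫
      hU.fromSpec = c ≫ b := by
    rw [hcb]
  have e₂ : Spec.map (CommRingCat.ofHom (algebraMap Γ(X, U) Γ(X', V'))) ≫ hU.fromSpec =
      hV'.fromSpec ≫ g :=
    IsAffineOpen.SpecMap_appLE_fromSpec g hU hV' hV'U
  let J := pullback.map _ _ b g c hV'.fromSpec hU.fromSpec e₁ e₂
  have hzJ : z ∈ Set.range J := by
    rw [Scheme.Pullback.range_map]
    refine ⟨hxc, ?_⟩
    change t₀ ∈ Set.range hV'.fromSpec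
    rw [hV'.range_fromSpec]
    exact htV'
  obtain ⟨w, hw⟩ := hzJ
  let iso := pullbackSpecIso Γ(X, U)
    (Away (Rees.deg (reesAlgebra (𝓘.ideal ⟨U, hU⟩))) (tm (𝓘.ideal ⟨U, hU⟩) a ha)) Γ(X', V')
  let j := iso.inv ≫ J
  have hjw : j (iso.hom w) = z := by
    rw [← hw]
    change (iso.hom ≫ iso.inv ≫ J) w = J w
    rw [Iso.hom_inv_id_assoc]
  have hj : j ≫ pullback.fst b g ≫ b =
      Spec.map (CommRingCat.ofHom ((Algebra.TensorProduct.includeLeftRingHom
        (R := Γ(X, U)) (B := Γ(X', V'))).comp (ιB (𝓘.ideal ⟨U, hU⟩) a ha))) ≫ hU.fromSpec := by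
    have h1 : J ≫ pullback.fst b g = pullback.fst _ _ ≫ c := pullback.lift_fst _ _ _
    rw [Category.assoc, ← Category.assoc J, h1, Category.assoc, hcb, ← Category.assoc,
      pullbackSpecIso_inv_fst, ← Category.assoc, ← Spec.map_comp]
    rfl
  have hK : (𝓘.comap (pullback.fst b g ≫ b)).comap j =
      (sheaf (𝓘.ideal ⟨U, hU⟩)).comap (Spec.map (CommRingCat.ofHom
        ((Algebra.TensorProduct.includeLeftRingHom
        (R := Γ(X, U)) (B := Γ(X', V'))).comp (ιB (𝓘.ideal ⟨U, hU⟩) a ha)))) := by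
    rw [← Scheme.IdealSheafData.comap_comp, hj, Scheme.IdealSheafData.comap_comp]
    exact congrArg (fun K => Scheme.IdealSheafData.comap K _) (comap_fromSpec 𝓘 ⟨U, hU⟩)
  have hprinc : IsPrincipalNZD (((𝓘.comap (pullback.fst b g ≫ b)).comap j).ideal
      ⟨⊤, isAffineOpen_top _⟩) := by
    rw [hK]
    refine isPrincipalNZD_comap_sheaf _ _ _ hnzd ?_
    rw [← Ideal.map_map, map_ιB_eq_span, Ideal.map_span, Set.image_singleton]
    rfl
  have := effCartierAt_of_comap_openImmersion (𝓘.comap (pullback.fst b g ≫ b)) j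
    ⟨⊤, isAffineOpen_top _⟩ (iso.hom w) trivial hprinc
  rwa [hjw] at this

include h𝓘 hg in
/-- Blow-ups in Koszul-regular ideals commute with Tor-independent base change. -/
theorem isBlowUp_snd (b : B ⟶ X) (hb : BlowUp.IsBlowUp b 𝓘) :
    BlowUp.IsBlowUp (pullback.snd b g) (𝓘.comap g) :=
  isBlowUp_of_isPullback 𝓘 b hb g (pullback.fst b g) (pullback.snd b g)
    (IsPullback.of_hasPullback b g) (isEffCartierIdeal_comap_pullback 𝓘 h𝓘 g hg b hb)

end Main

end Groth.Agent.Lib.Helper41.KoszulBlowGeom
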