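import Groth.Agent.Lib.Helper41.LocImm
import Groth.Prelude.Def_EssFT
import Mathlib.RingTheory.EssentialFiniteness
import Mathlib.RingTheory.Localization.Away.Basic

set_option autoImplicit false
set_option linter.style.haveILetI false

universe u

open CategoryTheory CategoryTheory.Limits AlgebraicGeometry LocImm

namespace Groth.Agent.Lib.Helper41

/-! ### Ring level: spreading out a local isomorphism for essentially finite type maps -/

section Frac

variable (D : Type*) {C : Type*} (E : Type*) [CommRing D] [CommRing C] [CommRing E] [Algebra D E]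

/-- The elements of `E` which are fractions of images of elements of `D` with invertible
denominators. -/
def fracSubalgebra : Subalgebra D E where
  carrier := {e | ∃ α β : D, IsUnit (algebraMap D E β) ∧ e * algebraMap D E β = algebraMap D E α}
  mul_mem' := by
    rintro a b ⟨α₁, β₁, h₁, e₁⟩ ⟨α₂, β₂, h₂, e₂⟩
    refine ⟨α₁ * α₂, β₁ * β₂, by rw [map_mul]; exact h₁.mul h₂, ?_⟩
    rw [map_mul, map_mul, ← e₁, ← e₂]
    ring
  add_mem' := by
    rintro a b ⟨α₁, β₁, h₁, e₁⟩ ⟨α₂, β₂, h₂, e₂⟩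
    refine ⟨α₁ * β₂ + α₂ * β₁, β₁ * β₂, by rw [map_mul]; exact h₁.mul h₂, ?_⟩
    rw [map_mul, map_add, map_mul, map_mul, ← e₁, ← e₂]
    ring
  algebraMap_mem' r := ⟨r, 1, by rw [map_one]; exact isUnit_one, by rw [map_one, mul_one]⟩

variable {D E}

theorem mem_fracSubalgebra_iff {e : E} : e ∈ fracSubalgebra D E ↔
    ∃ α β : D, IsUnit (algebraMap D E β) ∧ e * algebraMap D E β = algebraMap D E α := Iff.rfl

theorem mem_fracSubalgebra_of_mul_eq_one {e e' : E} (he : e ∈ fracSubalgebra D E)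
    (h1 : e' * e = 1) : e' ∈ fracSubalgebra D E := by
  obtain ⟨α, β, hβ, h⟩ := he
  have hu : IsUnit e := IsUnit.of_mul_eq_one e' (by rw [mul_comm]; exact h1)
  have hα : IsUnit (algebraMap D E α) := by rw [← h]; exact hu.mul hβ
  refine ⟨β, α, hα, ?_⟩
  rw [← h, ← mul_assoc, h1, one_mul]

end Frac

section Spread

variable {D C E : Type*} [CommRing D] [CommRing C] [CommRing E] [Algebra D C] [Algebra C E]
  [Algebra D E] [IsScalarTower D C E]

theorem algebraMap_mem_fracSubalgebra (σ : Finset C)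
    (hσ : ∀ s : C, ∃ t ∈ Algebra.adjoin D (σ : Set C),
      IsUnit t ∧ s * t ∈ Algebra.adjoin D (σ : Set C))
    (hz : ∀ z ∈ σ, algebraMap C E z ∈ fracSubalgebra D E) (c : C) :
    algebraMap C E c ∈ fracSubalgebra D E := by
  have hle : (Algebra.adjoin D (σ : Set C)).map (IsScalarTower.toAlgHom D C E) ≤
      fracSubalgebra D E := by
    rw [AlgHom.map_adjoin, Algebra.adjoin_le_iff]
    rintro _ ⟨z, hz', rfl⟩
    exact hz z hz'
  obtain ⟨t, ht, htu, hct⟩ := hσ c
  have h1 : algebraMap C E t ∈ fracSubalgebra D E := hle ⟨t, ht, rfl⟩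
  have h2 : algebraMap C E (c * t) ∈ fracSubalgebra D E := hle ⟨_, hct, rfl⟩
  obtain ⟨t', ht'⟩ := htu.exists_left_inv
  have h3 : algebraMap C E t' ∈ fracSubalgebra D E :=
    mem_fracSubalgebra_of_mul_eq_one h1 (by rw [← map_mul, ht', map_one])
  have : algebraMap C E c = algebraMap C E (c * t) * algebraMap C E t' := by
    rw [← map_mul, mul_assoc, mul_comm t t', ht', mul_one]
  rw [this]
  exact mul_mem h2 h3

theorem fracSubalgebra_eq_top_of_away (c₀ : C) [IsLocalization.Away c₀ E] (σ : Finset C)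
    (hσ : ∀ s : C, ∃ t ∈ Algebra.adjoin D (σ : Set C),
      IsUnit t ∧ s * t ∈ Algebra.adjoin D (σ : Set C))
    (hz : ∀ z ∈ σ, algebraMap C E z ∈ fracSubalgebra D E) :
    fracSubalgebra D E = ⊤ := by
  rw [eq_top_iff]
  rintro x -
  obtain ⟨n, c', h⟩ := IsLocalization.Away.surj c₀ x
  have hu : IsUnit (algebraMap C E c₀ ^ n) := IsLocalization.Away.algebraMap_pow_isUnit c₀ n
  obtain ⟨v, hv⟩ := hu.exists_left_inv
  have h1 : algebraMap C E c₀ ^ n ∈ fracSubalgebra D E :=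
    pow_mem (algebraMap_mem_fracSubalgebra σ hσ hz c₀) n
  have h2 : v ∈ fracSubalgebra D E := mem_fracSubalgebra_of_mul_eq_one h1 hv
  have : x = algebraMap C E c' * v := by
    rw [← h, mul_assoc, mul_comm _ v, hv, mul_one]
  rw [this]
  exact mul_mem (algebraMap_mem_fracSubalgebra σ hσ hz c') h2

end Spread

section Main

universe w

theorem exists_isLocHom_away_of_essFiniteType {D C : Type*} [CommRing D] [CommRing C]
    [IsNoetherianRing D] (φ : D →+* C) (hφ : φ.EssFiniteType) (p : Ideal C) [hp : p.IsPrime]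
    (hinj : ∀ d : D, (∃ u ∉ p, u * φ d = 0) → ∃ s : D, φ s ∉ p ∧ s * d = 0)
    (hsurj : ∀ c : C, ∃ d s : D, φ s ∉ p ∧ ∃ u ∉ p, u * (φ s * c - φ d) = 0) :
    ∃ c ∉ p, ∀ (E : Type w) [CommRing E] [Algebra C E] [IsLocalization.Away c E],
      IsLocHom ((algebraMap C E).comp φ) := by
  classical
  letI := φ.toAlgebra
  obtain ⟨σ, hσ⟩ := (Algebra.essFiniteType_iff (R := D) (S := C)).1 hφ
  choose dz sz hsz uz huz hz using fun z : C => hsurj z
  set c₁ : C := ∏ z ∈ σ, (uz z * φ (sz z)) with hc₁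
  have hc₁p : c₁ ∉ p := by
    rw [hc₁]
    intro h
    obtain ⟨z, -, hz'⟩ := (hp.prod_mem_iff).1 h
    rcases hp.mem_or_mem hz' with h | h
    exacts [huz z h, hsz z h]
  set K : Ideal D := RingHom.ker ((algebraMap C (Localization.Away c₁)).comp φ) with hK
  obtain ⟨G, hG⟩ := (isNoetherianRing_iff_ideal_fg D).1 ‹_› K
  have hk : ∀ k ∈ G, ∃ s : D, φ s ∉ p ∧ s * k = 0 := by
    intro k hkG
    have hkK : k ∈ K := hG ▸ Ideal.subset_span hkG
    rw [hK, RingHom.mem_ker, RingHom.comp_apply,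
      IsLocalization.map_eq_zero_iff (Submonoid.powers c₁)] at hkK
    obtain ⟨⟨_, n, rfl⟩, hn⟩ := hkK
    exact hinj k ⟨c₁ ^ n, fun h => hc₁p (hp.mem_of_pow_mem n h), hn⟩
  choose! sk hskp hsk0 using hk
  set s' : D := ∏ k ∈ G, sk k with hs'
  have hs'p : φ s' ∉ p := by
    rw [hs', map_prod]
    intro h
    obtain ⟨k, hkG, hk'⟩ := (hp.prod_mem_iff).1 h
    exact hskp k hkG hk'
  have hs'K : ∀ d ∈ K, s' * d = 0 := by
    intro d hd
    rw [← hG] at hd
    refine Submodule.span_induction (p := fun d _ => s' * d = 0) ?_ ?_ ?_ ?_ hd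
    · intro k hkG
      rw [hs', ← Finset.prod_erase_mul G sk hkG, mul_assoc, hsk0 k hkG, mul_zero]
    · exact mul_zero _
    · intro x y _ _ hx hy
      rw [mul_add, hx, hy, add_zero]
    · intro a x _ hx
      rw [smul_eq_mul, mul_left_comm, hx, mul_zero]
  refine ⟨c₁ * φ s', fun h => (hp.mem_or_mem h).elim hc₁p hs'p, ?_⟩
  intro E _ _ _
  letI : Algebra D E := ((algebraMap C E).comp φ).toAlgebra
  haveI : IsScalarTower D C E := .of_algebraMap_eq fun _ => rfl
  have hdvd : ∀ z ∈ σ, uz z * φ (sz z) ∣ c₁ * φ s' := fun z hzσ =>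
    (Finset.dvd_prod_of_mem _ hzσ).mul_right _
  have hF : fracSubalgebra D E = ⊤ := by
    refine fracSubalgebra_eq_top_of_away (c₁ * φ s') σ hσ (fun z hzσ => ?_)
    have hu1 : IsUnit (algebraMap C E (uz z)) :=
      IsLocalization.Away.isUnit_of_dvd (c₁ * φ s') ((Dvd.intro _ rfl).trans (hdvd z hzσ))
    have hu2 : IsUnit (algebraMap C E (φ (sz z))) :=
      IsLocalization.Away.isUnit_of_dvd (c₁ * φ s') ((Dvd.intro_left _ rfl).trans (hdvd z hzσ))
    refine ⟨dz z, sz z, hu2, ?_⟩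
    have h0 := congrArg (algebraMap C E) (hz z)
    rw [map_mul, map_zero, map_sub, map_mul] at h0
    have h1 := hu1.mul_right_eq_zero.1 h0
    rw [sub_eq_zero] at h1
    rw [mul_comm]
    exact h1
  rw [isLocHom_iff]
  refine ⟨(IsUnit.submonoid E).comap ((algebraMap C E).comp φ), fun s hs => hs, fun e => ?_,
    fun a₁ a₂ h => ?_⟩
  · have he : e ∈ fracSubalgebra D E := hF ▸ Algebra.mem_top
    obtain ⟨α, β, hβ, h⟩ := he
    exact ⟨α, β, hβ, h⟩
  · have h0 : algebraMap C E (φ (a₁ - a₂)) = 0 := by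
      rw [map_sub, map_sub, sub_eq_zero]
      exact h
    rw [IsLocalization.map_eq_zero_iff (Submonoid.powers (c₁ * φ s'))] at h0
    obtain ⟨⟨_, n, rfl⟩, hn⟩ := h0
    have hKn : s' ^ n * (a₁ - a₂) ∈ K := by
      rw [hK, RingHom.mem_ker, RingHom.comp_apply,
        IsLocalization.map_eq_zero_iff (Submonoid.powers c₁)]
      refine ⟨⟨c₁ ^ n, n, rfl⟩, ?_⟩
      change (c₁ * φ s') ^ n * φ (a₁ - a₂) = 0 at hn
      change c₁ ^ n * φ (s' ^ n * (a₁ - a₂)) = 0
      rw [map_mul, map_pow, ← mul_assoc, ← mul_pow]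
      exact hn
    have h2 := hs'K _ hKn
    refine ⟨s' ^ (n + 1), ?_, ?_⟩
    · change IsUnit (algebraMap C E (φ (s' ^ (n + 1))))
      rw [map_pow, map_pow]
      exact (IsLocalization.Away.isUnit_of_dvd (c₁ * φ s') (Dvd.intro_left _ rfl)).pow _
    · rw [← sub_eq_zero, ← mul_sub, pow_succ', mul_assoc]
      exact h2

end Main

/-! ### Scheme level -/

section Scheme

variable {Y₁ Y₂ : Scheme.{u}}

/-- A locally essentially finite type morphism to a locally Noetherian scheme admits a localizing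
chart at every point where its stalk map is bijective. -/
theorem exists_chart_of_stalkMap_bijective (g : Y₁ ⟶ Y₂) [IsLocallyNoetherian Y₂]
    [EssFT.LocallyEssFiniteType g] (y : Y₁) (hy : Function.Bijective (g.stalkMap y).hom) :
    ∃ (W : Y₂.affineOpens) (V : Y₁.affineOpens) (_ : y ∈ V.1) (e : V.1 ≤ g ⁻¹ᵁ W.1),
      IsLocHom (g.appLE W V e).hom := by
  obtain ⟨W, V₀, hyV, e₀, hess⟩ := EssFT.LocallyEssFiniteType.exists_appLE_essFiniteType (f := g) y
  haveI : IsNoetherianRing Γ(Y₂, W.1) := IsLocallyNoetherian.component_noetherian W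
  set φ := (g.appLE W.1 V₀.1 e₀).hom with hφ
  set P := V₀.2.primeIdealOf ⟨y, hyV⟩ with hP
  set Q := W.2.primeIdealOf ⟨g y, e₀ hyV⟩ with hQ
  have hPQ : P.asIdeal.comap φ = Q.asIdeal :=
    congrArg PrimeSpectrum.asIdeal (IsAffineOpen.comap_primeIdealOf_appLE W.1 W.2 V₀.1 V₀.2 e₀ hyV)
  letI algC := TopCat.Presheaf.algebra_section_stalk Y₁.presheaf ⟨y, hyV⟩
  haveI locC : IsLocalization.AtPrime (Y₁.presheaf.stalk y) P.asIdeal :=
    V₀.2.isLocalization_stalk ⟨y, hyV⟩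
  letI algD := TopCat.Presheaf.algebra_section_stalk Y₂.presheaf ⟨g y, e₀ hyV⟩
  haveI locD : IsLocalization.AtPrime (Y₂.presheaf.stalk (g y)) Q.asIdeal :=
    W.2.isLocalization_stalk ⟨g y, e₀ hyV⟩
  -- compatibility of the stalk map with the chart
  have hcomp : ∀ d : Γ(Y₂, W.1), (g.stalkMap y).hom (algebraMap _ (Y₂.presheaf.stalk (g y)) d) =
      algebraMap _ (Y₁.presheaf.stalk y) (φ d) := by
    intro d
    change g.stalkMap y (Y₂.presheaf.germ W.1 (g y) (e₀ hyV) d) =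
      Y₁.presheaf.germ V₀.1 y hyV (g.appLE W.1 V₀.1 e₀ d)
    rw [Scheme.Hom.germ_stalkMap_apply]
    have : g.appLE W.1 V₀.1 e₀ d = Y₁.presheaf.map (homOfLE e₀).op (g.app W.1 d) := by
      rw [Scheme.Hom.appLE]; rfl
    rw [this]
    exact (TopCat.Presheaf.germ_res_apply Y₁.presheaf (homOfLE e₀) y hyV _).symm
  have hmemQ : ∀ s : Γ(Y₂, W.1), s ∉ Q.asIdeal → φ s ∉ P.asIdeal := by
    intro s hs hs'
    apply hs
    rw [← hPQ]
    exact hs'
  obtain ⟨c₀, hc₀, H⟩ := exists_isLocHom_away_of_essFiniteType.{u} φ hess P.asIdeal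
    (by
      rintro d ⟨u', hu', hud⟩
      have h1 : algebraMap _ (Y₁.presheaf.stalk y) (φ d) = 0 :=
        (IsLocalization.map_eq_zero_iff P.asIdeal.primeCompl _ _).2 ⟨⟨u', hu'⟩, hud⟩
      rw [← hcomp] at h1
      have h2 : algebraMap _ (Y₂.presheaf.stalk (g y)) d = 0 := by
        apply hy.1
        rw [h1, map_zero]
      obtain ⟨s, hs⟩ := (IsLocalization.map_eq_zero_iff Q.asIdeal.primeCompl _ _).1 h2
      exact ⟨s.1, hmemQ s.1 s.2, hs⟩)
    (by
      intro c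
      obtain ⟨t, ht⟩ := hy.2 (algebraMap _ (Y₁.presheaf.stalk y) c)
      obtain ⟨⟨d, s⟩, hds⟩ := IsLocalization.surj Q.asIdeal.primeCompl t
      refine ⟨d, s.1, hmemQ s.1 s.2, ?_⟩
      have h1 : algebraMap _ (Y₁.presheaf.stalk y) (φ s.1 * c - φ d) = 0 := by
        rw [map_sub, map_mul, ← hcomp, ← hcomp, ← ht, ← map_mul, mul_comm, hds, sub_self]
      obtain ⟨u', hu'⟩ := (IsLocalization.map_eq_zero_iff P.asIdeal.primeCompl _ _).1 h1
      exact ⟨u'.1, u'.2, hu'⟩)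
  have hyc : y ∈ Y₁.basicOpen c₀ := by
    have h1 := V₀.2.fromSpec_primeIdealOf ⟨y, hyV⟩
    have h2 : V₀.2.fromSpec P ∈ Y₁.basicOpen c₀ := (fromSpec_mem_basicOpen_iff V₀.2 c₀ P).2 hc₀
    rw [hP, h1] at h2
    exact h2
  refine ⟨W, ⟨Y₁.basicOpen c₀, V₀.2.basicOpen c₀⟩, hyc, (Y₁.basicOpen_le c₀).trans e₀, ?_⟩
  haveI := V₀.2.isLocalization_basicOpen c₀
  have h3 := H Γ(Y₁, Y₁.basicOpen c₀)
  have h4 : g.appLE W.1 (Y₁.basicOpen c₀) ((Y₁.basicOpen_le c₀).trans e₀) =
      g.appLE W.1 V₀.1 e₀ ≫ Y₁.presheaf.map (homOfLE (Y₁.basicOpen_le c₀)).op :=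
    (Scheme.Hom.appLE_map g e₀ (homOfLE (Y₁.basicOpen_le c₀)).op).symm
  rw [h4, CommRingCat.hom_comp]
  exact h3

end Scheme

end Groth.Agent.Lib.Helper41
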