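import Groth.Agent.Lib.Helper41.LocImmGlue
import Groth.Agent.Lib.Helper41.LocImmEssFT

set_option autoImplicit false
set_option linter.style.haveILetI false
set_option linter.unusedSectionVars false
universe u
open CategoryTheory CategoryTheory.Limits AlgebraicGeometry LocImm TopologicalSpace

namespace Groth.Agent.Lib.Helper41

theorem exists_factor_of_essFiniteType {A B : Type u} [CommRing A] [CommRing B] (φ : A →+* B)
    (hφ : φ.EssFiniteType) :
    ∃ (C : Type u) (_ : CommRing C) (α : A →+* C) (β : C →+* B), β.comp α = φ ∧ α.FiniteType ∧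
      IsLocHom β := by
  letI := φ.toAlgebra
  obtain ⟨σ, hσ⟩ := (show Algebra.EssFiniteType A B from hφ).cond
  refine ⟨Algebra.adjoin A (σ : Set B), inferInstance, algebraMap A _, algebraMap _ B, ?_, ?_, ?_⟩
  · ext a
    rfl
  · rw [RingHom.finiteType_algebraMap]
    exact (Subalgebra.fg_iff_finiteType _).1 (Subalgebra.fg_adjoin_finset σ)
  · exact isLocHom_of_isLocalization (hS := hσ) _

end Groth.Agent.Lib.Helper41

namespace Groth.Agent.Lib.Helper41

theorem isLocImmersion_SpecMap {R R' : CommRingCat.{u}} (φ : R ⟶ R') (hφ : IsLocHom φ.hom) :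
    IsLocImmersion (Spec.map φ) := by
  constructor
  · intro x
    refine ⟨⟨⊤, isAffineOpen_top _⟩, ⟨⊤, isAffineOpen_top _⟩, trivial, le_top, ?_⟩
    have h1 : (Spec.map φ).appLE ⊤ ⊤ le_top =
        (Scheme.ΓSpecIso R).hom ≫ φ ≫ (Scheme.ΓSpecIso R').inv := by
      rw [Scheme.ΓSpecIso_inv_naturality, Iso.hom_inv_id_assoc]
      simp only [Scheme.Hom.appLE]
      exact Category.comp_id _
    show IsLocHom ((Spec.map φ).appLE ⊤ ⊤ le_top).hom
    rw [h1, CommRingCat.hom_comp, CommRingCat.hom_comp]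
    exact IsLocHom.comp (isLocHom_of_isIso _) (IsLocHom.comp hφ (isLocHom_of_isIso _))
  · letI := φ.hom.toAlgebra
    obtain ⟨M, hM⟩ := hφ
    exact PrimeSpectrum.localization_comap_injective R' M


theorem exists_factor_of_chart {X S : Scheme.{u}} [IsLocallyNoetherian S] (f : X ⟶ S)
    (U : S.affineOpens) (V : X.affineOpens) (e : V.1 ≤ f ⁻¹ᵁ U.1)
    (hE : (f.appLE U V e).hom.EssFiniteType) :
    ∃ (Y : Scheme.{u}) (k : (V.1 : Scheme.{u}) ⟶ Y) (p : Y ⟶ S), IsNoetherian Y ∧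
      IsLocImmersion k ∧ IsSeparated p ∧ LocallyOfFiniteType p ∧ QuasiCompact p ∧
      k ≫ p = V.1.ι ≫ f := by
  obtain ⟨C, _, α, β, hβα, hα, hβ⟩ := exists_factor_of_essFiniteType _ hE
  haveI : IsNoetherianRing Γ(S, U.1) := IsLocallyNoetherian.component_noetherian U
  haveI : IsNoetherianRing C := by
    letI := α.toAlgebra
    haveI : Algebra.FiniteType Γ(S, U.1) C := hα
    exact Algebra.FiniteType.isNoetherianRing Γ(S, U.1) C
  haveI : IsNoetherian (Spec (CommRingCat.of C)) := inferInstance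
  refine ⟨Spec (CommRingCat.of C), V.2.isoSpec.hom ≫ Spec.map (CommRingCat.ofHom β),
    Spec.map (CommRingCat.ofHom α) ≫ U.2.fromSpec, inferInstance, ?_, inferInstance, ?_,
    inferInstance, ?_⟩
  · exact isLocImmersion_openImmersion_comp _ _ (isLocImmersion_SpecMap _ hβ)
  · haveI : LocallyOfFiniteType (Spec.map (CommRingCat.ofHom α)) :=
      (HasRingHomProperty.Spec_iff (P := @LocallyOfFiniteType.{u})).2 hα
    haveI : IsOpenImmersion U.2.fromSpec := U.2.isOpenImmersion_fromSpec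
    haveI : LocallyOfFiniteType U.2.fromSpec := locallyOfFiniteType_of_isOpenImmersion _
    exact locallyOfFiniteType_comp _ _
  · rw [Category.assoc, ← Category.assoc (Spec.map _), ← Spec.map_comp, ← CommRingCat.ofHom_comp,
      hβα, CommRingCat.ofHom_hom, IsAffineOpen.SpecMap_appLE_fromSpec f U.2 V.2 e,
      ← Category.assoc]
    congr 1
    exact V.2.isoSpec_hom_fromSpec


/-- The factorization property for the restriction of `f` to an open. -/
def HasFactor {X S : Scheme.{u}} (f : X ⟶ S) (O : X.Opens) : Prop :=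
  ∃ (Y : Scheme.{u}) (k : (O : Scheme.{u}) ⟶ Y) (p : Y ⟶ S), IsNoetherian Y ∧
    IsLocImmersion k ∧ IsSeparated p ∧ LocallyOfFiniteType p ∧ QuasiCompact p ∧
    k ≫ p = O.ι ≫ f

theorem hasFactor_sup {X S : Scheme.{u}} [IsNoetherian X] [IsNoetherian S] (f : X ⟶ S)
    [IsSeparated f] (O₁ O₂ : X.Opens) (h₁ : HasFactor f O₁) (h₂ : HasFactor f O₂) :
    HasFactor f (O₁ ⊔ O₂) := by
  obtain ⟨Y₁, k₁, p₁, _, hk₁, _, _, _, e₁⟩ := h₁
  obtain ⟨Y₂, k₂, p₂, _, hk₂, _, _, _, e₂⟩ := h₂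
  haveI : IsNoetherian ((O₁ ⊔ O₂ : X.Opens) : Scheme.{u}) :=
    isNoetherian_of_locallyOfFiniteType (O₁ ⊔ O₂).ι
  set O := O₁ ⊔ O₂ with hO
  set U₁ : (O : Scheme.{u}).Opens := O.ι ⁻¹ᵁ O₁ with hU₁
  set U₂ : (O : Scheme.{u}).Opens := O.ι ⁻¹ᵁ O₂ with hU₂
  have hU : U₁ ⊔ U₂ = ⊤ := by
    rw [eq_top_iff]
    rintro x -
    exact x.2
  have hr₁ : Set.range (U₁.ι ≫ O.ι) = Set.range O₁.ι := by
    rw [Scheme.Opens.range_ι]
    ext y
    constructor
    · rintro ⟨u, rfl⟩
      exact u.2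
    · intro hy
      exact ⟨⟨⟨y, Or.inl hy⟩, hy⟩, rfl⟩
  have hr₂ : Set.range (U₂.ι ≫ O.ι) = Set.range O₂.ι := by
    rw [Scheme.Opens.range_ι]
    ext y
    constructor
    · rintro ⟨u, rfl⟩
      exact u.2
    · intro hy
      exact ⟨⟨⟨y, Or.inr hy⟩, hy⟩, rfl⟩
  set ε₁ := IsOpenImmersion.isoOfRangeEq (U₁.ι ≫ O.ι) O₁.ι hr₁ with hε₁def
  set ε₂ := IsOpenImmersion.isoOfRangeEq (U₂.ι ≫ O.ι) O₂.ι hr₂ with hε₂def
  have hε₁ : ε₁.hom ≫ O₁.ι = U₁.ι ≫ O.ι := IsOpenImmersion.isoOfRangeEq_hom_fac _ _ _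
  have hε₂ : ε₂.hom ≫ O₂.ι = U₂.ι ≫ O.ι := IsOpenImmersion.isoOfRangeEq_hom_fac _ _ _
  exact exists_factor_of_two_opens (O.ι ≫ f) U₁ U₂ hU Y₁ Y₂ (ε₁.hom ≫ k₁) (ε₂.hom ≫ k₂) p₁ p₂
    (isLocImmersion_openImmersion_comp _ _ hk₁) (isLocImmersion_openImmersion_comp _ _ hk₂)
    (by rw [Category.assoc, e₁, reassoc_of% hε₁]) (by rw [Category.assoc, e₂, reassoc_of% hε₂])


theorem hasFactor_bot {X S : Scheme.{u}} [IsNoetherian S] (f : X ⟶ S) : HasFactor f ⊥ := by
  haveI : IsEmpty ↥((⊥ : X.Opens) : Scheme.{u}) := ⟨fun x => x.2⟩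
  exact ⟨S, (⊥ : X.Opens).ι ≫ f, 𝟙 S, inferInstance, ⟨fun x => isEmptyElim x,
    fun x => isEmptyElim x⟩, inferInstance, inferInstance, inferInstance, Category.comp_id _⟩

/-- A separated, essentially finite type morphism of Noetherian schemes factors as a localizing
immersion followed by a separated morphism of finite type. -/
theorem exists_factor_of_essFiniteType_scheme {X S : Scheme.{u}} [IsNoetherian X]
    [IsNoetherian S] (f : X ⟶ S) [IsSeparated f] [EssFT.EssFiniteType f] :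
    ∃ (Y : Scheme.{u}) (k : X ⟶ Y) (p : Y ⟶ S), IsNoetherian Y ∧ IsLocImmersion k ∧
      IsSeparated p ∧ LocallyOfFiniteType p ∧ QuasiCompact p ∧ k ≫ p = f := by
  have hloc : ∀ x : X, ∃ V : X.Opens, x ∈ V ∧ HasFactor f V := by
    intro x
    obtain ⟨U, V, hx, e, hE⟩ := EssFT.LocallyEssFiniteType.exists_appLE_essFiniteType (f := f) x
    exact ⟨V.1, hx, exists_factor_of_chart f U V e hE⟩
  choose V hxV hV using hloc
  have hfin : ∀ t : Finset X, HasFactor f (⨆ x ∈ t, V x) := by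
    classical
    intro t
    induction t using Finset.induction_on with
    | empty => simpa using hasFactor_bot f
    | insert a t ha ih =>
      rw [Finset.iSup_insert]
      exact hasFactor_sup f _ _ (hV a) ih
  obtain ⟨t, ht⟩ := isCompact_univ.elim_finite_subcover (fun x => (V x : Set X))
    (fun x => (V x).isOpen) (fun x _ => Set.mem_iUnion.2 ⟨x, hxV x⟩)
  have htop : (⨆ x ∈ t, V x) = ⊤ := by
    rw [eq_top_iff]
    intro x _
    have := ht (Set.mem_univ x)
    simp only [Set.mem_iUnion] at this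
    obtain ⟨i, hi, hx⟩ := this
    exact TopologicalSpace.Opens.mem_iSup.2 ⟨i, TopologicalSpace.Opens.mem_iSup.2 ⟨hi, hx⟩⟩
  have key := hfin t
  rw [htop] at key
  obtain ⟨Y, k, p, hY, hk, hs, hl, hq, e⟩ := key
  refine ⟨Y, X.topIso.inv ≫ k, p, hY, isLocImmersion_openImmersion_comp _ _ hk, hs, hl, hq, ?_⟩
  rw [Category.assoc, e, ← Category.assoc, Scheme.toIso_inv_ι, Category.id_comp]

end Groth.Agent.Lib.Helper41
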