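import Groth.Agent.Lib.Helper41.LocImmNbhd
import Mathlib.AlgebraicGeometry.Morphisms.UniversallyOpen
import Mathlib.AlgebraicGeometry.Morphisms.FiniteType
import Mathlib.AlgebraicGeometry.Noetherian

set_option autoImplicit false
set_option linter.style.haveILetI false
set_option linter.unusedSectionVars false

universe u

open CategoryTheory CategoryTheory.Limits AlgebraicGeometry LocImm

namespace Groth.Agent.Lib.Helper41

variable {X Y Z S : Scheme.{u}}

theorem RingHom.essFiniteType_of_finiteType {A B : Type*} [CommRing A] [CommRing B]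
    (f : A →+* B) (hf : f.FiniteType) : f.EssFiniteType := by
  letI := f.toAlgebra
  haveI : Algebra.FiniteType A B := hf
  exact (inferInstance : Algebra.EssFiniteType A B)

theorem locallyEssFiniteType_of_locallyOfFiniteType (f : X ⟶ Y) [LocallyOfFiniteType f] :
    EssFT.LocallyEssFiniteType f := by
  refine ⟨fun x => ?_⟩
  obtain ⟨_, ⟨U : Y.Opens, hU : IsAffineOpen U, rfl⟩, hxU, -⟩ :=
    Y.isBasis_affineOpens.exists_subset_of_mem_open (Set.mem_univ (f x)) isOpen_univ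
  obtain ⟨_, ⟨V : X.Opens, hV : IsAffineOpen V, rfl⟩, hxV, hVU⟩ :=
    X.isBasis_affineOpens.exists_subset_of_mem_open (show x ∈ f ⁻¹ᵁ U from hxU) (f ⁻¹ᵁ U).2
  exact ⟨⟨U, hU⟩, ⟨V, hV⟩, hxV, hVU,
    RingHom.essFiniteType_of_finiteType _ (f.finiteType_appLE hU hV hVU)⟩

/-- A localizing immersion which is locally of finite type over a locally Noetherian scheme is an
open immersion. -/
theorem isOpenImmersion_of_isLocImmersion (f : X ⟶ Y) (hf : IsLocImmersion f)
    [LocallyOfFiniteType f] [IsLocallyNoetherian Y] : IsOpenImmersion f := by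
  have hflat : Flat f := flat_of_isLocalizing hf.1
  have hfp : LocallyOfFinitePresentation f := inferInstance
  have huo : UniversallyOpen f := inferInstance
  have hopen : Topology.IsOpenEmbedding f :=
    .of_continuous_injective_isOpenMap f.continuous hf.2 f.isOpenMap
  have : ∀ x, IsIso (f.stalkMap x) := isIso_stalkMap_of_isLocalizing hf.1
  exact IsOpenImmersion.of_isIso_stalkMap f hopen

theorem isNoetherian_of_locallyOfFiniteType (f : X ⟶ Y) [LocallyOfFiniteType f] [QuasiCompact f]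
    [IsNoetherian Y] : IsNoetherian X :=
  { toIsLocallyNoetherian := LocallyOfFiniteType.isLocallyNoetherian f
    toCompactSpace := QuasiCompact.compactSpace_of_compactSpace f }

section ZW

variable {X Y₁ Y₂ S : Scheme.{u}} [IsNoetherian X] [IsNoetherian Y₁] [IsNoetherian Y₂]
  (f₁ : X ⟶ Y₁) (f₂ : X ⟶ Y₂) (π₁ : Y₁ ⟶ S) (π₂ : Y₂ ⟶ S)

/-- The corestriction of `(f₁, f₂) : X ⟶ Y₁ ×_S Y₂` to its scheme-theoretic image is a localizing
immersion as soon as `f₁` is one. -/
theorem isLocImmersion_toImage (hf₁ : IsLocImmersion f₁) (h : f₁ ≫ π₁ = f₂ ≫ π₂) :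
    IsLocImmersion (pullback.lift f₁ f₂ h).toImage := by
  set φ := pullback.lift f₁ f₂ h with hφ
  have hcomp : φ.toImage ≫ (φ.imageι ≫ pullback.fst π₁ π₂) = f₁ := by
    rw [← Category.assoc, φ.toImage_imageι, hφ, pullback.lift_fst]
  have hfg : IsLocImmersion (φ.toImage ≫ (φ.imageι ≫ pullback.fst π₁ π₂)) := by
    rw [hcomp]; exact hf₁
  refine ⟨isLocalizing_of_comp_of_app_injective_of_isBasis φ.toImage _ hfg _
    ((pullback π₁ π₂).isBasis_affineOpens.of_isInducing φ.imageι.isEmbedding.isInducing)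
    ?_ ?_ ?_, ?_⟩
  · rintro _ ⟨U, hU, rfl⟩
    exact IsAffineOpen.preimage hU φ.imageι
  · intro U _
    exact TopologicalSpace.NoetherianSpace.isCompact _
  · rintro _ ⟨U, hU, rfl⟩
    exact φ.toImage_app_injective ⟨U, hU⟩
  · intro a b hab
    apply hf₁.2
    rw [← hcomp]
    change (φ.imageι ≫ pullback.fst π₁ π₂) (φ.toImage a) =
      (φ.imageι ≫ pullback.fst π₁ π₂) (φ.toImage b)
    have : φ.toImage a = φ.toImage b := hab
    rw [this]

variable [IsSeparated π₁] [IsSeparated π₂] [LocallyOfFiniteType π₁] [LocallyOfFiniteType π₂]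

instance isNoetherian_pullback : IsNoetherian (pullback π₁ π₂) :=
  isNoetherian_of_locallyOfFiniteType (pullback.fst π₁ π₂)

theorem isNoetherian_image (h : f₁ ≫ π₁ = f₂ ≫ π₂) :
    IsNoetherian (pullback.lift f₁ f₂ h).image :=
  isNoetherian_of_locallyOfFiniteType (pullback.lift f₁ f₂ h).imageι

/-- The scheme-theoretic image of `(f₁, f₂)` in `Y₁ ×_S Y₂` contains an open neighbourhood of the
image of `X` on which both projections are open immersions. -/
theorem exists_opens_image (hf₁ : IsLocImmersion f₁) (hf₂ : IsLocImmersion f₂)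
    (h : f₁ ≫ π₁ = f₂ ≫ π₂) :
    ∃ W₀ : (pullback.lift f₁ f₂ h).image.Opens,
      Set.range (pullback.lift f₁ f₂ h).toImage ⊆ (W₀ : Set (pullback.lift f₁ f₂ h).image) ∧
      IsOpenImmersion (W₀.ι ≫ (pullback.lift f₁ f₂ h).imageι ≫ pullback.fst π₁ π₂) ∧
      IsOpenImmersion (W₀.ι ≫ (pullback.lift f₁ f₂ h).imageι ≫ pullback.snd π₁ π₂) := by
  set φ := pullback.lift f₁ f₂ h with hφ
  haveI : IsNoetherian φ.image := isNoetherian_image f₁ f₂ π₁ π₂ h
  have hloc : IsLocImmersion φ.toImage := isLocImmersion_toImage f₁ f₂ π₁ π₂ hf₁ h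
  have hcomp₁ : φ.toImage ≫ (φ.imageι ≫ pullback.fst π₁ π₂) = f₁ := by
    rw [← Category.assoc, φ.toImage_imageι, hφ, pullback.lift_fst]
  have hcomp₂ : φ.toImage ≫ (φ.imageι ≫ pullback.snd π₁ π₂) = f₂ := by
    rw [← Category.assoc, φ.toImage_imageι, hφ, pullback.lift_snd]
  haveI : EssFT.LocallyEssFiniteType (φ.imageι ≫ pullback.fst π₁ π₂) :=
    locallyEssFiniteType_of_locallyOfFiniteType _
  haveI : EssFT.LocallyEssFiniteType (φ.imageι ≫ pullback.snd π₁ π₂) :=
    locallyEssFiniteType_of_locallyOfFiniteType _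
  obtain ⟨O₁, hO₁, hO₁'⟩ := exists_open_isLocImmersion φ.toImage
    (φ.imageι ≫ pullback.fst π₁ π₂) hloc (by rw [hcomp₁]; exact hf₁)
  obtain ⟨O₂, hO₂, hO₂'⟩ := exists_open_isLocImmersion φ.toImage
    (φ.imageι ≫ pullback.snd π₁ π₂) hloc (by rw [hcomp₂]; exact hf₂)
  haveI := isOpenImmersion_of_isLocImmersion _ hO₁'
  haveI := isOpenImmersion_of_isLocImmersion _ hO₂'
  refine ⟨O₁ ⊓ O₂, fun z hz => ⟨hO₁ hz, hO₂ hz⟩, ?_, ?_⟩
  · have : (O₁ ⊓ O₂).ι ≫ φ.imageι ≫ pullback.fst π₁ π₂ =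
        φ.image.homOfLE (inf_le_left : O₁ ⊓ O₂ ≤ O₁) ≫ O₁.ι ≫ φ.imageι ≫ pullback.fst π₁ π₂ := by
      rw [Scheme.homOfLE_ι_assoc]
    rw [this]
    infer_instance
  · have : (O₁ ⊓ O₂).ι ≫ φ.imageι ≫ pullback.snd π₁ π₂ =
        φ.image.homOfLE (inf_le_right : O₁ ⊓ O₂ ≤ O₂) ≫ O₂.ι ≫ φ.imageι ≫ pullback.snd π₁ π₂ := by
      rw [Scheme.homOfLE_ι_assoc]
    rw [this]
    infer_instance

end ZW

end Groth.Agent.Lib.Helper41
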