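import Groth.Agent.Lib.Helper41.LocImm
import Mathlib.AlgebraicGeometry.OpenImmersion

set_option autoImplicit false
set_option linter.style.haveILetI false

universe u

open CategoryTheory CategoryTheory.Limits AlgebraicGeometry LocImm

namespace Groth.Agent.Lib.Helper41

section Ring

variable {A B : Type*} [CommRing A] [CommRing B]

theorem isLocHom_of_bijective (φ : A →+* B) (hφ : Function.Bijective φ) : IsLocHom φ := by
  rw [isLocHom_iff]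
  refine ⟨⊥, ?_, fun b => ?_, fun a₁ a₂ h => ?_⟩
  · intro s hs
    rw [Submonoid.mem_bot] at hs
    rw [hs, map_one]
    exact isUnit_one
  · obtain ⟨a, rfl⟩ := hφ.2 b
    exact ⟨a, 1, Submonoid.one_mem _, by rw [map_one, mul_one]⟩
  · exact ⟨1, Submonoid.one_mem _, by rw [hφ.1 h]⟩

theorem isLocHom_of_isIso {A B : CommRingCat.{u}} (φ : A ⟶ B) [IsIso φ] : IsLocHom φ.hom :=
  isLocHom_of_bijective _ (ConcreteCategory.bijective_of_isIso φ)

end Ring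

variable {X Y Z : Scheme.{u}}

/-- If `g` has a localizing chart at every point of the image of the open immersion `j`, then
`j ≫ g` is localizing. -/
theorem isLocalizing_comp_of_forall_chart (j : X ⟶ Y) [IsOpenImmersion j] (g : Y ⟶ Z)
    (H : ∀ x : X, ∃ (W : Z.affineOpens) (V : Y.affineOpens) (_ : j x ∈ V.1)
      (e : V.1 ≤ g ⁻¹ᵁ W.1), IsLocHom (g.appLE W V e).hom) : IsLocalizing (j ≫ g) := by
  intro x
  obtain ⟨W, V, hxV, e, hloc⟩ := H x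
  obtain ⟨b, hbV, hxb⟩ := V.2.exists_basicOpen_le (V := V.1 ⊓ j.opensRange)
    ⟨j x, ⟨hxV, ⟨x, rfl⟩⟩⟩ hxV
  have hle : Y.basicOpen b ≤ j.opensRange := hbV.trans inf_le_right
  have haff : IsAffineOpen (j ⁻¹ᵁ Y.basicOpen b) :=
    (V.2.basicOpen b).preimage_of_isOpenImmersion j hle
  have e' : Y.basicOpen b ≤ g ⁻¹ᵁ W.1 := (Y.basicOpen_le b).trans e
  have e'' : j ⁻¹ᵁ Y.basicOpen b ≤ (j ≫ g) ⁻¹ᵁ W.1 := fun x' hx' => e' hx'
  refine ⟨W, ⟨j ⁻¹ᵁ Y.basicOpen b, haff⟩, hxb, e'', ?_⟩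
  have h1 : (j ≫ g).appLE W.1 (j ⁻¹ᵁ Y.basicOpen b) e'' =
      g.appLE W.1 (Y.basicOpen b) e' ≫ j.appLE (Y.basicOpen b) (j ⁻¹ᵁ Y.basicOpen b) le_rfl :=
    (Scheme.Hom.appLE_comp_appLE j g _ _ _ _ _).symm
  rw [h1, CommRingCat.hom_comp]
  refine IsLocHom.comp (isLocHom_appLE_basicOpen g V.2 e hloc b) ?_
  rw [← Scheme.Hom.app_eq_appLE]
  haveI := j.isIso_app _ hle
  exact isLocHom_of_isIso _

/-- Restricting a localizing morphism along an open immersion into its source. -/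
theorem isLocalizing_openImmersion_comp (j : X ⟶ Y) [IsOpenImmersion j] (g : Y ⟶ Z)
    (hg : IsLocalizing g) : IsLocalizing (j ≫ g) :=
  isLocalizing_comp_of_forall_chart j g fun x => hg (j x)

theorem isLocImmersion_openImmersion_comp (j : X ⟶ Y) [IsOpenImmersion j] (g : Y ⟶ Z)
    (hg : IsLocImmersion g) : IsLocImmersion (j ≫ g) :=
  ⟨isLocalizing_openImmersion_comp j g hg.1, fun _ _ h =>
    j.isOpenEmbedding.injective (hg.2 h)⟩

/-- Composing a localizing morphism with an open immersion. -/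
theorem isLocalizing_comp_openImmersion (k : X ⟶ Y) (j : Y ⟶ Z) [IsOpenImmersion j]
    (hk : IsLocalizing k) : IsLocalizing (k ≫ j) := by
  intro x
  obtain ⟨U, V, hxV, e, hloc⟩ := hk x
  have e' : V.1 ≤ (k ≫ j) ⁻¹ᵁ (j ''ᵁ U.1) := by
    intro x' hx'
    exact ⟨k x', e hx', rfl⟩
  refine ⟨⟨j ''ᵁ U.1, U.2.image_of_isOpenImmersion j⟩, V, hxV, e', ?_⟩
  have h1 : (k ≫ j).appLE (j ''ᵁ U.1) V.1 e' =
      j.appLE (j ''ᵁ U.1) U.1 (j.preimage_image_eq U.1).ge ≫ k.appLE U.1 V.1 e :=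
    (Scheme.Hom.appLE_comp_appLE k j _ _ _ _ _).symm
  rw [h1, CommRingCat.hom_comp]
  refine IsLocHom.comp ?_ hloc
  rw [← Scheme.Hom.appIso_hom']
  exact isLocHom_of_isIso _

theorem isLocImmersion_comp_openImmersion (k : X ⟶ Y) (j : Y ⟶ Z) [IsOpenImmersion j]
    (hk : IsLocImmersion k) : IsLocImmersion (k ≫ j) :=
  ⟨isLocalizing_comp_openImmersion k j hk.1, fun _ _ h =>
    hk.2 (j.isOpenEmbedding.injective h)⟩

/-- If `k ≫ j` is localizing with `j` an open immersion, then `k` is localizing. -/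
theorem isLocalizing_of_comp_openImmersion (k : X ⟶ Y) (j : Y ⟶ Z) [IsOpenImmersion j]
    (h : IsLocalizing (k ≫ j)) : IsLocalizing k := by
  intro x
  obtain ⟨U, V, hxV, e, hloc⟩ := h x
  obtain ⟨a, haU, hxa⟩ := U.2.exists_basicOpen_le (V := U.1 ⊓ j.opensRange)
    ⟨(k ≫ j) x, ⟨e hxV, ⟨k x, rfl⟩⟩⟩ (e hxV)
  have hle : Z.basicOpen a ≤ j.opensRange := haU.trans inf_le_right
  have haff : IsAffineOpen (j ⁻¹ᵁ Z.basicOpen a) :=
    (U.2.basicOpen a).preimage_of_isOpenImmersion j hle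
  set V' := X.basicOpen ((k ≫ j).appLE U.1 V.1 e a) with hV'
  have hV'eq : V' = V.1 ⊓ (k ≫ j) ⁻¹ᵁ Z.basicOpen a := basicOpen_appLE_eq (k ≫ j) e a
  have e₁ : V' ≤ (k ≫ j) ⁻¹ᵁ Z.basicOpen a := hV'eq ▸ inf_le_right
  have hloc' := isLocHom_appLE_basicOpen_target (k ≫ j) U.2 V.2 e hloc a V' rfl e₁
  have e₂ : V' ≤ k ⁻¹ᵁ (j ⁻¹ᵁ Z.basicOpen a) := e₁
  have hxV' : x ∈ V' := by
    rw [hV'eq]
    exact ⟨hxV, hxa⟩
  refine ⟨⟨j ⁻¹ᵁ Z.basicOpen a, haff⟩, ⟨V', V.2.basicOpen _⟩, hxV', e₂, ?_⟩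
  have h1 : (k ≫ j).appLE (Z.basicOpen a) V' e₁ =
      j.appLE (Z.basicOpen a) (j ⁻¹ᵁ Z.basicOpen a) le_rfl ≫
        k.appLE (j ⁻¹ᵁ Z.basicOpen a) V' e₂ :=
    (Scheme.Hom.appLE_comp_appLE k j _ _ _ _ _).symm
  haveI : IsIso (j.appLE (Z.basicOpen a) (j ⁻¹ᵁ Z.basicOpen a) le_rfl) := by
    rw [← Scheme.Hom.app_eq_appLE]
    exact j.isIso_app _ hle
  have h2 : k.appLE (j ⁻¹ᵁ Z.basicOpen a) V' e₂ =
      inv (j.appLE (Z.basicOpen a) (j ⁻¹ᵁ Z.basicOpen a) le_rfl) ≫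
        (k ≫ j).appLE (Z.basicOpen a) V' e₁ := by
    rw [h1, IsIso.inv_hom_id_assoc]
  rw [h2, CommRingCat.hom_comp]
  exact IsLocHom.comp (isLocHom_of_isIso _) hloc'

theorem isLocImmersion_of_comp_openImmersion (k : X ⟶ Y) (j : Y ⟶ Z) [IsOpenImmersion j]
    (h : IsLocImmersion (k ≫ j)) : IsLocImmersion k :=
  ⟨isLocalizing_of_comp_openImmersion k j h.1, fun a b hab => h.2 (by
    change j (k a) = j (k b)
    have : k a = k b := hab
    rw [this])⟩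

end Groth.Agent.Lib.Helper41
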