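import Groth.Agent.Lib.Helper41.Glue2
import Groth.Agent.Lib.Helper41.LocImmFactor
import Groth.Agent.Lib.Helper41.LocImmOpen
import Mathlib.AlgebraicGeometry.Morphisms.Preimmersion
import Mathlib.Topology.NoetherianSpace
import Mathlib.Topology.Sober

set_option autoImplicit false
set_option linter.style.haveILetI false
set_option linter.unusedSectionVars false
universe u
open CategoryTheory CategoryTheory.Limits AlgebraicGeometry LocImm TopologicalSpace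

namespace Groth.Agent.Lib.Helper41


theorem closure_singleton_aux {Z Y : Type*} [TopologicalSpace Z] [TopologicalSpace Y] {t : Set Z}
    {τ : Z} (hτ : IsGenericPoint τ t) (q : Z → Y) (hq : Continuous q) (R : Set Y)
    (hR : StableUnderGeneralization R) (hqτ : q τ ∉ R) :
    Disjoint (closure {q τ}) R ∧ t ⊆ q ⁻¹' closure {q τ} := by
  constructor
  · rw [Set.disjoint_left]
    intro y hy hyR
    exact hqτ (hR (specializes_iff_mem_closure.2 hy) hyR)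
  · intro z hz
    rw [← hτ.def] at hz
    have := image_closure_subset_closure_image hq (Set.mem_image_of_mem q hz)
    simpa using this

theorem exists_closed_cover {Z Y₁ Y₂ : Type*} [TopologicalSpace Z] [TopologicalSpace Y₁]
    [TopologicalSpace Y₂] [NoetherianSpace Z] [QuasiSober Z] (q₁ : Z → Y₁) (q₂ : Z → Y₂)
    (hq₁ : Continuous q₁) (hq₂ : Continuous q₂) (R₁ : Set Y₁) (R₂ : Set Y₂)
    (hR₁ : StableUnderGeneralization R₁) (hR₂ : StableUnderGeneralization R₂) (T : Set Z)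
    (hT : IsClosed T) (h : ∀ z ∈ T, q₁ z ∉ R₁ ∨ q₂ z ∉ R₂) :
    ∃ F₁ F₂, IsClosed F₁ ∧ IsClosed F₂ ∧ Disjoint F₁ R₁ ∧ Disjoint F₂ R₂ ∧
      T ⊆ q₁ ⁻¹' F₁ ∪ q₂ ⁻¹' F₂ := by
  obtain ⟨S, hSf, hSc, hSi, rfl⟩ := NoetherianSpace.exists_finite_set_isClosed_irreducible hT
  clear hT
  induction S, hSf using Set.Finite.induction_on with
  | empty => exact ⟨∅, ∅, isClosed_empty, isClosed_empty, by simp, by simp, by simp⟩
  | @insert t S ht hSf ih =>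
    obtain ⟨F₁, F₂, hF₁, hF₂, hd₁, hd₂, hcov⟩ :=
      ih (fun t ht => hSc t (Set.mem_insert_of_mem _ ht))
        (fun t ht => hSi t (Set.mem_insert_of_mem _ ht))
        (fun z hz => h z (by
          obtain ⟨s, hs, hzs⟩ := hz
          exact ⟨s, Set.mem_insert_of_mem _ hs, hzs⟩))
    obtain ⟨τ, hτ⟩ := QuasiSober.sober (hSi t (Set.mem_insert _ _)) (hSc t (Set.mem_insert _ _))
    have hτt : τ ∈ t := hτ.mem
    rcases h τ ⟨t, Set.mem_insert _ _, hτt⟩ with h1 | h2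
    · obtain ⟨hd, hc⟩ := closure_singleton_aux hτ q₁ hq₁ R₁ hR₁ h1
      refine ⟨F₁ ∪ closure {q₁ τ}, F₂, hF₁.union isClosed_closure, hF₂,
        Disjoint.union_left hd₁ hd, hd₂, ?_⟩
      rw [Set.sUnion_insert]
      rintro z (hz | hz)
      · exact Or.inl (Or.inr (hc hz))
      · rcases hcov hz with h | h
        · exact Or.inl (Or.inl h)
        · exact Or.inr h
    · obtain ⟨hd, hc⟩ := closure_singleton_aux hτ q₂ hq₂ R₂ hR₂ h2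
      refine ⟨F₁, F₂ ∪ closure {q₂ τ}, hF₁, hF₂.union isClosed_closure, hd₁,
        Disjoint.union_left hd₂ hd, ?_⟩
      rw [Set.sUnion_insert]
      rintro z (hz | hz)
      · exact Or.inr (Or.inr (hc hz))
      · rcases hcov hz with h | h
        · exact Or.inl h
        · exact Or.inr (Or.inl h)


theorem mem_range_lift_of_mem_closure {U₁ U₂ X S Y₁ Y₂ : Scheme.{u}} (ι₁ : U₁ ⟶ X) (ι₂ : U₂ ⟶ X)
    (f : X ⟶ S) [IsSeparated f] (k₁ : U₁ ⟶ Y₁) (k₂ : U₂ ⟶ Y₂) [IsPreimmersion k₁]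
    [IsPreimmersion k₂] (p₁ : Y₁ ⟶ S) (p₂ : Y₂ ⟶ S) (h₁ : k₁ ≫ p₁ = ι₁ ≫ f)
    (h₂ : k₂ ≫ p₂ = ι₂ ≫ f)
    (hφ : (pullback.fst ι₁ ι₂ ≫ k₁) ≫ p₁ = (pullback.snd ι₁ ι₂ ≫ k₂) ≫ p₂)
    (z : ↑(pullback p₁ p₂))
    (hz : z ∈ closure (Set.range (pullback.lift (pullback.fst ι₁ ι₂ ≫ k₁)
      (pullback.snd ι₁ ι₂ ≫ k₂) hφ)))
    (hz₁ : pullback.fst p₁ p₂ z ∈ Set.range k₁) (hz₂ : pullback.snd p₁ p₂ z ∈ Set.range k₂) :
    z ∈ Set.range (pullback.lift (pullback.fst ι₁ ι₂ ≫ k₁) (pullback.snd ι₁ ι₂ ≫ k₂) hφ) := by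
  set φ := pullback.lift (pullback.fst ι₁ ι₂ ≫ k₁) (pullback.snd ι₁ ι₂ ≫ k₂) hφ with hφdef
  set j := pullback.map (ι₁ ≫ f) (ι₂ ≫ f) p₁ p₂ k₁ k₂ (𝟙 S)
    ((Category.comp_id _).trans h₁.symm) ((Category.comp_id _).trans h₂.symm) with hj
  haveI : MorphismProperty.IsStableUnderComposition @IsPreimmersion.{u} :=
    (inferInstance : MorphismProperty.IsMultiplicative @IsPreimmersion.{u}).toIsStableUnderComposition
  haveI : IsPreimmersion j :=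
    MorphismProperty.pullbackMap (P := @IsPreimmersion.{u}) (inferInstance : IsPreimmersion k₁)
      (inferInstance : IsPreimmersion k₂) h₁.symm h₂.symm
  set δ := pullback.mapDesc ι₁ ι₂ f with hδ
  have hδj : δ ≫ j = φ := by
    apply pullback.hom_ext
    · rw [hφdef, pullback.lift_fst, hj, Category.assoc, pullback.lift_fst, hδ, ← Category.assoc]
      congr 1
      rw [pullback.mapDesc, pullback.map, pullback.lift_fst, Category.comp_id]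
    · rw [hφdef, pullback.lift_snd, hj, Category.assoc, pullback.lift_snd, hδ, ← Category.assoc]
      congr 1
      rw [pullback.mapDesc, pullback.map, pullback.lift_snd, Category.comp_id]
  have hrange : Set.range j = pullback.fst p₁ p₂ ⁻¹' Set.range k₁ ∩
      pullback.snd p₁ p₂ ⁻¹' Set.range k₂ := Scheme.Pullback.range_map _ _ _ _ _ _ _ _ _
  obtain ⟨q, rfl⟩ : z ∈ Set.range j := by rw [hrange]; exact ⟨hz₁, hz₂⟩
  have hind : Topology.IsInducing j := j.isEmbedding.isInducing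
  have hq : q ∈ closure (Set.range δ) := by
    rw [hind.closure_eq_preimage_closure_image, Set.mem_preimage, ← Set.range_comp]
    have : (j ∘ δ : _ → _) = φ := by
      rw [← hδj]; rfl
    rw [this]; exact hz
  rw [δ.isClosedEmbedding.isClosed_range.closure_eq] at hq
  obtain ⟨x, rfl⟩ := hq
  exact ⟨x, by rw [← hδj]; rfl⟩




/-- Being localizing is local on the source. -/
theorem isLocalizing_of_openCover_source {X Y : Scheme.{u}} (k : X ⟶ Y) (𝒰 : X.OpenCover)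
    (h : ∀ i, IsLocalizing (𝒰.f i ≫ k)) : IsLocalizing k := by
  intro x
  obtain ⟨i, u, rfl⟩ := 𝒰.exists_eq x
  obtain ⟨U, V, hu, e, hloc⟩ := h i u
  set j := 𝒰.f i with hj
  have e' : j ''ᵁ V.1 ≤ k ⁻¹ᵁ U.1 := by
    rintro _ ⟨v, hv, rfl⟩
    exact e hv
  refine ⟨U, ⟨j ''ᵁ V.1, V.2.image_of_isOpenImmersion j⟩, ⟨u, hu, rfl⟩, e', ?_⟩
  have h1 : (j ≫ k).appLE U.1 V.1 e =
      k.appLE U.1 (j ''ᵁ V.1) e' ≫ (j.appIso V.1).hom := by
    rw [Scheme.Hom.appIso_hom', Scheme.Hom.appLE_comp_appLE]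
  have h2 : k.appLE U.1 (j ''ᵁ V.1) e' = (j ≫ k).appLE U.1 V.1 e ≫ (j.appIso V.1).inv := by
    rw [h1, Category.assoc, Iso.hom_inv_id, Category.comp_id]
  show IsLocHom (k.appLE U.1 (j ''ᵁ V.1) e').hom
  rw [h2, CommRingCat.hom_comp]
  exact IsLocHom.comp hloc (isLocHom_of_isIso _)

section B1

variable {X : Scheme.{u}} (U₁ U₂ : X.Opens) (hU : U₁ ⊔ U₂ = ⊤)

/-- The open cover of `X` by two opens. -/
noncomputable def opensCover₂ : X.OpenCover :=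
  Scheme.Cover.mkOfCovers WalkingPair (fun a => WalkingPair.casesOn a (U₁ : Scheme.{u}) U₂)
    (fun a => WalkingPair.casesOn a U₁.ι U₂.ι)
    (fun x => by
      have hx : x ∈ U₁ ⊔ U₂ := by rw [hU]; trivial
      rcases hx with hx | hx
      · exact ⟨.left, ⟨x, hx⟩, rfl⟩
      · exact ⟨.right, ⟨x, hx⟩, rfl⟩)
    (fun a => by
      cases a
      · exact inferInstanceAs (IsOpenImmersion U₁.ι)
      · exact inferInstanceAs (IsOpenImmersion U₂.ι))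

include hU in
theorem exists_glue₂ {Y : Scheme.{u}} (m₁ : (U₁ : Scheme.{u}) ⟶ Y) (m₂ : (U₂ : Scheme.{u}) ⟶ Y)
    (hm : pullback.fst U₁.ι U₂.ι ≫ m₁ = pullback.snd U₁.ι U₂.ι ≫ m₂) :
    ∃ k : X ⟶ Y, U₁.ι ≫ k = m₁ ∧ U₂.ι ≫ k = m₂ := by
  let 𝒰 := opensCover₂ U₁ U₂ hU
  let m : ∀ a, 𝒰.X a ⟶ Y := fun a => WalkingPair.casesOn a m₁ m₂
  have hcompat : ∀ a b, pullback.fst (𝒰.f a) (𝒰.f b) ≫ m a = pullback.snd (𝒰.f a) (𝒰.f b) ≫ m b := by
    rintro (_ | _) (_ | _)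
    · have : pullback.fst U₁.ι U₁.ι = pullback.snd U₁.ι U₁.ι :=
        (cancel_mono U₁.ι).1 pullback.condition
      change pullback.fst U₁.ι U₁.ι ≫ m₁ = pullback.snd U₁.ι U₁.ι ≫ m₁
      rw [this]
    · exact hm
    · change pullback.fst U₂.ι U₁.ι ≫ m₂ = pullback.snd U₂.ι U₁.ι ≫ m₁
      rw [← pullbackSymmetry_hom_comp_snd, ← pullbackSymmetry_hom_comp_fst U₂.ι U₁.ι,
        Category.assoc, Category.assoc, hm]
    · have : pullback.fst U₂.ι U₂.ι = pullback.snd U₂.ι U₂.ι :=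
        (cancel_mono U₂.ι).1 pullback.condition
      change pullback.fst U₂.ι U₂.ι ≫ m₂ = pullback.snd U₂.ι U₂.ι ≫ m₂
      rw [this]
  refine ⟨𝒰.glueMorphisms m hcompat, ?_, ?_⟩
  · exact 𝒰.ι_glueMorphisms m hcompat .left
  · exact 𝒰.ι_glueMorphisms m hcompat .right

end B1

theorem exists_factor_of_glue_data {X S : Scheme.{u}} [IsNoetherian S] (f : X ⟶ S)
    (U₁ U₂ : X.Opens) (hU : U₁ ⊔ U₂ = ⊤) {Y₁ Y₂ W : Scheme.{u}} [IsNoetherian Y₁]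
    [IsNoetherian Y₂]
    (k₁ : (U₁ : Scheme.{u}) ⟶ Y₁) (k₂ : (U₂ : Scheme.{u}) ⟶ Y₂) (p₁ : Y₁ ⟶ S) (p₂ : Y₂ ⟶ S)
    (hk₁ : IsLocImmersion k₁) (hk₂ : IsLocImmersion k₂)
    [IsSeparated p₁] [IsSeparated p₂] [LocallyOfFiniteType p₁] [LocallyOfFiniteType p₂]
    (h₁ : k₁ ≫ p₁ = U₁.ι ≫ f) (h₂ : k₂ ≫ p₂ = U₂.ι ≫ f)
    (g₁ : W ⟶ Y₁) (g₂ : W ⟶ Y₂) [IsOpenImmersion g₁] [IsOpenImmersion g₂]
    (hg : g₁ ≫ p₁ = g₂ ≫ p₂) (hc : IsClosedImmersion (pullback.lift g₁ g₂ hg))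
    (ψ : pullback U₁.ι U₂.ι ⟶ W) (hψ₁ : ψ ≫ g₁ = pullback.fst U₁.ι U₂.ι ≫ k₁)
    (hψ₂ : ψ ≫ g₂ = pullback.snd U₁.ι U₂.ι ≫ k₂)
    (hinj : ∀ (w : W) (u₁ : ↥(U₁ : Scheme.{u})) (u₂ : ↥(U₂ : Scheme.{u})), g₁ w = k₁ u₁ →
      g₂ w = k₂ u₂ → U₁.ι u₁ = U₂.ι u₂) :
    ∃ (Y : Scheme.{u}) (k : X ⟶ Y) (p : Y ⟶ S), IsNoetherian Y ∧ IsLocImmersion k ∧
      IsSeparated p ∧ LocallyOfFiniteType p ∧ QuasiCompact p ∧ k ≫ p = f := by
  set p : pushout g₁ g₂ ⟶ S := pushout.desc p₁ p₂ hg with hp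
  have e₁ : pushout.inl g₁ g₂ ≫ p = p₁ := pushout.inl_desc _ _ _
  have e₂ : pushout.inr g₁ g₂ ≫ p = p₂ := pushout.inr_desc _ _ _
  obtain ⟨k, hk₁', hk₂'⟩ := exists_glue₂ U₁ U₂ hU (k₁ ≫ pushout.inl g₁ g₂)
    (k₂ ≫ pushout.inr g₁ g₂) (by
      rw [← Category.assoc, ← hψ₁, ← Category.assoc, ← hψ₂, Category.assoc, Category.assoc,
        pushout.condition])
  have hkp : k ≫ p = f := by
    apply (opensCover₂ U₁ U₂ hU).hom_ext
    rintro (_ | _)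
    · change U₁.ι ≫ k ≫ p = U₁.ι ≫ f
      rw [← Category.assoc, hk₁', Category.assoc, e₁, h₁]
    · change U₂.ι ≫ k ≫ p = U₂.ι ≫ f
      rw [← Category.assoc, hk₂', Category.assoc, e₂, h₂]
  have hsep : IsSeparated p := isSeparated_pushout_desc g₁ g₂ p₁ p₂ hg hc
  have hlft : LocallyOfFiniteType p := by
    haveI : IsZariskiLocalAtSource @LocallyOfFiniteType.{u} :=
      HasRingHomProperty.instIsZariskiLocalAtSource (Q := RingHom.FiniteType)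
    rw [IsZariskiLocalAtSource.iff_of_openCover (P := @LocallyOfFiniteType.{u}) (pushoutCover g₁ g₂)]
    rintro (_ | _)
    · change LocallyOfFiniteType (pushout.inl g₁ g₂ ≫ p)
      rw [e₁]; infer_instance
    · change LocallyOfFiniteType (pushout.inr g₁ g₂ ≫ p)
      rw [e₂]; infer_instance
  haveI hcpt : CompactSpace ↥(pushout g₁ g₂) := by
    constructor
    have : (Set.univ : Set ↥(pushout g₁ g₂)) =
        Set.range (pushout.inl g₁ g₂) ∪ Set.range (pushout.inr g₁ g₂) := by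
      ext y
      simp only [Set.mem_univ, Set.mem_union, Set.mem_range, true_iff]
      exact pushout_jointly_surjective g₁ g₂ y
    rw [this]
    exact (isCompact_range (pushout.inl g₁ g₂).continuous).union
      (isCompact_range (pushout.inr g₁ g₂).continuous)
  haveI : IsLocallyNoetherian (pushout g₁ g₂) := LocallyOfFiniteType.isLocallyNoetherian p
  haveI : IsNoetherian (pushout g₁ g₂) := {}
  have hqc : QuasiCompact p := inferInstance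
  have hloc : IsLocalizing k := isLocalizing_of_openCover_source k (opensCover₂ U₁ U₂ hU) (by
    rintro (_ | _)
    · change IsLocalizing (U₁.ι ≫ k)
      rw [hk₁']; exact isLocalizing_comp_openImmersion _ _ hk₁.1
    · change IsLocalizing (U₂.ι ≫ k)
      rw [hk₂']; exact isLocalizing_comp_openImmersion _ _ hk₂.1)
  have hpt₁ : ∀ u₁ : ↥(U₁ : Scheme.{u}), k (U₁.ι u₁) = pushout.inl g₁ g₂ (k₁ u₁) := fun u₁ => by
    rw [← Scheme.Hom.comp_apply, hk₁', Scheme.Hom.comp_apply]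
  have hpt₂ : ∀ u₂ : ↥(U₂ : Scheme.{u}), k (U₂.ι u₂) = pushout.inr g₁ g₂ (k₂ u₂) := fun u₂ => by
    rw [← Scheme.Hom.comp_apply, hk₂', Scheme.Hom.comp_apply]
  have hinj' : Function.Injective k := by
    intro x x' hxx'
    have hx : x ∈ U₁ ⊔ U₂ := by rw [hU]; trivial
    have hx' : x' ∈ U₁ ⊔ U₂ := by rw [hU]; trivial
    have hinl : Function.Injective (pushout.inl g₁ g₂) :=
      (pushout.inl g₁ g₂).isOpenEmbedding.injective
    have hinr : Function.Injective (pushout.inr g₁ g₂) :=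
      (pushout.inr g₁ g₂).isOpenEmbedding.injective
    rcases hx with hx | hx <;> rcases hx' with hx' | hx'
    · have e := hpt₁ ⟨x, hx⟩
      have e' := hpt₁ ⟨x', hx'⟩
      have hx1 : U₁.ι ⟨x, hx⟩ = x := rfl
      have hx2 : U₁.ι ⟨x', hx'⟩ = x' := rfl
      rw [hx1] at e
      rw [hx2] at e'
      rw [e, e'] at hxx'
      have := hk₁.2 (hinl hxx')
      rw [← hx1, ← hx2, this]
    · have e := hpt₁ ⟨x, hx⟩
      have e' := hpt₂ ⟨x', hx'⟩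
      have hx1 : U₁.ι ⟨x, hx⟩ = x := rfl
      have hx2 : U₂.ι ⟨x', hx'⟩ = x' := rfl
      rw [hx1] at e
      rw [hx2] at e'
      rw [e, e'] at hxx'
      obtain ⟨w, hw₁, hw₂⟩ := (pushout_inl_eq_inr_iff g₁ g₂ _ _).1 hxx'
      rw [← hx1, ← hx2]
      exact hinj w _ _ hw₁ hw₂
    · have e := hpt₂ ⟨x, hx⟩
      have e' := hpt₁ ⟨x', hx'⟩
      have hx1 : U₂.ι ⟨x, hx⟩ = x := rfl
      have hx2 : U₁.ι ⟨x', hx'⟩ = x' := rfl
      rw [hx1] at e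
      rw [hx2] at e'
      rw [e, e'] at hxx'
      obtain ⟨w, hw₁, hw₂⟩ := (pushout_inl_eq_inr_iff g₁ g₂ _ _).1 hxx'.symm
      rw [← hx1, ← hx2]
      exact (hinj w _ _ hw₁ hw₂).symm
    · have e := hpt₂ ⟨x, hx⟩
      have e' := hpt₂ ⟨x', hx'⟩
      have hx1 : U₂.ι ⟨x, hx⟩ = x := rfl
      have hx2 : U₂.ι ⟨x', hx'⟩ = x' := rfl
      rw [hx1] at e
      rw [hx2] at e'
      rw [e, e'] at hxx'
      have := hk₂.2 (hinr hxx')
      rw [← hx1, ← hx2, this]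
  exact ⟨pushout g₁ g₂, k, p, inferInstance, ⟨hloc, hinj'⟩, hsep, hlft, hqc, hkp⟩



theorem isPreimmersion_of_isLocImmersion {X Y : Scheme.{u}} (f : X ⟶ Y) [QuasiCompact f]
    (hf : IsLocImmersion f) : IsPreimmersion f :=
  { toSurjectiveOnStalks := surjectiveOnStalks_of_isLocalizing hf.1
    isEmbedding := isEmbedding_of_isLocImmersion hf }

theorem exists_glue_data {X S : Scheme.{u}} [IsNoetherian X] [IsNoetherian S] (f : X ⟶ S)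
    [IsSeparated f] (U₁ U₂ : X.Opens) (Y₁ Y₂ : Scheme.{u}) [IsNoetherian Y₁] [IsNoetherian Y₂]
    (k₁ : (U₁ : Scheme.{u}) ⟶ Y₁) (k₂ : (U₂ : Scheme.{u}) ⟶ Y₂) (p₁ : Y₁ ⟶ S) (p₂ : Y₂ ⟶ S)
    (hk₁ : IsLocImmersion k₁) (hk₂ : IsLocImmersion k₂)
    [IsSeparated p₁] [IsSeparated p₂] [LocallyOfFiniteType p₁] [LocallyOfFiniteType p₂]
    [QuasiCompact p₁] [QuasiCompact p₂]
    (h₁ : k₁ ≫ p₁ = U₁.ι ≫ f) (h₂ : k₂ ≫ p₂ = U₂.ι ≫ f) :
    ∃ (V₁ : Y₁.Opens) (V₂ : Y₂.Opens) (k₁' : (U₁ : Scheme.{u}) ⟶ V₁)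
      (k₂' : (U₂ : Scheme.{u}) ⟶ V₂) (_ : k₁' ≫ V₁.ι = k₁) (_ : k₂' ≫ V₂.ι = k₂)
      (W : Scheme.{u}) (g₁ : W ⟶ V₁) (g₂ : W ⟶ V₂) (_ : IsOpenImmersion g₁)
      (_ : IsOpenImmersion g₂) (hg : g₁ ≫ V₁.ι ≫ p₁ = g₂ ≫ V₂.ι ≫ p₂)
      (_ : IsClosedImmersion (pullback.lift g₁ g₂ hg)) (ψ : pullback U₁.ι U₂.ι ⟶ W),
      ψ ≫ g₁ = pullback.fst _ _ ≫ k₁' ∧ ψ ≫ g₂ = pullback.snd _ _ ≫ k₂' ∧
      ∀ (w : W) (u₁ : ↥(U₁ : Scheme.{u})) (u₂ : ↥(U₂ : Scheme.{u})), g₁ w = k₁' u₁ →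
        g₂ w = k₂' u₂ → U₁.ι u₁ = U₂.ι u₂ := by
  haveI : IsNoetherian (U₁ : Scheme.{u}) := isNoetherian_of_locallyOfFiniteType U₁.ι
  haveI : IsNoetherian (U₂ : Scheme.{u}) := isNoetherian_of_locallyOfFiniteType U₂.ι
  haveI : IsPreimmersion k₁ := isPreimmersion_of_isLocImmersion k₁ hk₁
  haveI : IsPreimmersion k₂ := isPreimmersion_of_isLocImmersion k₂ hk₂
  haveI : IsNoetherian (pullback U₁.ι U₂.ι) :=
    isNoetherian_of_locallyOfFiniteType (pullback.fst U₁.ι U₂.ι)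
  have ha₁ : IsLocImmersion (pullback.fst U₁.ι U₂.ι ≫ k₁) :=
    isLocImmersion_openImmersion_comp _ _ hk₁
  have ha₂ : IsLocImmersion (pullback.snd U₁.ι U₂.ι ≫ k₂) :=
    isLocImmersion_openImmersion_comp _ _ hk₂
  have hφ : (pullback.fst U₁.ι U₂.ι ≫ k₁) ≫ p₁ = (pullback.snd U₁.ι U₂.ι ≫ k₂) ≫ p₂ := by
    rw [Category.assoc, Category.assoc, h₁, h₂, ← Category.assoc, ← Category.assoc,
      pullback.condition]
  set φ := pullback.lift _ _ hφ with hφdef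
  obtain ⟨W₀, hW₀, hW₀₁, hW₀₂⟩ : ∃ W₀ : φ.image.Opens,
      Set.range φ.toImage ⊆ (W₀ : Set φ.image) ∧
      IsOpenImmersion (W₀.ι ≫ φ.imageι ≫ pullback.fst p₁ p₂) ∧
      IsOpenImmersion (W₀.ι ≫ φ.imageι ≫ pullback.snd p₁ p₂) :=
    exists_opens_image _ _ p₁ p₂ ha₁ ha₂ hφ
  haveI : IsNoetherian φ.image := isNoetherian_image _ _ p₁ p₂ hφ
  set q₁ : φ.image ⟶ Y₁ := φ.imageι ≫ pullback.fst p₁ p₂ with hq₁
  set q₂ : φ.image ⟶ Y₂ := φ.imageι ≫ pullback.snd p₁ p₂ with hq₂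
  have hq₁φ : φ.toImage ≫ q₁ = pullback.fst U₁.ι U₂.ι ≫ k₁ := by
    rw [hq₁, ← Category.assoc, φ.toImage_imageι, hφdef, pullback.lift_fst]
  have hq₂φ : φ.toImage ≫ q₂ = pullback.snd U₁.ι U₂.ι ≫ k₂ := by
    rw [hq₂, ← Category.assoc, φ.toImage_imageι, hφdef, pullback.lift_snd]
  have KF : ∀ z : φ.image, q₁ z ∈ Set.range k₁ → q₂ z ∈ Set.range k₂ →
      z ∈ Set.range φ.toImage := by
    intro z hz₁ hz₂
    have hz : φ.imageι z ∈ closure (Set.range φ) := by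
      rw [← Scheme.Hom.support_ker, ← Scheme.IdealSheafData.range_subschemeι]
      exact ⟨z, rfl⟩
    obtain ⟨x, hx⟩ := mem_range_lift_of_mem_closure U₁.ι U₂.ι f k₁ k₂ p₁ p₂ h₁ h₂ hφ
      (φ.imageι z) hz hz₁ hz₂
    refine ⟨x, ?_⟩
    apply φ.imageι.isEmbedding.injective
    rw [← Scheme.Hom.comp_apply, φ.toImage_imageι]
    exact hx
  obtain ⟨F₁, F₂, hF₁, hF₂, hd₁, hd₂, hcov⟩ := exists_closed_cover q₁ q₂ q₁.continuous
    q₂.continuous (Set.range k₁) (Set.range k₂)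
    (stableUnderGeneralization_range_of_isLocalizing hk₁.1)
    (stableUnderGeneralization_range_of_isLocalizing hk₂.1) ((W₀ : Set φ.image)ᶜ)
    W₀.isOpen.isClosed_compl (fun z hz => by
      by_contra hcon
      push Not at hcon
      exact hz (hW₀ (KF z hcon.1 hcon.2)))
  set V₁ : Y₁.Opens := ⟨F₁ᶜ, hF₁.isOpen_compl⟩ with hV₁
  set V₂ : Y₂.Opens := ⟨F₂ᶜ, hF₂.isOpen_compl⟩ with hV₂
  have hkV₁ : Set.range k₁ ⊆ Set.range V₁.ι := by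
    rw [Scheme.Opens.range_ι]
    exact fun y hy hyF => Set.disjoint_left.1 hd₁ hyF hy
  have hkV₂ : Set.range k₂ ⊆ Set.range V₂.ι := by
    rw [Scheme.Opens.range_ι]
    exact fun y hy hyF => Set.disjoint_left.1 hd₂ hyF hy
  set k₁' : (U₁ : Scheme.{u}) ⟶ V₁ := IsOpenImmersion.lift V₁.ι k₁ hkV₁ with hk₁'def
  set k₂' : (U₂ : Scheme.{u}) ⟶ V₂ := IsOpenImmersion.lift V₂.ι k₂ hkV₂ with hk₂'def
  have hk₁' : k₁' ≫ V₁.ι = k₁ := IsOpenImmersion.lift_fac _ _ _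
  have hk₂' : k₂' ≫ V₂.ι = k₂ := IsOpenImmersion.lift_fac _ _ _
  set Wo : φ.image.Opens := q₁ ⁻¹ᵁ V₁ ⊓ q₂ ⁻¹ᵁ V₂ with hWo
  have hWW₀ : Wo ≤ W₀ := by
    intro z hz
    by_contra hzW
    rcases hcov hzW with h | h
    · exact hz.1 h
    · exact hz.2 h
  have hr₁ : Set.range (Wo.ι ≫ q₁) ⊆ Set.range V₁.ι := by
    rintro _ ⟨w, rfl⟩
    rw [Scheme.Opens.range_ι]
    exact w.2.1
  have hr₂ : Set.range (Wo.ι ≫ q₂) ⊆ Set.range V₂.ι := by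
    rintro _ ⟨w, rfl⟩
    rw [Scheme.Opens.range_ι]
    exact w.2.2
  set g₁ : (Wo : Scheme.{u}) ⟶ V₁ := IsOpenImmersion.lift V₁.ι (Wo.ι ≫ q₁) hr₁ with hg₁def
  set g₂ : (Wo : Scheme.{u}) ⟶ V₂ := IsOpenImmersion.lift V₂.ι (Wo.ι ≫ q₂) hr₂ with hg₂def
  have hg₁ : g₁ ≫ V₁.ι = Wo.ι ≫ q₁ := IsOpenImmersion.lift_fac _ _ _
  have hg₂ : g₂ ≫ V₂.ι = Wo.ι ≫ q₂ := IsOpenImmersion.lift_fac _ _ _
  haveI : IsOpenImmersion (Wo.ι ≫ q₁) := by
    have : Wo.ι ≫ q₁ = φ.image.homOfLE hWW₀ ≫ W₀.ι ≫ q₁ := by rw [Scheme.homOfLE_ι_assoc]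
    rw [this]
    infer_instance
  haveI : IsOpenImmersion (Wo.ι ≫ q₂) := by
    have : Wo.ι ≫ q₂ = φ.image.homOfLE hWW₀ ≫ W₀.ι ≫ q₂ := by rw [Scheme.homOfLE_ι_assoc]
    rw [this]
    infer_instance
  haveI : IsOpenImmersion g₁ := by
    haveI : IsOpenImmersion (g₁ ≫ V₁.ι) := by rw [hg₁]; infer_instance
    exact IsOpenImmersion.of_comp g₁ V₁.ι
  haveI : IsOpenImmersion g₂ := by
    haveI : IsOpenImmersion (g₂ ≫ V₂.ι) := by rw [hg₂]; infer_instance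
    exact IsOpenImmersion.of_comp g₂ V₂.ι
  have hg : g₁ ≫ V₁.ι ≫ p₁ = g₂ ≫ V₂.ι ≫ p₂ := by
    rw [reassoc_of% hg₁, reassoc_of% hg₂, hq₁, hq₂]
    simp only [Category.assoc, pullback.condition]
  -- the closed immersion
  set jV := pullback.map (V₁.ι ≫ p₁) (V₂.ι ≫ p₂) p₁ p₂ V₁.ι V₂.ι (𝟙 S)
    (Category.comp_id _) (Category.comp_id _) with hjV
  have hcomm : Wo.ι ≫ φ.imageι = pullback.lift g₁ g₂ hg ≫ jV := by
    apply pullback.hom_ext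
    · have e : jV ≫ pullback.fst p₁ p₂ = pullback.fst _ _ ≫ V₁.ι := by
        rw [hjV]; exact pullback.lift_fst _ _ _
      rw [Category.assoc, Category.assoc, e, pullback.lift_fst_assoc, hg₁]
    · have e : jV ≫ pullback.snd p₁ p₂ = pullback.snd _ _ ≫ V₂.ι := by
        rw [hjV]; exact pullback.lift_snd _ _ _
      rw [Category.assoc, Category.assoc, e, pullback.lift_snd_assoc, hg₂]
  have hrange : φ.imageι ⁻¹ᵁ jV.opensRange = Wo.ι.opensRange := by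
    rw [Scheme.Opens.opensRange_ι]
    apply TopologicalSpace.Opens.ext
    ext z
    have hrm : Set.range jV = pullback.fst p₁ p₂ ⁻¹' Set.range V₁.ι ∩
        pullback.snd p₁ p₂ ⁻¹' Set.range V₂.ι := Scheme.Pullback.range_map _ _ _ _ _ _ _ _ _
    change φ.imageι z ∈ Set.range jV ↔ z ∈ Wo
    rw [hrm, Scheme.Opens.range_ι, Scheme.Opens.range_ι]
    rfl
  have hpb : IsPullback (pullback.lift g₁ g₂ hg) Wo.ι jV φ.imageι :=
    IsOpenImmersion.isPullback _ _ _ _ hcomm hrange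
  have hclosed : IsClosedImmersion (pullback.lift g₁ g₂ hg) :=
    MorphismProperty.of_isPullback (P := @IsClosedImmersion.{u}) hpb.flip inferInstance
  -- the map from the overlap
  have hrψ : Set.range φ.toImage ⊆ Set.range Wo.ι := by
    rintro _ ⟨x, rfl⟩
    rw [Scheme.Opens.range_ι]
    refine ⟨?_, ?_⟩
    · change q₁ (φ.toImage x) ∈ V₁
      rw [← Scheme.Hom.comp_apply, hq₁φ, ← hk₁']
      exact (k₁' _).2
    · change q₂ (φ.toImage x) ∈ V₂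
      rw [← Scheme.Hom.comp_apply, hq₂φ, ← hk₂']
      exact (k₂' _).2
  set ψ : pullback U₁.ι U₂.ι ⟶ Wo := IsOpenImmersion.lift Wo.ι φ.toImage hrψ with hψdef
  have hψ : ψ ≫ Wo.ι = φ.toImage := IsOpenImmersion.lift_fac _ _ _
  have hψ₁ : ψ ≫ g₁ = pullback.fst _ _ ≫ k₁' := by
    rw [← cancel_mono V₁.ι, Category.assoc, hg₁, reassoc_of% hψ, hq₁φ, Category.assoc, hk₁']
  have hψ₂ : ψ ≫ g₂ = pullback.snd _ _ ≫ k₂' := by
    rw [← cancel_mono V₂.ι, Category.assoc, hg₂, reassoc_of% hψ, hq₂φ, Category.assoc, hk₂']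
  refine ⟨V₁, V₂, k₁', k₂', hk₁', hk₂', Wo, g₁, g₂, inferInstance, inferInstance, hg, hclosed, ψ,
    hψ₁, hψ₂, ?_⟩
  intro w u₁ u₂ hw₁ hw₂
  have e₁ : q₁ (Wo.ι w) = k₁ u₁ := by
    rw [← Scheme.Hom.comp_apply, ← hg₁, Scheme.Hom.comp_apply, hw₁, ← Scheme.Hom.comp_apply, hk₁']
  have e₂ : q₂ (Wo.ι w) = k₂ u₂ := by
    rw [← Scheme.Hom.comp_apply, ← hg₂, Scheme.Hom.comp_apply, hw₂, ← Scheme.Hom.comp_apply, hk₂']
  obtain ⟨x, hx⟩ := KF (Wo.ι w) ⟨u₁, e₁.symm⟩ ⟨u₂, e₂.symm⟩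
  have e₁' : k₁ (pullback.fst U₁.ι U₂.ι x) = k₁ u₁ := by
    rw [← e₁, ← hx, ← Scheme.Hom.comp_apply, ← Scheme.Hom.comp_apply, hq₁φ]
  have e₂' : k₂ (pullback.snd U₁.ι U₂.ι x) = k₂ u₂ := by
    rw [← e₂, ← hx, ← Scheme.Hom.comp_apply, ← Scheme.Hom.comp_apply, hq₂φ]
  rw [← hk₁.2 e₁', ← hk₂.2 e₂', ← Scheme.Hom.comp_apply, ← Scheme.Hom.comp_apply,
    pullback.condition]


/-- **Gluing two factorizations.** If the restrictions of a separated morphism `f : X ⟶ S` of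
Noetherian schemes to two opens covering `X` factor as a localizing immersion followed by a
separated morphism of finite type, then so does `f`. -/
theorem exists_factor_of_two_opens {X S : Scheme.{u}} [IsNoetherian X] [IsNoetherian S]
    (f : X ⟶ S) [IsSeparated f] (U₁ U₂ : X.Opens) (hU : U₁ ⊔ U₂ = ⊤) (Y₁ Y₂ : Scheme.{u})
    [IsNoetherian Y₁] [IsNoetherian Y₂]
    (k₁ : (U₁ : Scheme.{u}) ⟶ Y₁) (k₂ : (U₂ : Scheme.{u}) ⟶ Y₂) (p₁ : Y₁ ⟶ S) (p₂ : Y₂ ⟶ S)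
    (hk₁ : IsLocImmersion k₁) (hk₂ : IsLocImmersion k₂)
    [IsSeparated p₁] [IsSeparated p₂] [LocallyOfFiniteType p₁] [LocallyOfFiniteType p₂]
    [QuasiCompact p₁] [QuasiCompact p₂]
    (h₁ : k₁ ≫ p₁ = U₁.ι ≫ f) (h₂ : k₂ ≫ p₂ = U₂.ι ≫ f) :
    ∃ (Y : Scheme.{u}) (k : X ⟶ Y) (p : Y ⟶ S), IsNoetherian Y ∧ IsLocImmersion k ∧
      IsSeparated p ∧ LocallyOfFiniteType p ∧ QuasiCompact p ∧ k ≫ p = f := by
  obtain ⟨V₁, V₂, k₁', k₂', hk₁', hk₂', W, g₁, g₂, _, _, hg, hc, ψ, hψ₁, hψ₂, hinj⟩ :=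
    exists_glue_data f U₁ U₂ Y₁ Y₂ k₁ k₂ p₁ p₂ hk₁ hk₂ h₁ h₂
  haveI : IsNoetherian (V₁ : Scheme.{u}) := isNoetherian_of_locallyOfFiniteType V₁.ι
  haveI : IsNoetherian (V₂ : Scheme.{u}) := isNoetherian_of_locallyOfFiniteType V₂.ι
  refine exists_factor_of_glue_data f U₁ U₂ hU k₁' k₂' (V₁.ι ≫ p₁) (V₂.ι ≫ p₂)
    (isLocImmersion_of_comp_openImmersion k₁' V₁.ι (by rw [hk₁']; exact hk₁))
    (isLocImmersion_of_comp_openImmersion k₂' V₂.ι (by rw [hk₂']; exact hk₂))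
    (by rw [reassoc_of% hk₁', h₁]) (by rw [reassoc_of% hk₂', h₂]) g₁ g₂ hg hc ψ hψ₁ hψ₂ hinj

end Groth.Agent.Lib.Helper41
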