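import Groth.Agent.Lib.Helper41.LocImm
import Mathlib.AlgebraicGeometry.Morphisms.UniversallyOpen
import Mathlib.AlgebraicGeometry.Morphisms.Separated
import Mathlib.AlgebraicGeometry.PullbackCarrier

set_option autoImplicit false
set_option linter.style.haveILetI false
universe u
open CategoryTheory CategoryTheory.Limits AlgebraicGeometry LocImm

namespace Groth.Agent.Lib.Helper41

/-- Every point of a quasi-sober T0 space has a maximal generization. -/
theorem exists_maximal_specializes {α : Type*} [TopologicalSpace α] [QuasiSober α] [T0Space α]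
    (w : α) : ∃ ξ : α, ξ ⤳ w ∧ ∀ ζ : α, ζ ⤳ ξ → ζ = ξ := by
  have hirr : IsIrreducible (irreducibleComponent w) := isIrreducible_irreducibleComponent
  have hcl : IsClosed (irreducibleComponent w) := isClosed_irreducibleComponent
  have hgen := hirr.isGenericPoint_genericPoint hcl
  refine ⟨hirr.genericPoint, hgen.specializes mem_irreducibleComponent, fun ζ hζ => ?_⟩
  have h1 : irreducibleComponent w ⊆ closure {ζ} := by
    rw [← hgen.def]
    exact closure_minimal (Set.singleton_subset_iff.2 hζ.mem_closure) isClosed_closure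
  have hmax := irreducibleComponent_mem_irreducibleComponents w
  have h2 : closure {ζ} = irreducibleComponent w :=
    (hmax.2 (isIrreducible_singleton.closure) h1).antisymm h1
  have h3 : IsGenericPoint ζ (irreducibleComponent w) := h2
  exact h3.eq hgen

theorem isIso_residueFieldMap_of_isIso_stalkMap {X Y : Scheme.{u}} (f : X ⟶ Y) (x : X)
    [IsIso (f.stalkMap x)] : IsIso (f.residueFieldMap x) :=
  (IsLocalRing.ResidueField.mapEquiv
    (asIso (f.stalkMap x)).commRingCatIsoToRingEquiv).toCommRingCatIso.isIso_hom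

/-- Two points of a fibre product with the same projections coincide, provided the residue field
extension at the first projection is trivial. -/
theorem eq_of_fst_eq_of_snd_eq {X Y S : Scheme.{u}} (f : X ⟶ S) (g : Y ⟶ S)
    (w w' : ↑(pullback f g)) (h1 : pullback.fst f g w = pullback.fst f g w')
    (h2 : pullback.snd f g w = pullback.snd f g w')
    [IsIso (f.residueFieldMap (pullback.fst f g w'))] : w = w' := by
  apply Scheme.Pullback.carrierEquiv.injective
  have e : (Scheme.Pullback.carrierEquiv w).1 = (Scheme.Pullback.carrierEquiv w').1 :=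
    Scheme.Pullback.Triplet.ext h1 h2
  refine Scheme.Pullback.carrierEquiv_eq_iff.2 ⟨e, ?_⟩
  have : Subsingleton (Spec (Scheme.Pullback.carrierEquiv w').1.tensor) := by
    change Subsingleton (PrimeSpectrum (Scheme.Pullback.Triplet.ofPoint w').tensor)
    set T := Scheme.Pullback.Triplet.ofPoint w' with hT
    haveI : IsIso (f.residueFieldMap T.x) := ‹_›
    have hiso : IsIso T.tensorInr :=
      inferInstanceAs (IsIso (pushout.inr ((S.residueFieldCongr T.hx).inv ≫ f.residueFieldMap T.x)
        ((S.residueFieldCongr T.hy).inv ≫ g.residueFieldMap T.y)))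
    have hfield : IsField T.tensor :=
      MulEquiv.isField (Field.toIsField (Y.residueField T.y))
        (asIso T.tensorInr).commRingCatIsoToRingEquiv.symm.toMulEquiv
    letI := hfield.toField
    infer_instance
  exact Subsingleton.elim _ _

/-- A separated localizing morphism which is injective on maximal points is injective. -/
theorem injective_of_isSeparated_of_injOn_maximal {X Y : Scheme.{u}} (f : X ⟶ Y)
    (hf : IsLocalizing f) [IsSeparated f]
    (hinj : Set.InjOn (fun x => f x) {x : X | ∀ x' : X, x' ⤳ x → x' = x}) :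
    Function.Injective f.base := by
  intro x₁ x₂ h
  haveI : Flat f := flat_of_isLocalizing hf
  obtain ⟨w, hw₁, hw₂⟩ := Scheme.Pullback.exists_preimage_pullback (f := f) (g := f) x₁ x₂ h
  obtain ⟨ξ', hξ'w, hξ'max⟩ := exists_maximal_specializes w
  have hmax₁ : ∀ ζ : X, ζ ⤳ pullback.fst f f ξ' → ζ = pullback.fst f f ξ' := by
    intro ζ hζ
    obtain ⟨ζ', hζ', rfl⟩ := (Flat.generalizingMap (pullback.fst f f)) hζ
    rw [hξ'max ζ' hζ']
  have hmax₂ : ∀ ζ : X, ζ ⤳ pullback.snd f f ξ' → ζ = pullback.snd f f ξ' := by
    intro ζ hζ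
    obtain ⟨ζ', hζ', rfl⟩ := (Flat.generalizingMap (pullback.snd f f)) hζ
    rw [hξ'max ζ' hζ']
  have hfeq : f (pullback.fst f f ξ') = f (pullback.snd f f ξ') := by
    rw [← Scheme.Hom.comp_apply, ← Scheme.Hom.comp_apply, pullback.condition]
  have hξ : pullback.fst f f ξ' = pullback.snd f f ξ' := hinj hmax₁ hmax₂ hfeq
  have hΔ₁ : pullback.fst f f (pullback.diagonal f (pullback.fst f f ξ')) =
      pullback.fst f f ξ' := by
    rw [← Scheme.Hom.comp_apply, pullback.diagonal_fst]; rfl
  have hΔ₂ : pullback.snd f f (pullback.diagonal f (pullback.fst f f ξ')) =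
      pullback.fst f f ξ' := by
    rw [← Scheme.Hom.comp_apply, pullback.diagonal_snd]; rfl
  haveI : IsIso (f.stalkMap (pullback.fst f f ξ')) := isIso_stalkMap_of_isLocalizing hf _
  haveI := isIso_residueFieldMap_of_isIso_stalkMap f (pullback.fst f f ξ')
  have hξ'Δ : pullback.diagonal f (pullback.fst f f ξ') = ξ' :=
    eq_of_fst_eq_of_snd_eq f f _ _ hΔ₁ (hΔ₂.trans hξ)
  have hcl : IsClosed (Set.range (pullback.diagonal f)) :=
    (pullback.diagonal f).isClosedEmbedding.isClosed_range
  have hw : w ∈ Set.range (pullback.diagonal f) := hξ'w.mem_closed hcl ⟨_, hξ'Δ⟩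
  obtain ⟨x, rfl⟩ := hw
  rw [← hw₁, ← hw₂, ← Scheme.Hom.comp_apply, ← Scheme.Hom.comp_apply, pullback.diagonal_fst,
    pullback.diagonal_snd]

end Groth.Agent.Lib.Helper41
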