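import Groth.Agent.Lib.Helper41.LocImmEssFT
import Groth.Agent.Lib.Helper41.LocImmOpen
import Groth.Agent.Lib.Helper41.LocImmSep

set_option autoImplicit false
set_option linter.style.haveILetI false

universe u

open CategoryTheory CategoryTheory.Limits AlgebraicGeometry LocImm

namespace Groth.Agent.Lib.Helper41

/-- A point with no proper generization is the generic point of an irreducible component. -/
theorem mem_genericPoints_of_maximal {α : Type*} [TopologicalSpace α] [QuasiSober α] [T0Space α]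
    (η : α) (hη : ∀ ζ : α, ζ ⤳ η → ζ = η) : η ∈ genericPoints α := by
  have hirr : IsIrreducible (irreducibleComponent η) := isIrreducible_irreducibleComponent
  have hcl : IsClosed (irreducibleComponent η) := isClosed_irreducibleComponent
  have hgen := hirr.isGenericPoint_genericPoint hcl
  have h1 : hirr.genericPoint = η := hη _ (hgen.specializes mem_irreducibleComponent)
  change closure {η} ∈ irreducibleComponents α
  rw [← h1, hgen.def]
  exact irreducibleComponent_mem_irreducibleComponents η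

variable {X Y₁ Y₂ : Scheme.{u}}

theorem stalkMap_bijective_of_comp (f₁ : X ⟶ Y₁) (g : Y₁ ⟶ Y₂) (x : X)
    (h₁ : Function.Bijective (f₁.stalkMap x).hom)
    (h₂ : Function.Bijective ((f₁ ≫ g).stalkMap x).hom) :
    Function.Bijective (g.stalkMap (f₁ x)).hom := by
  have h₃ : Function.Bijective ((g.stalkMap (f₁ x) ≫ f₁.stalkMap x).hom) := by
    have := Scheme.Hom.stalkMap_comp f₁ g x
    rw [this] at h₂
    exact h₂
  rw [CommRingCat.hom_comp, RingHom.coe_comp] at h₃
  exact (Function.Bijective.of_comp_iff' h₁ _).1 h₃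

/-- Let `f₁ : X ⟶ Y₁` and `f₁ ≫ g : X ⟶ Y₂` be localizing immersions with `g` separated and
locally essentially of finite type. Then `g` restricts to a localizing immersion on an open
neighbourhood of the image of `f₁`. -/
theorem exists_open_isLocImmersion [IsNoetherian Y₁] [IsLocallyNoetherian Y₂]
    (f₁ : X ⟶ Y₁) (g : Y₁ ⟶ Y₂) (hf₁ : IsLocImmersion f₁) (hf₂ : IsLocImmersion (f₁ ≫ g))
    [IsSeparated g] [EssFT.LocallyEssFiniteType g] :
    ∃ U : Y₁.Opens, Set.range f₁ ⊆ (U : Set Y₁) ∧ IsLocImmersion (U.ι ≫ g) := by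
  -- the locus where `g` has a localizing chart
  let U₀ : Y₁.Opens := ⟨{y | ∃ (W : Y₂.affineOpens) (V : Y₁.affineOpens) (_ : y ∈ V.1)
      (e : V.1 ≤ g ⁻¹ᵁ W.1), IsLocHom (g.appLE W V e).hom}, by
    rw [isOpen_iff_forall_mem_open]
    rintro y ⟨W, V, hyV, e, hloc⟩
    exact ⟨V.1, fun y' hy' => ⟨W, V, hy', e, hloc⟩, V.1.2, hyV⟩⟩
  have hU₀ : ∀ x : X, f₁ x ∈ U₀ := fun x =>
    exists_chart_of_stalkMap_bijective g (f₁ x)
      (stalkMap_bijective_of_comp f₁ g x (stalkMap_bijective_of_isLocalizing hf₁.1 x)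
        (stalkMap_bijective_of_isLocalizing hf₂.1 x))
  -- the bad generic points
  let M : Set Y₁ := {η | η ∈ genericPoints Y₁ ∧ η ∉ Set.range f₁}
  have hMfin : M.Finite :=
    (genericPoints.finite TopologicalSpace.NoetherianSpace.finite_irreducibleComponents).subset
      fun η hη => hη.1
  have hF : ∀ x : X, f₁ x ∉ closure M := by
    intro x hx
    have hM : M = ⋃ η ∈ M, {η} := by simp
    rw [hM, hMfin.closure_biUnion] at hx
    obtain ⟨η, hηM, hη⟩ := Set.mem_iUnion₂.1 hx
    have hsp : η ⤳ f₁ x := specializes_iff_mem_closure.2 hη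
    exact hηM.2 (stableUnderGeneralization_range_of_isLocalizing hf₁.1 hsp ⟨x, rfl⟩)
  let U : Y₁.Opens := U₀ ⊓ ⟨(closure M)ᶜ, isClosed_closure.isOpen_compl⟩
  refine ⟨U, ?_, ?_, ?_⟩
  · rintro _ ⟨x, rfl⟩
    exact ⟨hU₀ x, hF x⟩
  · exact isLocalizing_comp_of_forall_chart U.ι g fun y => by
      have hy : U.ι y ∈ U := by
        have : U.ι y ∈ Set.range U.ι := ⟨y, rfl⟩
        rw [Scheme.Opens.range_ι] at this
        exact this
      exact hy.1
  · haveI : IsSeparated (U.ι ≫ g) := inferInstance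
    refine injective_of_isSeparated_of_injOn_maximal (U.ι ≫ g)
      (isLocalizing_comp_of_forall_chart U.ι g fun y => by
        have hy : U.ι y ∈ U := by
          have : U.ι y ∈ Set.range U.ι := ⟨y, rfl⟩
          rw [Scheme.Opens.range_ι] at this
          exact this
        exact hy.1) ?_
    -- maximal points of `U` come from `X`
    have key : ∀ u : U.toScheme, (∀ u' : U.toScheme, u' ⤳ u → u' = u) →
        U.ι u ∈ Set.range f₁ := by
      intro u hu
      have hyU : U.ι u ∈ U := by
        have : U.ι u ∈ Set.range U.ι := ⟨u, rfl⟩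
        rw [Scheme.Opens.range_ι] at this
        exact this
      have hmax : ∀ ζ : Y₁, ζ ⤳ U.ι u → ζ = U.ι u := by
        intro ζ hζ
        have hζU : ζ ∈ U := hζ.mem_open U.2 hyU
        have : ζ ∈ Set.range U.ι := by rw [Scheme.Opens.range_ι]; exact hζU
        obtain ⟨ζ', rfl⟩ := this
        have h' : ζ' ⤳ u := U.ι.isOpenEmbedding.isInducing.specializes_iff.1 hζ
        rw [hu ζ' h']
      have hgen := mem_genericPoints_of_maximal (U.ι u) hmax
      by_contra hnot
      exact hyU.2 (subset_closure ⟨hgen, hnot⟩)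
    intro u hu u' hu' huu'
    obtain ⟨ξ, hξ⟩ := key u hu
    obtain ⟨ξ', hξ'⟩ := key u' hu'
    have h1 : (f₁ ≫ g) ξ = (f₁ ≫ g) ξ' := by
      change g (f₁ ξ) = g (f₁ ξ')
      rw [hξ, hξ']
      exact huu'
    have h2 : ξ = ξ' := hf₂.2 h1
    apply U.ι.isOpenEmbedding.injective
    rw [← hξ, ← hξ', h2]

end Groth.Agent.Lib.Helper41
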