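import Groth.Agent.Lib.Helper41.LocImmEssFactor
import Mathlib.AlgebraicGeometry.Stalk
import Mathlib.RingTheory.RingHom.Locally
import Mathlib.RingTheory.RingHom.EssFiniteType

set_option autoImplicit false
set_option linter.style.haveILetI false
set_option linter.unusedSectionVars false
universe u
open CategoryTheory CategoryTheory.Limits AlgebraicGeometry LocImm TopologicalSpace

namespace Groth.Agent.Lib.Helper41

instance locallyEssFiniteType_isStableUnderComposition :
    MorphismProperty.IsStableUnderComposition @EssFT.LocallyEssFiniteType.{u} :=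
  HasRingHomProperty.stableUnderComposition
    (RingHom.locally_stableUnderComposition RingHom.EssFiniteType.respectsIso
      RingHom.EssFiniteType.isStableUnderBaseChange.localizationPreserves
      RingHom.EssFiniteType.stableUnderComposition)

theorem locallyEssFiniteType_comp {X Y Z : Scheme.{u}} (f : X ⟶ Y) (g : Y ⟶ Z)
    [hf : EssFT.LocallyEssFiniteType f] [hg : EssFT.LocallyEssFiniteType g] :
    EssFT.LocallyEssFiniteType (f ≫ g) :=
  MorphismProperty.comp_mem _ f g hf hg

theorem isLocHom_essFiniteType {A B : Type*} [CommRing A] [CommRing B] (φ : A →+* B)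
    (hφ : IsLocHom φ) : φ.EssFiniteType := by
  letI := φ.toAlgebra
  obtain ⟨M, hM⟩ := hφ
  exact Algebra.EssFiniteType.of_isLocalization B M

theorem locallyEssFiniteType_of_isLocalizing {X Y : Scheme.{u}} (f : X ⟶ Y)
    (hf : IsLocalizing f) : EssFT.LocallyEssFiniteType f :=
  ⟨fun x => by
    obtain ⟨U, V, hx, e, h⟩ := hf x
    exact ⟨U, V, hx, e, isLocHom_essFiniteType _ h⟩⟩

theorem isLocalizing_id (X : Scheme.{u}) : IsLocalizing (𝟙 X) := by
  intro x
  obtain ⟨U, hU, hxU, -⟩ := exists_isAffineOpen_mem_and_subset (U := ⊤) (x := x) (by simp)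
  have e : U ≤ (𝟙 X : X ⟶ X) ⁻¹ᵁ U := le_of_eq (Scheme.Hom.id_preimage U).symm
  refine ⟨⟨U, hU⟩, ⟨U, hU⟩, hxU, e, ?_⟩
  apply isLocHom_of_bijective
  have : (𝟙 X : X ⟶ X).appLE U U e = 𝟙 _ := by
    simp only [Scheme.Hom.appLE, Scheme.Hom.id_app]
    exact X.presheaf.map_id _
  show Function.Bijective ((𝟙 X : X ⟶ X).appLE U U e).hom
  rw [this]
  exact Function.bijective_id

theorem isLocImmersion_of_isOpenImmersion {X Y : Scheme.{u}} (j : X ⟶ Y) [IsOpenImmersion j] :
    IsLocImmersion j := by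
  have := isLocImmersion_openImmersion_comp j (𝟙 Y) ⟨isLocalizing_id Y, fun _ _ h => h⟩
  rwa [Category.comp_id] at this

theorem isLocImmersion_fromSpecStalk (X : Scheme.{u}) (x : X) :
    IsLocImmersion (X.fromSpecStalk x) := by
  obtain ⟨U, hU, hxU, -⟩ := exists_isAffineOpen_mem_and_subset (U := ⊤) (x := x) (by simp)
  rw [← hU.fromSpecStalk_eq_fromSpecStalk hxU, IsAffineOpen.fromSpecStalk]
  haveI : IsOpenImmersion hU.fromSpec := hU.isOpenImmersion_fromSpec
  refine isLocImmersion_comp_openImmersion _ _ (isLocImmersion_SpecMap _ ?_)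
  exact ⟨_, hU.isLocalization_stalk ⟨x, hxU⟩⟩


instance isNoetherian_Spec_stalk (X : Scheme.{u}) [IsLocallyNoetherian X] (x : X) :
    IsNoetherian (Spec (X.presheaf.stalk x)) := inferInstance

theorem essFiniteType_fromSpecStalk_comp {X Y : Scheme.{u}} [IsLocallyNoetherian X] (x : X)
    (f : X ⟶ Y) [EssFT.LocallyEssFiniteType f] : EssFT.EssFiniteType (X.fromSpecStalk x ≫ f) :=
  haveI : EssFT.LocallyEssFiniteType (X.fromSpecStalk x) :=
    locallyEssFiniteType_of_isLocalizing _ (isLocImmersion_fromSpecStalk X x).1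
  { toLocallyEssFiniteType := locallyEssFiniteType_comp _ _
    toQuasiCompact := inferInstance }

section PLocal

variable (P : MorphismProperty Scheme.{u})
  (hα : ∀ {W X Y : Scheme.{u}} [IsNoetherian W] [IsNoetherian X] [IsNoetherian Y] (i : W ⟶ X)
    (f : X ⟶ Y) [IsSeparated f] [EssFT.EssFiniteType f], LocImm.IsLocImmersion i → P f →
    P (i ≫ f))

include hα in
theorem P_stalk_iff {A B Y : Scheme.{u}} [IsNoetherian A] [IsNoetherian B] [IsNoetherian Y]
    (g : A ⟶ B) (q : B ⟶ Y) [IsSeparated q] [EssFT.LocallyEssFiniteType q] [IsSeparated (g ≫ q)]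
    [EssFT.LocallyEssFiniteType (g ≫ q)] (a : A) [IsIso (g.stalkMap a)] :
    P (A.fromSpecStalk a ≫ g ≫ q) ↔ P (B.fromSpecStalk (g a) ≫ q) := by
  have hrel : Spec.map (g.stalkMap a) ≫ B.fromSpecStalk (g a) = A.fromSpecStalk a ≫ g :=
    Scheme.SpecMap_stalkMap_fromSpecStalk g
  haveI : EssFT.EssFiniteType (B.fromSpecStalk (g a) ≫ q) := essFiniteType_fromSpecStalk_comp _ _
  haveI : EssFT.EssFiniteType (A.fromSpecStalk a ≫ g ≫ q) := essFiniteType_fromSpecStalk_comp _ _
  constructor
  · intro h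
    have := hα (inv (Spec.map (g.stalkMap a))) (A.fromSpecStalk a ≫ g ≫ q)
      (isLocImmersion_of_isOpenImmersion _) h
    rwa [← Category.assoc (A.fromSpecStalk a), ← hrel, Category.assoc,
      IsIso.inv_hom_id_assoc] at this
  · intro h
    have := hα (Spec.map (g.stalkMap a)) (B.fromSpecStalk (g a) ≫ q)
      (isLocImmersion_of_isOpenImmersion _) h
    rwa [← Category.assoc, hrel, Category.assoc] at this

end PLocal

end Groth.Agent.Lib.Helper41
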