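import Groth.Agent.Lib.Helper41.UnivOpenComp
import Mathlib.AlgebraicGeometry.Noetherian
import Mathlib.Topology.NoetherianSpace

/-!
# Maximal points of locally Noetherian schemes
-/

set_option autoImplicit false
universe u
open CategoryTheory AlgebraicGeometry TopologicalSpace

namespace Groth.Agent.Lib.Helper41.MaxPt

/-- Every point of a scheme has a generization which is a maximal point. -/
theorem exists_isMax_specializes {P : Scheme.{u}} (x : P) :
    ∃ ξ : P, ξ ⤳ x ∧ ∀ t : P, t ⤳ ξ → t = ξ := by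
  obtain ⟨ξ, hξ, hmax⟩ := UnivOpenComp.exists_generic_of_mem_irreducibleComponents
    (irreducibleComponent_mem_irreducibleComponents x)
  exact ⟨ξ, specializes_iff_mem_closure.2 (hξ ▸ mem_irreducibleComponent), hmax⟩

/-- In a locally Noetherian scheme, a maximal point specializes to a point of any dense subset. -/
theorem exists_mem_of_dense_of_isMax {X : Scheme.{u}} [IsLocallyNoetherian X] (ξ : X)
    (hmax : ∀ t : X, t ⤳ ξ → t = ξ) (G : Set X) (hG : Dense G) : ∃ w ∈ G, ξ ⤳ w := by
  obtain ⟨_, ⟨N, hN, rfl⟩, hξN, -⟩ :=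
    X.isBasis_affineOpens.exists_subset_of_mem_open (Set.mem_univ ξ) isOpen_univ
  haveI : IsNoetherianRing Γ(X, N) := IsLocallyNoetherian.component_noetherian ⟨N, hN⟩
  haveI : NoetherianSpace ↥N := noetherianSpace_of_isAffineOpen N hN
  haveI : QuasiSober ↥N := N.isOpen.isOpenEmbedding_subtypeVal.quasiSober
  let ξN : ↥N := ⟨ξ, hξN⟩
  have hZ : irreducibleComponent ξN ∈ irreducibleComponents ↥N :=
    irreducibleComponent_mem_irreducibleComponents ξN
  obtain ⟨c, hc⟩ := QuasiSober.sober hZ.1 (isClosed_of_mem_irreducibleComponents _ hZ)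
  have hcξ : c ⤳ ξN := specializes_iff_mem_closure.2 (hc.def ▸ mem_irreducibleComponent)
  have hcξ' : c = ξN := Subtype.ext (hmax c.1 (hcξ.map continuous_subtype_val))
  obtain ⟨o, ho, ⟨v, hv⟩, hoZ⟩ :=
    NoetherianSpace.exists_isOpen_nonempty_subset_irreducibleComponent _ hZ
  have hoX : IsOpen (Subtype.val '' o : Set X) := N.isOpen.isOpenMap_subtype_val o ho
  obtain ⟨w, hwo, hwG⟩ := hG.inter_open_nonempty _ hoX ⟨v.1, v, hv, rfl⟩
  obtain ⟨v', hv', rfl⟩ := hwo
  refine ⟨v'.1, hwG, ?_⟩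
  have h1 : ξN ⤳ v' := by
    rw [← hcξ']
    exact specializes_iff_mem_closure.2 (hc.def ▸ hoZ hv')
  exact h1.map continuous_subtype_val

end Groth.Agent.Lib.Helper41.MaxPt
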