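import Groth.Agent.Lib.Helper41.UnivOpenComp
import Groth.Agent.Lib.Helper41.MaxPt
import Groth.Agent.Lib.Helper76.RegularLocal
import Mathlib.RingTheory.DiscreteValuationRing.TFAE
import Mathlib.AlgebraicGeometry.Morphisms.Flat
import Mathlib.AlgebraicGeometry.Morphisms.UniversallyOpen

/-!
# Universal openness over a regular base of dimension `≤ 1`
-/

set_option autoImplicit false
universe u
open CategoryTheory CategoryTheory.Limits AlgebraicGeometry IsLocalRing TopologicalSpace

namespace Groth.Agent.Lib.Helper41.UnivOpenDim1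

open Groth.Agent.Lib.Helper41.UnivOpenDvr

/-- A regular local ring of dimension `≤ 1` is a principal ideal domain. -/
theorem isPrincipalIdealRing_of_regular (R : Type u) [CommRing R] [IsRegularLocalRing R]
    (hd : ringKrullDim R ≤ 1) : ∃ _ : IsDomain R, IsPrincipalIdealRing R := by
  have hdom := Groth.Agent.Lib.Helper76.isDomain_of_isRegularLocalRing R
  refine ⟨hdom, ?_⟩
  by_cases hf : IsField R
  · exact hf.isPrincipalIdealRing
  · have h5 : Module.finrank (ResidueField R) (CotangentSpace R) ≤ 1 := by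
      have h := (IsRegularLocalRing.iff_finrank_cotangentSpace R).mp inferInstance
      rw [← h] at hd
      exact_mod_cast hd
    have hP : (maximalIdeal R).IsPrincipal := finrank_cotangentSpace_le_one_iff.mp h5
    have : IsDiscreteValuationRing R := ((IsDiscreteValuationRing.TFAE R hf).out 0 4).mpr hP
    infer_instance

/-- In a local principal ideal domain, a prime different from the maximal ideal is zero. -/
theorem eq_bot_of_ne_maximalIdeal {O : Type*} [CommRing O] [IsDomain O] [IsLocalRing O]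
    [IsPrincipalIdealRing O] (p : Ideal O) [hp : p.IsPrime] (hne : p ≠ maximalIdeal O) :
    p = ⊥ := by
  by_contra hnb
  exact hne (IsLocalRing.eq_maximalIdeal (IsPrime.to_maximal_ideal hnb))

/-- An injective homomorphism from a principal ideal domain to a domain is flat. -/
theorem flat_of_injective {O A : Type*} [CommRing O] [IsDomain O] [IsPrincipalIdealRing O]
    [CommRing A] [IsDomain A] (ψ : O →+* A) (hψ : Function.Injective ψ) : ψ.Flat := by
  letI := ψ.toAlgebra
  change Module.Flat O A
  rw [Module.Flat.flat_iff_torsion_eq_bot_of_isBezout, eq_bot_iff]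
  intro a ha
  rw [Submodule.mem_torsion_iff] at ha
  obtain ⟨⟨r, hr⟩, hra⟩ := ha
  rw [Submodule.mem_bot]
  have h1 : ψ r * a = 0 := hra
  have h2 : ψ r ≠ 0 := by
    intro h0
    exact nonZeroDivisors.ne_zero hr (hψ (h0.trans (map_zero ψ).symm))
  exact (mul_eq_zero.1 h1).resolve_left h2

/-- `Spec 𝒪_{Y,y} ⟶ Y` is flat. -/
theorem flat_fromSpecStalk (Y : Scheme.{u}) (y : Y) : Flat (Y.fromSpecStalk y) := by
  obtain ⟨_, ⟨U : Y.Opens, hU : IsAffineOpen U, rfl⟩, hyU, -⟩ :=
    Y.isBasis_affineOpens.exists_subset_of_mem_open (Set.mem_univ y) isOpen_univ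
  rw [← hU.fromSpecStalk_eq_fromSpecStalk hyU, IsAffineOpen.fromSpecStalk]
  have : Flat (Spec.map (Y.presheaf.germ U y hyU)) := by
    rw [Flat.SpecMap_iff]
    let _ : Algebra Γ(Y, U) (Y.presheaf.stalk y) :=
      TopCat.Presheaf.algebra_section_stalk Y.presheaf ⟨y, hyU⟩
    have := hU.isLocalization_stalk ⟨y, hyU⟩
    have hfl : Module.Flat Γ(Y, U) (Y.presheaf.stalk y) :=
      IsLocalization.flat _ (hU.primeIdealOf ⟨y, hyU⟩).asIdeal.primeCompl
    exact hfl
  infer_instance

/-- The closure of a maximal point is an irreducible component. -/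
theorem closure_mem_irreducibleComponents {X : Scheme.{u}} (ξ : X)
    (hmax : ∀ t : X, t ⤳ ξ → t = ξ) : closure {ξ} ∈ irreducibleComponents (X : Type u) := by
  have hZ : irreducibleComponent ξ ∈ irreducibleComponents (X : Type u) :=
    irreducibleComponent_mem_irreducibleComponents ξ
  obtain ⟨c, hc, -⟩ := UnivOpenComp.exists_generic_of_mem_irreducibleComponents hZ
  have hcξ : c ⤳ ξ := specializes_iff_mem_closure.2 (hc ▸ mem_irreducibleComponent)
  rw [← hmax c hcξ, hc]
  exact hZ

/-- In a locally Noetherian scheme, an affine open contains finitely many maximal points. -/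
theorem finite_isMax_mem {X : Scheme.{u}} [IsLocallyNoetherian X] (N : X.Opens)
    (hN : IsAffineOpen N) : {ξ : X | ξ ∈ N ∧ ∀ t : X, t ⤳ ξ → t = ξ}.Finite := by
  haveI : IsNoetherianRing Γ(X, N) := IsLocallyNoetherian.component_noetherian ⟨N, hN⟩
  haveI : NoetherianSpace ↥N := noetherianSpace_of_isAffineOpen N hN
  haveI : QuasiSober ↥N := N.isOpen.isOpenEmbedding_subtypeVal.quasiSober
  haveI : Finite ↥(irreducibleComponents ↥N) :=
    NoetherianSpace.finite_irreducibleComponents.to_subtype
  let F : ↥(irreducibleComponents ↥N) → X := fun Z =>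
    ((QuasiSober.sober Z.2.1 (isClosed_of_mem_irreducibleComponents _ Z.2)).choose).1
  refine (Set.finite_range F).subset ?_
  rintro ξ ⟨hξN, hmax⟩
  let ξN : ↥N := ⟨ξ, hξN⟩
  have hZ : irreducibleComponent ξN ∈ irreducibleComponents ↥N :=
    irreducibleComponent_mem_irreducibleComponents ξN
  refine ⟨⟨_, hZ⟩, ?_⟩
  have hc := (QuasiSober.sober hZ.1 (isClosed_of_mem_irreducibleComponents _ hZ)).choose_spec
  have hmem : ξN ∈ irreducibleComponent ξN := mem_irreducibleComponent
  rw [← hc.def] at hmem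
  have hcξ : (QuasiSober.sober hZ.1 (isClosed_of_mem_irreducibleComponents _ hZ)).choose ⤳ ξN :=
    specializes_iff_mem_closure.2 hmem
  exact hmax _ (hcξ.map continuous_subtype_val)

/-- In a locally Noetherian scheme, the set of points all of whose maximal generizations satisfy
a given property is open. -/
theorem isOpen_setOf_forall_isMax {X : Scheme.{u}} [IsLocallyNoetherian X] (P : X → Prop) :
    IsOpen {x : X | ∀ ξ : X, ξ ⤳ x → (∀ t : X, t ⤳ ξ → t = ξ) → P ξ} := by
  rw [isOpen_iff_forall_mem_open]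
  intro x hx
  obtain ⟨_, ⟨N, hN, rfl⟩, hxN, -⟩ :=
    X.isBasis_affineOpens.exists_subset_of_mem_open (Set.mem_univ x) isOpen_univ
  let S : Set X := {ξ : X | (ξ ∈ N ∧ ∀ t : X, t ⤳ ξ → t = ξ) ∧ ¬ P ξ}
  have hS : S.Finite := (finite_isMax_mem N hN).subset (fun ξ h => h.1)
  let C : Set X := ⋃ ξ ∈ S, closure {ξ}
  have hC : IsClosed C := hS.isClosed_biUnion (fun _ _ => isClosed_closure)
  refine ⟨(N : Set X) ∩ Cᶜ, ?_, N.isOpen.inter hC.isOpen_compl, ⟨hxN, ?_⟩⟩
  · rintro w ⟨hwN, hwC⟩ ξ hξw hmax
    by_contra hP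
    apply hwC
    have hξN : ξ ∈ N := hξw.mem_open N.isOpen hwN
    exact Set.mem_biUnion (show ξ ∈ S from ⟨⟨hξN, hmax⟩, hP⟩) (specializes_iff_mem_closure.1 hξw)
  · intro hxC
    obtain ⟨ξ, ⟨⟨_, hmax⟩, hP⟩, hxξ⟩ := Set.mem_iUnion₂.1 hxC
    exact hP (hx ξ (specializes_iff_mem_closure.2 hxξ) hmax)

/-- Base change of `f` along a morphism factoring through `Spec κ(y)` is universally open. -/
theorem universallyOpen_snd_of_factor {X Y : Scheme.{u}} (f : X ⟶ Y) (y : Y) {T : Scheme.{u}}
    (g₀ : T ⟶ Spec (Y.residueField y)) :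
    UniversallyOpen (pullback.snd f (g₀ ≫ Y.fromSpecResidueField y)) := by
  haveI : UniversallyOpen (pullback.snd f (Y.fromSpecResidueField y)) := inferInstance
  rw [← MorphismProperty.cancel_left_of_respectsIso @UniversallyOpen
    (pullbackLeftPullbackSndIso f (Y.fromSpecResidueField y) g₀).hom,
    pullbackLeftPullbackSndIso_hom_snd]
  infer_instance

/-- A morphism from the spectrum of a local domain all of whose points go to the same point `y`
factors through `Spec κ(y)`. -/
theorem exists_factor_residueField {Y : Scheme.{u}} (A : Type u) [CommRing A] [IsDomain A]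
    [IsLocalRing A] (g : Spec (CommRingCat.of A) ⟶ Y)
    (hg : g.base (show ↥(Spec (CommRingCat.of A)) from
      (⟨⊥, Ideal.isPrime_bot⟩ : PrimeSpectrum A)) = g.base (closedPoint A)) :
    ∃ g₀ : Spec (CommRingCat.of A) ⟶ Spec (Y.residueField (g.base (closedPoint A))),
      g = g₀ ≫ Y.fromSpecResidueField (g.base (closedPoint A)) := by
  let y₁ : Y := g.base (closedPoint A)
  let ψ : Y.presheaf.stalk y₁ ⟶ CommRingCat.of A := Scheme.stalkClosedPointTo g
  have hfac : Spec.map ψ ≫ Y.fromSpecStalk y₁ = g := Scheme.Spec_stalkClosedPointTo_fromSpecStalk g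
  let b : PrimeSpectrum A := ⟨⊥, Ideal.isPrime_bot⟩
  have hinj : Function.Injective (Y.fromSpecStalk y₁).base :=
    (Y.fromSpecStalk y₁).isEmbedding.injective
  have h1 : (Spec.map ψ).base b = closedPoint (Y.presheaf.stalk y₁) := by
    apply hinj
    rw [Scheme.fromSpecStalk_closedPoint, ← Scheme.Hom.comp_apply, hfac]
    exact hg
  have hkill : ∀ a ∈ maximalIdeal (Y.presheaf.stalk y₁), ψ.hom a = 0 := by
    intro a ha
    have h2 := congrArg PrimeSpectrum.asIdeal h1
    have h3 : a ∈ ((Spec.map ψ).base b).asIdeal := by rw [h2]; exact ha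
    exact h3
  let ψ₀ : Y.residueField y₁ ⟶ CommRingCat.of A :=
    CommRingCat.ofHom (Ideal.Quotient.lift _ ψ.hom hkill)
  have hfac₀ : Y.residue y₁ ≫ ψ₀ = ψ := by
    ext a
    rfl
  refine ⟨Spec.map ψ₀, ?_⟩
  conv_lhs => rw [← hfac]
  rw [← hfac₀, Spec.map_comp, Category.assoc]
  rfl

/-- **DVR criterion over a regular base of dimension `≤ 1`**: if all maximal generizations of `x`
map to generic points of `Y`, then `f` satisfies the DVR criterion at `x`. -/
theorem dvrCrit_of_forall_isMax {X Y : Scheme.{u}}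
    (hY : ∀ y : Y, IsRegularLocalRing (Y.presheaf.stalk y) ∧ ringKrullDim (Y.presheaf.stalk y) ≤ 1)
    (f : X ⟶ Y) (x : X)
    (hx : ∀ ξ : X, ξ ⤳ x → (∀ t : X, t ⤳ ξ → t = ξ) → ∀ y' : Y, f.base ξ ⤳ y') :
    DvrCrit f x := by
  intro A _ _ _ g hg x' hx'1 hx'2
  let y₁ : Y := g.base (closedPoint A)
  let b : PrimeSpectrum A := ⟨⊥, Ideal.isPrime_bot⟩
  have hbne : b ≠ closedPoint A := UnivOpenComp.bot_ne_closedPoint b rfl
  by_cases hcase : g.base (show ↥(Spec (CommRingCat.of A)) from b) = g.base (closedPoint A)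
  · -- everything goes to `y₁`: factor through the residue field
    obtain ⟨g₀, hg₀⟩ := exists_factor_residueField A g hcase
    have hU : UniversallyOpen (pullback.snd f g) := by
      rw [hg₀]
      exact universallyOpen_snd_of_factor f _ g₀
    have hopen : EGA43.IsOpenAt (pullback.snd f g).base x' :=
      (UnivOpenComp.isOpenMap_iff_forall_isOpenAt _).1 (pullback.snd f g).isOpenMap x'
    have hb : (show ↥(Spec (CommRingCat.of A)) from b) ⤳ (pullback.snd f g).base x' := by
      rw [hx'2]; exact IsLocalRing.specializes_closedPoint _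
    obtain ⟨z', hz', hz'b⟩ := (Groth.Agent.S3404.result (pullback.snd f g) x').1 hopen b hb
    refine ⟨z', hz', ?_⟩
    rw [hz'b]
    exact hbne
  · -- `g` is flat
    haveI : IsRegularLocalRing (Y.presheaf.stalk y₁) := (hY y₁).1
    obtain ⟨hdom, hpid⟩ := isPrincipalIdealRing_of_regular (Y.presheaf.stalk y₁) (hY y₁).2
    haveI := hdom
    haveI := hpid
    let ψ : Y.presheaf.stalk y₁ ⟶ CommRingCat.of A := Scheme.stalkClosedPointTo g
    have hfac : Spec.map ψ ≫ Y.fromSpecStalk y₁ = g :=
      Scheme.Spec_stalkClosedPointTo_fromSpecStalk g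
    have hker : Ideal.comap ψ.hom ⊥ = ⊥ := by
      haveI : (Ideal.comap ψ.hom (⊥ : Ideal A)).IsPrime := Ideal.comap_isPrime _ _
      apply eq_bot_of_ne_maximalIdeal
      intro hmax
      apply hcase
      have h1 : (Spec.map ψ).base b = closedPoint (Y.presheaf.stalk y₁) :=
        PrimeSpectrum.ext hmax
      rw [← hfac, Scheme.Hom.comp_apply, Scheme.Hom.comp_apply]
      rw [h1, Scheme.fromSpecStalk_closedPoint]
      have h2 : (Spec.map ψ).base (closedPoint A) = closedPoint (Y.presheaf.stalk y₁) :=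
        IsLocalRing.comap_closedPoint ψ.hom
      rw [h2, Scheme.fromSpecStalk_closedPoint]
    have hinjψ : Function.Injective ψ.hom := by
      rw [RingHom.injective_iff_ker_eq_bot]
      exact hker
    have hflatψ : ψ.hom.Flat := flat_of_injective ψ.hom hinjψ
    haveI : Flat (Spec.map ψ) := Flat.SpecMap_iff.2 hflatψ
    haveI : Flat (Y.fromSpecStalk y₁) := flat_fromSpecStalk Y y₁
    haveI : Flat g := by rw [← hfac]; infer_instance
    have hgm := Flat.generalizingMap (pullback.fst f g)
    obtain ⟨ξ, hξx, hmax⟩ := MaxPt.exists_isMax_specializes x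
    obtain ⟨z', hz', hz'ξ⟩ := hgm (show ξ ⤳ (pullback.fst f g).base x' from hx'1 ▸ hξx)
    refine ⟨z', hz', ?_⟩
    intro hcl
    apply hcase
    have h1 : g.base ((pullback.snd f g).base z') = f.base ξ := by
      rw [← pullback_condition_apply, hz'ξ]
    rw [hcl] at h1
    have h2 : g.base (closedPoint A) ⤳ g.base (show ↥(Spec (CommRingCat.of A)) from b) := by
      rw [h1]; exact hx ξ hξx hmax _
    have h3 : g.base (show ↥(Spec (CommRingCat.of A)) from b) ⤳ g.base (closedPoint A) :=
      (IsLocalRing.specializes_closedPoint (show ↥(Spec (CommRingCat.of A)) from b)).map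
        g.continuous
    exact (h3.antisymm h2).eq

/-- **EGA IV 14.5-type statement**: over an irreducible regular base of dimension `≤ 1`, a
morphism locally of finite type is universally open on a neighbourhood of a fibre all of whose
irreducible components through it dominate the base. -/
theorem exists_universallyOpen_nhd {X Y : Scheme.{u}} [IsLocallyNoetherian Y]
    (hY : ∀ y : Y, IsRegularLocalRing (Y.presheaf.stalk y) ∧ ringKrullDim (Y.presheaf.stalk y) ≤ 1)
    (f : X ⟶ Y) [LocallyOfFiniteType f] (y : Y)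
    (h : ∀ Z ∈ irreducibleComponents (X : Type u), (Z ∩ f.base ⁻¹' {y}).Nonempty →
      Dense (f.base '' Z)) :
    ∃ U : X.Opens, f.base ⁻¹' {y} ⊆ (U : Set X) ∧ UniversallyOpen (U.ι ≫ f) := by
  haveI : IsLocallyNoetherian X := LocallyOfFiniteType.isLocallyNoetherian f
  let P : X → Prop := fun ξ => ∀ y' : Y, f.base ξ ⤳ y'
  let U : X.Opens := ⟨{x : X | ∀ ξ : X, ξ ⤳ x → (∀ t : X, t ⤳ ξ → t = ξ) → P ξ},
    isOpen_setOf_forall_isMax P⟩
  refine ⟨U, ?_, ?_⟩
  · intro x hx ξ hξx hmax y'
    have hZ := closure_mem_irreducibleComponents ξ hmax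
    have hd := h _ hZ ⟨x, specializes_iff_mem_closure.1 hξx, hx⟩
    rw [specializes_iff_mem_closure]
    have h1 : f.base '' closure {ξ} ⊆ closure {f.base ξ} := by
      refine (image_closure_subset_closure_image f.continuous).trans ?_
      rw [Set.image_singleton]
    exact closure_minimal h1 isClosed_closure (hd y')
  · rw [UnivOpenComp.universallyOpen_iff_forall_isUnivOpenAt]
    intro u
    apply isUnivOpenAt_of_dvrCrit
    apply dvrCrit_of_forall_isMax hY
    intro ξ' hξ'u hmax' y'
    have h1 : (U.ι ≫ f).base ξ' = f.base ξ'.1 := rfl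
    rw [h1]
    apply u.2 ξ'.1 (hξ'u.map continuous_subtype_val)
    intro t ht
    have htU : t ∈ U := ht.mem_open U.isOpen ξ'.2
    have := hmax' ⟨t, htU⟩ ((subtype_specializes_iff _ _).2 ht)
    exact congrArg Subtype.val this

end Groth.Agent.Lib.Helper41.UnivOpenDim1
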