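import Mathlib
import Groth.Agent.Lib.Helper41.FlatGenIso
import Groth.Agent.Lib.Helper41.UnivOpenDim1

set_option autoImplicit false
universe u
open CategoryTheory CategoryTheory.Limits AlgebraicGeometry TopologicalSpace

namespace Groth.Agent.Lib.Helper41

open Groth.Agent.Lib.Helper41.UnivOpenDim1 Groth.Agent.Lib.Helper41.ZMTFinGlue

/-- For `C` flat over a domain `R` and `c` a point whose local ring is a domain, the generic
point of `Spec 𝒪_{C,c}` lies over `D(ϖ)` for every `ϖ ≠ 0`. -/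
theorem fromSpecStalk_bot_mem_preimage_basicOpen {R : Type u} [CommRing R] [IsDomain R] (ϖ : R)
    (hϖ : ϖ ≠ 0) {C : Scheme.{u}} (πC : C ⟶ Spec (CommRingCat.of R)) [Flat πC] (c : C)
    [IsDomain ↑(C.presheaf.stalk c)] :
    C.fromSpecStalk c (⟨⊥, Ideal.isPrime_bot⟩ : PrimeSpectrum ↑(C.presheaf.stalk c)) ∈
      πC ⁻¹ᵁ (PrimeSpectrum.basicOpen ϖ) := by
  haveI := flat_fromSpecStalk C c
  let h : Spec (C.presheaf.stalk c) ⟶ Spec (CommRingCat.of R) := C.fromSpecStalk c ≫ πC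
  haveI : Flat h := inferInstance
  let ψ : CommRingCat.of R ⟶ C.presheaf.stalk c := Spec.preimage h
  have hψ : Spec.map ψ = h := Spec.map_preimage h
  have hflat : ψ.hom.Flat := by
    rw [← Flat.SpecMap_iff, hψ]; infer_instance
  have hinj : ψ.hom ϖ ≠ 0 := by
    intro h0
    algebraize [ψ.hom]
    have hreg : IsSMulRegular ↑(C.presheaf.stalk c) ϖ :=
      Module.Flat.isSMulRegular_of_nonZeroDivisors (mem_nonZeroDivisors_of_ne_zero hϖ)
    have h1 : ϖ • (1 : ↑(C.presheaf.stalk c)) = ϖ • 0 := by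
      rw [smul_zero, Algebra.smul_def, mul_one, RingHom.algebraMap_toAlgebra]; exact h0
    exact one_ne_zero (hreg h1)
  change πC (C.fromSpecStalk c _) ∈ PrimeSpectrum.basicOpen ϖ
  rw [← Scheme.Hom.comp_apply]
  change h _ ∈ _
  rw [← hψ]
  change ϖ ∉ Ideal.comap ψ.hom ⊥
  rw [Ideal.mem_comap, Ideal.mem_bot]; exact hinj

/-- Let `C` be flat over a domain `R`, `g : Z ⟶ C` proper with `Z` flat over `R`, and assume `g`
is an isomorphism over `D(ϖ)`. Then `g` is an isomorphism over a neighbourhood of every point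
`c` whose local ring is a valuation ring (and at which `C` is germ-injective). -/
theorem exists_nhds_isIso_restrict_of_valuationRing {R : Type u} [CommRing R] [IsDomain R] (ϖ : R)
    (hϖ : ϖ ≠ 0) {C Z : Scheme.{u}} (πC : C ⟶ Spec (CommRingCat.of R)) [Flat πC] (g : Z ⟶ C)
    [IsProper g] [Flat (g ≫ πC)]
    (hgen : IsIso (g ∣_ (πC ⁻¹ᵁ (PrimeSpectrum.basicOpen ϖ))))
    (c : C) [C.IsGermInjectiveAt c] [IsDomain ↑(C.presheaf.stalk c)]
    [ValuationRing ↑(C.presheaf.stalk c)] :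
    ∃ V : C.Opens, c ∈ V ∧ IsIso (g ∣_ V) := by
  set W : C.Opens := πC ⁻¹ᵁ (PrimeSpectrum.basicOpen ϖ) with hW
  let A : Type u := ↑(C.presheaf.stalk c)
  let K : Type u := FractionRing A
  let ξ : C := C.fromSpecStalk c (⟨⊥, Ideal.isPrime_bot⟩ : PrimeSpectrum A)
  have hξW : ξ ∈ W := fromSpecStalk_bot_mem_preimage_basicOpen ϖ hϖ πC c
  let ιK : Spec (CommRingCat.of K) ⟶ Spec (C.presheaf.stalk c) :=
    Spec.map (CommRingCat.ofHom (algebraMap A K))
  have hιK : ∀ t : ↥(Spec (CommRingCat.of K)), (ιK ≫ C.fromSpecStalk c) t = ξ := by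
    intro t
    rw [Scheme.Hom.comp_apply]
    congr 1
    apply PrimeSpectrum.ext
    change Ideal.comap (algebraMap A K) t.asIdeal = ⊥
    have ht : t.asIdeal = ⊥ := Ideal.eq_bot_of_prime t.asIdeal
    rw [ht, ← RingHom.ker_eq_comap_bot]
    exact (RingHom.injective_iff_ker_eq_bot _).1 (IsFractionRing.injective A K)
  have hrangeW : Set.range (ιK ≫ C.fromSpecStalk c) ⊆ Set.range W.ι := by
    rintro _ ⟨t, rfl⟩
    rw [Scheme.Opens.range_ι, hιK t]
    exact hξW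
  let a : Spec (CommRingCat.of K) ⟶ (W : Scheme.{u}) :=
    IsOpenImmersion.lift W.ι (ιK ≫ C.fromSpecStalk c) hrangeW
  have ha : a ≫ W.ι = ιK ≫ C.fromSpecStalk c := IsOpenImmersion.lift_fac _ _ _
  let i₁ : Spec (CommRingCat.of K) ⟶ Z := a ≫ inv (g ∣_ W) ≫ (g ⁻¹ᵁ W).ι
  have hi₁ : i₁ ≫ g = ιK ≫ C.fromSpecStalk c := by
    simp only [i₁, Category.assoc]
    rw [← morphismRestrict_ι, IsIso.inv_hom_id_assoc, ha]
  let sq : ValuativeCommSq g :=
    { R := A
      K := K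
      domain := ‹IsDomain ↑(C.presheaf.stalk c)›
      valuationRing := ‹ValuationRing ↑(C.presheaf.stalk c)›
      i₁ := i₁
      i₂ := C.fromSpecStalk c
      commSq := ⟨hi₁⟩ }
  have hex : ValuativeCriterion.Existence g := by
    have h1 : UniversallyClosed g := inferInstance
    rw [UniversallyClosed.eq_valuativeCriterion] at h1
    exact h1.1
  obtain ⟨⟨l, hl1, hl2⟩⟩ := hex sq
  have hl2' : l ≫ g = C.fromSpecStalk c ≫ 𝟙 C := by
    rw [Category.comp_id]; exact hl2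
  obtain ⟨V, hcV, σ, -, hσ⟩ := spread_out_of_isGermInjective' (𝟙 C) g l hl2'
  rw [Category.comp_id] at hσ
  refine ⟨V, hcV, ?_⟩
  have hrange : Set.range σ ⊆ Set.range (g ⁻¹ᵁ V).ι := by
    rintro _ ⟨v, rfl⟩
    rw [Scheme.Opens.range_ι]
    change g (σ v) ∈ V
    rw [← Scheme.Hom.comp_apply, hσ]; exact v.2
  let e : (V : Scheme.{u}) ⟶ ((g ⁻¹ᵁ V : Z.Opens) : Scheme.{u}) :=
    IsOpenImmersion.lift (g ⁻¹ᵁ V).ι σ hrange
  have he : e ≫ (g ⁻¹ᵁ V).ι = σ := IsOpenImmersion.lift_fac _ _ _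
  have hsec : e ≫ g ∣_ V = 𝟙 _ := by
    rw [← cancel_mono V.ι, Category.assoc, morphismRestrict_ι, ← Category.assoc, he, hσ,
      Category.id_comp]
  haveI : IsClosedImmersion e := by
    haveI : IsClosedImmersion (e ≫ g ∣_ V) := by rw [hsec]; infer_instance
    exact IsClosedImmersion.of_comp e (g ∣_ V)
  let p : ((g ⁻¹ᵁ V : Z.Opens) : Scheme.{u}) ⟶ Spec (CommRingCat.of R) := (g ∣_ V) ≫ V.ι ≫ πC
  haveI : Flat p := by
    have hpe : p = (g ⁻¹ᵁ V).ι ≫ (g ≫ πC) := by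
      simp only [p]; rw [← Category.assoc, morphismRestrict_ι, Category.assoc]
    rw [hpe]; infer_instance
  have hp : p ⁻¹ᵁ (PrimeSpectrum.basicOpen ϖ) = (g ∣_ V) ⁻¹ᵁ (V.ι ⁻¹ᵁ W) := rfl
  have hΩ : IsIso ((g ∣_ V) ∣_ (V.ι ⁻¹ᵁ W)) := by
    refine (morphismRestrict_morphismRestrict_iff (MorphismProperty.isomorphisms Scheme.{u})
      g V _).2 ?_
    refine morphismRestrict_of_le (MorphismProperty.isomorphisms Scheme.{u}) g ?_ hgen
    rw [Scheme.Hom.image_preimage_eq_opensRange_inf, Scheme.Opens.opensRange_ι]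
    exact inf_le_right
  have heΩ : IsIso (e ∣_ (p ⁻¹ᵁ (PrimeSpectrum.basicOpen ϖ))) := by
    rw [hp]
    have h1 : IsIso ((e ≫ g ∣_ V) ∣_ (V.ι ⁻¹ᵁ W)) := by rw [hsec]; infer_instance
    rw [morphismRestrict_comp] at h1
    exact @IsIso.of_isIso_comp_right _ _ _ _ _ _ ((g ∣_ V) ∣_ (V.ι ⁻¹ᵁ W)) hΩ h1
  haveI : IsIso e := isIso_of_isClosedImmersion_of_flat_of_generic ϖ hϖ e p heΩ
  haveI : IsIso (e ≫ g ∣_ V) := by rw [hsec]; infer_instance
  exact IsIso.of_isIso_comp_left e (g ∣_ V)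

end Groth.Agent.Lib.Helper41
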