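import Mathlib
import Groth.Prelude.Def_Found
import Groth.Agent.Lib.Helper41.AlgClosureFin

set_option autoImplicit false
universe u

namespace Groth.Agent.Lib.Helper41.NagataNormAlg

open Groth.Agent.Lib.Helper41.AlgClosureFin

/-- N-2 domain `A'`, `L` a finitely generated field extension of `Frac A'`: the integral closure of
`A'` in `L` is a finite `A'`-module. -/
theorem finite_integralClosure_aux (A' : Type u) [CommRing A'] [IsDomain A'] (hN2 : CAlg.IsN2 A')
    (L : Type u) [Field L] [Algebra A' L]
    [Algebra (FractionRing A') L] [IsScalarTower A' (FractionRing A') L]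
    [Algebra.EssFiniteType (FractionRing A') L] :
    Module.Finite A' (integralClosure A' L) := by
  let K := FractionRing A'
  let M : IntermediateField K L := algebraicClosure K L
  haveI : FiniteDimensional K M := finiteDimensional_algebraicClosure K L
  have hfin : Module.Finite A' (integralClosure A' M) := hN2 M inferInstance
  haveI : IsScalarTower A' M L := IsScalarTower.of_algebraMap_eq (fun x => rfl)
  let f : integralClosure A' M →ₗ[A'] integralClosure A' L :=
    { toFun := fun x => ⟨((x : M) : L), by
        have := x.2
        exact (this.map (IsScalarTower.toAlgHom A' M L))⟩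
      map_add' := fun x y => rfl
      map_smul' := fun a x => by
        apply Subtype.ext
        simp only [RingHom.id_apply]
        change (((a • x : integralClosure A' M) : M) : L) = a • ((x : M) : L)
        rw [Algebra.smul_def, Algebra.smul_def]
        simp only [Subalgebra.coe_mul, Subalgebra.coe_algebraMap, IntermediateField.coe_mul]
        rfl }
  have hf : Function.Surjective f := by
    rintro ⟨y, hy⟩
    have hyK : IsIntegral K y := hy.tower_top
    have hyM : y ∈ M := hyK
    have : IsIntegral A' (⟨y, hyM⟩ : M) := by
      rw [← isIntegral_algHom_iff (IsScalarTower.toAlgHom A' M L) (algebraMap M L).injective]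
      exact hy
    exact ⟨⟨⟨y, hyM⟩, this⟩, rfl⟩
  exact Module.Finite.of_surjective f hf

/-- Nagata ring `A`, `L` a field essentially of finite type over `A`: the integral closure of
`A` in `L` is a finite `A`-module. -/
theorem finite_integralClosure_field (A : Type u) [CommRing A] (hA : CAlg.IsNagata A)
    (L : Type u) [Field L] [Algebra A L] [Algebra.EssFiniteType A L] :
    Module.Finite A (integralClosure A L) := by
  let p : Ideal A := RingHom.ker (algebraMap A L)
  haveI : p.IsPrime := RingHom.ker_isPrime _
  have hN2 : CAlg.IsN2 (A ⧸ p) := hA.2 p
  letI : Algebra (A ⧸ p) L := (RingHom.kerLift (algebraMap A L)).toAlgebra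
  haveI : IsScalarTower A (A ⧸ p) L := IsScalarTower.of_algebraMap_eq (fun x => rfl)
  have hinj : Function.Injective (algebraMap (A ⧸ p) L) := RingHom.kerLift_injective _
  letI : Algebra (FractionRing (A ⧸ p)) L :=
    (IsFractionRing.lift (K := FractionRing (A ⧸ p)) hinj).toAlgebra
  haveI : IsScalarTower (A ⧸ p) (FractionRing (A ⧸ p)) L :=
    IsScalarTower.of_algebraMap_eq (fun x => (IsFractionRing.lift_algebraMap hinj x).symm)
  haveI : IsScalarTower A (FractionRing (A ⧸ p)) L := by
    refine IsScalarTower.of_algebraMap_eq (fun x => ?_)
    rw [IsScalarTower.algebraMap_apply A (A ⧸ p) L, IsScalarTower.algebraMap_apply A (A ⧸ p) (FractionRing (A ⧸ p)),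
      ← IsScalarTower.algebraMap_apply (A ⧸ p) (FractionRing (A ⧸ p)) L]
  haveI : Algebra.EssFiniteType (FractionRing (A ⧸ p)) L := .of_comp A _ L
  have h1 : Module.Finite (A ⧸ p) (integralClosure (A ⧸ p) L) :=
    finite_integralClosure_aux (A ⧸ p) hN2 L
  haveI : Module.Finite A (A ⧸ p) := Module.Finite.of_surjective (Algebra.linearMap A (A ⧸ p))
    Ideal.Quotient.mk_surjective
  haveI : Module.Finite A (integralClosure (A ⧸ p) L) := Module.Finite.trans (A ⧸ p) _
  haveI : Algebra.IsIntegral A (A ⧸ p) := Algebra.isIntegral_of_surjective Ideal.Quotient.mk_surjective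
  let f : integralClosure (A ⧸ p) L →ₗ[A] integralClosure A L :=
    { toFun := fun x => ⟨(x : L), isIntegral_trans (x : L) x.2⟩
      map_add' := fun x y => rfl
      map_smul' := fun a x => by
        apply Subtype.ext
        simp only [RingHom.id_apply]
        rfl }
  have hf : Function.Surjective f := by
    rintro ⟨y, hy⟩
    exact ⟨⟨y, hy.tower_top⟩, rfl⟩
  exact Module.Finite.of_surjective f hf

/-- If `C` embeds into a finite product of `A`-algebras in each of which `A` has finite integral
closure, and `A` is Noetherian, then the integral closure of `A` in `C` is finite. -/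
theorem finite_integralClosure_of_injective {A C : Type u} [CommRing A] [IsNoetherianRing A]
    [CommRing C] [Algebra A C] {ι : Type*} [Finite ι] (L : ι → Type u) [∀ i, CommRing (L i)]
    [∀ i, Algebra A (L i)] (φ : C →ₐ[A] (∀ i, L i)) (hφ : Function.Injective φ)
    (h : ∀ i, Module.Finite A (integralClosure A (L i))) :
    Module.Finite A (integralClosure A C) := by
  haveI := h
  let ψ : integralClosure A C →ₗ[A] (∀ i, integralClosure A (L i)) :=
    { toFun := fun x i => ⟨φ x i, by
        have := x.2
        exact (this.map φ).map (Pi.evalAlgHom A L i)⟩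
      map_add' := fun x y => by
        funext i
        apply Subtype.ext
        simp
      map_smul' := fun a x => by
        funext i
        apply Subtype.ext
        simp }
  have hψ : Function.Injective ψ := by
    intro x y hxy
    apply Subtype.ext
    apply hφ
    funext i
    exact congrArg Subtype.val (congrFun hxy i)
  exact Module.Finite.of_injective ψ hψ

end Groth.Agent.Lib.Helper41.NagataNormAlg
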