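import Mathlib
import Groth.Prelude.Def_Found
import Groth.Agent.Lib.Helper41.NagataNormAlg

set_option autoImplicit false
universe u
open CategoryTheory CategoryTheory.Limits AlgebraicGeometry

namespace Groth.Agent.Lib.Helper41.NagataNorm

open Groth.Agent.Lib.Helper41.NagataNormAlg

/-- The evaluation map from the sections over an affine open to the residue field of a point is
essentially of finite type. -/
theorem essFiniteType_evaluation {S : Scheme.{u}} (U : S.Opens) (hU : IsAffineOpen U) (y : S)
    (hy : y ∈ U) : (S.evaluation U y hy).hom.EssFiniteType := by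
  have h1 : (S.presheaf.germ U y hy).hom.EssFiniteType := by
    letI : Algebra Γ(S, U) (S.presheaf.stalk y) :=
      TopCat.Presheaf.algebra_section_stalk S.presheaf ⟨y, hy⟩
    haveI := hU.isLocalization_stalk ⟨y, hy⟩
    have : Algebra.EssFiniteType Γ(S, U) (S.presheaf.stalk y) :=
      Algebra.EssFiniteType.of_isLocalization _ (hU.primeIdealOf ⟨y, hy⟩).asIdeal.primeCompl
    exact this
  have h2 : (S.residue y).hom.EssFiniteType :=
    (RingHom.FiniteType.of_surjective _ (Scheme.residue_surjective S y)).essFiniteType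
  exact h1.comp h2

/-- Finiteness criterion for the integral closure in a ring of sections of a reduced scheme: it
suffices to have finitely many points meeting every nonempty open and with residue fields
essentially of finite type over a Nagata affine base. -/
theorem finite_integralClosure_sections {X S : Scheme.{u}} (f : X ⟶ S) [IsReduced X]
    (U : S.Opens) (hU : IsAffineOpen U) (hN : CAlg.IsNagata Γ(S, U))
    (T : Set X) (hT : T.Finite) (hTV : ∀ ξ ∈ T, f ξ ∈ U)
    (hdense : ∀ W : X.Opens, W ≤ f ⁻¹ᵁ U → W ≠ ⊥ → ∃ ξ ∈ T, ξ ∈ W)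
    (hres : ∀ ξ ∈ T, (f.residueFieldMap ξ).hom.EssFiniteType) :
    letI := (f.app U).hom.toAlgebra
    Module.Finite Γ(S, U) (integralClosure Γ(S, U) Γ(X, f ⁻¹ᵁ U)) := by
  letI := (f.app U).hom.toAlgebra
  haveI : IsNoetherianRing Γ(S, U) := hN.1
  haveI : Finite T := hT.to_subtype
  let L : T → Type u := fun ξ => X.residueField ξ.1
  letI algL : ∀ ξ : T, Algebra Γ(S, U) (L ξ) := fun ξ =>
    ((f.app U ≫ X.evaluation (f ⁻¹ᵁ U) ξ.1 (hTV ξ.1 ξ.2)).hom).toAlgebra
  let g : ∀ ξ : T, Γ(X, f ⁻¹ᵁ U) →ₐ[Γ(S, U)] L ξ := fun ξ =>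
    { (X.evaluation (f ⁻¹ᵁ U) ξ.1 (hTV ξ.1 ξ.2)).hom with
      commutes' := fun a => rfl }
  let φ : Γ(X, f ⁻¹ᵁ U) →ₐ[Γ(S, U)] (∀ ξ : T, L ξ) := AlgHom.pi g
  have hφ : Function.Injective φ := by
    rw [injective_iff_map_eq_zero]
    intro c hc
    rw [← basicOpen_eq_bot_iff]
    by_contra hne
    obtain ⟨ξ, hξT, hξW⟩ := hdense (X.basicOpen c) (X.basicOpen_le c) hne
    have h0 : X.evaluation (f ⁻¹ᵁ U) ξ (hTV ξ hξT) c = 0 := congrFun hc ⟨ξ, hξT⟩
    rw [Scheme.evaluation_eq_zero_iff_notMem_basicOpen] at h0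
    exact h0 hξW
  refine finite_integralClosure_of_injective L φ hφ (fun ξ => ?_)
  haveI : Algebra.EssFiniteType Γ(S, U) (L ξ) := by
    change ((f.app U ≫ X.evaluation (f ⁻¹ᵁ U) ξ.1 (hTV ξ.1 ξ.2)).hom).EssFiniteType
    rw [← Scheme.evaluation_naturality f ξ.1 (hTV ξ.1 ξ.2)]
    exact (essFiniteType_evaluation U hU (f ξ.1) (hTV ξ.1 ξ.2)).comp (hres ξ.1 ξ.2)
  exact finite_integralClosure_field Γ(S, U) hN (L ξ)

/-- Wrapper: finiteness of the relative normalization from finiteness of integral closures over all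
affine opens. -/
theorem isFinite_fromNormalization_of_sections {X S : Scheme.{u}} (f : X ⟶ S)
    [QuasiCompact f] [QuasiSeparated f]
    (H : ∀ (U : S.Opens), IsAffineOpen U →
      letI := (f.app U).hom.toAlgebra
      Module.Finite Γ(S, U) (integralClosure Γ(S, U) Γ(X, f ⁻¹ᵁ U))) :
    IsFinite f.fromNormalization := by
  refine { toIsAffineHom := inferInstance, finite_app := fun U hU => ?_ }
  letI := (f.app U).hom.toAlgebra
  rw [Scheme.Hom.fromNormalization_app _ hU]
  have h1 : (algebraMap Γ(S, U) (integralClosure Γ(S, U) Γ(X, f ⁻¹ᵁ U))).Finite :=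
    RingHom.finite_algebraMap.2 (H U hU)
  have h2 : ((f.normalizationObjIso hU).inv).hom.Finite :=
    RingHom.Finite.of_surjective _
      (ConcreteCategory.bijective_of_isIso (f.normalizationObjIso hU).inv).surjective
  exact h2.comp h1

/-- Residue field maps of morphisms locally of finite type are essentially of finite type. -/
theorem essFiniteType_residueFieldMap {X S : Scheme.{u}} (f : X ⟶ S) [LocallyOfFiniteType f]
    (x : X) : (f.residueFieldMap x).hom.EssFiniteType :=
  RingHom.EssFiniteType.residueFieldMap (LocallyOfFiniteType.stalkMap f x)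

/-- Stacks 03GR: for `f : X ⟶ S` of finite type with `X` reduced and `S` Nagata, the normalization
of `S` in `X` is finite over `S`. -/
theorem isFinite_fromNormalization_of_finiteType {X S : Scheme.{u}} (f : X ⟶ S)
    [LocallyOfFiniteType f] [QuasiCompact f] [QuasiSeparated f] [IsReduced X]
    (hS : ∀ U : S.affineOpens, CAlg.IsNagata Γ(S, U)) :
    IsFinite f.fromNormalization := by
  haveI : IsLocallyNoetherian S := ⟨fun U => (hS U).1⟩
  haveI : IsLocallyNoetherian X := LocallyOfFiniteType.isLocallyNoetherian f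
  apply isFinite_fromNormalization_of_sections
  intro U hU
  let V : X.Opens := f ⁻¹ᵁ U
  let VS : Scheme.{u} := V
  haveI : CompactSpace VS :=
    isCompact_iff_compactSpace.mp (QuasiCompact.isCompact_preimage (f := f) _ U.2 hU.isCompact)
  haveI : AlgebraicGeometry.IsNoetherian VS := { }
  have hfinV : (irreducibleComponents VS).Finite :=
    TopologicalSpace.NoetherianSpace.finite_irreducibleComponents
  haveI : Finite ↥(irreducibleComponents VS) := hfinV.to_subtype
  have hgp : ∀ Z : ↥(irreducibleComponents VS), ∃ z : VS, IsGenericPoint z (Z : Set VS) := fun Z =>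
    QuasiSober.sober Z.2.1 (isClosed_of_mem_irreducibleComponents _ Z.2)
  choose gp hgp using hgp
  refine finite_integralClosure_sections f U hU (hS ⟨U, hU⟩) (Set.range fun Z => ((gp Z).1 : X))
    (Set.finite_range _) ?_ ?_ ?_
  · rintro _ ⟨Z, rfl⟩
    exact (gp Z).2
  · intro W hWV hW
    obtain ⟨x, hx⟩ : ∃ x, x ∈ W := by
      by_contra hne
      push Not at hne
      exact hW (by ext x; simpa using hne x)
    let v : VS := ⟨x, hWV hx⟩
    let Z : ↥(irreducibleComponents VS) :=
      ⟨irreducibleComponent v, irreducibleComponent_mem_irreducibleComponents v⟩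
    refine ⟨((gp Z).1 : X), ⟨Z, rfl⟩, ?_⟩
    have hopen : IsOpen ((fun z : VS => (z.1 : X)) ⁻¹' (W : Set X) : Set VS) :=
      W.2.preimage continuous_subtype_val
    exact ((hgp Z).mem_open_set_iff hopen).mpr ⟨v, mem_irreducibleComponent, hx⟩
  · intro ξ _
    exact essFiniteType_residueFieldMap f ξ

/-- Stacks 0AVK-type: `f` qcqs, `X` reduced with locally finitely many irreducible components whose
generic points have residue fields essentially of finite type over the base, `S` Nagata: the
normalization of `S` in `X` is finite over `S`. -/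
theorem isFinite_fromNormalization_of_locallyFinite {X S : Scheme.{u}} (f : X ⟶ S)
    [QuasiCompact f] [QuasiSeparated f] [IsReduced X]
    (hS : ∀ U : S.affineOpens, CAlg.IsNagata Γ(S, U))
    (hfin : LocallyFinite (fun Z : ↥(irreducibleComponents ↥X) => (Z : Set ↥X)))
    (hres : ∀ x : X, closure {x} ∈ irreducibleComponents ↥X →
      (f.residueFieldMap x).hom.EssFiniteType) :
    IsFinite f.fromNormalization := by
  apply isFinite_fromNormalization_of_sections
  intro U hU
  let V : X.Opens := f ⁻¹ᵁ U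
  have hVc : IsCompact (V : Set X) := QuasiCompact.isCompact_preimage (f := f) _ U.2 hU.isCompact
  have hI : {Z : ↥(irreducibleComponents ↥X) | ((Z : Set ↥X) ∩ (V : Set X)).Nonempty}.Finite :=
    hfin.finite_nonempty_inter_compact hVc
  haveI : Finite ↥{Z : ↥(irreducibleComponents ↥X) | ((Z : Set ↥X) ∩ (V : Set X)).Nonempty} :=
    hI.to_subtype
  have hgp : ∀ Z : ↥(irreducibleComponents ↥X), ∃ z : X, IsGenericPoint z (Z : Set X) := fun Z =>
    QuasiSober.sober Z.2.1 (isClosed_of_mem_irreducibleComponents _ Z.2)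
  choose gp hgp using hgp
  refine finite_integralClosure_sections f U hU (hS ⟨U, hU⟩)
    (Set.range fun Z : ↥{Z : ↥(irreducibleComponents ↥X) | ((Z : Set ↥X) ∩ (V : Set X)).Nonempty} =>
      gp Z.1) (Set.finite_range _) ?_ ?_ ?_
  · rintro _ ⟨Z, rfl⟩
    exact ((hgp Z.1).mem_open_set_iff V.2).mpr Z.2
  · intro W hWV hW
    obtain ⟨x, hx⟩ : ∃ x, x ∈ W := by
      by_contra hne
      push Not at hne
      exact hW (by ext x; simpa using hne x)
    let Z : ↥(irreducibleComponents ↥X) :=
      ⟨irreducibleComponent x, irreducibleComponent_mem_irreducibleComponents x⟩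
    have hZ : ((Z : Set ↥X) ∩ (V : Set X)).Nonempty := ⟨x, mem_irreducibleComponent, hWV hx⟩
    refine ⟨gp Z, ⟨⟨Z, hZ⟩, rfl⟩, ?_⟩
    exact ((hgp Z).mem_open_set_iff W.2).mpr ⟨x, mem_irreducibleComponent, hx⟩
  · rintro _ ⟨Z, rfl⟩
    apply hres
    rw [(hgp Z.1).def]
    exact Z.1.2

end Groth.Agent.Lib.Helper41.NagataNorm
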