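import Mathlib.RingTheory.FiniteType
import Mathlib.RingTheory.Ideal.Operations
import Mathlib.RingTheory.Ideal.Quotient.Operations
import Mathlib.RingTheory.Nilpotent.Lemmas

set_option autoImplicit false

namespace Groth.Agent.Lib.Helper41

theorem finiteType_of_quotient_nilpotent (R A : Type*) [CommRing R] [CommRing A] [Algebra R A]
    (I : Ideal A) (hfg : I.FG) (hnil : IsNilpotent I) [hq : Algebra.FiniteType R (A ⧸ I)] :
    Algebra.FiniteType R A := by
  classical
  obtain ⟨s₁, hs₁⟩ := hq.out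
  obtain ⟨s₂, hs₂⟩ := hfg
  obtain ⟨N, hN⟩ := hnil
  let σ : A ⧸ I → A := Function.surjInv Ideal.Quotient.mk_surjective
  have hσ : ∀ x, Ideal.Quotient.mk I (σ x) = x := Function.surjInv_eq _
  let t₁ : Finset A := s₁.image σ
  let B : Subalgebra R A := Algebra.adjoin R (↑(t₁ ∪ s₂) : Set A)
  have hs₂B : ∀ g ∈ s₂, g ∈ B := fun g hg =>
    Algebra.subset_adjoin (Finset.mem_coe.mpr (Finset.mem_union_right _ hg))
  have hs₂I : ∀ g ∈ s₂, g ∈ I := fun g hg => hs₂ ▸ Ideal.subset_span hg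
  -- step 1
  have step1 : ∀ a : A, ∃ b ∈ B, a - b ∈ I := by
    intro a
    have h1 : B.map (Ideal.Quotient.mkₐ R I) = ⊤ := by
      rw [eq_top_iff, ← hs₁]
      apply Algebra.adjoin_le
      intro x hx
      refine ⟨σ x, ?_, hσ x⟩
      exact Algebra.subset_adjoin (Finset.mem_coe.mpr (Finset.mem_union_left _
        (Finset.mem_image_of_mem σ hx)))
    have h2 : Ideal.Quotient.mkₐ R I a ∈ B.map (Ideal.Quotient.mkₐ R I) := by
      rw [h1]; trivial
    obtain ⟨b, hb, hba⟩ := h2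
    refine ⟨b, hb, ?_⟩
    rw [← Ideal.Quotient.eq]
    exact hba.symm
  -- decomposition of I^(n+1)
  have hdec : ∀ n : ℕ, ∀ c ∈ I ^ (n + 1), ∃ y : A → A, (∀ g, y g ∈ I ^ n) ∧
      c = ∑ g ∈ s₂, g * y g := by
    intro n c hc
    rw [pow_succ'] at hc
    refine Submodule.mul_induction_on hc ?_ ?_
    · intro x hx z hz
      rw [← hs₂] at hx
      obtain ⟨f, -, rfl⟩ := Submodule.mem_span_finset.mp hx
      refine ⟨fun g => f g * z, fun g => Ideal.mul_mem_left _ _ hz, ?_⟩
      rw [Finset.sum_mul]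
      refine Finset.sum_congr rfl fun g _ => ?_
      simp only [smul_eq_mul]
      ring
    · rintro x z ⟨y1, hy1, rfl⟩ ⟨y2, hy2, rfl⟩
      refine ⟨fun g => y1 g + y2 g, fun g => Ideal.add_mem _ (hy1 g) (hy2 g), ?_⟩
      rw [← Finset.sum_add_distrib]
      refine Finset.sum_congr rfl fun g _ => ?_
      ring
  have all : ∀ n : ℕ, ∀ a : A, ∃ b ∈ B, a - b ∈ I ^ (n + 1) := by
    intro n
    induction n with
    | zero =>
      intro a
      simpa using step1 a
    | succ n ih =>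
      intro a
      obtain ⟨b, hb, hab⟩ := ih a
      obtain ⟨y, hy, hsum⟩ := hdec n (a - b) hab
      choose b' hb' hyb' using fun g => ih (y g)
      refine ⟨b + ∑ g ∈ s₂, g * b' g,
        B.add_mem hb (B.sum_mem fun g hg => B.mul_mem (hs₂B g hg) (hb' g)), ?_⟩
      have : a - (b + ∑ g ∈ s₂, g * b' g) = ∑ g ∈ s₂, g * (y g - b' g) := by
        rw [← sub_sub, hsum, ← Finset.sum_sub_distrib]
        refine Finset.sum_congr rfl fun g _ => ?_
        ring
      rw [this, pow_succ']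
      exact Submodule.sum_mem _ fun g hg => Ideal.mul_mem_mul (hs₂I g hg) (hyb' g)
  have htop : B = ⊤ := by
    rw [eq_top_iff]
    intro a _
    obtain ⟨b, hb, hab⟩ := all N a
    have h0 : I ^ (N + 1) = ⊥ := by rw [pow_succ, hN, Ideal.zero_eq_bot, Ideal.bot_mul]
    rw [h0, Ideal.mem_bot, sub_eq_zero] at hab
    rw [hab]
    exact hb
  exact ⟨⟨t₁ ∪ s₂, htop⟩⟩

end Groth.Agent.Lib.Helper41
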