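import Mathlib
import Groth.Agent.Lib.Helper69.NormField
import Groth.Agent.Lib.Helper69.NormField2
import Groth.Agent.Lib.Helper14.KrullAkizukiThm

/-!
# Normalization of an integral locally Noetherian scheme of dimension one (Krull–Akizuki)
-/

set_option autoImplicit false
set_option linter.style.haveILetI false
set_option linter.unusedSectionVars false

universe u
open CategoryTheory CategoryTheory.Limits AlgebraicGeometry TopologicalSpace

namespace Groth.Agent.Lib.Helper41.NormDimOne

open Groth.Agent.Lib.Helper69.NormField Groth.Agent.Lib.Helper14.KrullAkizuki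

variable {X : Scheme.{u}} [IsIntegral X]

/-- The canonical morphism from the spectrum of the function field. -/
noncomputable abbrev g₀ (X : Scheme.{u}) [IsIntegral X] :
    Spec (CommRingCat.of X.functionField) ⟶ X :=
  gen (RingHom.id X.functionField)

section chart

variable [IsLocallyNoetherian X] [QuasiCompact (g₀ X)] [QuasiSeparated (g₀ X)]

theorem krullDimLE_sections (hdim : topologicalKrullDim X ≤ 1) {U : X.Opens}
    (hU : IsAffineOpen U) : Ring.KrullDimLE 1 Γ(X, U) := by
  rw [Ring.KrullDimLE, Order.krullDimLE_iff, ← ringKrullDim,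
    Nat.cast_one, ← PrimeSpectrum.topologicalKrullDim_eq_ringKrullDim Γ(X, U)]
  change topologicalKrullDim (Spec Γ(X, U)) ≤ 1
  rw [← IsHomeomorph.topologicalKrullDim_eq _ hU.isoSpec.hom.homeomorph.isHomeomorph]
  exact (topologicalKrullDim_subspace_le X U).trans hdim

/-- Krull–Akizuki on a chart of the normalization. -/
theorem chart_facts (hdim : topologicalKrullDim X ≤ 1) {U : X.Opens} (hU : IsAffineOpen U)
    (hη : genericPoint X ∈ U) :
    IsDomain Γ((g₀ X).normalization, (g₀ X).fromNormalization ⁻¹ᵁ U) ∧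
    IsNoetherianRing Γ((g₀ X).normalization, (g₀ X).fromNormalization ⁻¹ᵁ U) ∧
    Ring.KrullDimLE 1 Γ((g₀ X).normalization, (g₀ X).fromNormalization ⁻¹ᵁ U) ∧
    Function.Injective ((g₀ X).fromNormalization.app U).hom ∧
    (∀ a' : Γ((g₀ X).normalization, (g₀ X).fromNormalization ⁻¹ᵁ U), ∃ d a : Γ(X, U), d ≠ 0 ∧
      ((g₀ X).fromNormalization.app U).hom d * a' = ((g₀ X).fromNormalization.app U).hom a) ∧
    (letI := ((g₀ X).fromNormalization.app U).hom.toAlgebra
     ∀ J : Ideal Γ((g₀ X).normalization, (g₀ X).fromNormalization ⁻¹ᵁ U), J ≠ ⊥ →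
      Module.Finite Γ(X, U) (Γ((g₀ X).normalization, (g₀ X).fromNormalization ⁻¹ᵁ U) ⧸ J)) := by
  haveI : Nonempty U := ⟨⟨_, hη⟩⟩
  haveI : IsNoetherianRing Γ(X, U) := IsLocallyNoetherian.component_noetherian ⟨U, hU⟩
  haveI : Ring.KrullDimLE 1 Γ(X, U) := krullDimLE_sections hdim hU
  haveI : IsFractionRing Γ(X, U) X.functionField :=
    functionField_isFractionRing_of_isAffineOpen X U hU
  letI algA : Algebra Γ(X, U) Γ((g₀ X).normalization, (g₀ X).fromNormalization ⁻¹ᵁ U) :=
    ((g₀ X).fromNormalization.app U).hom.toAlgebra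
  letI algL : Algebra Γ((g₀ X).normalization, (g₀ X).fromNormalization ⁻¹ᵁ U) X.functionField :=
    (psi (RingHom.id X.functionField) hU hη).hom.toAlgebra
  have hcomp := fromNormalization_app_psi (RingHom.id X.functionField) hU hη
  have hcomp' : ∀ r : Γ(X, U), (psi (RingHom.id X.functionField) hU hη).hom
      (((g₀ X).fromNormalization.app U).hom r) = algebraMap Γ(X, U) X.functionField r := by
    intro r
    have := congrArg (fun f => f.hom r) hcomp
    exact this
  haveI : IsScalarTower Γ(X, U) Γ((g₀ X).normalization, (g₀ X).fromNormalization ⁻¹ᵁ U)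
      X.functionField := IsScalarTower.of_algebraMap_eq (fun r => (hcomp' r).symm)
  have hinj : Function.Injective (algebraMap
      Γ((g₀ X).normalization, (g₀ X).fromNormalization ⁻¹ᵁ U) X.functionField) :=
    psi_injective (RingHom.id X.functionField) hU hη
  have hdom : IsDomain Γ((g₀ X).normalization, (g₀ X).fromNormalization ⁻¹ᵁ U) :=
    hinj.isDomain _
  have hinjA : Function.Injective ((g₀ X).fromNormalization.app U).hom := by
    intro r₁ r₂ h
    apply IsFractionRing.injective Γ(X, U) X.functionField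
    rw [← hcomp', ← hcomp', h]
  refine ⟨hdom, isNoetherianRing_of_injective Γ(X, U) X.functionField X.functionField hinj,
    krullDimLE_one_of_injective Γ(X, U) X.functionField X.functionField hinj, hinjA, ?_, ?_⟩
  · intro a'
    obtain ⟨⟨a, d⟩, h⟩ := IsLocalization.surj (nonZeroDivisors Γ(X, U))
      (algebraMap Γ((g₀ X).normalization, (g₀ X).fromNormalization ⁻¹ᵁ U) X.functionField a')
    refine ⟨d.1, a, nonZeroDivisors.ne_zero d.2, ?_⟩
    apply hinj
    rw [map_mul, mul_comm]
    change _ * (psi (RingHom.id X.functionField) hU hη).hom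
      (((g₀ X).fromNormalization.app U).hom d.1) = (psi (RingHom.id X.functionField) hU hη).hom
      (((g₀ X).fromNormalization.app U).hom a)
    rw [hcomp', hcomp']
    exact h
  · intro J hJ
    have hfl := isFiniteLength_quotient' Γ(X, U) X.functionField X.functionField hinj J hJ
    haveI := (isFiniteLength_iff_isNoetherian_isArtinian.1 hfl).1
    infer_instance

end chart

section global

variable [IsLocallyNoetherian X] [QuasiCompact (g₀ X)] [QuasiSeparated (g₀ X)]

theorem isLocallyNoetherian_normalization (hdim : topologicalKrullDim X ≤ 1) :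
    IsLocallyNoetherian (g₀ X).normalization := by
  refine isLocallyNoetherian_of_affine_cover
    (S := fun U : X.affineOpens => (⟨(g₀ X).fromNormalization ⁻¹ᵁ U.1,
      U.2.preimage (g₀ X).fromNormalization⟩ : (g₀ X).normalization.affineOpens)) ?_ ?_
  · rw [eq_top_iff]
    intro y _
    obtain ⟨U, hU, hyU, -⟩ := exists_affine_genericPoint_mem ((g₀ X).fromNormalization y)
    exact Opens.mem_iSup.2 ⟨⟨U, hU⟩, hyU⟩
  · intro U
    by_cases hne : Nonempty U.1
    · have hη : genericPoint X ∈ U.1 := genericPoint_mem U.1 hne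
      exact (chart_facts hdim U.2 hη).2.1
    · have hU' : (g₀ X).fromNormalization ⁻¹ᵁ U.1 = ⊥ := by
        ext y
        simp only [SetLike.mem_coe, Opens.coe_bot, Set.mem_empty_iff_false, iff_false]
        exact fun hy => hne ⟨⟨_, hy⟩⟩
      change IsNoetherianRing Γ((g₀ X).normalization, (g₀ X).fromNormalization ⁻¹ᵁ U.1)
      rw [hU']
      haveI : Subsingleton Γ((g₀ X).normalization, (⊥ : (g₀ X).normalization.Opens)) :=
        CommRingCat.subsingleton_of_isTerminal (g₀ X).normalization.sheaf.isTerminalOfEmpty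
      infer_instance

theorem ringKrullDim_stalk_le (hdim : topologicalKrullDim X ≤ 1) (y : (g₀ X).normalization) :
    ringKrullDim ((g₀ X).normalization.presheaf.stalk y) ≤ 1 := by
  obtain ⟨U, hU, hyU, hη⟩ := exists_affine_genericPoint_mem ((g₀ X).fromNormalization y)
  have hV : IsAffineOpen ((g₀ X).fromNormalization ⁻¹ᵁ U) := hU.preimage _
  have hyV : y ∈ (g₀ X).fromNormalization ⁻¹ᵁ U := hyU
  obtain ⟨hd, hN, hK, -⟩ := chart_facts hdim hU hη
  letI : Algebra Γ((g₀ X).normalization, (g₀ X).fromNormalization ⁻¹ᵁ U)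
      ((g₀ X).normalization.presheaf.stalk y) :=
    TopCat.Presheaf.algebra_section_stalk _ ⟨y, hyV⟩
  haveI := hV.isLocalization_stalk ⟨y, hyV⟩
  rw [IsLocalization.AtPrime.ringKrullDim_eq_height (hV.primeIdealOf ⟨y, hyV⟩).asIdeal
    ((g₀ X).normalization.presheaf.stalk y)]
  refine (Ideal.height_le_ringKrullDim_of_ne_top Ideal.IsPrime.ne_top').trans ?_
  exact Ring.krullDimLE_iff.1 hK

theorem isDedekindDomain_sections (hdim : topologicalKrullDim X ≤ 1)
    {W : (g₀ X).normalization.Opens} (hW : IsAffineOpen W)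
    (hne : (W : Set ↥(g₀ X).normalization).Nonempty) :
    IsDedekindDomain Γ((g₀ X).normalization, W) := by
  haveI : Nonempty W := by obtain ⟨y, hy⟩ := hne; exact ⟨⟨y, hy⟩⟩
  haveI hloc : IsLocallyNoetherian (g₀ X).normalization := isLocallyNoetherian_normalization hdim
  haveI hdom : IsDomain Γ((g₀ X).normalization, W) := inferInstance
  haveI hN : IsNoetherianRing Γ((g₀ X).normalization, W) :=
    IsLocallyNoetherian.component_noetherian ⟨W, hW⟩
  haveI hic : IsIntegrallyClosed Γ((g₀ X).normalization, W) :=
    isIntegrallyClosed_sections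
      (Groth.Agent.Lib.Helper69.NormField.isNormalScheme_normalization _) hW
  have hK : Ring.KrullDimLE 1 Γ((g₀ X).normalization, W) := by
    rw [Ring.krullDimLE_iff, ringKrullDim_le_iff_isMaximal_height_le]
    intro m hm
    have hmem : hW.fromSpec ⟨m, hm.isPrime⟩ ∈ W := by
      rw [← SetLike.mem_coe, ← hW.range_fromSpec]; exact ⟨_, rfl⟩
    letI : Algebra Γ((g₀ X).normalization, W)
        ((g₀ X).normalization.presheaf.stalk (hW.fromSpec ⟨m, hm.isPrime⟩)) :=
      TopCat.Presheaf.algebra_section_stalk _ ⟨_, hmem⟩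
    have hloc' := hW.isLocalization_stalk' ⟨m, hm.isPrime⟩ hmem
    have h1 := @IsLocalization.AtPrime.ringKrullDim_eq_height _ _ m hm.isPrime
      ((g₀ X).normalization.presheaf.stalk (hW.fromSpec ⟨m, hm.isPrime⟩)) _ _ hloc'
    have h2 := ringKrullDim_stalk_le hdim (hW.fromSpec ⟨m, hm.isPrime⟩)
    rw [h1] at h2
    exact_mod_cast h2
  haveI hD : Ring.DimensionLEOne Γ((g₀ X).normalization, W) :=
    ⟨fun {p} hp hpp => Ring.krullDimLE_one_iff_of_noZeroDivisors.mp hK p hp hpp⟩
  exact { toIsDomain := hdom, toIsDedekindRing := { } }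

end global

section fibre

variable [IsLocallyNoetherian X] [QuasiCompact (g₀ X)] [QuasiSeparated (g₀ X)]

/-- A point different from the generic point lies outside a nonempty basic open of any affine
open containing it. -/
theorem exists_ne_zero_notMem_basicOpen {U : X.Opens} (hU : IsAffineOpen U) {x : X}
    (_hxU : x ∈ U) (hη : genericPoint X ∈ U) (hx : x ≠ genericPoint X) :
    ∃ a : Γ(X, U), a ≠ 0 ∧ x ∉ X.basicOpen a := by
  have hns : ¬ x ⤳ genericPoint X := fun h =>
    hx ((h.antisymm (genericPoint_specializes x)).eq)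
  rw [specializes_iff_forall_open] at hns
  push Not at hns
  obtain ⟨O, hO, hηO, hxO⟩ := hns
  obtain ⟨a, ha, hηa⟩ := hU.exists_basicOpen_le (V := ⟨O, hO⟩) ⟨genericPoint X, hηO⟩ hη
  refine ⟨a, ?_, fun h => hxO (ha h)⟩
  rintro rfl
  rw [Scheme.basicOpen_zero] at hηa
  exact hηa

theorem finite_fibre (hdim : topologicalKrullDim X ≤ 1) (x : X) :
    Finite {x' : ↥(g₀ X).normalization // (g₀ X).fromNormalization.base x' = x} := by
  by_cases hx : x = genericPoint X
  · haveI : Subsingleton
        {x' : ↥(g₀ X).normalization // (g₀ X).fromNormalization.base x' = x} :=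
      ⟨fun a b => Subtype.ext
        ((eq_genericPoint_of_fromNormalization_eq _ a.1 (a.2.trans hx)).trans
          (eq_genericPoint_of_fromNormalization_eq _ b.1 (b.2.trans hx)).symm)⟩
    infer_instance
  · obtain ⟨U, hU, hxU, hη⟩ := exists_affine_genericPoint_mem x
    obtain ⟨a, ha0, hxa⟩ := exists_ne_zero_notMem_basicOpen hU hxU hη hx
    have hV : IsAffineOpen ((g₀ X).fromNormalization ⁻¹ᵁ U) := hU.preimage _
    obtain ⟨hd, hN, hK, hinj, -, -⟩ := chart_facts hdim hU hη
    have ha' : ((g₀ X).fromNormalization.app U).hom a ≠ 0 := by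
      intro h
      exact ha0 (hinj (h.trans (map_zero _).symm))
    have hmemV : ∀ x' : {x' : ↥(g₀ X).normalization // (g₀ X).fromNormalization.base x' = x},
        x'.1 ∈ (g₀ X).fromNormalization ⁻¹ᵁ U := by
      intro x'
      change (g₀ X).fromNormalization.base x'.1 ∈ U
      rw [x'.2]; exact hxU
    have hfin := (finite_setOf_isPrime_mem ha').to_subtype
    let F : {x' : ↥(g₀ X).normalization // (g₀ X).fromNormalization.base x' = x} →
        {Q : Ideal Γ((g₀ X).normalization, (g₀ X).fromNormalization ⁻¹ᵁ U) |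
          Q.IsPrime ∧ ((g₀ X).fromNormalization.app U).hom a ∈ Q} := fun x' =>
      ⟨(hV.primeIdealOf ⟨x'.1, hmemV x'⟩).asIdeal, (hV.primeIdealOf ⟨x'.1, hmemV x'⟩).isPrime, by
        by_contra hmem
        have h1 : hV.primeIdealOf ⟨x'.1, hmemV x'⟩ ∈
            PrimeSpectrum.basicOpen (((g₀ X).fromNormalization.app U).hom a) := hmem
        rw [← hV.fromSpec_preimage_basicOpen] at h1
        have h2 : hV.fromSpec (hV.primeIdealOf ⟨x'.1, hmemV x'⟩) ∈
            (g₀ X).normalization.basicOpen (((g₀ X).fromNormalization.app U).hom a) := h1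
        rw [hV.fromSpec_primeIdealOf] at h2
        have h3 : x'.1 ∈ (g₀ X).fromNormalization ⁻¹ᵁ X.basicOpen a := by
          rw [Scheme.preimage_basicOpen]; exact h2
        have h4 : (g₀ X).fromNormalization.base x'.1 ∈ X.basicOpen a := h3
        rw [x'.2] at h4
        exact hxa h4⟩
    refine Finite.of_injective F ?_
    intro x₁ x₂ h
    have h1 : (hV.primeIdealOf ⟨x₁.1, hmemV x₁⟩) = (hV.primeIdealOf ⟨x₂.1, hmemV x₂⟩) :=
      PrimeSpectrum.ext (congrArg Subtype.val h)
    have h2 := congrArg hV.fromSpec h1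
    rw [hV.fromSpec_primeIdealOf, hV.fromSpec_primeIdealOf] at h2
    exact Subtype.ext h2

end fibre

section residue

variable [IsLocallyNoetherian X] [QuasiCompact (g₀ X)] [QuasiSeparated (g₀ X)]

/-- Every element of the residue field at a point of an affine open is a quotient of values of
sections. -/
theorem exists_evaluation_mul_eq {N : Scheme.{u}} {V : N.Opens} (hV : IsAffineOpen V) (x' : N)
    (hx' : x' ∈ V) (z : N.residueField x') :
    ∃ a s : Γ(N, V), (N.evaluation V x' hx').hom s ≠ 0 ∧
      z * (N.evaluation V x' hx').hom s = (N.evaluation V x' hx').hom a := by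
  obtain ⟨t, rfl⟩ := N.residue_surjective x' z
  letI : Algebra Γ(N, V) (N.presheaf.stalk x') :=
    TopCat.Presheaf.algebra_section_stalk _ ⟨x', hx'⟩
  haveI := hV.isLocalization_stalk ⟨x', hx'⟩
  obtain ⟨⟨a, s⟩, h⟩ := IsLocalization.surj (hV.primeIdealOf ⟨x', hx'⟩).asIdeal.primeCompl t
  have hu : IsUnit (algebraMap Γ(N, V) (N.presheaf.stalk x') s.1) :=
    IsLocalization.map_units (N.presheaf.stalk x') s
  refine ⟨a, s.1, ?_, ?_⟩
  · have : IsUnit ((N.residue x').hom (algebraMap Γ(N, V) (N.presheaf.stalk x') s.1)) :=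
      hu.map (N.residue x').hom
    exact this.ne_zero
  · have := congrArg (N.residue x').hom h
    rw [map_mul] at this
    exact this

/-- Abstract generic case: the residue field map is surjective. -/
theorem surjective_of_frac {A A' k k' : Type*} [CommRing A] [CommRing A'] [Field k] [Field k']
    (ν : A →+* A') (ev : A →+* k) (ev' : A' →+* k') (ρ : k →+* k')
    (hnat : ∀ r, ρ (ev r) = ev' (ν r)) (hinj : Function.Injective ν)
    (hker : Function.Injective ev')
    (hfrac : ∀ a' : A', ∃ d a : A, d ≠ 0 ∧ ν d * a' = ν a)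
    (hgen : ∀ z : k', ∃ a s : A', ev' s ≠ 0 ∧ z * ev' s = ev' a) : Function.Surjective ρ := by
  have hval : ∀ a' : A', ev' a' ∈ ρ.range := by
    intro a'
    obtain ⟨d, a, hd0, hda⟩ := hfrac a'
    have h1 : ev' (ν d) * ev' a' = ev' (ν a) := by rw [← map_mul, hda]
    have h2 : ev' (ν d) ≠ 0 := by
      intro h
      apply hd0
      apply hinj
      apply hker
      rw [h, map_zero, map_zero]
    rw [← hnat, ← hnat] at h1
    rw [← hnat] at h2
    have h3 : ev' a' = ρ (ev a) / ρ (ev d) := by
      rw [eq_div_iff h2, mul_comm]; exact h1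
    rw [h3, ← map_div₀]
    exact ⟨_, rfl⟩
  intro z
  obtain ⟨a, s, hs, hz⟩ := hgen z
  have h3 : z = ev' a / ev' s := by
    rw [eq_div_iff hs]; exact hz
  obtain ⟨u, hu⟩ := hval a
  obtain ⟨v, hv⟩ := hval s
  refine ⟨u / v, ?_⟩
  rw [map_div₀, hu, hv, h3]

/-- Abstract closed-point case. -/
theorem finite_of_quotient_finite {A A' k k' : Type*} [CommRing A] [CommRing A'] [Field k]
    [Field k'] [Algebra A A'] [Algebra k k'] (ev : A →+* k) (ev' : A' →+* k')
    (hnat : ∀ r, algebraMap k k' (ev r) = ev' (algebraMap A A' r))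
    (hsurj : Function.Surjective ev') (hfin : Module.Finite A (A' ⧸ RingHom.ker ev')) :
    Module.Finite k k' := by
  letI algAk : Algebra A k := ev.toAlgebra
  letI algAk' : Algebra A k' := ((algebraMap k k').comp ev).toAlgebra
  haveI : IsScalarTower A k k' := IsScalarTower.of_algebraMap_eq (fun _ => rfl)
  let evA : A' →ₐ[A] k' := { ev' with commutes' := fun r => (hnat r).symm }
  let evQ : (A' ⧸ RingHom.ker ev') →ₐ[A] k' :=
    Ideal.Quotient.liftₐ (RingHom.ker ev') evA (fun a ha => (RingHom.mem_ker).1 ha)
  have hsurjQ : Function.Surjective evQ := by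
    intro z
    obtain ⟨a, rfl⟩ := hsurj z
    exact ⟨Ideal.Quotient.mk _ a, rfl⟩
  haveI : Module.Finite A k' := Module.Finite.of_surjective evQ.toLinearMap hsurjQ
  exact Module.Finite.of_restrictScalars_finite A k k'

theorem finite_residueField_aux (hdim : topologicalKrullDim X ≤ 1)
    (x' : (g₀ X).normalization)
    [Algebra (X.residueField ((g₀ X).fromNormalization.base x'))
      ((g₀ X).normalization.residueField x')]
    (halg : algebraMap (X.residueField ((g₀ X).fromNormalization.base x'))
      ((g₀ X).normalization.residueField x') =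
        ((g₀ X).fromNormalization.residueFieldMap x').hom) :
    Module.Finite (X.residueField ((g₀ X).fromNormalization.base x'))
      ((g₀ X).normalization.residueField x') := by
  obtain ⟨U, hU, hxU, hη⟩ := exists_affine_genericPoint_mem ((g₀ X).fromNormalization.base x')
  have hV : IsAffineOpen ((g₀ X).fromNormalization ⁻¹ᵁ U) := hU.preimage _
  have hx'V : x' ∈ (g₀ X).fromNormalization ⁻¹ᵁ U := hxU
  obtain ⟨hd, hN, hK, hinj, hfrac, hfin⟩ := chart_facts hdim hU hη
  have hnat : ∀ r : Γ(X, U), ((g₀ X).fromNormalization.residueFieldMap x').hom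
      ((X.evaluation U ((g₀ X).fromNormalization.base x') hxU).hom r) =
      ((g₀ X).normalization.evaluation ((g₀ X).fromNormalization ⁻¹ᵁ U) x' hx'V).hom
        (((g₀ X).fromNormalization.app U).hom r) := fun r =>
    Scheme.evaluation_naturality_apply (g₀ X).fromNormalization x' hxU r
  have hgen := exists_evaluation_mul_eq hV x' hx'V
  by_cases hker : Function.Injective
      ((g₀ X).normalization.evaluation ((g₀ X).fromNormalization ⁻¹ᵁ U) x' hx'V).hom
  · have hsurj := surjective_of_frac ((g₀ X).fromNormalization.app U).hom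
      (X.evaluation U ((g₀ X).fromNormalization.base x') hxU).hom
      ((g₀ X).normalization.evaluation ((g₀ X).fromNormalization ⁻¹ᵁ U) x' hx'V).hom
      ((g₀ X).fromNormalization.residueFieldMap x').hom hnat hinj hker hfrac hgen
    rw [← halg] at hsurj
    exact Module.Finite.of_surjective (Algebra.linearMap _ _) hsurj
  · letI algA : Algebra Γ(X, U) Γ((g₀ X).normalization, (g₀ X).fromNormalization ⁻¹ᵁ U) :=
      ((g₀ X).fromNormalization.app U).hom.toAlgebra
    have hq0 : RingHom.ker
        ((g₀ X).normalization.evaluation ((g₀ X).fromNormalization ⁻¹ᵁ U) x' hx'V).hom ≠ ⊥ :=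
      fun h => hker ((RingHom.injective_iff_ker_eq_bot _).2 h)
    have hqp : (RingHom.ker
        ((g₀ X).normalization.evaluation ((g₀ X).fromNormalization ⁻¹ᵁ U) x' hx'V).hom).IsPrime :=
      RingHom.ker_isPrime _
    have hqm := hqp.isMaximal_of_ne_bot hq0
    have hsurj : Function.Surjective
        ((g₀ X).normalization.evaluation ((g₀ X).fromNormalization ⁻¹ᵁ U) x' hx'V).hom := by
      intro z
      obtain ⟨a, s, hs, hz⟩ := hgen z
      have hsq : s ∉ RingHom.ker
          ((g₀ X).normalization.evaluation ((g₀ X).fromNormalization ⁻¹ᵁ U) x' hx'V).hom :=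
        fun h => hs ((RingHom.mem_ker).1 h)
      obtain ⟨s', i, hi, hsi⟩ := hqm.exists_inv hsq
      have h1 := congrArg
        ((g₀ X).normalization.evaluation ((g₀ X).fromNormalization ⁻¹ᵁ U) x' hx'V).hom hsi
      rw [map_add, map_mul, (RingHom.mem_ker).1 hi, add_zero, map_one] at h1
      rw [mul_comm] at h1
      refine ⟨a * s', ?_⟩
      rw [map_mul, ← hz, mul_assoc, h1, mul_one]
    refine finite_of_quotient_finite
      (X.evaluation U ((g₀ X).fromNormalization.base x') hxU).hom
      ((g₀ X).normalization.evaluation ((g₀ X).fromNormalization ⁻¹ᵁ U) x' hx'V).hom ?_ hsurj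
      (hfin _ hq0)
    intro r
    rw [halg]
    exact hnat r

theorem finite_residueField (hdim : topologicalKrullDim X ≤ 1) (x' : (g₀ X).normalization) :
    letI := ((g₀ X).fromNormalization.residueFieldMap x').hom.toAlgebra
    Module.Finite (X.residueField ((g₀ X).fromNormalization.base x'))
      ((g₀ X).normalization.residueField x') := by
  letI := ((g₀ X).fromNormalization.residueFieldMap x').hom.toAlgebra
  exact finite_residueField_aux hdim x' rfl

end residue

/-- The normalization of an integral locally Noetherian scheme of dimension one: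
finite fibres, finite residue field extensions, locally Noetherian, Dedekind charts. -/
theorem normalization_dim_one (X : Scheme.{u}) [IsIntegral X] [IsLocallyNoetherian X]
    (g : Spec (CommRingCat.of X.functionField) ⟶ X) (hg : g = g₀ X) [QuasiCompact g]
    [QuasiSeparated g] (hdim : topologicalKrullDim X = 1) :
    (∀ x : X, Finite {x' : ↥g.normalization // g.fromNormalization.base x' = x}) ∧
      (∀ x' : ↥g.normalization,
        letI := (g.fromNormalization.residueFieldMap x').hom.toAlgebra
        Module.Finite (X.residueField (g.fromNormalization.base x'))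
          (g.normalization.residueField x')) ∧
      IsLocallyNoetherian g.normalization ∧
      (∀ U : g.normalization.affineOpens,
        ((U : g.normalization.Opens) : Set ↥g.normalization).Nonempty →
        IsDedekindDomain Γ(g.normalization, (U : g.normalization.Opens))) := by
  subst hg
  exact ⟨finite_fibre hdim.le, finite_residueField hdim.le,
    isLocallyNoetherian_normalization hdim.le,
    fun U hU => isDedekindDomain_sections hdim.le U.2 hU⟩

end Groth.Agent.Lib.Helper41.NormDimOne
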