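import Groth.Agent.Lib.Helper41.CurveNorm
import Mathlib.AlgebraicGeometry.Morphisms.IsIso

/-!
# Normalization of an integral scheme locally of finite type over a field

The normalization morphism is finite, dominant, an isomorphism over a nonempty open, and the
normalization is integral and normal.
-/

set_option autoImplicit false
universe u
open CategoryTheory CategoryTheory.Limits AlgebraicGeometry TopologicalSpace

namespace Groth.Agent.Lib.Helper41.NormVariety

open Groth.Agent.Lib.Helper41.CurveNorm

section alg

/-- If the integral closure of a domain `A` in its fraction field `K` is a finite `A`-module,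
there is a nonzero `s` with `s • (integral closure) ⊆ A`. -/
theorem exists_conductor {A K : Type*} [CommRing A] [IsDomain A] [CommRing K] [Algebra A K]
    [IsFractionRing A K] (hfin : Module.Finite A (integralClosure A K)) :
    ∃ s : A, s ≠ 0 ∧ ∀ x : K, IsIntegral A x →
      ∃ a : A, algebraMap A K a = algebraMap A K s * x := by
  classical
  obtain ⟨S, hS⟩ := hfin.fg_top
  obtain ⟨b, hb⟩ := IsLocalization.exist_integer_multiples_of_finset (nonZeroDivisors A)
    (S.image (fun x : integralClosure A K => (x : K)))
  refine ⟨b, nonZeroDivisors.ne_zero b.2, fun x hx => ?_⟩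
  have hmem : (⟨x, hx⟩ : integralClosure A K) ∈ Submodule.span A (S : Set (integralClosure A K)) := by
    rw [hS]; trivial
  have key : ∀ y : integralClosure A K, y ∈ Submodule.span A (S : Set (integralClosure A K)) →
      ∃ a : A, algebraMap A K a = algebraMap A K b * (y : K) := by
    intro y hy
    induction hy using Submodule.span_induction with
    | mem y hy =>
      obtain ⟨a, ha⟩ := hb (y : K) (Finset.mem_image.2 ⟨y, hy, rfl⟩)
      refine ⟨a, ?_⟩
      rw [ha, Algebra.smul_def]
    | zero => exact ⟨0, by simp⟩
    | add y z _ _ hy hz =>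
      obtain ⟨a, ha⟩ := hy
      obtain ⟨c, hc⟩ := hz
      refine ⟨a + c, ?_⟩
      rw [map_add, ha, hc]
      push_cast
      ring
    | smul r y _ hy =>
      obtain ⟨a, ha⟩ := hy
      refine ⟨r * a, ?_⟩
      rw [map_mul, ha]
      have : ((r • y : integralClosure A K) : K) = algebraMap A K r * (y : K) := by
        rw [Algebra.smul_def]; rfl
      rw [this]
      ring
  exact key ⟨x, hx⟩ hmem

/-- With `s` a conductor element, the localization `A_s` is integrally closed in any fraction
field of `A`. -/
theorem exists_of_isIntegral_away {A K : Type*} [CommRing A] [IsDomain A] [CommRing K]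
    [Algebra A K]
    [IsFractionRing A K] (s : A) (hs0 : s ≠ 0)
    (hs : ∀ x : K, IsIntegral A x → ∃ a : A, algebraMap A K a = algebraMap A K s * x)
    {A' L : Type*} [CommRing A'] [Algebra A A'] [IsLocalization.Away s A'] [CommRing L]
    [Algebra A' L] [Algebra A L] [IsScalarTower A A' L] [IsFractionRing A L]
    (y : L) (hy : IsIntegral A' y) : ∃ a' : A', algebraMap A' L a' = y := by
  let e : K ≃ₐ[A] L := IsLocalization.algEquiv (nonZeroDivisors A) K L
  have hsL : ∀ z : L, IsIntegral A z → ∃ a : A, algebraMap A L a = algebraMap A L s * z := by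
    intro z hz
    have hz' : IsIntegral A (e.symm z) := hz.map e.symm
    obtain ⟨a, ha⟩ := hs _ hz'
    refine ⟨a, ?_⟩
    have := congrArg e ha
    rw [AlgEquiv.commutes, map_mul, AlgEquiv.commutes, AlgEquiv.apply_symm_apply] at this
    exact this
  obtain ⟨⟨_, n, rfl⟩, hm⟩ := IsIntegral.exists_multiple_integral_of_isLocalization
    (Submonoid.powers s) y hy
  have e1 : (⟨(fun x => s ^ x) n, n, rfl⟩ : Submonoid.powers s) • y = algebraMap A L (s ^ n) * y := by
    rw [Submonoid.smul_def, Algebra.smul_def]
  rw [e1] at hm
  obtain ⟨a, ha⟩ := hsL _ hm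
  have hsL0 : algebraMap A L s ≠ 0 := by
    intro h
    exact hs0 ((IsFractionRing.injective A L) (by rw [h, map_zero]))
  have hunit : IsUnit (algebraMap A A' s) := IsLocalization.Away.algebraMap_isUnit s
  obtain ⟨u, hu⟩ := hunit
  refine ⟨algebraMap A A' a * ((u⁻¹ : A'ˣ) : A') ^ (n + 1), ?_⟩
  have h1 : algebraMap A' L (algebraMap A A' s) = algebraMap A L s :=
    (IsScalarTower.algebraMap_apply A A' L s).symm
  have h2 : algebraMap A' L ((u⁻¹ : A'ˣ) : A') * algebraMap A L s = 1 := by
    rw [← h1, ← hu, ← map_mul, Units.inv_mul, map_one]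
  rw [map_mul, map_pow, ← IsScalarTower.algebraMap_apply A A' L, ha, map_pow]
  calc algebraMap A L s * (algebraMap A L s ^ n * y) * algebraMap A' L ((u⁻¹ : A'ˣ) : A') ^ (n + 1)
      = (algebraMap A' L ((u⁻¹ : A'ˣ) : A') * algebraMap A L s) ^ (n + 1) * y := by ring
    _ = y := by rw [h2, one_pow, one_mul]

/-- The algebra map from `A_s` to its integral closure in a fraction field is bijective. -/
theorem bijective_algebraMap_integralClosure_away {A K : Type*} [CommRing A] [IsDomain A]
    [CommRing K] [Algebra A K] [IsFractionRing A K] (s : A) (hs0 : s ≠ 0)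
    (hs : ∀ x : K, IsIntegral A x → ∃ a : A, algebraMap A K a = algebraMap A K s * x)
    {A' L : Type*} [CommRing A'] [Algebra A A'] [IsLocalization.Away s A'] [CommRing L]
    [Algebra A' L] [Algebra A L] [IsScalarTower A A' L] [IsFractionRing A L] :
    Function.Bijective (algebraMap A' (integralClosure A' L)) := by
  haveI : IsFractionRing A' L :=
    IsFractionRing.isFractionRing_of_isDomain_of_isLocalization (Submonoid.powers s) A' L
  have hinj : Function.Injective (algebraMap A' L) := by
    haveI : IsDomain A' :=
      IsLocalization.isDomain_of_le_nonZeroDivisors A'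
        (powers_le_nonZeroDivisors_of_noZeroDivisors hs0)
    exact IsFractionRing.injective A' L
  constructor
  · intro a b hab
    apply hinj
    exact congrArg Subtype.val hab
  · rintro ⟨y, hy⟩
    obtain ⟨a', ha'⟩ := exists_of_isIntegral_away s hs0 hs y hy
    exact ⟨a', Subtype.ext ha'⟩

end alg

section sch

variable {X : Scheme.{u}} [IsIntegral X]

/-- Sections of `Spec K(X)` over the preimage of a nonempty open `V` form a fraction field of the
sections of `X` over any affine open `U ⊇ V`. -/
theorem isFractionRing_sections_of_le {U V : X.Opens} [Nonempty V] (hU : IsAffineOpen U)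
    (hVU : V ≤ U) :
    letI := (((gmap X.functionField (RingHom.id _)).app V).hom.comp
      (X.presheaf.map (homOfLE hVU).op).hom).toAlgebra
    IsFractionRing Γ(X, U) Γ(Spec (CommRingCat.of X.functionField),
      gmap X.functionField (RingHom.id _) ⁻¹ᵁ V) := by
  letI := (((gmap X.functionField (RingHom.id _)).app V).hom.comp
      (X.presheaf.map (homOfLE hVU).op).hom).toAlgebra
  haveI : Nonempty U := by
    obtain ⟨⟨x, hx⟩⟩ := ‹Nonempty V›
    exact ⟨⟨x, hVU hx⟩⟩
  haveI : IsFractionRing Γ(X, U) X.functionField :=
    functionField_isFractionRing_of_isAffineOpen X U hU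
  let e : X.functionField ≃ₐ[Γ(X, U)] Γ(Spec (CommRingCat.of X.functionField),
      gmap X.functionField (RingHom.id _) ⁻¹ᵁ V) :=
    AlgEquiv.ofRingEquiv
      (f := (chartIso X.functionField (RingHom.id _) V).commRingCatIsoToRingEquiv) (by
        intro a
        change _ = ((gmap X.functionField (RingHom.id _)).app V).hom
          ((X.presheaf.map (homOfLE hVU).op).hom a)
        rw [gmap_app_apply]
        congr 1
        change _ = (X.presheaf.map (homOfLE hVU).op ≫ X.germToFunctionField V).hom a
        rw [Scheme.germToFunctionField, TopCat.Presheaf.germ_res]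
        rfl)
  exact IsLocalization.isLocalization_of_algEquiv _ e

/-- Sections of `Spec K(X)` over the preimage of a nonempty affine open `V` form a fraction
field of the sections of `X` over `V`. -/
theorem isFractionRing_sections {V : X.Opens} [Nonempty V] (hV : IsAffineOpen V) :
    letI := ((gmap X.functionField (RingHom.id _)).app V).hom.toAlgebra
    IsFractionRing Γ(X, V) Γ(Spec (CommRingCat.of X.functionField),
      gmap X.functionField (RingHom.id _) ⁻¹ᵁ V) := by
  letI := ((gmap X.functionField (RingHom.id _)).app V).hom.toAlgebra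
  haveI : IsFractionRing Γ(X, V) X.functionField :=
    functionField_isFractionRing_of_isAffineOpen X V hV
  let e : X.functionField ≃ₐ[Γ(X, V)] Γ(Spec (CommRingCat.of X.functionField),
      gmap X.functionField (RingHom.id _) ⁻¹ᵁ V) :=
    AlgEquiv.ofRingEquiv
      (f := (chartIso X.functionField (RingHom.id _) V).commRingCatIsoToRingEquiv) (by
        intro a
        change _ = ((gmap X.functionField (RingHom.id _)).app V).hom a
        rw [gmap_app_apply]
        rfl)
  exact IsLocalization.isLocalization_of_algEquiv _ e

/-- The normalization morphism is an isomorphism over a nonempty open. -/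
theorem exists_isIso_restrict (k : Type u) [Field k] [X.Over (Spec (CommRingCat.of k))]
    [LocallyOfFiniteType (X ↘ (Spec (CommRingCat.of k)))]
    [QuasiCompact (gmap X.functionField (RingHom.id _))]
    [QuasiSeparated (gmap X.functionField (RingHom.id _))] :
    ∃ V : X.Opens, (V : Set X).Nonempty ∧
      IsIso ((gmap X.functionField (RingHom.id _)).fromNormalization ∣_ V) := by
  set g := gmap X.functionField (RingHom.id _) with hg
  -- a nonempty affine open
  obtain ⟨_, ⟨U, hU, rfl⟩, hxU, -⟩ :=
    X.isBasis_affineOpens.exists_subset_of_mem_open (Set.mem_univ (genericPoint X))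
      isOpen_univ
  change IsAffineOpen U at hU
  haveI : Nonempty U := ⟨⟨genericPoint X, hxU⟩⟩
  letI algU := ((gmap X.functionField (RingHom.id _)).app U).hom.toAlgebra
  haveI fracU : IsFractionRing Γ(X, U) Γ(Spec (CommRingCat.of X.functionField),
      gmap X.functionField (RingHom.id _) ⁻¹ᵁ U) := isFractionRing_sections hU
  have hfin : Module.Finite Γ(X, U) (integralClosure Γ(X, U)
      Γ(Spec (CommRingCat.of X.functionField), gmap X.functionField (RingHom.id _) ⁻¹ᵁ U)) :=
    finite_integralClosure_sections X.functionField (RingHom.id _) k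
      (RingHom.Finite.id _) U hU
  obtain ⟨s, hs0, hs⟩ := exists_conductor hfin
  -- the open
  have hV : IsAffineOpen (X.basicOpen s) := hU.basicOpen s
  have hVne : ((X.basicOpen s : X.Opens) : Set X).Nonempty := by
    rw [Set.nonempty_iff_ne_empty]
    intro h
    apply hs0
    apply (basicOpen_eq_bot_iff s).1
    ext x
    simp [h]
  haveI : Nonempty (X.basicOpen s) := by
    obtain ⟨x, hx⟩ := hVne
    exact ⟨⟨x, hx⟩⟩
  refine ⟨X.basicOpen s, hVne, ?_⟩
  -- algebra structures
  letI algUV : Algebra Γ(X, U) Γ(X, X.basicOpen s) :=
    (X.presheaf.map (homOfLE (X.basicOpen_le s)).op).hom.toAlgebra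
  haveI locV : IsLocalization.Away s Γ(X, X.basicOpen s) := hU.isLocalization_basicOpen s
  letI algV : Algebra Γ(X, X.basicOpen s) Γ(Spec (CommRingCat.of X.functionField),
      g ⁻¹ᵁ X.basicOpen s) := (g.app (X.basicOpen s)).hom.toAlgebra
  letI algUL : Algebra Γ(X, U) Γ(Spec (CommRingCat.of X.functionField),
      g ⁻¹ᵁ X.basicOpen s) := ((g.app (X.basicOpen s)).hom.comp
      (X.presheaf.map (homOfLE (X.basicOpen_le s)).op).hom).toAlgebra
  haveI : IsScalarTower Γ(X, U) Γ(X, X.basicOpen s) Γ(Spec (CommRingCat.of X.functionField),
      g ⁻¹ᵁ X.basicOpen s) := IsScalarTower.of_algebraMap_eq (fun _ => rfl)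
  haveI fracUL : IsFractionRing Γ(X, U) Γ(Spec (CommRingCat.of X.functionField),
      g ⁻¹ᵁ X.basicOpen s) := isFractionRing_sections_of_le hU (X.basicOpen_le s)
  -- the algebra map to the integral closure is bijective
  have hbij : Function.Bijective (algebraMap Γ(X, X.basicOpen s)
      (integralClosure Γ(X, X.basicOpen s)
        Γ(Spec (CommRingCat.of X.functionField), g ⁻¹ᵁ X.basicOpen s))) :=
    bijective_algebraMap_integralClosure_away s hs0 hs
  have hiso1 : IsIso (CommRingCat.ofHom (algebraMap Γ(X, X.basicOpen s)
      (integralClosure Γ(X, X.basicOpen s)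
        Γ(Spec (CommRingCat.of X.functionField), g ⁻¹ᵁ X.basicOpen s)))) :=
    (ConcreteCategory.isIso_iff_bijective _).2 hbij
  have happ : IsIso (g.fromNormalization.app (X.basicOpen s)) := by
    rw [Scheme.Hom.fromNormalization_app _ hV]
    infer_instance
  have happ' : ∀ W : X.Opens, W = X.basicOpen s → IsIso (g.fromNormalization.app W) := by
    rintro _ rfl
    exact happ
  -- conclude by the affine criterion for isomorphisms
  haveI : IsAffine (X.basicOpen s) := hV
  have haff : IsAffine (g.fromNormalization ⁻¹ᵁ X.basicOpen s) := hV.preimage g.fromNormalization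
  have h3 : IsIso (g.fromNormalization ∣_ X.basicOpen s).appTop := by
    rw [morphismRestrict_appTop]
    have h4 := happ' ((X.basicOpen s).ι ''ᵁ ⊤) (by simp)
    exact @IsIso.comp_isIso _ _ _ _ _ _ _ h4 (Functor.map_isIso _ _)
  exact (HasAffineProperty.iff_of_isAffine (P := MorphismProperty.isomorphisms Scheme)
    (f := g.fromNormalization ∣_ X.basicOpen s)).2 ⟨haff, h3⟩

end sch

/-- The normalization of an integral scheme locally of finite type over a field. -/
theorem normalization_variety (k : Type u) [Field k] (X : Scheme.{u})
    [X.Over (Spec (CommRingCat.of k))]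
    [LocallyOfFiniteType (X ↘ (Spec (CommRingCat.of k)))] [IsIntegral X]
    (g : Spec (CommRingCat.of X.functionField) ⟶ X)
    (hg : g = gmap X.functionField (RingHom.id _)) [QuasiCompact g] [QuasiSeparated g] :
    IsFinite g.fromNormalization ∧ IsDominant g.fromNormalization ∧
      (∃ V : X.Opens, (V : Set X).Nonempty ∧ IsIso (g.fromNormalization ∣_ V)) ∧
      IsIntegral g.normalization ∧ Pi1.IsNormalScheme g.normalization := by
  subst hg
  refine ⟨isFinite_fromNormalization _ _ k (RingHom.Finite.id _), ?_, exists_isIso_restrict k,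
    inferInstance, Groth.Agent.Lib.Helper69.NormField.isNormalScheme_normalization _⟩
  haveI : IsDominant ((gmap X.functionField (RingHom.id _)).toNormalization ≫
      (gmap X.functionField (RingHom.id _)).fromNormalization) := by
    rw [Scheme.Hom.toNormalization_fromNormalization]; infer_instance
  exact IsDominant.of_comp (gmap X.functionField (RingHom.id _)).toNormalization _

end Groth.Agent.Lib.Helper41.NormVariety
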