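import Mathlib.AlgebraicGeometry.ZariskisMainTheorem
set_option autoImplicit false
universe u
open AlgebraicGeometry CategoryTheory Limits TopologicalSpace

namespace Groth.Agent.Lib.Helper41

/-- Prime avoidance, geometric form: a finite set of points of an open subset of `Spec R`
is contained in a basic open contained in that open subset. -/
theorem exists_basicOpen_le_of_finset {R : Type u} [CommRing R] (V : Opens (PrimeSpectrum R))
    (T : Finset (PrimeSpectrum R)) (hT : ∀ t ∈ T, t ∈ V) :
    ∃ b : R, PrimeSpectrum.basicOpen b ≤ V ∧ ∀ t ∈ T, t ∈ PrimeSpectrum.basicOpen b := by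
  classical
  rcases T.eq_empty_or_nonempty with rfl | ⟨a, ha⟩
  · refine ⟨0, ?_, by simp⟩
    simp
  obtain ⟨I, hI⟩ := (PrimeSpectrum.isClosed_iff_zeroLocus_ideal _).mp V.isOpen.isClosed_compl
  have h1 : ¬ ((I : Set R) ⊆ ⋃ t ∈ (↑T : Set (PrimeSpectrum R)), (t.asIdeal : Set R)) := by
    intro h
    have := (Ideal.subset_union_prime (s := T) (f := fun t : PrimeSpectrum R => t.asIdeal)
      (I := I) a a (fun i _ _ _ => i.isPrime)).mp h
    obtain ⟨t, htT, hle⟩ := this
    have : t ∈ PrimeSpectrum.zeroLocus (I : Set R) := by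
      rw [PrimeSpectrum.mem_zeroLocus]; exact hle
    rw [← hI] at this
    exact this (hT t htT)
  rw [Set.not_subset] at h1
  obtain ⟨b, hbI, hb⟩ := h1
  refine ⟨b, ?_, ?_⟩
  · intro p hp
    by_contra hpV
    have : p ∈ PrimeSpectrum.zeroLocus (I : Set R) := by rw [← hI]; exact hpV
    rw [PrimeSpectrum.mem_zeroLocus] at this
    exact hp (this hbI)
  · intro t htT
    rw [PrimeSpectrum.mem_basicOpen]
    intro hbt
    apply hb
    simp only [Set.mem_iUnion]
    exact ⟨t, htT, hbt⟩

/-- In a scheme admitting an open immersion into an affine scheme, every finite set of points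
is contained in an affine open. -/
theorem exists_isAffineOpen_of_finset_of_isOpenImmersion {X N : Scheme.{u}} [IsAffine N]
    (j : X ⟶ N) [IsOpenImmersion j] (T : Finset X) :
    ∃ U : X.Opens, IsAffineOpen U ∧ ∀ x ∈ T, x ∈ U := by
  classical
  let j' : X ⟶ Spec Γ(N, ⊤) := j ≫ N.isoSpec.hom
  obtain ⟨b, hb, hbT⟩ := exists_basicOpen_le_of_finset (R := Γ(N, ⊤)) j'.opensRange
    (T.image j') (by
      intro t ht
      obtain ⟨x, -, rfl⟩ := Finset.mem_image.mp ht
      exact ⟨x, rfl⟩)
  have haff : IsAffineOpen (X := Spec Γ(N, ⊤)) (PrimeSpectrum.basicOpen b) := by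
    rw [← basicOpen_eq_of_affine]
    exact (isAffineOpen_top _).basicOpen _
  refine ⟨j' ⁻¹ᵁ (PrimeSpectrum.basicOpen b), haff.preimage_of_isOpenImmersion j' hb, ?_⟩
  intro x hx
  exact hbT (j' x) (Finset.mem_image_of_mem _ hx)

/-- For a separated, locally quasi-finite morphism to an affine scheme, every finite set of
points of the source lies in an affine open. -/
theorem exists_isAffineOpen_of_finset_of_locallyQuasiFinite {X Y : Scheme.{u}} (f : X ⟶ Y)
    [IsAffine Y] [IsSeparated f] [LocallyQuasiFinite f] [LocallyOfFiniteType f] (T : Finset X) :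
    ∃ U : X.Opens, IsAffineOpen U ∧ ∀ x ∈ T, x ∈ U := by
  classical
  have hex : ∀ x : X, ∃ U : X.Opens, IsAffineOpen U ∧ x ∈ U := fun x =>
    ⟨(X.affineCover.f (X.affineCover.idx x)).opensRange, isAffineOpen_opensRange _,
      X.affineCover.covers x⟩
  choose W hW hxW using hex
  let X' : X.Opens := ⨆ x ∈ T, W x
  have hcomp : IsCompact (X' : Set X) := by
    have : (X' : Set X) = ⋃ x ∈ T, (W x : Set X) := by simp [X']
    rw [this]
    exact T.isCompact_biUnion fun x _ => (hW x).isCompact
  haveI : CompactSpace ↥(X' : Scheme.{u}) := isCompact_iff_compactSpace.mp hcomp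
  let g : (X' : Scheme.{u}) ⟶ Y := X'.ι ≫ f
  haveI : IsAffine g.normalization := isAffine_of_isAffineHom g.fromNormalization
  have hT : ∀ x ∈ T, x ∈ X' := fun x hx => by
    simp only [X', Opens.mem_iSup]
    exact ⟨x, hx, hxW x⟩
  obtain ⟨U, hU, hUT⟩ := exists_isAffineOpen_of_finset_of_isOpenImmersion g.toNormalization
    (T.subtype (· ∈ X'))
  refine ⟨X'.ι ''ᵁ U, hU.image_of_isOpenImmersion _, ?_⟩
  intro x hx
  exact ⟨⟨x, hT x hx⟩, hUT ⟨x, hT x hx⟩ (Finset.mem_subtype.mpr hx), rfl⟩

end Groth.Agent.Lib.Helper41
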