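import Groth.Agent.Lib.Helper41.BirGraph
import Mathlib.AlgebraicGeometry.Morphisms.UniversallyOpen
set_option autoImplicit false
universe u
open AlgebraicGeometry CategoryTheory Limits TopologicalSpace

namespace Groth.Agent.Lib.Helper41

/-- Points of a pullback square. -/
theorem IsPullback.exists_preimage {P X Y Z : Scheme.{u}} {fst : P ⟶ X} {snd : P ⟶ Y}
    {f : X ⟶ Z} {g : Y ⟶ Z} (h : IsPullback fst snd f g) (x : X) (y : Y) (hxy : f x = g y) :
    ∃ p : P, fst p = x ∧ snd p = y := by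
  obtain ⟨w, hw1, hw2⟩ := Scheme.Pullback.exists_preimage_pullback x y hxy
  refine ⟨h.isoPullback.inv w, ?_, ?_⟩
  · rw [← Scheme.Hom.comp_apply, h.isoPullback_inv_fst, hw1]
  · rw [← Scheme.Hom.comp_apply, h.isoPullback_inv_snd, hw2]

/-- Let `ω` be a rational `S`-map from `X` to a separated `S`-scheme `Y`, represented by `h` on a
dense open `U`, and `f : X' ⟶ X` universally open. If `ω ∘ f` is defined at `x'` then the closure
of the graph of `ω` has exactly one point over `f x'`. -/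
theorem exists_unique_point_graph_closure_of_univOpen {X X' Y S : Scheme.{u}} (pX : X ⟶ S)
    (pY : Y ⟶ S) [IsSeparated pY] (U : X.Opens) (hU : Dense (U : Set X))
    (h : (U : Scheme.{u}) ⟶ Y) (hh : U.ι ≫ pX = h ≫ pY)
    (f : X' ⟶ X) [UniversallyOpen f] (x' : X')
    (V' : X'.Opens) (hx' : x' ∈ V') (v' : (V' : Scheme.{u}) ⟶ Y)
    (hv'S : v' ≫ pY = V'.ι ≫ f ≫ pX)
    (hv' : X'.homOfLE (inf_le_right : f ⁻¹ᵁ U ⊓ V' ≤ V') ≫ v' =
      X'.homOfLE (inf_le_left : f ⁻¹ᵁ U ⊓ V' ≤ f ⁻¹ᵁ U) ≫ (f ∣_ U) ≫ h) :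
    ∃ z : ↥(pullback pX pY), pullback.fst pX pY z = f x' ∧
      z ∈ closure (Set.range (pullback.lift U.ι h hh)) ∧
      ∀ p ∈ closure (Set.range (pullback.lift U.ι h hh)), pullback.fst pX pY p = f x' → p = z := by
  set q := pullback.fst pX pY with hq
  set γ := pullback.lift U.ι h hh with hγ
  have hγq : γ ≫ q = U.ι := pullback.lift_fst _ _ _
  have hγsnd : γ ≫ pullback.snd pX pY = h := pullback.lift_snd _ _ _
  -- the base change of `f`
  set a := pullback.fst f q with ha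
  set b := pullback.snd f q with hb
  have hab : a ≫ f = b ≫ q := pullback.condition
  have hbopen : IsOpenMap b := b.isOpenMap
  -- the section defined by `v'`
  let κ : (V' : Scheme.{u}) ⟶ pullback pX pY :=
    pullback.lift (V'.ι ≫ f) v' (by rw [Category.assoc, hv'S])
  have hκq : κ ≫ q = V'.ι ≫ f := pullback.lift_fst _ _ _
  have hκsnd : κ ≫ pullback.snd pX pY = v' := pullback.lift_snd _ _ _
  let σ : (V' : Scheme.{u}) ⟶ pullback f q := pullback.lift V'.ι κ hκq.symm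
  have hσa : σ ≫ a = V'.ι := pullback.lift_fst _ _ _
  have hσb : σ ≫ b = κ := pullback.lift_snd _ _ _
  -- the canonical section over `f⁻¹ U`
  let σU : ((f ⁻¹ᵁ U : X'.Opens) : Scheme.{u}) ⟶ pullback f q :=
    pullback.lift (f ⁻¹ᵁ U).ι ((f ∣_ U) ≫ γ) (by rw [Category.assoc, hγq, morphismRestrict_ι])
  have hσUa : σU ≫ a = (f ⁻¹ᵁ U).ι := pullback.lift_fst _ _ _
  have hσUb : σU ≫ b = (f ∣_ U) ≫ γ := pullback.lift_snd _ _ _
  -- (F2) the two sections agree on `D = f⁻¹ U ⊓ V'`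
  have hF2 : X'.homOfLE (inf_le_right : f ⁻¹ᵁ U ⊓ V' ≤ V') ≫ κ =
      X'.homOfLE (inf_le_left : f ⁻¹ᵁ U ⊓ V' ≤ f ⁻¹ᵁ U) ≫ (f ∣_ U) ≫ γ := by
    apply pullback.hom_ext
    · simp only [Category.assoc]
      rw [← hq, hκq, hγq, morphismRestrict_ι, X'.homOfLE_ι_assoc, X'.homOfLE_ι_assoc]
    · simp only [Category.assoc]
      rw [hκsnd, hγsnd, hv']
  have hσσU : X'.homOfLE (inf_le_right : f ⁻¹ᵁ U ⊓ V' ≤ V') ≫ σ =
      X'.homOfLE (inf_le_left : f ⁻¹ᵁ U ⊓ V' ≤ f ⁻¹ᵁ U) ≫ σU := by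
    apply pullback.hom_ext
    · simp only [Category.assoc]
      rw [← ha, hσa, hσUa, X'.homOfLE_ι, X'.homOfLE_ι]
    · simp only [Category.assoc]
      rw [← hb, hσb, hσUb, hF2]
  -- (F5) points of `P'` over the graph and over `V'` lie in the range of `σ`
  have hF5 : ∀ t₁ : ↥(pullback f q), b t₁ ∈ Set.range γ → a t₁ ∈ V' → t₁ ∈ Set.range σ := by
    rintro t₁ ⟨u, hu⟩ hat₁
    have topSq : IsPullback (f ∣_ U) σU γ b := by
      refine IsPullback.of_bot ?_ hσUb.symm (IsPullback.of_hasPullback f q).flip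
      rw [hσUa, hγq]
      exact isPullback_morphismRestrict f U
    obtain ⟨d, hd, -⟩ := IsPullback.exists_preimage topSq.flip t₁ u hu.symm
    have hdV' : (f ⁻¹ᵁ U).ι d ∈ V' := by
      rw [← hσUa, Scheme.Hom.comp_apply, hd]; exact hat₁
    let d' : ((f ⁻¹ᵁ U ⊓ V' : X'.Opens) : Scheme.{u}) := ⟨d.1, d.2, hdV'⟩
    have hd' : X'.homOfLE (inf_le_left : f ⁻¹ᵁ U ⊓ V' ≤ f ⁻¹ᵁ U) d' = d :=
      Subtype.ext (X'.homOfLE_apply _ _)
    refine ⟨X'.homOfLE (inf_le_right : f ⁻¹ᵁ U ⊓ V' ≤ V') d', ?_⟩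
    rw [← Scheme.Hom.comp_apply, hσσU, Scheme.Hom.comp_apply, hd', hd]
  let xV : (V' : Scheme.{u}) := ⟨x', hx'⟩
  refine ⟨κ xV, ?_, ?_, ?_⟩
  · rw [← Scheme.Hom.comp_apply, hκq, Scheme.Hom.comp_apply]
    rfl
  · -- (F3) the point lies in the closure of the graph
    have hdense : Dense ((f ⁻¹ᵁ U : X'.Opens) : Set X') := hU.preimage f.isOpenMap
    have hxcl : xV ∈ closure (V'.ι ⁻¹' ((f ⁻¹ᵁ U : X'.Opens) : Set X')) :=
      (hdense.preimage V'.ι.isOpenEmbedding.isOpenMap) xV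
    have h1 := image_closure_subset_closure_image κ.continuous ⟨xV, hxcl, rfl⟩
    refine closure_mono ?_ h1
    rintro _ ⟨w, hw, rfl⟩
    let d' : ((f ⁻¹ᵁ U ⊓ V' : X'.Opens) : Scheme.{u}) := ⟨w.1, hw, w.2⟩
    have hd' : X'.homOfLE (inf_le_right : f ⁻¹ᵁ U ⊓ V' ≤ V') d' = w :=
      Subtype.ext (X'.homOfLE_apply _ _)
    refine ⟨(f ∣_ U) (X'.homOfLE (inf_le_left : f ⁻¹ᵁ U ⊓ V' ≤ f ⁻¹ᵁ U) d'), ?_⟩
    rw [← hd', ← Scheme.Hom.comp_apply, ← Scheme.Hom.comp_apply, ← Scheme.Hom.comp_apply, hF2]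
  · -- (F4) uniqueness
    intro p hp hqp
    obtain ⟨t, hat, hbt⟩ := Scheme.Pullback.exists_preimage_pullback (f := f) (g := q) x' p
      hqp.symm
    have hatV' : a t ∈ V' := by rw [← ha] at hat; rw [hat]; exact hx'
    have ht : t ∈ Set.range σ := by
      by_contra hnot
      let A : (pullback f q).Opens := a ⁻¹ᵁ V'
      have hrangeσ : Set.range σ ⊆ Set.range A.ι := by
        rintro _ ⟨w, rfl⟩
        rw [Scheme.Opens.range_ι]
        change a (σ w) ∈ V'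
        rw [← Scheme.Hom.comp_apply, hσa]
        exact w.2
      let σ' : (V' : Scheme.{u}) ⟶ (A : Scheme.{u}) := IsOpenImmersion.lift A.ι σ hrangeσ
      have hσ' : σ' ≫ A.ι = σ := IsOpenImmersion.lift_fac _ _ _
      have hσ'id : σ' ≫ (a ∣_ V') = 𝟙 _ := by
        rw [← cancel_mono V'.ι, Category.assoc, morphismRestrict_ι, ← Category.assoc, hσ', hσa,
          Category.id_comp]
      haveI : IsSeparated (a ∣_ V') :=
        IsZariskiLocalAtTarget.restrict (P := @IsSeparated) (inferInstance : IsSeparated a) V'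
      haveI : IsClosedImmersion σ' := by
        haveI : IsClosedImmersion (σ' ≫ (a ∣_ V')) := by rw [hσ'id]; infer_instance
        exact IsClosedImmersion.of_comp σ' (a ∣_ V')
      have hN'open : IsOpen ((Set.range σ')ᶜ) := σ'.isClosedEmbedding.isClosed_range.isOpen_compl
      have hNopen : IsOpen (A.ι '' (Set.range σ')ᶜ) := A.ι.isOpenEmbedding.isOpenMap _ hN'open
      have htN : t ∈ A.ι '' (Set.range σ')ᶜ := by
        refine ⟨⟨t, hatV'⟩, ?_, rfl⟩
        rintro ⟨w, hw⟩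
        apply hnot
        refine ⟨w, ?_⟩
        rw [← hσ', Scheme.Hom.comp_apply, hw]
        rfl
      have hbN : IsOpen (b '' (A.ι '' (Set.range σ')ᶜ)) := hbopen _ hNopen
      have hpbN : p ∈ b '' (A.ι '' (Set.range σ')ᶜ) := ⟨t, htN, by rw [← hb] at hbt; exact hbt⟩
      obtain ⟨_, ⟨t₁, ⟨n, hn, rfl⟩, rfl⟩, hγ₁⟩ := mem_closure_iff.mp hp _ hbN hpbN
      have ht₁ := hF5 (A.ι n) hγ₁ n.2
      obtain ⟨w₁, hw₁⟩ := ht₁
      apply hn
      refine ⟨w₁, A.ι.isOpenEmbedding.injective ?_⟩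
      rw [← Scheme.Hom.comp_apply, hσ', hw₁]
    obtain ⟨w, rfl⟩ := ht
    have hw : w = xV := by
      apply V'.ι.isOpenEmbedding.injective
      have h1 : V'.ι w = x' := by
        rw [← hσa, Scheme.Hom.comp_apply]
        rw [← ha] at hat
        exact hat
      exact h1
    rw [← hbt, hw, ← hb, ← Scheme.Hom.comp_apply, hσb]

end Groth.Agent.Lib.Helper41
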