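import Mathlib
import Groth.Prelude.Def_Rees

/-!
# Functoriality and localization of Rees algebras
-/

set_option autoImplicit false
universe u
open Polynomial

namespace Groth.Agent.Lib.Helper41.ReesLoc

variable {A A' A'' : Type u} [CommRing A] [CommRing A'] [CommRing A'']

theorem map_mem_reesAlgebra (φ : A →+* A') {I : Ideal A} {I' : Ideal A'} (h : I.map φ ≤ I')
    {p : A[X]} (hp : p ∈ reesAlgebra I) : p.map φ ∈ reesAlgebra I' := by
  intro n
  rw [coeff_map]
  have h1 : φ (p.coeff n) ∈ (I ^ n).map φ := Ideal.mem_map_of_mem _ (hp n)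
  rw [Ideal.map_pow] at h1
  exact Ideal.pow_right_mono h n h1

/-- The map of Rees algebras induced by a ring map. -/
noncomputable def reesMap (φ : A →+* A') (I : Ideal A) (I' : Ideal A') (h : I.map φ ≤ I') :
    reesAlgebra I →+* reesAlgebra I' where
  toFun p := ⟨(p : A[X]).map φ, map_mem_reesAlgebra φ h p.2⟩
  map_one' := Subtype.ext (by simp)
  map_mul' p q := Subtype.ext (by simp)
  map_zero' := Subtype.ext (by simp)
  map_add' p q := Subtype.ext (by simp)

@[simp]
theorem coe_reesMap (φ : A →+* A') (I : Ideal A) (I' : Ideal A') (h : I.map φ ≤ I')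
    (p : reesAlgebra I) : ((reesMap φ I I' h p : reesAlgebra I') : A'[X]) = (p : A[X]).map φ := rfl

theorem reesMap_algebraMap (φ : A →+* A') (I : Ideal A) (I' : Ideal A') (h : I.map φ ≤ I')
    (r : A) : reesMap φ I I' h (algebraMap A (reesAlgebra I) r) =
      algebraMap A' (reesAlgebra I') (φ r) := by
  apply Subtype.ext
  change (C r).map φ = C (φ r)
  simp

theorem reesMap_id (I : Ideal A) (h : I.map (RingHom.id A) ≤ I) :
    reesMap (RingHom.id A) I I h = RingHom.id _ := by
  ext p : 1
  apply Subtype.ext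
  simp

theorem reesMap_comp (φ : A →+* A') (ψ : A' →+* A'') (I : Ideal A) (I' : Ideal A')
    (I'' : Ideal A'') (h : I.map φ ≤ I') (h' : I'.map ψ ≤ I'') (h'' : I.map (ψ.comp φ) ≤ I'') :
    (reesMap ψ I' I'' h').comp (reesMap φ I I' h) = reesMap (ψ.comp φ) I I'' h'' := by
  ext p : 1
  apply Subtype.ext
  simp [Polynomial.map_map]

theorem reesMap_congr {φ ψ : A →+* A'} (e : φ = ψ) (I : Ideal A) (I' : Ideal A')
    (h : I.map φ ≤ I') : reesMap φ I I' h = reesMap ψ I I' (e ▸ h) := by
  subst e; rfl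

theorem reesMap_mem_deg (φ : A →+* A') (I : Ideal A) (I' : Ideal A') (h : I.map φ ≤ I')
    {n : ℕ} {p : reesAlgebra I} (hp : p ∈ Rees.deg (reesAlgebra I) n) :
    reesMap φ I I' h p ∈ Rees.deg (reesAlgebra I') n := by
  rw [Rees.mem_deg_iff] at hp ⊢
  intro m hm
  rw [coe_reesMap, coeff_map, hp m hm, map_zero]

section Loc

variable [Algebra A A'] (f : A) [IsLocalization.Away f A'] (I : Ideal A)

attribute [local instance] Polynomial.algebra in
/-- The Rees algebra commutes with localization at an element. -/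
theorem isLocalization_rees :
    letI := (reesMap (algebraMap A A') I (I.map (algebraMap A A')) le_rfl).toAlgebra
    IsLocalization.Away (algebraMap A (reesAlgebra I) f)
      (reesAlgebra (I.map (algebraMap A A'))) := by
  letI := (reesMap (algebraMap A A') I (I.map (algebraMap A A')) le_rfl).toAlgebra
  set ρ := reesMap (algebraMap A A') I (I.map (algebraMap A A')) le_rfl with hρ
  have hunit : IsUnit (algebraMap A A' f) := IsLocalization.Away.algebraMap_isUnit f
  have hpoly := Polynomial.isLocalization (Submonoid.powers f) A'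
  rw [Submonoid.map_powers] at hpoly
  -- surjectivity statement
  have hsurj : ∀ q : A'[X], q ∈ reesAlgebra (I.map (algebraMap A A')) →
      ∃ (p : reesAlgebra I) (k : ℕ), q * C (algebraMap A A' f) ^ k =
        (p : A[X]).map (algebraMap A A') := by
    intro q hq
    rw [← adjoin_monomial_eq_reesAlgebra] at hq
    induction hq using Algebra.adjoin_induction with
    | mem x hx =>
      obtain ⟨c, hc, rfl⟩ := hx
      have hc' : c ∈ I.map (algebraMap A A') := hc
      rw [IsLocalization.mem_map_algebraMap_iff (Submonoid.powers f)] at hc'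
      obtain ⟨⟨⟨x, hx⟩, ⟨_, k, rfl⟩⟩, hxk⟩ := hc'
      refine ⟨⟨monomial 1 x, reesAlgebra.monomial_mem.mpr (by rwa [pow_one])⟩, k, ?_⟩
      simp only [map_pow] at hxk
      change monomial 1 c * C (algebraMap A A' f) ^ k = (monomial 1 x).map (algebraMap A A')
      rw [map_monomial, ← C_pow, monomial_mul_C, hxk]
    | algebraMap r =>
      obtain ⟨⟨x, ⟨_, k, rfl⟩⟩, hxk⟩ := IsLocalization.surj (Submonoid.powers f) r
      refine ⟨algebraMap A (reesAlgebra I) x, k, ?_⟩
      simp only [map_pow] at hxk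
      change C r * C (algebraMap A A' f) ^ k = (C x).map (algebraMap A A')
      rw [Polynomial.map_C, ← C_pow, ← C_mul, hxk]
    | add x y _ _ hx hy =>
      obtain ⟨p₁, k₁, h₁⟩ := hx
      obtain ⟨p₂, k₂, h₂⟩ := hy
      refine ⟨algebraMap A (reesAlgebra I) (f ^ k₂) * p₁ + algebraMap A (reesAlgebra I) (f ^ k₁) * p₂,
        k₁ + k₂, ?_⟩
      change _ = ((C (f ^ k₂) * (p₁ : A[X]) + C (f ^ k₁) * (p₂ : A[X])) : A[X]).map _
      rw [Polynomial.map_add, Polynomial.map_mul, Polynomial.map_mul, ← h₁, ← h₂,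
        Polynomial.map_C, Polynomial.map_C]
      simp only [map_pow, C_pow]
      ring
    | mul x y _ _ hx hy =>
      obtain ⟨p₁, k₁, h₁⟩ := hx
      obtain ⟨p₂, k₂, h₂⟩ := hy
      refine ⟨p₁ * p₂, k₁ + k₂, ?_⟩
      change _ = ((p₁ : A[X]) * (p₂ : A[X])).map _
      rw [Polynomial.map_mul, ← h₁, ← h₂]
      ring
  refine IsLocalization.Away.mk _ ?_ ?_ ?_
  · -- unit
    obtain ⟨v, hv⟩ := hunit
    refine ⟨⟨algebraMap A' (reesAlgebra (I.map (algebraMap A A'))) v,
      algebraMap A' (reesAlgebra (I.map (algebraMap A A'))) ↑v⁻¹, ?_, ?_⟩, ?_⟩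
    · rw [← map_mul, Units.mul_inv, map_one]
    · rw [← map_mul, Units.inv_mul, map_one]
    · change algebraMap A' (reesAlgebra (I.map (algebraMap A A'))) v = ρ _
      rw [hρ, reesMap_algebraMap, hv]
  · intro q
    obtain ⟨p, k, hpk⟩ := hsurj q.1 q.2
    refine ⟨k, p, ?_⟩
    apply Subtype.ext
    change (q : A'[X]) * ((ρ (algebraMap A (reesAlgebra I) f) ^ k : reesAlgebra _) : A'[X]) = _
    rw [hρ, reesMap_algebraMap]
    exact hpk
  · intro p₁ p₂ h12
    have h1 : (p₁ : A[X]).map (algebraMap A A') = (p₂ : A[X]).map (algebraMap A A') :=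
      congrArg Subtype.val h12
    have h2 : algebraMap A[X] A'[X] (p₁ : A[X]) = algebraMap A[X] A'[X] (p₂ : A[X]) := h1
    obtain ⟨⟨_, n, rfl⟩, hn⟩ := (IsLocalization.eq_iff_exists (Submonoid.powers (C f)) A'[X]).mp h2
    refine ⟨n, Subtype.ext ?_⟩
    exact hn

/-- Variant with a prescribed target ideal. -/
theorem isLocalization_rees' (I' : Ideal A') (hI' : I.map (algebraMap A A') = I') :
    letI := (reesMap (algebraMap A A') I I' hI'.le).toAlgebra
    IsLocalization.Away (algebraMap A (reesAlgebra I) f) (reesAlgebra I') := by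
  subst hI'
  exact isLocalization_rees f I

end Loc

end Groth.Agent.Lib.Helper41.ReesLoc
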