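import Mathlib
import Groth.Agent.Lib.Helper41.ReesLoc
import Groth.Agent.Lib.Helper74.PolyAlg
import Groth.Agent.Lib.Helper74.QCAlgOfAffine
import Groth.Agent.Lib.Helper74.GrTransport
import Groth.Prelude.Def_RelProj
import Groth.Prelude.Def_BlowUp2
import Groth.Agent.Lib.Helper41.ReesChart

/-!
# The Rees algebra of a quasi-coherent ideal sheaf as a quasi-coherent graded algebra
-/

set_option autoImplicit false
universe u
open CategoryTheory CategoryTheory.Limits AlgebraicGeometry TopologicalSpace Opposite Polynomial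

noncomputable section

namespace Groth.Agent.Lib.Helper41.ReesQC

open RelSpec Groth.Agent.Lib.Helper74.OfAffine Groth.Agent.Lib.Helper41.ReesLoc
  Groth.Agent.Lib.Helper74 Groth.Agent.Lib.Helper74.PolyGr Groth.Agent.Lib.Helper41.ReesChart

variable {X : Scheme.{u}} (𝓘 : X.IdealSheafData)

/-- The ideal over an element of the affine site. -/
abbrev idl (U : X.AffineZariskiSite) : Ideal Γ(X, U.1) := 𝓘.ideal ⟨U.1, U.2⟩

theorem map_idl_le {U V : X.AffineZariskiSite} (h : op U.1 ⟶ op V.1) :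
    (idl 𝓘 U).map (X.presheaf.map h).hom ≤ idl 𝓘 V :=
  (𝓘.map_ideal' (U := ⟨V.1, V.2⟩) (V := ⟨U.1, U.2⟩) h).le

/-- The restriction maps of the Rees algebras. -/
def resF {U V : X.AffineZariskiSite} (h : op U.1 ⟶ op V.1) :
    reesAlgebra (idl 𝓘 U) →+* reesAlgebra (idl 𝓘 V) :=
  reesMap (X.presheaf.map h).hom _ _ (map_idl_le 𝓘 h)

theorem coe_resF {U V : X.AffineZariskiSite} (h : op U.1 ⟶ op V.1) (p : reesAlgebra (idl 𝓘 U)) :
    ((resF 𝓘 h p : reesAlgebra (idl 𝓘 V)) : Γ(X, V.1)[X]) =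
      (p : Γ(X, U.1)[X]).map (X.presheaf.map h).hom := rfl

theorem resF_id (U : X.AffineZariskiSite) : resF 𝓘 (𝟙 (op U.1)) = RingHom.id _ := by
  ext p : 1
  apply Subtype.ext
  rw [coe_resF, X.presheaf.map_id]
  exact Polynomial.map_id

theorem resF_comp {U V W : X.AffineZariskiSite} (h : op U.1 ⟶ op V.1) (h' : op V.1 ⟶ op W.1) :
    resF 𝓘 (h ≫ h') = (resF 𝓘 h').comp (resF 𝓘 h) := by
  ext p : 1
  apply Subtype.ext
  rw [RingHom.comp_apply, coe_resF, coe_resF, coe_resF, X.presheaf.map_comp, Polynomial.map_map]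
  rfl

theorem resF_algebraMap {U V : X.AffineZariskiSite} (h : op U.1 ⟶ op V.1) (r : Γ(X, U.1)) :
    resF 𝓘 h (algebraMap Γ(X, U.1) (reesAlgebra (idl 𝓘 U)) r) =
      algebraMap Γ(X, V.1) (reesAlgebra (idl 𝓘 V)) ((X.presheaf.map h).hom r) :=
  reesMap_algebraMap _ _ _ _ r

/-- The functor `U ↦ Rees(𝓘(U))` on the affine site. -/
def reesF : X.AffineZariskiSiteᵒᵖ ⥤ CommRingCat.{u} where
  obj U := CommRingCat.of (reesAlgebra (idl 𝓘 U.unop))
  map {U V} i := CommRingCat.ofHom (resF 𝓘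
    ((Scheme.AffineZariskiSite.toOpensFunctor X).map i.unop).op)
  map_id U := by
    ext1
    exact resF_id 𝓘 U.unop
  map_comp {U V W} i j := by
    ext1
    exact resF_comp 𝓘 ((Scheme.AffineZariskiSite.toOpensFunctor X).map i.unop).op
      ((Scheme.AffineZariskiSite.toOpensFunctor X).map j.unop).op

/-- The structure map. -/
def reesα : (Scheme.AffineZariskiSite.toOpensFunctor X).op ⋙ X.presheaf ⟶ reesF 𝓘 where
  app U := CommRingCat.ofHom (algebraMap Γ(X, U.unop.1) (reesAlgebra (idl 𝓘 U.unop)))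
  naturality {U V} i := by
    ext r
    exact (resF_algebraMap 𝓘 ((Scheme.AffineZariskiSite.toOpensFunctor X).map i.unop).op r).symm

theorem reesα_coequifibered : (reesα 𝓘).Coequifibered := by
  refine Scheme.AffineZariskiSite.coequifibered_iff_forall_isLocalizationAway.mpr fun U f => ?_
  haveI : IsLocalization.Away f Γ(X, X.basicOpen f) := U.2.isLocalization_basicOpen f
  have hI : (𝓘.ideal ⟨U.1, U.2⟩).map (algebraMap Γ(X, U.1) Γ(X, X.basicOpen f)) =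
      𝓘.ideal ⟨X.basicOpen f, U.2.basicOpen f⟩ :=
    𝓘.map_ideal_basicOpen ⟨U.1, U.2⟩ f
  have h := isLocalization_rees' (A := Γ(X, U.1)) (A' := Γ(X, X.basicOpen f)) f
    (𝓘.ideal ⟨U.1, U.2⟩) (𝓘.ideal ⟨X.basicOpen f, U.2.basicOpen f⟩) hI
  exact h

/-- The Rees algebra as a quasi-coherent algebra. -/
def reesQC : QCAlg X := ofAffine (reesα_coequifibered 𝓘)

/-- `gammaAff` for the Rees algebra. -/
abbrev gR (U : X.Opens) (hU : IsAffineOpen U) :
    (reesQC 𝓘).presheaf.obj (op U) ⟶ CommRingCat.of (reesAlgebra (idl 𝓘 ⟨U, hU⟩)) :=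
  gammaAff (reesα_coequifibered 𝓘) U hU

instance (U : X.Opens) (hU : IsAffineOpen U) : IsIso (gR 𝓘 U hU) :=
  isIso_gammaAff (reesα_coequifibered 𝓘) U hU

/-- The sections of the Rees algebra over an affine open. -/
def secIsoR (U : X.Opens) (hU : IsAffineOpen U) :
    (reesQC 𝓘).presheaf.obj (op U) ≃+* reesAlgebra (idl 𝓘 ⟨U, hU⟩) :=
  (asIso (gR 𝓘 U hU)).commRingCatIsoToRingEquiv

theorem secIsoR_apply (U : X.Opens) (hU : IsAffineOpen U) (s : (reesQC 𝓘).presheaf.obj (op U)) :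
    secIsoR 𝓘 U hU s = (gR 𝓘 U hU).hom s := rfl

theorem secIsoR_str (U : X.Opens) (hU : IsAffineOpen U) (r : Γ(X, U)) :
    secIsoR 𝓘 U hU (((reesQC 𝓘).str.app (op U)).hom r) =
      algebraMap Γ(X, U) (reesAlgebra (idl 𝓘 ⟨U, hU⟩)) r :=
  congr($(π_app_gammaAff (reesα_coequifibered 𝓘) U hU).hom r)

/-- The inclusion of the Rees algebras into the polynomial rings. -/
def inclF : reesF 𝓘 ⟶ PolyAlg.polyF (QCAlg.unit X) where
  app U := CommRingCat.ofHom (reesAlgebra (idl 𝓘 U.unop)).val.toRingHom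
  naturality {U V} i := by
    ext p
    rfl

theorem reesα_inclF : reesα 𝓘 ≫ inclF 𝓘 = PolyAlg.polyα (QCAlg.unit X) := by
  ext U r
  rfl

/-- The embedding of the Rees algebra into the polynomial algebra. -/
def toPoly : reesQC 𝓘 ⟶ PolyAlg.polyQC (QCAlg.unit X) :=
  homOfAffine (reesα_coequifibered 𝓘) (PolyAlg.polyQC (QCAlg.unit X))
    (inclF 𝓘 ≫ PolyAlg.Ψ₀ (QCAlg.unit X)) (by
      rw [← Category.assoc, reesα_inclF]
      ext U : 2
      have h1 := π_app_gammaAff (PolyAlg.polyα_coequifibered (QCAlg.unit X)) U.unop.1 U.unop.2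
      have h2 := PolyAlg.gammaAff_Ψ₀ (QCAlg.unit X) U.unop.1 U.unop.2
      change (PolyAlg.polyα (QCAlg.unit X)).app U ≫ (PolyAlg.Ψ₀ (QCAlg.unit X)).app U = _
      change _ = (π (PolyAlg.polyα_coequifibered (QCAlg.unit X))).app U.unop.1
      have h3 : (PolyAlg.polyα (QCAlg.unit X)).app U =
          (π (PolyAlg.polyα_coequifibered (QCAlg.unit X))).app U.unop.1 ≫
            gammaAff (PolyAlg.polyα_coequifibered (QCAlg.unit X)) U.unop.1 U.unop.2 := h1.symm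
      exact (congrArg (fun k => k ≫ (PolyAlg.Ψ₀ (QCAlg.unit X)).app U) h3).trans
        ((Category.assoc _ _ _).trans ((congrArg (fun k =>
          (π (PolyAlg.polyα_coequifibered (QCAlg.unit X))).app U.unop.1 ≫ k) h2).trans
            (Category.comp_id _))))

theorem secIso_toPoly (U : X.Opens) (hU : IsAffineOpen U) (s : (reesQC 𝓘).presheaf.obj (op U)) :
    PolyAlg.secIso (QCAlg.unit X) U hU (((toPoly 𝓘).hom.app (op U)).hom s) =
      ((secIsoR 𝓘 U hU s : reesAlgebra (idl 𝓘 ⟨U, hU⟩)) : Γ(X, U)[X]) := by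
  have h1 : (toPoly 𝓘).hom.app (op U) = gR 𝓘 U hU ≫
      (inclF 𝓘 ≫ PolyAlg.Ψ₀ (QCAlg.unit X)).app (op ⟨U, hU⟩) :=
    homOfAffine_app _ _ _ _ U hU
  rw [h1]
  exact congr($(PolyAlg.Ψ₀_gammaAff (QCAlg.unit X) U hU).hom
    ((secIsoR 𝓘 U hU s : reesAlgebra (idl 𝓘 ⟨U, hU⟩)) : Γ(X, U)[X]))

theorem mem_deg_iff_coe_mem_polyDeg {A : Type u} [CommRing A] (I : Ideal A) (n : ℕ)
    (p : reesAlgebra I) : p ∈ Rees.deg (reesAlgebra I) n ↔ (p : A[X]) ∈ polyDeg A n := by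
  rw [mem_polyDeg_iff]
  constructor
  · intro hp
    exact ⟨_, congrArg Subtype.val (eq_tmn_of_mem_deg I n p hp)⟩
  · rintro ⟨a, ha⟩
    rw [Rees.mem_deg_iff]
    intro m hm
    rw [ha, coeff_monomial]
    exact if_neg fun h => hm h.symm

/-- The Rees algebra as a quasi-coherent graded algebra. -/
def reesGr : RelProj.QCGrAlg X where
  toQCAlg := reesQC 𝓘
  deg U hU := GrTransport.comapGr (secIsoR 𝓘 U hU) (Rees.deg (reesAlgebra (idl 𝓘 ⟨U, hU⟩)))
  graded U hU := inferInstance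
  map_mem := by
    intro U V hU hV i d x hx
    change secIsoR 𝓘 V hV _ ∈ Rees.deg _ d
    change secIsoR 𝓘 U hU x ∈ Rees.deg _ d at hx
    rw [mem_deg_iff_coe_mem_polyDeg, ← secIso_toPoly] at hx ⊢
    have hnat := congr($((toPoly 𝓘).hom.naturality (homOfLE i).op).hom x)
    simp only [CommRingCat.hom_comp, RingHom.comp_apply] at hnat
    rw [hnat]
    exact (PolyAlg.polyGr (QCAlg.unit X)).map_mem hU hV i hx
  str_mem U hU r := by
    change secIsoR 𝓘 U hU _ ∈ Rees.deg _ 0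
    rw [secIsoR_str]
    exact SetLike.algebraMap_mem_graded _ r


theorem secIsoR_symm_algebraMap (U : X.Opens) (hU : IsAffineOpen U) (r : Γ(X, U)) :
    (secIsoR 𝓘 U hU).symm (algebraMap Γ(X, U) (reesAlgebra (idl 𝓘 ⟨U, hU⟩)) r) =
      ((reesQC 𝓘).str.app (op U)).hom r := by
  rw [RingEquiv.symm_apply_eq, secIsoR_str]

theorem symm_mem_deg (U : X.Opens) (hU : IsAffineOpen U) (n : ℕ)
    (p : reesAlgebra (idl 𝓘 ⟨U, hU⟩)) (hp : p ∈ Rees.deg (reesAlgebra (idl 𝓘 ⟨U, hU⟩)) n) :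
    (secIsoR 𝓘 U hU).symm p ∈ (reesGr 𝓘).deg U hU n := by
  change secIsoR 𝓘 U hU ((secIsoR 𝓘 U hU).symm p) ∈ Rees.deg _ n
  rw [RingEquiv.apply_symm_apply]
  exact hp

theorem isGenDegOne_reesGr : (reesGr 𝓘).IsGenDegOne := by
  intro U hU
  rw [eq_top_iff]
  intro s _
  set T := Subring.closure ((((reesGr 𝓘).deg U hU 0 : Set ((reesGr 𝓘).presheaf.obj (op U)))) ∪
    ((reesGr 𝓘).deg U hU 1 : Set _)) with hT
  have key : ∀ (q : Γ(X, U)[X]) (hq : q ∈ Algebra.adjoin Γ(X, U)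
      (Submodule.map (monomial 1 : Γ(X, U) →ₗ[Γ(X, U)] Γ(X, U)[X]) (idl 𝓘 ⟨U, hU⟩) :
        Set Γ(X, U)[X])),
      (secIsoR 𝓘 U hU).symm ⟨q, adjoin_monomial_eq_reesAlgebra (idl 𝓘 ⟨U, hU⟩) ▸ hq⟩ ∈ T := by
    intro q hq
    induction hq using Algebra.adjoin_induction with
    | mem x hx =>
      obtain ⟨c, hc, rfl⟩ := hx
      apply Subring.subset_closure
      right
      exact symm_mem_deg 𝓘 U hU 1 _ (tmn_mem_deg (idl 𝓘 ⟨U, hU⟩) 1 c (by rwa [pow_one]))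
    | algebraMap r =>
      apply Subring.subset_closure
      left
      exact symm_mem_deg 𝓘 U hU 0 _
        (SetLike.algebraMap_mem_graded (Rees.deg (reesAlgebra (idl 𝓘 ⟨U, hU⟩))) r)
    | add x y hx hy ihx ihy =>
      have e : (⟨x + y, adjoin_monomial_eq_reesAlgebra (idl 𝓘 ⟨U, hU⟩) ▸
          (Subalgebra.add_mem _ hx hy)⟩ : reesAlgebra (idl 𝓘 ⟨U, hU⟩)) =
          ⟨x, adjoin_monomial_eq_reesAlgebra (idl 𝓘 ⟨U, hU⟩) ▸ hx⟩ +
          ⟨y, adjoin_monomial_eq_reesAlgebra (idl 𝓘 ⟨U, hU⟩) ▸ hy⟩ := rfl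
      rw [e, map_add]
      exact T.add_mem ihx ihy
    | mul x y hx hy ihx ihy =>
      have e : (⟨x * y, adjoin_monomial_eq_reesAlgebra (idl 𝓘 ⟨U, hU⟩) ▸
          (Subalgebra.mul_mem _ hx hy)⟩ : reesAlgebra (idl 𝓘 ⟨U, hU⟩)) =
          ⟨x, adjoin_monomial_eq_reesAlgebra (idl 𝓘 ⟨U, hU⟩) ▸ hx⟩ *
          ⟨y, adjoin_monomial_eq_reesAlgebra (idl 𝓘 ⟨U, hU⟩) ▸ hy⟩ := rfl
      rw [e, map_mul]
      exact T.mul_mem ihx ihy
  have hs := key (secIsoR 𝓘 U hU s : reesAlgebra (idl 𝓘 ⟨U, hU⟩)).1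
    ((adjoin_monomial_eq_reesAlgebra (idl 𝓘 ⟨U, hU⟩)).symm ▸
      (secIsoR 𝓘 U hU s : reesAlgebra (idl 𝓘 ⟨U, hU⟩)).2)
  have e : (⟨(secIsoR 𝓘 U hU s : reesAlgebra (idl 𝓘 ⟨U, hU⟩)).1, _⟩ :
      reesAlgebra (idl 𝓘 ⟨U, hU⟩)) = secIsoR 𝓘 U hU s := rfl
  rw [e, RingEquiv.symm_apply_apply] at hs
  exact hs

theorem isFTDeg_one_reesGr (h𝓘 : BlowUp.IsFiniteTypeIdeal 𝓘) : (reesGr 𝓘).IsFTDeg 1 := by
  classical
  intro U hU
  obtain ⟨G, hG⟩ := h𝓘 ⟨U, hU⟩
  have hGI : ∀ a ∈ G, a ∈ idl 𝓘 ⟨U, hU⟩ := fun a ha => by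
    change a ∈ 𝓘.ideal ⟨U, hU⟩
    rw [← hG]; exact Ideal.subset_span ha
  let g : G → (reesQC 𝓘).presheaf.obj (op U) := fun a =>
    (secIsoR 𝓘 U hU).symm (tm (idl 𝓘 ⟨U, hU⟩) a.1 (hGI a.1 a.2))
  refine ⟨Finset.univ.image g, ?_, ?_⟩
  · intro t ht
    rw [Finset.coe_image] at ht
    obtain ⟨a, -, rfl⟩ := ht
    exact symm_mem_deg 𝓘 U hU 1 _ (tm_mem_deg _ _ _)
  · intro x hx
    letI : Module Γ(X, U) ((reesQC 𝓘).presheaf.obj (op U)) :=
      (((reesQC 𝓘).str.app (op U)).hom).toModule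
    have hsmul : ∀ (r : Γ(X, U)) (y : (reesQC 𝓘).presheaf.obj (op U)),
        r • y = ((reesQC 𝓘).str.app (op U)).hom r * y := fun r y => rfl
    have key : ∀ (y : Γ(X, U)) (hy : y ∈ Ideal.span (G : Set Γ(X, U))),
        (secIsoR 𝓘 U hU).symm (tm (idl 𝓘 ⟨U, hU⟩) y (by
          change y ∈ 𝓘.ideal ⟨U, hU⟩
          rw [← hG]; exact hy)) ∈
          Submodule.span Γ(X, U) (((Finset.univ.image g :
            Finset ((reesQC 𝓘).presheaf.obj (op U))) :
              Set ((reesQC 𝓘).presheaf.obj (op U)))) := by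
      intro y hy
      induction hy using Submodule.span_induction with
      | mem y hyG =>
        apply Submodule.subset_span
        rw [Finset.coe_image]
        exact ⟨⟨y, hyG⟩, Finset.mem_coe.mpr (Finset.mem_univ _), rfl⟩
      | zero =>
        have : tm (idl 𝓘 ⟨U, hU⟩) 0 (Ideal.zero_mem _) = 0 := by
          apply Subtype.ext
          change monomial 1 (0 : Γ(X, U)) = 0
          simp
        rw [this, map_zero]
        exact Submodule.zero_mem _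
      | add y z hy hz ihy ihz =>
        have : tm (idl 𝓘 ⟨U, hU⟩) (y + z) (by
            change y + z ∈ 𝓘.ideal ⟨U, hU⟩
            rw [← hG]; exact Ideal.add_mem _ hy hz) =
            tm (idl 𝓘 ⟨U, hU⟩) y (by
              change y ∈ 𝓘.ideal ⟨U, hU⟩
              rw [← hG]; exact hy) +
            tm (idl 𝓘 ⟨U, hU⟩) z (by
              change z ∈ 𝓘.ideal ⟨U, hU⟩
              rw [← hG]; exact hz) := by
          apply Subtype.ext
          change monomial 1 (y + z) = monomial 1 y + monomial 1 z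
          simp
        rw [this, map_add]
        exact Submodule.add_mem _ ihy ihz
      | smul r y hy ihy =>
        have : tm (idl 𝓘 ⟨U, hU⟩) (r • y) (by
            change r • y ∈ 𝓘.ideal ⟨U, hU⟩
            rw [← hG]; exact Ideal.mul_mem_left _ _ hy) =
            algebraMap Γ(X, U) (reesAlgebra (idl 𝓘 ⟨U, hU⟩)) r *
            tm (idl 𝓘 ⟨U, hU⟩) y (by
              change y ∈ 𝓘.ideal ⟨U, hU⟩
              rw [← hG]; exact hy) := by
          apply Subtype.ext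
          change monomial 1 (r • y) = C r * monomial 1 y
          rw [C_mul_monomial, smul_eq_mul]
        rw [this, map_mul, secIsoR_symm_algebraMap, ← hsmul]
        exact Submodule.smul_mem _ _ ihy
    have hx' : secIsoR 𝓘 U hU x ∈ Rees.deg (reesAlgebra (idl 𝓘 ⟨U, hU⟩)) 1 := hx
    have hx1 := eq_tmn_of_mem_deg (idl 𝓘 ⟨U, hU⟩) 1 _ hx'
    have hy : ((secIsoR 𝓘 U hU x : reesAlgebra (idl 𝓘 ⟨U, hU⟩)) : Γ(X, U)[X]).coeff 1 ∈
        Ideal.span (G : Set Γ(X, U)) := by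
      rw [hG]
      have := (secIsoR 𝓘 U hU x : reesAlgebra (idl 𝓘 ⟨U, hU⟩)).2 1
      rwa [pow_one] at this
    have hmem := key _ hy
    have hxe : x = (secIsoR 𝓘 U hU).symm (tm (idl 𝓘 ⟨U, hU⟩)
        (((secIsoR 𝓘 U hU x : reesAlgebra (idl 𝓘 ⟨U, hU⟩)) : Γ(X, U)[X]).coeff 1) (by
          change _ ∈ 𝓘.ideal ⟨U, hU⟩
          rw [← hG]; exact hy)) := by
      exact ((secIsoR 𝓘 U hU).eq_symm_apply).mpr hx1
    rw [← hxe] at hmem
    obtain ⟨c, -, hc⟩ := Submodule.mem_span_finset.mp hmem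
    exact ⟨c, hc.symm⟩

end Groth.Agent.Lib.Helper41.ReesQC
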