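import Mathlib
import Groth.Agent.Lib.Helper41.ReesQC
import Groth.Agent.Lib.Helper41.BlowUpLocal
import Groth.Agent.Lib.Helper41.BlowUpSpec
import Groth.Agent.Lib.Helper41.BlowUpAdm
import Groth.Agent.Lib.Helper41.FlatBlowGeom
import Groth.Agent.Lib.Helper74.RelProjExists

/-!
# The relative `Proj` of the Rees algebra of an ideal sheaf is the blow-up
-/

set_option autoImplicit false
universe u
open CategoryTheory CategoryTheory.Limits AlgebraicGeometry TopologicalSpace Opposite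
open scoped HomogeneousIdeal
open HomogeneousLocalization

noncomputable section

namespace Groth.Agent.Lib.Helper41.ReesProj

section general

variable {A B σ τ : Type u} [CommRing A] [SetLike σ A] [AddSubgroupClass σ A]
  [CommRing B] [SetLike τ B] [AddSubgroupClass τ B]
  {𝒜 : ℕ → σ} {ℬ : ℕ → τ} [GradedRing 𝒜] [GradedRing ℬ]
  (f : 𝒜 →+*ᵍ ℬ) (hf : ℬ₊ ≤ 𝒜₊.map f)

/-- The degree zero part of a graded ring homomorphism. -/
def zeroHom : 𝒜 0 →+* ℬ 0 where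
  toFun a := ⟨f (a : A), f.map_mem a.2⟩
  map_one' := Subtype.ext (map_one f)
  map_mul' a b := Subtype.ext (map_mul f (a : A) (b : A))
  map_zero' := Subtype.ext (map_zero f)
  map_add' a b := Subtype.ext (map_add f (a : A) (b : A))

theorem away_map_fromZero (s : A) :
    (Away.map f s).comp (fromZeroRingHom 𝒜 (.powers s)) =
      (fromZeroRingHom ℬ (.powers (f s))).comp (zeroHom f) := by
  ext a
  simp only [RingHom.comp_apply]
  simp [fromZeroRingHom, Away.map, HomogeneousLocalization.map_mk, zeroHom]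

set_option backward.isDefEq.respectTransparency false in
theorem map_toSpecZero : Proj.map f hf ≫ Proj.toSpecZero 𝒜 =
    Proj.toSpecZero ℬ ≫ Spec.map (CommRingCat.ofHom (zeroHom f)) := by
  refine (Proj.mapAffineOpenCover f hf).openCover.hom_ext _ _ fun s => ?_
  simp only [Scheme.AffineOpenCover.openCover_f, Proj.mapAffineOpenCover_f]
  simp only [Proj.awayι_comp_map_assoc f hf s.1.2 _ s.2.2, Proj.awayι_toSpecZero,
    Proj.awayι_toSpecZero_assoc, ← Spec.map_comp, ← CommRingCat.ofHom_comp, away_map_fromZero]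

theorem irrelevant_le_of_inv (g : ℬ →+*ᵍ 𝒜) (hfg : ∀ b, f (g b) = b) : ℬ₊ ≤ 𝒜₊.map f := by
  rw [HomogeneousIdeal.irrelevant_le]
  intro i hi b hb
  change b ∈ Ideal.map f (𝒜₊.toIdeal)
  rw [← hfg b]
  exact Ideal.mem_map_of_mem _ (HomogeneousIdeal.mem_irrelevant_of_mem _ hi (g.map_mem hb))

theorem map_congr {f f' : 𝒜 →+*ᵍ ℬ} (h : f = f') (hf : ℬ₊ ≤ 𝒜₊.map f)
    (hf' : ℬ₊ ≤ 𝒜₊.map f') : Proj.map f hf = Proj.map f' hf' := by
  subst h; rfl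

theorem map_comp_map_eq_id (g : ℬ →+*ᵍ 𝒜) (hfg : ∀ b, f (g b) = b)
    (hg : 𝒜₊ ≤ ℬ₊.map g) : Proj.map f hf ≫ Proj.map g hg = 𝟙 _ := by
  rw [← Proj.map_comp, ← Proj.map_id]
  exact map_congr (GradedRingHom.ext fun b => hfg b) _ _

theorem isIso_map (g : ℬ →+*ᵍ 𝒜) (hfg : ∀ b, f (g b) = b) (hgf : ∀ a, g (f a) = a)
    (hg : 𝒜₊ ≤ ℬ₊.map g) : IsIso (Proj.map f hf) :=
  ⟨⟨Proj.map g hg, map_comp_map_eq_id f hf g hfg hg, map_comp_map_eq_id g hg f hgf hf⟩⟩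

end general

open Groth.Agent.Lib.Helper41.ReesQC Groth.Agent.Lib.Helper41.ReesChart
  Groth.Agent.Lib.Helper41.BlowUpSpec Groth.Agent.Lib.Helper74.RelProjLib

variable {X : Scheme.{u}} (𝓘 : X.IdealSheafData)

/-- The graded homomorphism from the sections of the Rees algebra to the Rees algebra. -/
def Φ (U : X.Opens) (hU : IsAffineOpen U) :
    (reesGr 𝓘).deg U hU →+*ᵍ Rees.deg (reesAlgebra (idl 𝓘 ⟨U, hU⟩)) where
  toRingHom := (secIsoR 𝓘 U hU).toRingHom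
  map_mem := fun hx => hx

/-- Its inverse. -/
def Ψ (U : X.Opens) (hU : IsAffineOpen U) :
    Rees.deg (reesAlgebra (idl 𝓘 ⟨U, hU⟩)) →+*ᵍ (reesGr 𝓘).deg U hU where
  toRingHom := (secIsoR 𝓘 U hU).symm.toRingHom
  map_mem := fun hx => symm_mem_deg 𝓘 U hU _ _ hx

theorem Φ_Ψ (U : X.Opens) (hU : IsAffineOpen U) (b) : Φ 𝓘 U hU (Ψ 𝓘 U hU b) = b :=
  (secIsoR 𝓘 U hU).apply_symm_apply b

theorem Ψ_Φ (U : X.Opens) (hU : IsAffineOpen U) (a) : Ψ 𝓘 U hU (Φ 𝓘 U hU a) = a :=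
  (secIsoR 𝓘 U hU).symm_apply_apply a

theorem hΨ (U : X.Opens) (hU : IsAffineOpen U) :
    ((reesGr 𝓘).deg U hU)₊ ≤ (Rees.deg (reesAlgebra (idl 𝓘 ⟨U, hU⟩)))₊.map (Ψ 𝓘 U hU) :=
  irrelevant_le_of_inv _ (Φ 𝓘 U hU) (Ψ_Φ 𝓘 U hU)

theorem hΦ (U : X.Opens) (hU : IsAffineOpen U) :
    (Rees.deg (reesAlgebra (idl 𝓘 ⟨U, hU⟩)))₊ ≤ ((reesGr 𝓘).deg U hU)₊.map (Φ 𝓘 U hU) :=
  irrelevant_le_of_inv _ (Ψ 𝓘 U hU) (Φ_Ψ 𝓘 U hU)

/-- The comparison `Proj 𝒮(U) ⟶ Bl I(U)`. -/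
def θ (U : X.Opens) (hU : IsAffineOpen U) :
    Proj ((reesGr 𝓘).deg U hU) ⟶ Bl (idl 𝓘 ⟨U, hU⟩) :=
  Proj.map (Ψ 𝓘 U hU) (hΨ 𝓘 U hU)

instance (U : X.Opens) (hU : IsAffineOpen U) : IsIso (θ 𝓘 U hU) :=
  isIso_map _ _ (Φ 𝓘 U hU) (Ψ_Φ 𝓘 U hU) (Φ_Ψ 𝓘 U hU) (hΦ 𝓘 U hU)

/-- The structure morphism of the chart of the relative Proj. -/
def β (U : X.Opens) (hU : IsAffineOpen U) : Proj ((reesGr 𝓘).deg U hU) ⟶ Spec Γ(X, U) :=
  Proj.toSpecZero ((reesGr 𝓘).deg U hU) ≫ Spec.map ((reesGr 𝓘).strZero U hU)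

theorem θ_π (U : X.Opens) (hU : IsAffineOpen U) :
    θ 𝓘 U hU ≫ π (idl 𝓘 ⟨U, hU⟩) = β 𝓘 U hU := by
  rw [θ, π, β, ← Category.assoc, map_toSpecZero, Category.assoc, ← Spec.map_comp]
  congr 2
  ext r
  exact secIsoR_symm_algebraMap 𝓘 U hU r

theorem isBlowUp_β (U : X.Opens) (hU : IsAffineOpen U) :
    BlowUp.IsBlowUp (β 𝓘 U hU) (sheaf (idl 𝓘 ⟨U, hU⟩)) := by
  rw [← θ_π]
  exact BlowUpAdm.isBlowUp_iso_comp _ _ (isBlowUp_π _) _

theorem isBlowUp_relProjHom : BlowUp.IsBlowUp (relProjHom (reesGr 𝓘)) 𝓘 := by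
  refine BlowUpLocal.isBlowUp_of_local 𝓘 (relProjHom (reesGr 𝓘))
    (fun U => Proj ((reesGr 𝓘).deg U.1 U.2))
    (fun U => β 𝓘 U.1 U.2 ≫ U.2.isoSpec.inv)
    (fun U => relProjι (reesGr 𝓘) U.1 U.2) ?_ ?_ ?_
  · intro U
    rw [relProjι_hom, Category.assoc, IsAffineOpen.isoSpec_inv_ι, β, Category.assoc]
  · intro U
    apply TopologicalSpace.Opens.ext
    have h := range_relProjι (reesGr 𝓘) U.1 U.2
    rw [Scheme.Opens.range_ι] at h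
    exact h
  · intro U
    apply BlowUpLocal.isBlowUp_comp_iso
    rw [← Scheme.IdealSheafData.comap_comp, IsAffineOpen.isoSpec_inv_ι,
      FlatBlowGeom.comap_fromSpec 𝓘 ⟨U.1, U.2⟩]
    exact isBlowUp_β 𝓘 U.1 U.2

end Groth.Agent.Lib.Helper41.ReesProj
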