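import Mathlib

/-!
# Semi-valuation rings `A = R ×_κ O`

`O` a local ring with residue field `κ`, `R` a valuation subring of `κ`, `A ⊆ O` the preimage of `R`,
`f ∈ A` with `O = A_f`.  Ring-level facts used to show that schemes over `Spec A` on which `f` is a
nonzerodivisor are flat over `Spec R` after base change.
-/

universe u

namespace Groth.Agent.Lib.Helper41.SemiVal

open IsLocalRing

section Abstract

variable {A₁ R₁ B C : Type*} [CommRing A₁] [CommRing R₁] [IsDomain R₁] [IsBezout R₁]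
  [CommRing B] [CommRing C]

omit [IsDomain R₁] [IsBezout R₁] in
/-- `𝔮 = f^n 𝔮` as soon as `𝔮 ⊆ f 𝔮`. -/
theorem ker_eq_span_pow_mul (ζ : A₁ →+* R₁) (f₁ : A₁)
    (hb : ∀ x, ζ x = 0 → ∃ y, ζ y = 0 ∧ x = f₁ * y) (n : ℕ) :
    RingHom.ker ζ = Ideal.span {f₁ ^ n} * RingHom.ker ζ := by
  induction n with
  | zero => simp
  | succ n ih =>
    have h1 : RingHom.ker ζ = Ideal.span {f₁} * RingHom.ker ζ := by
      apply le_antisymm
      · intro x hx
        obtain ⟨y, hy, rfl⟩ := hb x hx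
        exact Ideal.mem_span_singleton_mul.mpr ⟨y, hy, rfl⟩
      · exact Ideal.mul_le_right
    rw [pow_succ, ← Ideal.span_singleton_mul_span_singleton, mul_assoc, ← h1, ← ih]

/-- Abstract flatness criterion. -/
theorem flat_of_semiVal (ζ : A₁ →+* R₁) (hζ : Function.Surjective ζ) (f₁ : A₁)
    (hb : ∀ x, ζ x = 0 → ∃ y, ζ y = 0 ∧ x = f₁ * y)
    (hc : ∀ r, ζ r ≠ 0 → ∃ (n : ℕ) (s : A₁), ζ (f₁ ^ n - r * s) = 0)
    (α : A₁ →+* B) (β : B →+* C) (hβ : Function.Surjective β)
    (hker : RingHom.ker β = Ideal.map α (RingHom.ker ζ))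
    (ψ : R₁ →+* C) (hcomm : β.comp α = ψ.comp ζ)
    (hnzd : α f₁ ∈ nonZeroDivisors B) : ψ.Flat := by
  algebraize [ψ]
  show Module.Flat R₁ C
  rw [Module.Flat.flat_iff_torsion_eq_bot_of_isBezout]
  rw [Submodule.eq_bot_iff]
  intro c hc'
  rw [Submodule.mem_torsion_iff] at hc'
  obtain ⟨⟨r₁, hr₁⟩, hrc⟩ := hc'
  have hr₁ne : r₁ ≠ 0 := nonZeroDivisors.ne_zero hr₁
  obtain ⟨r, rfl⟩ := hζ r₁
  obtain ⟨x, rfl⟩ := hβ c
  -- β (α r * x) = 0
  have h1 : β (α r * x) = 0 := by
    have h2 : β (α r) = ψ (ζ r) := by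
      have := congrArg (fun g : A₁ →+* C => g r) hcomm
      simpa using this
    rw [map_mul, h2]
    have : (ζ r) • β x = 0 := hrc
    rw [Algebra.smul_def] at this
    exact this
  have h3 : α r * x ∈ Ideal.map α (RingHom.ker ζ) := by
    rw [← hker, RingHom.mem_ker]; exact h1
  -- use the key argument
  obtain ⟨n, s, hns⟩ := hc r hr₁ne
  have h4 : α f₁ ^ n * x ∈ Ideal.map α (RingHom.ker ζ) := by
    have e : α f₁ ^ n * x = α (f₁ ^ n - r * s) * x + α s * (α r * x) := by
      rw [map_sub, map_mul, map_pow]; ring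
    rw [e]
    refine Ideal.add_mem _ (Ideal.mul_mem_right _ _ (Ideal.mem_map_of_mem α hns))
      (Ideal.mul_mem_left _ _ h3)
  have h5 : Ideal.map α (RingHom.ker ζ) =
      Ideal.span {α f₁ ^ n} * Ideal.map α (RingHom.ker ζ) := by
    conv_lhs => rw [ker_eq_span_pow_mul ζ f₁ hb n]
    rw [Ideal.map_mul, Ideal.map_span, Set.image_singleton, map_pow]
  rw [h5] at h4
  obtain ⟨y, hy, hxy⟩ := Ideal.mem_span_singleton_mul.mp h4
  have h6 : x = y := by
    have hnz : α f₁ ^ n ∈ nonZeroDivisors B := pow_mem hnzd n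
    have : α f₁ ^ n * (y - x) = 0 := by rw [mul_sub, hxy, sub_self]
    have := (mem_nonZeroDivisors_iff_right.mp hnz) (y - x) (by rw [mul_comm]; exact this)
    exact (sub_eq_zero.mp this).symm
  rw [h6]
  have : y ∈ RingHom.ker β := by rw [hker]; exact hy
  exact this

end Abstract

section Concrete

variable {O : Type u} [CommRing O] [IsLocalRing O] (R : ValuationSubring (ResidueField O))

/-- The map `A → R`. -/
noncomputable def ρ : ↥((R.toSubring).comap (residue O)) →+* ↥R :=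
  ((residue O).comp (Subring.subtype _)).codRestrict R (fun a => a.2)

theorem ρ_coe (a : ↥((R.toSubring).comap (residue O))) :
    ((ρ R a : ↥R) : ResidueField O) = residue O (a : O) := rfl

theorem ρ_eq_zero_iff (a : ↥((R.toSubring).comap (residue O))) :
    ρ R a = 0 ↔ residue O (a : O) = 0 := by
  rw [← ρ_coe, ZeroMemClass.coe_eq_zero]

theorem ρ_surjective : Function.Surjective (ρ R) := by
  intro r
  obtain ⟨o, ho⟩ := residue_surjective (r : ResidueField O)
  refine ⟨⟨o, ?_⟩, ?_⟩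
  · show residue O o ∈ R.toSubring
    rw [ho]; exact r.2
  · apply Subtype.ext
    rw [ρ_coe]; exact ho

variable (f : ↥((R.toSubring).comap (residue O))) [IsLocalization.Away f O]

include f in
theorem isUnit_coe_f : IsUnit ((f : ↥((R.toSubring).comap (residue O))) : O) :=
  IsLocalization.Away.algebraMap_isUnit (S := O) f

theorem ρ_f_ne_zero : ρ R f ≠ 0 := by
  rw [Ne, ρ_eq_zero_iff]
  intro h
  have h1 : (f : O) ∈ maximalIdeal O := (residue_eq_zero_iff _).mp h
  exact h1 (isUnit_coe_f R f)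

theorem exists_mul_of_ρ_eq_zero (x : ↥((R.toSubring).comap (residue O))) (hx : ρ R x = 0) :
    ∃ y, ρ R y = 0 ∧ x = f * y := by
  obtain ⟨u, hu⟩ := isUnit_coe_f R f
  have hx' : residue O (x : O) = 0 := (ρ_eq_zero_iff R x).mp hx
  have hy0 : residue O ((↑u⁻¹ : O) * (x : O)) = 0 := by
    rw [map_mul, hx', mul_zero]
  refine ⟨⟨(↑u⁻¹ : O) * (x : O), ?_⟩, ?_, ?_⟩
  · show residue O _ ∈ R.toSubring
    rw [hy0]; exact Subring.zero_mem _
  · rw [ρ_eq_zero_iff]; exact hy0
  · apply Subtype.ext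
    show (x : O) = (f : O) * ((↑u⁻¹ : O) * (x : O))
    rw [← hu, ← mul_assoc, Units.mul_inv, one_mul]

theorem exists_pow_sub (r : ↥((R.toSubring).comap (residue O))) (hr : ρ R r ≠ 0) :
    ∃ (n : ℕ) (s : ↥((R.toSubring).comap (residue O))), ρ R (f ^ n - r * s) = 0 := by
  have hr' : residue O (r : O) ≠ 0 := fun h => hr ((ρ_eq_zero_iff R r).mpr h)
  obtain ⟨v, hv⟩ := residue_surjective ((residue O (r : O))⁻¹)
  obtain ⟨⟨s, m⟩, hsm⟩ := IsLocalization.surj (Submonoid.powers f) v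
  obtain ⟨n, hn⟩ := m.2
  refine ⟨n, s, ?_⟩
  rw [ρ_eq_zero_iff]
  have h1 : (v : O) * ((f : O) ^ n) = (s : O) := by
    have := hsm
    simp only [← hn] at this
    simpa using! this
  show residue O (((f : O) ^ n) - (r : O) * (s : O)) = 0
  rw [← h1, map_sub, map_mul, map_mul, hv, map_pow, ← mul_assoc, mul_inv_cancel₀ hr', one_mul,
    sub_self]

end Concrete

end Groth.Agent.Lib.Helper41.SemiVal
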