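import Mathlib
import Groth.Agent.Lib.Helper41.SemiVal
import Groth.Agent.Lib.Helper82.EffCartier
import Groth.Prelude.Def_BlowUp2

/-!
# Schemes over a semi-valuation ring: flatness of the base change to the valuation ring
-/

universe u

open CategoryTheory CategoryTheory.Limits AlgebraicGeometry IsLocalRing

namespace Groth.Agent.Lib.Helper41.SemiVal

open Groth.Agent.Lib.Helper82

variable {O : Type u} [CommRing O] [IsLocalRing O] (R : ValuationSubring (ResidueField O))

/-- The closed immersion `Spec R ⟶ Spec A`. -/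
noncomputable abbrev zmap : Spec (CommRingCat.of ↥R) ⟶
    Spec (CommRingCat.of ↥((R.toSubring).comap (residue O))) :=
  Spec.map (CommRingCat.ofHom (ρ R))

instance : IsClosedImmersion (zmap R) :=
  IsClosedImmersion.spec_of_surjective _ (ρ_surjective R)

theorem zmap_appTop (x : Γ(Spec (CommRingCat.of ↥((R.toSubring).comap (residue O))), ⊤)) :
    (Scheme.ΓSpecIso (CommRingCat.of ↥R)).hom.hom ((zmap R).appTop.hom x) =
      ρ R ((Scheme.ΓSpecIso (CommRingCat.of ↥((R.toSubring).comap (residue O)))).hom.hom x) := by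
  have := Scheme.ΓSpecIso_naturality (CommRingCat.ofHom (ρ R))
  exact congrArg (fun g => g.hom x) this

theorem zmap_appTop_eq_zero_iff
    (x : Γ(Spec (CommRingCat.of ↥((R.toSubring).comap (residue O))), ⊤)) :
    (zmap R).appTop.hom x = 0 ↔
      ρ R ((Scheme.ΓSpecIso (CommRingCat.of ↥((R.toSubring).comap (residue O)))).hom.hom x) = 0 := by
  rw [← zmap_appTop]
  constructor
  · intro h; rw [h, map_zero]
  · intro h
    have hinj : Function.Injective (Scheme.ΓSpecIso (CommRingCat.of ↥R)).hom.hom :=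
      (ConcreteCategory.bijective_of_isIso (Scheme.ΓSpecIso (CommRingCat.of ↥R)).hom).1
    apply hinj
    rw [h, map_zero]

variable (f : ↥((R.toSubring).comap (residue O))) [IsLocalization.Away f O]

set_option maxHeartbeats 800000 in
theorem flat_snd_of_nzd {Q : Scheme.{u}}
    (q : Q ⟶ Spec (CommRingCat.of ↥((R.toSubring).comap (residue O))))
    (W : Q → Q.affineOpens) (hW : ∀ y, y ∈ (W y).1)
    (hnzd : ∀ y, (q.appLE ⊤ (W y).1 le_top).hom
      ((Scheme.ΓSpecIso (CommRingCat.of ↥((R.toSubring).comap (residue O)))).inv.hom f) ∈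
        nonZeroDivisors Γ(Q, (W y).1)) :
    Flat (pullback.snd q (zmap R)) := by
  haveI hci : IsClosedImmersion (pullback.fst q (zmap R)) := inferInstance
  let V : Q → (pullback q (zmap R)).affineOpens := fun y =>
    ⟨pullback.fst q (zmap R) ⁻¹ᵁ (W y).1, (W y).2.preimage (pullback.fst q (zmap R))⟩
  have hV : ⨆ y, ((V y : (pullback q (zmap R)).affineOpens) : (pullback q (zmap R)).Opens) = ⊤ := by
    rw [eq_top_iff]
    intro w _
    exact TopologicalSpace.Opens.mem_iSup.mpr
      ⟨pullback.fst q (zmap R) w, hW (pullback.fst q (zmap R) w)⟩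
  rw [HasRingHomProperty.iff_of_iSup_eq_top (P := @Flat) V hV]
  intro y
  let eR := (Scheme.ΓSpecIso (CommRingCat.of ↥R)).commRingCatIsoToRingEquiv
  let eA := (Scheme.ΓSpecIso
    (CommRingCat.of ↥((R.toSubring).comap (residue O)))).commRingCatIsoToRingEquiv
  haveI : IsDomain Γ(Spec (CommRingCat.of ↥R), ⊤) := eR.toMulEquiv.isDomain
  haveI : IsBezout Γ(Spec (CommRingCat.of ↥R), ⊤) :=
    Function.Surjective.isBezout (eR.symm : ↥R →+* _) eR.symm.surjective
  have hζsurj : Function.Surjective (zmap R).appTop.hom :=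
    Scheme.Hom.app_surjective (zmap R) ⊤ (isAffineOpen_top _)
  have hβsurj : Function.Surjective ((pullback.fst q (zmap R)).app (W y).1).hom :=
    Scheme.Hom.app_surjective (pullback.fst q (zmap R)) (W y).1 (W y).2
  have hker : RingHom.ker ((pullback.fst q (zmap R)).app (W y).1).hom =
      Ideal.map (q.appLE ⊤ (W y).1 le_top).hom (RingHom.ker (zmap R).appTop.hom) := by
    have h1 := Scheme.Hom.ker_apply (pullback.fst q (zmap R)) (W y)
    rw [← h1, Scheme.IdealSheafData.ker_fst_of_isClosedImmersion,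
      ideal_comap_of_le q (zmap R).ker (W y).1 (W y).2 ⊤ (isAffineOpen_top _) le_top,
      Scheme.Hom.ker_apply]
    rfl
  have hcomm : ((pullback.fst q (zmap R)).app (W y).1).hom.comp (q.appLE ⊤ (W y).1 le_top).hom =
      ((pullback.snd q (zmap R)).appLE ⊤ (V y).1 le_top).hom.comp (zmap R).appTop.hom := by
    have e1 : q.appLE ⊤ (W y).1 le_top ≫ (pullback.fst q (zmap R)).app (W y).1 =
        (pullback.fst q (zmap R) ≫ q).appLE ⊤ (V y).1 le_top := by
      rw [Scheme.Hom.app_eq_appLE, Scheme.Hom.appLE_comp_appLE]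
    have e2 : (zmap R).appTop ≫ (pullback.snd q (zmap R)).appLE ⊤ (V y).1 le_top =
        (pullback.snd q (zmap R) ≫ zmap R).appLE ⊤ (V y).1 le_top := by
      exact (Scheme.Hom.comp_appLE (pullback.snd q (zmap R)) (zmap R) ⊤ (V y).1 le_top).symm
    have e3 : ∀ (g₁ g₂ : pullback q (zmap R) ⟶
        Spec (CommRingCat.of ↥((R.toSubring).comap (residue O)))) (h : g₁ = g₂),
        g₁.appLE ⊤ (V y).1 le_top = g₂.appLE ⊤ (V y).1 le_top := by
      rintro _ _ rfl; rfl
    have e4 := e3 _ _ (pullback.condition (f := q) (g := zmap R))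
    rw [← e1, ← e2] at e4
    exact congrArg CommRingCat.Hom.hom e4
  refine flat_of_semiVal (zmap R).appTop.hom hζsurj
    ((Scheme.ΓSpecIso (CommRingCat.of ↥((R.toSubring).comap (residue O)))).inv.hom f) ?_ ?_
    (q.appLE ⊤ (W y).1 le_top).hom ((pullback.fst q (zmap R)).app (W y).1).hom hβsurj hker
    ((pullback.snd q (zmap R)).appLE ⊤ (V y).1 le_top).hom hcomm (hnzd y)
  · intro x hx
    rw [zmap_appTop_eq_zero_iff] at hx
    obtain ⟨y₀, hy₀, hxy⟩ := exists_mul_of_ρ_eq_zero R f _ hx
    refine ⟨eA.symm y₀, ?_, ?_⟩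
    · rw [zmap_appTop_eq_zero_iff]
      have : (Scheme.ΓSpecIso (CommRingCat.of ↥((R.toSubring).comap (residue O)))).hom.hom
          (eA.symm y₀) = y₀ := eA.apply_symm_apply y₀
      rw [this]; exact hy₀
    · apply eA.injective
      rw [map_mul]
      have h1 : eA ((Scheme.ΓSpecIso
          (CommRingCat.of ↥((R.toSubring).comap (residue O)))).inv.hom f) = f :=
        eA.apply_symm_apply f
      rw [h1, eA.apply_symm_apply]
      exact hxy
  · intro r hr
    have hr' : ρ R (eA r) ≠ 0 := fun h => hr ((zmap_appTop_eq_zero_iff R r).mpr h)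
    obtain ⟨n, s, hns⟩ := exists_pow_sub R f (eA r) hr'
    refine ⟨n, eA.symm s, ?_⟩
    rw [zmap_appTop_eq_zero_iff]
    have h1 : (Scheme.ΓSpecIso (CommRingCat.of ↥((R.toSubring).comap (residue O)))).hom.hom
        (((Scheme.ΓSpecIso (CommRingCat.of ↥((R.toSubring).comap (residue O)))).inv.hom f) ^ n
          - r * eA.symm s) = f ^ n - eA r * s := by
      show eA (_ ^ n - r * eA.symm s) = _
      rw [map_sub, map_mul, map_pow, eA.apply_symm_apply]
      congr 2
      exact eA.apply_symm_apply f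
    rw [h1]
    exact hns

end Groth.Agent.Lib.Helper41.SemiVal
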