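import Mathlib
import Groth.Agent.Lib.Helper41.UnivOpenDim1

/-!
# Sections avoiding all non-closed primes of a stalk become units over a morphism missing the point
-/

set_option autoImplicit false
universe u
open CategoryTheory CategoryTheory.Limits AlgebraicGeometry TopologicalSpace

namespace Groth.Agent.Lib.Helper41

open Groth.Agent.Lib.Helper41.UnivOpenDim1

/-- Let `t : Y ⟶ N` miss the point `x'`, let `W₀ ∋ x'` be an affine open and `V₀ ⊆ t⁻¹(W₀)` a qcqs
open. If `a ∈ 𝒪_{N,x'}` lies in no prime other than the maximal ideal, then `a` becomes a unit in any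
ring `C` receiving compatible maps from `Γ(Y, V₀)` and `𝒪_{N,x'}` (flat base change). -/
theorem isUnit_of_notMem_range {Y N : Scheme.{u}} (t : Y ⟶ N) (x' : N)
    (hx' : x' ∉ Set.range t.base)
    (W₀ : N.Opens) (hW₀ : IsAffineOpen W₀) (hxW : x' ∈ W₀)
    (V₀ : Y.Opens) (hVW : V₀ ≤ t ⁻¹ᵁ W₀) (hVc : IsCompact (V₀ : Set Y))
    (hVqs : IsQuasiSeparated (V₀ : Set Y))
    (a : N.presheaf.stalk x')
    (ha : ∀ q : PrimeSpectrum (N.presheaf.stalk x'),
      q ≠ IsLocalRing.closedPoint (N.presheaf.stalk x') → a ∉ q.asIdeal)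
    {C : Type u} [CommRing C] (β : Γ(Y, V₀) →+* C) (ψ : N.presheaf.stalk x' →+* C)
    (hβψ : β.comp (t.appLE W₀ V₀ hVW).hom = ψ.comp (N.presheaf.germ W₀ x' hxW).hom) :
    IsUnit (ψ a) := by
  haveI := flat_fromSpecStalk N x'
  let φ := N.fromSpecStalk x'
  let R := N.presheaf.stalk x'
  have H : IsPullback (pullback.fst t φ) (pullback.snd t φ) t φ := IsPullback.of_hasPullback t φ
  have hUST : (⊤ : (Spec R).Opens) ≤ φ ⁻¹ᵁ W₀ := by
    intro q _
    have h1 : φ q ⤳ x' := by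
      have := Set.mem_range_self (f := φ) q
      rw [Scheme.range_fromSpecStalk] at this
      exact this
    exact h1.mem_open W₀.2 hxW
  let UY : (pullback t φ).Opens := pullback.fst t φ ⁻¹ᵁ V₀ ⊓ pullback.snd t φ ⁻¹ᵁ ⊤
  haveI hiso : IsIso (pushoutSection H hUST hVW (UY := UY) rfl) :=
    isIso_pushoutSection_of_isQuasiSeparated_of_flat_right H hUST hVW rfl hW₀
      (isAffineOpen_top _) hVc hVqs
  let a₁ : Γ(Spec R, ⊤) := (Scheme.ΓSpecIso R).inv a
  have hle : UY ≤ pullback.snd t φ ⁻¹ᵁ ⊤ := inf_le_right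
  let a' : Γ(pullback t φ, UY) := (pullback.snd t φ).appLE ⊤ UY hle a₁
  have hunit : IsUnit a' := by
    apply RingedSpace.isUnit_of_isUnit_germ
    intro p hp
    rw [← Scheme.mem_basicOpen]
    rw [Scheme.basicOpen_appLE]
    refine ⟨hp, ?_⟩
    change pullback.snd t φ p ∈ (Spec R).basicOpen a₁
    rw [basicOpen_eq_of_affine]
    change a ∉ (pullback.snd t φ p).asIdeal
    apply ha
    intro hq
    apply hx'
    refine ⟨pullback.fst t φ p, ?_⟩
    have := congr($(pullback.condition (f := t) (g := φ)) p)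
    rw [Scheme.Hom.comp_apply, Scheme.Hom.comp_apply, hq, Scheme.fromSpecStalk_closedPoint] at this
    exact this
  let ψ' : Γ(Spec R, ⊤) ⟶ CommRingCat.of C := (Scheme.ΓSpecIso R).hom ≫ CommRingCat.ofHom ψ
  have h1 : φ.appLE W₀ ⊤ hUST ≫ (Scheme.ΓSpecIso R).hom = N.presheaf.germ W₀ x' hxW := by
    rw [Scheme.Hom.appLE, Scheme.fromSpecStalk_app hxW]
    simp only [Category.assoc, ← Functor.map_comp]
    erw [CategoryTheory.Functor.map_id]
    simp
  have hw : t.appLE W₀ V₀ hVW ≫ CommRingCat.ofHom β = φ.appLE W₀ ⊤ hUST ≫ ψ' := by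
    rw [← Category.assoc, h1]
    ext r
    exact congrArg (fun h : Γ(N, W₀) →+* C => h r) hβψ
  let d : pushout (t.appLE W₀ V₀ hVW) (φ.appLE W₀ ⊤ hUST) ⟶ CommRingCat.of C :=
    pushout.desc (CommRingCat.ofHom β) ψ' hw
  let e : Γ(pullback t φ, UY) ⟶ CommRingCat.of C :=
    inv (pushoutSection H hUST hVW (UY := UY) rfl) ≫ d
  have h2 : pushout.inr _ _ ≫ pushoutSection H hUST hVW (UY := UY) rfl =
      (pullback.snd t φ).appLE ⊤ UY hle := pushout.inr_desc _ _ _
  have h3 : (pullback.snd t φ).appLE ⊤ UY hle ≫ e = ψ' := by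
    calc (pullback.snd t φ).appLE ⊤ UY hle ≫ e
        = (pushout.inr _ _ ≫ pushoutSection H hUST hVW (UY := UY) rfl) ≫ e := by rw [h2]
      _ = pushout.inr _ _ ≫ d := by simp only [e, Category.assoc, IsIso.hom_inv_id_assoc]
      _ = ψ' := pushout.inr_desc _ _ _
  have he : e.hom a' = ψ a := by
    have h4 := congr($h3 a₁)
    have h5 : ψ'.hom a₁ = ψ a := by
      simp [ψ', a₁]
      rfl
    rw [h5] at h4
    exact h4
  rw [← he]
  exact hunit.map e.hom

end Groth.Agent.Lib.Helper41
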