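import Groth.Agent.Lib.Helper9.HenselSplit

/-!
# Strictly henselian local rings and sections of étale morphisms
-/

set_option autoImplicit false
universe u
open CategoryTheory AlgebraicGeometry IsLocalRing Polynomial

namespace Groth.Agent.Lib.Helper41.StrictHens

/-- The sections property: every point of an étale `A`-scheme over the closed point lies on a
section. -/
def HasSections (A : Type u) [CommRing A] [IsLocalRing A] : Prop :=
  ∀ (X : Scheme.{u}) (f : X ⟶ Spec (CommRingCat.of A)), Etale f →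
    ∀ x : X, f.base x = closedPoint A →
      ∃ u : Spec (CommRingCat.of A) ⟶ X, u ≫ f = 𝟙 _ ∧ u.base (closedPoint A) = x

/-- Ring-level form of the sections property. -/
theorem exists_retraction {A : Type u} [CommRing A] [IsLocalRing A] (H : HasSections A)
    (B : Type u) [CommRing B] [Algebra A B] [Algebra.Etale A B] (P : Ideal B) [hP : P.IsPrime]
    (hPm : P.comap (algebraMap A B) = maximalIdeal A) :
    ∃ τ : B →ₐ[A] A, (maximalIdeal A).comap (τ : B →+* A) = P := by
  let φ : CommRingCat.of A ⟶ CommRingCat.of B := CommRingCat.ofHom (algebraMap A B)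
  have hφ : φ.hom.Etale := RingHom.etale_algebraMap.mpr inferInstance
  haveI : Etale (Spec.map φ) := HasRingHomProperty.Spec_iff.mpr hφ
  let x : Spec (CommRingCat.of B) := ⟨P, hP⟩
  have hx : (Spec.map φ).base x = closedPoint A := PrimeSpectrum.ext hPm
  obtain ⟨u, hu₁, hu₂⟩ := H _ (Spec.map φ) inferInstance x hx
  let τ₀ : CommRingCat.of B ⟶ CommRingCat.of A := Spec.preimage u
  have hτ₀ : Spec.map τ₀ = u := Spec.map_preimage u
  have h1 : φ ≫ τ₀ = 𝟙 _ := by
    apply Spec.map_injective
    rw [Spec.map_comp, hτ₀, hu₁, Spec.map_id]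
  let τ : B →ₐ[A] A := { τ₀.hom with commutes' := fun r => congr($h1 r) }
  refine ⟨τ, ?_⟩
  have h2 : (Spec.map τ₀).base (closedPoint A) = x := by rw [hτ₀, hu₂]
  exact congrArg PrimeSpectrum.asIdeal h2

theorem henselianLocalRing_of_hasSections {A : Type u} [CommRing A] [IsLocalRing A]
    (H : HasSections A) : HenselianLocalRing A := by
  refine ((HenselianLocalRing.TFAE A).out 1 0).mp ?_
  intro f hf a₀ h0 h1
  let P : StandardEtalePair A := ⟨f, hf, derivative f, ⟨1, 0, 1, by simp⟩⟩
  have hmap : P.HasMap a₀ := ⟨h0, isUnit_iff_ne_zero.mpr h1⟩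
  let ψ₀ : P.Ring →ₐ[A] ResidueField A := P.lift a₀ hmap
  let Pr : Ideal P.Ring := RingHom.ker (ψ₀ : P.Ring →+* ResidueField A)
  haveI : Pr.IsPrime := RingHom.ker_isPrime _
  have hPr : Pr.comap (algebraMap A P.Ring) = maximalIdeal A := by
    ext r
    rw [Ideal.mem_comap, RingHom.mem_ker]
    change ψ₀ (algebraMap A P.Ring r) = 0 ↔ _
    rw [ψ₀.commutes]
    exact residue_eq_zero_iff r
  obtain ⟨τ, hτ⟩ := exists_retraction H P.Ring Pr hPr
  refine ⟨τ P.X, ?_, ?_⟩
  · change eval (τ P.X) f = 0
    have h2 : aeval (τ P.X) P.f = τ (aeval P.X P.f) := aeval_algHom_apply τ P.X P.f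
    rw [P.hasMap_X.1, map_zero] at h2
    rw [← h2]
    rfl
  · obtain ⟨a', ha'⟩ := residue_surjective (R := A) a₀
    have h3 : P.X - algebraMap A P.Ring a' ∈ Pr := by
      rw [RingHom.mem_ker]
      change ψ₀ (P.X - algebraMap A P.Ring a') = 0
      rw [map_sub, P.lift_X, ψ₀.commutes, sub_eq_zero]
      exact ha'.symm
    rw [← hτ, Ideal.mem_comap] at h3
    change τ (P.X - algebraMap A P.Ring a') ∈ maximalIdeal A at h3
    rw [map_sub, τ.commutes, ← residue_eq_zero_iff, map_sub, sub_eq_zero] at h3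
    rw [h3]
    exact ha'

theorem isSepClosed_of_hasSections {A : Type u} [CommRing A] [IsLocalRing A]
    (H : HasSections A) : IsSepClosed (ResidueField A) := by
  refine IsSepClosed.of_exists_root _ (fun gb hgb hirr hsep => ?_)
  obtain ⟨g, hg, -, hgm⟩ := Polynomial.lifts_and_natDegree_eq_and_monic
    ((Polynomial.mem_lifts gb).mpr (Polynomial.map_surjective (residue A)
      residue_surjective gb)) hgb
  haveI : Fact (Irreducible gb) := ⟨hirr⟩
  let L := AdjoinRoot gb
  let P : StandardEtalePair A := ⟨g, hgm, derivative g, ⟨1, 0, 1, by simp⟩⟩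
  have haev : ∀ q : A[X], aeval (AdjoinRoot.root gb) q =
      AdjoinRoot.mk gb (q.map (residue A)) := by
    intro q
    rw [aeval_def, IsScalarTower.algebraMap_eq A (ResidueField A) L, ← eval₂_map,
      ← aeval_def, AdjoinRoot.aeval_eq]
    rfl
  have hmap : P.HasMap (AdjoinRoot.root gb) := by
    refine ⟨?_, ?_⟩
    · change aeval (AdjoinRoot.root gb) g = 0
      rw [haev, hg, AdjoinRoot.mk_self]
    · change IsUnit (aeval (AdjoinRoot.root gb) (derivative g))
      rw [haev, ← derivative_map, hg, isUnit_iff_ne_zero, Ne, AdjoinRoot.mk_eq_zero]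
      intro hdvd
      exact hirr.not_isUnit (hsep.isUnit_of_dvd' (dvd_refl _) hdvd)
  let ψ₀ : P.Ring →ₐ[A] L := P.lift (AdjoinRoot.root gb) hmap
  let Pr : Ideal P.Ring := RingHom.ker (ψ₀ : P.Ring →+* L)
  haveI : Pr.IsPrime := RingHom.ker_isPrime _
  have hPr : Pr.comap (algebraMap A P.Ring) = maximalIdeal A := by
    ext r
    rw [Ideal.mem_comap, RingHom.mem_ker]
    change ψ₀ (algebraMap A P.Ring r) = 0 ↔ _
    rw [ψ₀.commutes, IsScalarTower.algebraMap_apply A (ResidueField A) L,
      map_eq_zero_iff _ (algebraMap (ResidueField A) L).injective]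
    exact residue_eq_zero_iff r
  obtain ⟨τ, -⟩ := exists_retraction H P.Ring Pr hPr
  refine ⟨residue A (τ P.X), ?_⟩
  have h2 : aeval (τ P.X) P.f = τ (aeval P.X P.f) := aeval_algHom_apply τ P.X P.f
  rw [P.hasMap_X.1, map_zero] at h2
  have h3 : eval (τ P.X) g = 0 := h2
  rw [← hg, Polynomial.eval_map, Polynomial.eval₂_hom, h3, map_zero]

theorem hasSections_of_strictHenselian (A : Type u) [CommRing A] [HenselianLocalRing A]
    [IsSepClosed (ResidueField A)] : HasSections A := by
  intro X f hf x hx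
  haveI := hf
  obtain ⟨V, hV, hxV, -⟩ := exists_isAffineOpen_mem_and_subset
    (show x ∈ (⊤ : X.Opens) from trivial)
  let R' : CommRingCat.{u} := Γ(X, V)
  let φ : CommRingCat.of A ⟶ R' := Spec.preimage (hV.fromSpec ≫ f)
  have hφ : Spec.map φ = hV.fromSpec ≫ f := Spec.map_preimage _
  letI : Algebra A R' := φ.hom.toAlgebra
  haveI : Etale (Spec.map φ) := by rw [hφ]; infer_instance
  have hEt : φ.hom.Etale := (HasRingHomProperty.Spec_iff (P := @Etale)).mp inferInstance
  haveI : Algebra.Etale A R' := hEt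
  let x' : Spec R' := hV.primeIdealOf ⟨x, hxV⟩
  have hx' : hV.fromSpec.base x' = x := hV.fromSpec_primeIdealOf ⟨x, hxV⟩
  let P : Ideal R' := x'.asIdeal
  haveI : P.IsPrime := x'.isPrime
  have hPm : P.comap (algebraMap A R') = maximalIdeal A := by
    have h1 : (Spec.map φ).base x' = f.base (hV.fromSpec.base x') := by rw [hφ]; rfl
    have h2 := congrArg PrimeSpectrum.asIdeal h1
    rw [hx', hx] at h2
    exact h2
  let B := Localization.AtPrime P
  haveI : IsLocalHom (algebraMap A B) := ⟨fun r hr => by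
    rw [IsScalarTower.algebraMap_apply A R' B, IsLocalization.AtPrime.isUnit_to_map_iff B P] at hr
    have h1 : r ∉ maximalIdeal A := by
      rw [← hPm]
      exact hr
    by_contra hnu
    exact h1 ((mem_maximalIdeal r).mpr hnu)⟩
  haveI : Algebra.FormallyUnramified R' B := Algebra.FormallyUnramified.of_isLocalization P.primeCompl
  haveI : Algebra.FormallyUnramified A B := Algebra.FormallyUnramified.comp A R' B
  haveI : Algebra.EssFiniteType R' B := Algebra.EssFiniteType.of_isLocalization B P.primeCompl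
  haveI : Algebra.EssFiniteType A B := Algebra.EssFiniteType.comp A R' B
  have hbij : Function.Bijective (algebraMap (ResidueField A) (ResidueField B)) :=
    IsSepClosed.algebraMap_bijective (ResidueField A) (ResidueField B)
  let ε : ResidueField A ≃ₐ[A] ResidueField B :=
    AlgEquiv.ofBijective (IsScalarTower.toAlgHom A (ResidueField A) (ResidueField B)) hbij
  let Ψ : R' →ₐ[A] ResidueField A :=
    (ε.symm : ResidueField B →ₐ[A] ResidueField A).comp
      (IsScalarTower.toAlgHom A R' (ResidueField B))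
  have hΨ : ∀ b : R', Ψ b = 0 ↔ b ∈ P := by
    intro b
    change ε.symm (algebraMap R' (ResidueField B) b) = 0 ↔ _
    rw [EmbeddingLike.map_eq_zero_iff, IsScalarTower.algebraMap_apply R' B (ResidueField B)]
    change residue B (algebraMap R' B b) = 0 ↔ _
    rw [residue_eq_zero_iff, IsLocalization.AtPrime.to_map_mem_maximal_iff B P]
  obtain ⟨τ, hτ⟩ := Groth.Agent.Lib.Helper9.exists_lift_of_etale Ψ
  refine ⟨Spec.map (CommRingCat.ofHom (τ : R' →+* A)) ≫ hV.fromSpec, ?_, ?_⟩
  · rw [Category.assoc, ← hφ, ← Spec.map_comp, ← Spec.map_id]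
    congr 1
    ext r
    exact τ.commutes r
  · rw [Scheme.Hom.comp_apply]
    have h1 : (Spec.map (CommRingCat.ofHom (τ : R' →+* A))).base (closedPoint A) = x' := by
      apply PrimeSpectrum.ext
      ext b
      change τ b ∈ maximalIdeal A ↔ b ∈ P
      rw [← residue_eq_zero_iff, hτ, hΨ]
    rw [h1, hx']

end Groth.Agent.Lib.Helper41.StrictHens
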