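import Mathlib
import Groth.Agent.Lib.Helper82.EffCartier
import Groth.Agent.Lib.Helper82.EffCartierCompl
import Groth.Prelude.Def_BlowUp2

/-!
# Strict transforms via the universal property of blowing up

`b : X' ⟶ X` a blow-up in `𝓘`, `i : Z ⟶ X` a closed immersion, `b' : Z' ⟶ Z` a blow-up in `𝓘.comap i`
and `k : Z' ⟶ X'` the induced morphism.  Then `k` is a closed immersion.
-/

universe u

open CategoryTheory CategoryTheory.Limits AlgebraicGeometry

namespace Groth.Agent.Lib.Helper41.StrictTransform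

open Groth.Agent.Lib.Helper82

section

variable {X Z X' Z' : Scheme.{u}} (𝓘 : X.IdealSheafData) (i : Z ⟶ X) [IsClosedImmersion i]
  (b : X' ⟶ X) (hb : BlowUp.IsBlowUp b 𝓘) (b' : Z' ⟶ Z) (hb' : BlowUp.IsBlowUp b' (𝓘.comap i))
  (k : Z' ⟶ X') (hk : k ≫ b = b' ≫ i)

omit [IsClosedImmersion i] in
include hk in
theorem preimage_eq_compl_support :
    k ⁻¹ᵁ (b ⁻¹ᵁ 𝓘.support.compl) = (((𝓘.comap i).comap b').support.compl : Z'.Opens) := by
  ext x
  simp only [Scheme.IdealSheafData.support_comap]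
  have e : b (k x) = i (b' x) := congrArg (fun f : Z' ⟶ X => f x) hk
  show b (k x) ∉ 𝓘.support ↔ i (b' x) ∉ 𝓘.support
  rw [e]

omit [IsClosedImmersion i] in
theorem preimage_eq_compl_support' :
    b ⁻¹ᵁ 𝓘.support.compl = ((𝓘.comap b).support.compl : X'.Opens) := by
  ext x
  simp only [Scheme.IdealSheafData.support_comap]
  rfl

include hb hb' hk in
theorem isClosedImmersion_restrict :
    IsClosedImmersion (k ∣_ (b ⁻¹ᵁ 𝓘.support.compl)) := by
  set U : X.Opens := 𝓘.support.compl with hU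
  haveI h1 : IsIso (b ∣_ U) := isIso_morphismRestrict_of_isBlowUp 𝓘 b hb
  have he : ((𝓘.comap i).support.compl : Z.Opens) = i ⁻¹ᵁ U := by
    ext x
    simp only [Scheme.IdealSheafData.support_comap]
    rfl
  haveI h2 : IsIso (b' ∣_ (i ⁻¹ᵁ U)) := by
    have := isIso_morphismRestrict_of_isBlowUp (𝓘.comap i) b' hb'
    rw [he] at this
    exact this
  have h3 : IsClosedImmersion ((k ≫ b) ∣_ U) := by
    rw [hk, morphismRestrict_comp]
    have hc1 : IsClosedImmersion (i ∣_ U) := IsZariskiLocalAtTarget.restrict ‹_› U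
    have hc2 : IsClosedImmersion (b' ∣_ (i ⁻¹ᵁ U)) := inferInstance
    exact MorphismProperty.comp_mem @IsClosedImmersion _ _ hc2 hc1
  rw [morphismRestrict_comp] at h3
  exact (MorphismProperty.cancel_right_of_respectsIso @IsClosedImmersion
    (k ∣_ (b ⁻¹ᵁ U)) (b ∣_ U)).mp h3

include hb hb' hk in
theorem isAffineHom_ι_comp :
    IsAffineHom ((k ⁻¹ᵁ (b ⁻¹ᵁ 𝓘.support.compl)).ι ≫ k) := by
  haveI := isClosedImmersion_restrict 𝓘 i b hb b' hb' k hk
  haveI : IsAffineHom (b ⁻¹ᵁ 𝓘.support.compl).ι := by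
    rw [preimage_eq_compl_support']
    exact isAffineHom_ι_compl_support _ hb.1
  rw [← morphismRestrict_ι]
  infer_instance

omit [IsClosedImmersion i] in
include hb' hk in
theorem ker_ι_comp :
    ((k ⁻¹ᵁ (b ⁻¹ᵁ 𝓘.support.compl)).ι ≫ k).ker = k.ker := by
  haveI : IsSchemeTheoreticallyDominant (k ⁻¹ᵁ (b ⁻¹ᵁ 𝓘.support.compl)).ι := by
    rw [preimage_eq_compl_support 𝓘 i b b' k hk]
    exact isSchemeTheoreticallyDominant_ι_compl_support _ hb'.1
  rw [Scheme.Hom.ker_comp, Scheme.Hom.ker_eq_bot, Scheme.IdealSheafData.map_bot]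

include hb hb' hk in
theorem isEffCartierIdeal_comap_imageι :
    BlowUp.IsEffCartierIdeal ((𝓘.comap b).comap k.imageι) := by
  set W : Z'.Opens := k ⁻¹ᵁ (b ⁻¹ᵁ 𝓘.support.compl) with hW
  set j' : (W : Scheme) ⟶ X' := W.ι ≫ k with hj'
  haveI haff : IsAffineHom j' := isAffineHom_ι_comp 𝓘 i b hb b' hb' k hk
  have hker : j'.ker = k.ker := ker_ι_comp 𝓘 i b b' hb' k hk
  set D := 𝓘.comap b with hD
  have htop : D.comap j' = ⊤ := by
    rw [← Scheme.IdealSheafData.support_eq_bot_iff, Scheme.IdealSheafData.support_comap,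
      Scheme.IdealSheafData.support_comap]
    ext w
    simp only [TopologicalSpace.Closeds.coe_preimage, Set.mem_preimage, SetLike.mem_coe,
      TopologicalSpace.Closeds.coe_bot, Set.mem_empty_iff_false, iff_false]
    exact w.2
  intro t
  obtain ⟨V', hxV', f, hf, hfD⟩ := hb.1 (k.imageι t)
  have hV'T : IsAffineOpen (k.imageι ⁻¹ᵁ V'.1) := V'.2.preimage k.imageι
  have hV'W : IsAffineOpen (j' ⁻¹ᵁ V'.1) := V'.2.preimage j'
  have hunit : IsUnit ((j'.app V'.1).hom f) := by
    have h1 := ideal_comap_of_le j' D _ hV'W V'.1 V'.2 le_rfl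
    rw [htop, Scheme.IdealSheafData.ideal_top] at h1
    simp only [Pi.top_apply] at h1
    have h2 : D.ideal V' = Ideal.span {f} := hfD
    have h3 : D.ideal ⟨V'.1, V'.2⟩ = Ideal.span {f} := h2
    rw [h3, Ideal.map_span, Set.image_singleton] at h1
    have h4 := Ideal.span_singleton_eq_top.mp h1.symm
    rwa [← Scheme.Hom.app_eq_appLE] at h4
  have hmemker : ∀ g₀ : Γ(X', V'.1), g₀ ∈ k.ker.ideal V' ↔ (j'.app V'.1).hom g₀ = 0 := by
    intro g₀
    rw [← hker, Scheme.Hom.ker_apply, RingHom.mem_ker]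
  have hmemker' : ∀ g₀ : Γ(X', V'.1), g₀ ∈ k.ker.ideal V' ↔ (k.imageι.app V'.1).hom g₀ = 0 := by
    intro g₀
    rw [← Scheme.IdealSheafData.ker_subschemeι_app, RingHom.mem_ker]
  refine ⟨⟨k.imageι ⁻¹ᵁ V'.1, hV'T⟩, hxV', (k.imageι.app V'.1).hom f, ?_, ?_⟩
  · rw [mem_nonZeroDivisors_iff_right]
    intro g hg
    obtain ⟨g₀, rfl⟩ := k.ker.subschemeι_app_surjective V' g
    have h5 : g₀ * f ∈ k.ker.ideal V' := by
      rw [hmemker', map_mul]
      exact hg
    rw [hmemker, map_mul] at h5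
    have h6 : (j'.app V'.1).hom g₀ = 0 := hunit.mul_left_eq_zero.mp h5
    exact (hmemker' g₀).mp ((hmemker g₀).mpr h6)
  · have h1 := ideal_comap_of_le k.imageι D _ hV'T V'.1 V'.2 le_rfl
    have h3 : D.ideal ⟨V'.1, V'.2⟩ = Ideal.span {f} := hfD
    rw [h3, Ideal.map_span, Set.image_singleton, ← Scheme.Hom.app_eq_appLE] at h1
    exact h1

include hb hb' hk in
/-- The strict transform: the morphism between blow-ups induced by a closed immersion of the bases is a
closed immersion. -/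
theorem isClosedImmersion_of_isBlowUp : IsClosedImmersion k := by
  have hT := isEffCartierIdeal_comap_imageι 𝓘 i b hb b' hb' k hk
  have H : i.ker ≤ (k.imageι ≫ b).ker := by
    rw [Scheme.Hom.ker_comp, Scheme.IdealSheafData.ker_subschemeι, ← Scheme.Hom.ker_comp, hk]
    exact Scheme.Hom.le_ker_comp _ _
  set q : k.image ⟶ Z := IsClosedImmersion.lift i (k.imageι ≫ b) H with hq
  have hqi : q ≫ i = k.imageι ≫ b := IsClosedImmersion.lift_fac _ _ _
  have hTq : BlowUp.IsEffCartierIdeal ((𝓘.comap i).comap q) := by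
    rw [← Scheme.IdealSheafData.comap_comp, hqi, Scheme.IdealSheafData.comap_comp]
    exact hT
  obtain ⟨r, hr, -⟩ := hb'.2 _ q hTq
  have e0 : k.toImage ≫ q = b' := by
    rw [← cancel_mono i, Category.assoc, hqi, Scheme.Hom.toImage_imageι_assoc, hk]
  have e1 : k.toImage ≫ r = 𝟙 Z' :=
    (hb'.2 Z' b' hb'.1).unique (by rw [Category.assoc, hr, e0]) (Category.id_comp _)
  have hTb : BlowUp.IsEffCartierIdeal (𝓘.comap (k.imageι ≫ b)) := by
    rw [Scheme.IdealSheafData.comap_comp]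
    exact hT
  have e2' : r ≫ k = k.imageι :=
    (hb.2 _ (k.imageι ≫ b) hTb).unique (by rw [Category.assoc, hk, ← Category.assoc, hr, hqi]) rfl
  have e2 : r ≫ k.toImage = 𝟙 _ := by
    rw [← cancel_mono k.imageι, Category.assoc, Scheme.Hom.toImage_imageι, e2', Category.id_comp]
  haveI : IsIso k.toImage := ⟨r, e1, e2⟩
  rw [← k.toImage_imageι]
  infer_instance

end

end Groth.Agent.Lib.Helper41.StrictTransform
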