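import Mathlib.RingTheory.TensorProduct.DirectLimitFG
import Mathlib.RingTheory.FiniteType
import Mathlib.RingTheory.DiscreteValuationRing.Basic
import Mathlib.RingTheory.Spectrum.Prime.Topology
import Mathlib.AlgebraicGeometry.PullbackCarrier
import Groth.Agent.Lib.Helper50.DvrSpec

/-!
# Ring-level core of the DVR criterion for universal openness (EGA IV 14.5)

* `exists_fg_subalgebra_of_mul_eq_zero`: a relation `(t ⊗ 1) * s = 0` in `V ⊗[B] C` already
  holds over a finitely generated `B`-subalgebra of `V`.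
-/

set_option autoImplicit false
universe u
open TensorProduct

namespace Groth.Agent.Lib.Helper41.UnivOpenRing

section FGD

variable {B V C : Type*} [CommRing B] [CommRing V] [CommRing C] [Algebra B V] [Algebra B C]

theorem rTensor_val_eq (A : Subalgebra B V) (z : A ⊗[B] C) :
    LinearMap.rTensor C A.val.toLinearMap z =
      Algebra.TensorProduct.map A.val (AlgHom.id B C) z := rfl

theorem rTensor_inclusion_eq {A A' : Subalgebra B V} (h : A ≤ A') (z : A ⊗[B] C) :
    LinearMap.rTensor C (Subalgebra.inclusion h).toLinearMap z =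
      Algebra.TensorProduct.map (Subalgebra.inclusion h) (AlgHom.id B C) z := rfl

theorem map_val_map_inclusion {A A' : Subalgebra B V} (h : A ≤ A') (z : A ⊗[B] C) :
    Algebra.TensorProduct.map A'.val (AlgHom.id B C)
      (Algebra.TensorProduct.map (Subalgebra.inclusion h) (AlgHom.id B C) z) =
      Algebra.TensorProduct.map A.val (AlgHom.id B C) z := by
  induction z with
  | zero => simp
  | tmul a c => simp
  | add x y hx hy => simp only [map_add, hx, hy]

theorem exists_fg_subalgebra_of_mul_eq_zero (s : V ⊗[B] C) (t : V)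
    (h : (t ⊗ₜ[B] (1 : C)) * s = 0) :
    ∃ (B₁ : Subalgebra B V) (_ : B₁.FG) (ht : t ∈ B₁) (s₁ : B₁ ⊗[B] C),
      Algebra.TensorProduct.map B₁.val (AlgHom.id B C) s₁ = s ∧
      (((⟨t, ht⟩ : B₁) ⊗ₜ[B] (1 : C)) * s₁ = 0) := by
  classical
  obtain ⟨A₀, hA₀, s₀, hs₀⟩ := TensorProduct.Algebra.exists_of_fg s
  let A₁ : Subalgebra B V := A₀ ⊔ Algebra.adjoin B {t}
  have hA₁ : A₁.FG := hA₀.sup (by
    have := Subalgebra.fg_adjoin_finset (R := B) ({t} : Finset V)
    simpa using this)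
  have ht₁ : t ∈ A₁ := (le_sup_right : _ ≤ A₁) (Algebra.subset_adjoin (Set.mem_singleton t))
  let s₁ : A₁ ⊗[B] C :=
    Algebra.TensorProduct.map (Subalgebra.inclusion (le_sup_left : A₀ ≤ A₁)) (AlgHom.id B C) s₀
  have hs₁ : Algebra.TensorProduct.map A₁.val (AlgHom.id B C) s₁ = s := by
    rw [map_val_map_inclusion, ← rTensor_val_eq, hs₀]
  let w : A₁ ⊗[B] C := ((⟨t, ht₁⟩ : A₁) ⊗ₜ[B] (1 : C)) * s₁
  have hw : LinearMap.rTensor C A₁.val.toLinearMap w =
      LinearMap.rTensor C A₁.val.toLinearMap 0 := by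
    rw [map_zero, rTensor_val_eq, map_mul, hs₁, Algebra.TensorProduct.map_tmul]
    simpa using h
  obtain ⟨B₁, hle, hB₁, hEq⟩ := TensorProduct.Algebra.eq_of_fg_of_subtype_eq hA₁ hw
  refine ⟨B₁, hB₁, hle ht₁,
    Algebra.TensorProduct.map (Subalgebra.inclusion hle) (AlgHom.id B C) s₁, ?_, ?_⟩
  · rw [map_val_map_inclusion, hs₁]
  · rw [map_zero, rTensor_inclusion_eq, map_mul, Algebra.TensorProduct.map_tmul] at hEq
    simpa using hEq

end FGD

section RL

open IsLocalRing PrimeSpectrum CategoryTheory AlgebraicGeometry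

variable {B C V : Type u} [CommRing B] [CommRing C] [CommRing V] [Algebra B C] [Algebra B V]

/-- Step 1: if no generization of `𝔮` lies over the generic point of `V`, there are
`s ∉ 𝔮` and `t ≠ 0` in `V` with `(t ⊗ 1) * s = 0`. -/
theorem exists_mul_eq_zero_of_forall_ne_bot [IsDomain V] (𝔮 : PrimeSpectrum (V ⊗[B] C))
    (hcon : ∀ 𝔮' : PrimeSpectrum (V ⊗[B] C), 𝔮' ≤ 𝔮 →
      (𝔮'.comap (Algebra.TensorProduct.includeLeftRingHom : V →+* V ⊗[B] C)).asIdeal ≠ ⊥) :
    ∃ s : V ⊗[B] C, s ∉ 𝔮.asIdeal ∧ ∃ t : V, t ≠ 0 ∧ (t ⊗ₜ[B] (1 : C)) * s = 0 := by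
  classical
  by_contra hno
  push Not at hno
  let M : Submonoid (V ⊗[B] C) := 𝔮.asIdeal.primeCompl ⊔
    (nonZeroDivisors V).map (Algebra.TensorProduct.includeLeftRingHom : V →+* V ⊗[B] C)
  have hdisj : Disjoint ((⊥ : Ideal (V ⊗[B] C)) : Set (V ⊗[B] C)) (M : Set (V ⊗[B] C)) := by
    rw [Set.disjoint_left]
    intro z hz hzM
    have hz0 : z = 0 := hz
    obtain ⟨a, ha, b, hb, hab⟩ := Submonoid.mem_sup.1 hzM
    obtain ⟨t, ht, rfl⟩ := hb
    refine hno a ha t (nonZeroDivisors.ne_zero ht) ?_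
    rw [mul_comm]
    exact hab.trans hz0
  obtain ⟨P, hP, -, hPM⟩ := Ideal.exists_le_prime_disjoint ⊥ M hdisj
  have hPq : P ≤ 𝔮.asIdeal := by
    intro z hz
    by_contra hzq
    exact Set.disjoint_left.1 hPM hz ((le_sup_left : _ ≤ M) hzq)
  refine hcon ⟨P, hP⟩ hPq ?_
  rw [eq_bot_iff]
  intro t ht
  by_contra ht0
  exact Set.disjoint_left.1 hPM ht
    ((le_sup_right : _ ≤ M) ⟨t, mem_nonZeroDivisors_of_ne_zero ht0, rfl⟩)

/-- **Ring-level DVR criterion**: generizations over the generic point of a local domain `V`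
exist as soon as they exist over all discrete valuation rings. -/
theorem exists_le_comap_eq_bot [IsNoetherianRing B] [IsDomain V] [IsLocalRing V]
    (𝔭₀ : PrimeSpectrum C)
    (H : ∀ (A : Type u) [CommRing A] [IsDomain A] [IsDiscreteValuationRing A] [Algebra B A]
      (𝔮 : PrimeSpectrum (A ⊗[B] C)),
      𝔮.comap (Algebra.TensorProduct.includeRight (R := B) (A := A) (B := C)).toRingHom = 𝔭₀ →
      𝔮.comap (Algebra.TensorProduct.includeLeftRingHom : A →+* A ⊗[B] C) = closedPoint A →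
      ∃ 𝔮' : PrimeSpectrum (A ⊗[B] C), 𝔮' ≤ 𝔮 ∧
        𝔮'.comap (Algebra.TensorProduct.includeLeftRingHom : A →+* A ⊗[B] C) ≠ closedPoint A)
    (𝔮 : PrimeSpectrum (V ⊗[B] C))
    (h₁ : 𝔮.comap (Algebra.TensorProduct.includeRight (R := B) (A := V) (B := C)).toRingHom = 𝔭₀)
    (h₂ : 𝔮.comap (Algebra.TensorProduct.includeLeftRingHom : V →+* V ⊗[B] C) = closedPoint V) :
    ∃ 𝔮' : PrimeSpectrum (V ⊗[B] C), 𝔮' ≤ 𝔮 ∧
      (𝔮'.comap (Algebra.TensorProduct.includeLeftRingHom : V →+* V ⊗[B] C)).asIdeal = ⊥ := by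
  classical
  by_contra hcon
  push Not at hcon
  obtain ⟨s, hs, t, ht0, hst⟩ := exists_mul_eq_zero_of_forall_ne_bot 𝔮 hcon
  -- `t` lies in the maximal ideal
  have htm : t ∈ maximalIdeal V := by
    by_contra htu
    have hu : IsUnit t := by
      rw [mem_maximalIdeal, mem_nonunits_iff, not_not] at htu
      exact htu
    have hu' : IsUnit ((t ⊗ₜ[B] (1 : C)) : V ⊗[B] C) :=
      hu.map (Algebra.TensorProduct.includeLeftRingHom : V →+* V ⊗[B] C)
    have hs0 : s = 0 := (hu'.mul_right_eq_zero).1 hst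
    exact hs (hs0 ▸ zero_mem _)
  obtain ⟨B₁, hB₁, htB₁, s₁, hs₁, hts₁⟩ := exists_fg_subalgebra_of_mul_eq_zero s t hst
  haveI : Algebra.FiniteType B B₁ := (Subalgebra.fg_iff_finiteType B₁).1 hB₁
  haveI : IsNoetherianRing B₁ := Algebra.FiniteType.isNoetherianRing B B₁
  let 𝔭₁ : Ideal B₁ := (maximalIdeal V).comap (algebraMap B₁ V)
  haveI : 𝔭₁.IsPrime := Ideal.comap_isPrime _ _
  let t₁ : B₁ := ⟨t, htB₁⟩
  have ht₁ : t₁ ∈ 𝔭₁ := htm
  have ht₁0 : t₁ ≠ 0 := fun h => ht0 (congrArg Subtype.val h)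
  let L := Localization.AtPrime 𝔭₁
  haveI : IsNoetherianRing L := IsLocalization.isNoetherianRing 𝔭₁.primeCompl L inferInstance
  haveI : IsDomain L :=
    IsLocalization.isDomain_localization (Ideal.primeCompl_le_nonZeroDivisors 𝔭₁)
  have hinjL : Function.Injective (algebraMap B₁ L) :=
    IsLocalization.injective L (Ideal.primeCompl_le_nonZeroDivisors 𝔭₁)
  have hker : RingHom.ker (algebraMap L (FractionRing B₁)) ≠ maximalIdeal L := by
    rw [(RingHom.injective_iff_ker_eq_bot _).1 (IsFractionRing.injective L (FractionRing B₁))]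
    intro hbot
    have hmem : algebraMap B₁ L t₁ ∈ maximalIdeal L :=
      (IsLocalization.AtPrime.to_map_mem_maximal_iff L 𝔭₁ t₁).2 ht₁
    rw [← hbot, Ideal.mem_bot] at hmem
    exact ht₁0 (hinjL (hmem.trans (map_zero _).symm))
  obtain ⟨R, hR, ψ, hψ, hcomp⟩ := Groth.Agent.Lib.Helper50.exists_dvr_factor (algebraMap L (FractionRing B₁)) hker
    ⟨∅, by simpa using IsFractionRing.closure_range_algebraMap L (FractionRing B₁)⟩
  haveI : IsDiscreteValuationRing R := hR
  haveI : IsLocalHom ψ := hψ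
  let σ : B₁ →+* R := ψ.comp (algebraMap B₁ L)
  have hσinj : Function.Injective σ := by
    intro a b hab
    apply hinjL
    apply IsFractionRing.injective L (FractionRing B₁)
    rw [← hcomp]
    exact congrArg R.subtype hab
  letI algBR : Algebra B R := (σ.comp (algebraMap B B₁)).toAlgebra
  letI algB₁R : Algebra B₁ R := σ.toAlgebra
  haveI : IsScalarTower B B₁ R := IsScalarTower.of_algebraMap_eq (fun _ => rfl)
  let σa : B₁ →ₐ[B] R := IsScalarTower.toAlgHom B B₁ R
  let μ : B₁ ⊗[B] C →ₐ[B] R ⊗[B] C := Algebra.TensorProduct.map σa (AlgHom.id B C)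
  let ρ : B₁ ⊗[B] C →ₐ[B] V ⊗[B] C := Algebra.TensorProduct.map B₁.val (AlgHom.id B C)
  let 𝔮₁ : PrimeSpectrum (B₁ ⊗[B] C) := 𝔮.comap ρ.toRingHom
  -- the closed point of `R` lies over `𝔭₁`
  have hσcl : (closedPoint R).comap σ = ⟨𝔭₁, inferInstance⟩ := by
    have h1 : (closedPoint R).comap ψ = closedPoint L := IsLocalRing.comap_closedPoint ψ
    apply PrimeSpectrum.ext
    change Ideal.comap (algebraMap B₁ L) ((closedPoint R).comap ψ).asIdeal = 𝔭₁
    rw [h1]
    exact Localization.AtPrime.comap_maximalIdeal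
  have h𝔮₁ : 𝔮₁.comap (Algebra.TensorProduct.includeLeftRingHom : B₁ →+* B₁ ⊗[B] C) =
      ⟨𝔭₁, inferInstance⟩ := by
    apply PrimeSpectrum.ext
    change Ideal.comap _ (Ideal.comap ρ.toRingHom 𝔮.asIdeal) = 𝔭₁
    rw [Ideal.comap_comap]
    have hcompo : (ρ.toRingHom.comp (Algebra.TensorProduct.includeLeftRingHom : B₁ →+* B₁ ⊗[B] C)) =
        (Algebra.TensorProduct.includeLeftRingHom : V →+* V ⊗[B] C).comp (algebraMap B₁ V) := by
      ext b
      simp [ρ]
    rw [hcompo, ← Ideal.comap_comap]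
    have := congrArg PrimeSpectrum.asIdeal h₂
    rw [PrimeSpectrum.comap_asIdeal] at this
    rw [this]
    rfl
  -- the pushout square `R ⊗[B] C = R ⊗[B₁] (B₁ ⊗[B] C)`
  have hpo : IsPushout (CommRingCat.ofHom σ)
      (CommRingCat.ofHom (Algebra.TensorProduct.includeLeftRingHom : B₁ →+* B₁ ⊗[B] C))
      (CommRingCat.ofHom (Algebra.TensorProduct.includeLeftRingHom : R →+* R ⊗[B] C))
      (CommRingCat.ofHom μ.toRingHom) := by
    have big := CommRingCat.isPushout_tensorProduct B R C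
    have small := CommRingCat.isPushout_tensorProduct B B₁ C
    have e1 : CommRingCat.ofHom (algebraMap B R) =
        CommRingCat.ofHom (algebraMap B B₁) ≫ CommRingCat.ofHom σ := rfl
    have e2 : CommRingCat.ofHom (S := R ⊗[B] C)
        (Algebra.TensorProduct.includeRight (R := B) (A := R) (B := C)).toRingHom =
        CommRingCat.ofHom (S := B₁ ⊗[B] C)
          (Algebra.TensorProduct.includeRight (R := B) (A := B₁) (B := C)).toRingHom ≫
          CommRingCat.ofHom μ.toRingHom := by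
      ext c
      simp [μ]
    rw [e1, e2] at big
    refine IsPushout.of_left big ?_ small
    ext b
    simp [μ, σa]
    rfl
  have hpb := isPullback_SpecMap_of_isPushout _ _ _ _ hpo
  obtain ⟨𝔮A, h𝔮A1, h𝔮A2⟩ := Scheme.exists_preimage_of_isPullback hpb
    (closedPoint R) 𝔮₁ (hσcl.trans h𝔮₁.symm)
  have h𝔮A2' : PrimeSpectrum.comap μ.toRingHom 𝔮A = 𝔮₁ := h𝔮A2
  have hA1 : PrimeSpectrum.comap
      (Algebra.TensorProduct.includeRight (R := B) (A := R) (B := C)).toRingHom 𝔮A = 𝔭₀ := by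
    rw [← h₁]
    apply PrimeSpectrum.ext
    have e3 : (Algebra.TensorProduct.includeRight (R := B) (A := R) (B := C)).toRingHom =
        μ.toRingHom.comp
          (Algebra.TensorProduct.includeRight (R := B) (A := B₁) (B := C)).toRingHom := by
      ext c
      simp [μ]
    have e4 : (Algebra.TensorProduct.includeRight (R := B) (A := V) (B := C)).toRingHom =
        ρ.toRingHom.comp
          (Algebra.TensorProduct.includeRight (R := B) (A := B₁) (B := C)).toRingHom := by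
      ext c
      simp [ρ]
    rw [e3, e4, PrimeSpectrum.comap_comp_apply, PrimeSpectrum.comap_comp_apply, h𝔮A2']
  obtain ⟨𝔮', hle, hne⟩ := H R 𝔮A hA1 h𝔮A1
  have hbot : (𝔮'.comap (Algebra.TensorProduct.includeLeftRingHom : R →+* R ⊗[B] C)).asIdeal
      = ⊥ := by
    by_contra hnb
    have hmax := Ring.DimensionLEOne.maximalOfPrime hnb
      (𝔮'.comap (Algebra.TensorProduct.includeLeftRingHom : R →+* R ⊗[B] C)).isPrime
    exact hne (PrimeSpectrum.ext (IsLocalRing.eq_maximalIdeal hmax))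
  have hσt : (σ t₁ ⊗ₜ[B] (1 : C) : R ⊗[B] C) ∉ 𝔮'.asIdeal := by
    intro hmem
    have h0 : σ t₁ ∈ (𝔮'.comap
        (Algebra.TensorProduct.includeLeftRingHom : R →+* R ⊗[B] C)).asIdeal := hmem
    rw [hbot, Ideal.mem_bot] at h0
    exact ht₁0 (hσinj (h0.trans (map_zero σ).symm))
  have hμ : (σ t₁ ⊗ₜ[B] (1 : C) : R ⊗[B] C) * μ s₁ = 0 := by
    have := congrArg μ hts₁
    rw [map_mul, map_zero] at this
    rw [← this]
    congr 1
  have hμs : μ s₁ ∈ 𝔮'.asIdeal := by
    have h0 : (σ t₁ ⊗ₜ[B] (1 : C) : R ⊗[B] C) * μ s₁ ∈ 𝔮'.asIdeal := by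
      rw [hμ]; exact zero_mem _
    exact (𝔮'.isPrime.mem_or_mem h0).resolve_left hσt
  have hs₁mem : s₁ ∈ 𝔮₁.asIdeal := by
    rw [← h𝔮A2']
    exact hle hμs
  apply hs
  rw [← hs₁]
  exact hs₁mem

end RL

end Groth.Agent.Lib.Helper41.UnivOpenRing
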