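import Groth.Agent.Lib.Helper41.ValCenterVal
import Groth.Agent.Lib.Helper41.QCClosure

/-!
# Centres of valuation rings without separatedness: uniqueness at the generization suffices
-/

set_option autoImplicit false
universe u

open CategoryTheory CategoryTheory.Limits AlgebraicGeometry IsLocalRing

namespace Groth.Agent.Lib.Helper41.ValCenter

variable {X S : Scheme.{u}}

/-- Variant of `hasCenterIn_of_specializes` where separatedness of `f` is replaced by uniqueness of
centres of valuation rings of `κ(ξ)`. -/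
theorem hasCenterIn_of_specializes' (f : X ⟶ S) {S₀ : S.Opens}
    (hS₀ : IsAffineOpen S₀) {ξ x₁ : X} (hsp : ξ ⤳ x₁) (hx₁ : x₁ ∈ f ⁻¹ᵁ S₀)
    (Huniq : ∀ (V₁ : ValuationSubring (X.residueField ξ)) (l₁ l₁' : Spec (CommRingCat.of V₁) ⟶ X),
      Spec.map (CommRingCat.ofHom V₁.subtype) ≫ l₁ = X.fromSpecResidueField ξ →
      Spec.map (CommRingCat.ofHom V₁.subtype) ≫ l₁' = X.fromSpecResidueField ξ →
      l₁ ≫ f = l₁' ≫ f → l₁ = l₁')
    (Hξ : ∀ V : ValuationSubring (X.residueField ξ),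
      (∀ c, baseEval f S₀ ξ (hsp.mem_open (f ⁻¹ᵁ S₀).2 hx₁) c ∈ V) →
        HasCenterIn (f ⁻¹ᵁ S₀) ξ V)
    (W : ValuationSubring (X.residueField x₁)) (hW : ∀ c, baseEval f S₀ x₁ hx₁ c ∈ W) :
    HasCenterIn (f ⁻¹ᵁ S₀) x₁ W := by
  have hξ : ξ ∈ f ⁻¹ᵁ S₀ := hsp.mem_open (f ⁻¹ᵁ S₀).2 hx₁
  let θ : X.presheaf.stalk x₁ ⟶ X.residueField ξ := X.presheaf.stalkSpecializes hsp ≫ X.residue ξ
  obtain ⟨V₁, hθV₁, hθloc⟩ := IsLocalRing.exists_factor_valuationRing θ.hom
  let θ' : X.presheaf.stalk x₁ →+* V₁ := θ.hom.codRestrict V₁.toSubring hθV₁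
  haveI : IsLocalHom θ' := hθloc
  let ι : X.residueField x₁ →+* ResidueField V₁ := IsLocalRing.ResidueField.map θ'
  have hιres : ∀ t : X.presheaf.stalk x₁, ι ((X.residue x₁).hom t) = residue V₁ (θ' t) :=
    fun t => IsLocalRing.ResidueField.map_residue θ' t
  obtain ⟨W', hW'mem, hW'loc⟩ := IsLocalRing.exists_factor_valuationRing (ι.comp W.subtype)
  let V := CompVal.comp V₁ W'
  let g₁ : Γ(S, S₀) ⟶ X.presheaf.stalk x₁ := f.app S₀ ≫ X.presheaf.germ (f ⁻¹ᵁ S₀) x₁ hx₁
  have hV : ∀ c, baseEval f S₀ ξ hξ c ∈ V := by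
    intro c
    have h1 : baseEval f S₀ ξ hξ c = ((θ' (g₁.hom c) : V₁) : X.residueField ξ) := by
      rw [baseEval_eq_germ_comp f S₀ hsp hx₁]
      rfl
    rw [h1, CompVal.mem_comp_iff]
    refine ⟨(θ' (g₁.hom c)).2, ?_⟩
    have h2 : residue V₁ ⟨((θ' (g₁.hom c) : V₁) : X.residueField ξ), (θ' (g₁.hom c)).2⟩ =
        ι ((X.residue x₁).hom (g₁.hom c)) := (hιres _).symm
    rw [h2]
    exact hW'mem ⟨baseEval f S₀ x₁ hx₁ c, hW c⟩
  obtain ⟨x, hx, hxX₀, hxmem, hxlt⟩ := (Hξ V hV).exists_stalk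
  let θx : X.presheaf.stalk x ⟶ X.residueField ξ := X.presheaf.stalkSpecializes hx ≫ X.residue ξ
  have hxmemV₁ : ∀ a, θx.hom a ∈ V₁ := fun a => CompVal.comp_le V₁ W' (hxmem a)
  let θx' : X.presheaf.stalk x →+* V₁ := θx.hom.codRestrict V₁.toSubring hxmemV₁
  -- the two morphisms `Spec V₁ ⟶ X`
  let l₁ : Spec (CommRingCat.of V₁) ⟶ X := Spec.map (CommRingCat.ofHom θx') ≫ X.fromSpecStalk x
  let l₁' : Spec (CommRingCat.of V₁) ⟶ X := Spec.map (CommRingCat.ofHom θ') ≫ X.fromSpecStalk x₁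
  have hl₁ : Spec.map (CommRingCat.ofHom V₁.subtype) ≫ l₁ = X.fromSpecResidueField ξ := by
    change _ ≫ Spec.map _ ≫ _ = _
    rw [← Category.assoc, ← Spec.map_comp]
    have : CommRingCat.ofHom θx' ≫ CommRingCat.ofHom V₁.subtype = θx := rfl
    rw [this, Spec.map_comp, Category.assoc, Scheme.SpecMap_stalkSpecializes_fromSpecStalk,
      Scheme.fromSpecResidueField]
  have hl₁' : Spec.map (CommRingCat.ofHom V₁.subtype) ≫ l₁' = X.fromSpecResidueField ξ := by
    change _ ≫ Spec.map _ ≫ _ = _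
    rw [← Category.assoc, ← Spec.map_comp]
    have : CommRingCat.ofHom θ' ≫ CommRingCat.ofHom V₁.subtype = θ := rfl
    rw [this, Spec.map_comp, Category.assoc, Scheme.SpecMap_stalkSpecializes_fromSpecStalk,
      Scheme.fromSpecResidueField]
  have hf : l₁ ≫ f = l₁' ≫ f := by
    refine eq_of_comp_eq_of_isAffineOpen hS₀ V₁.subtype Subtype.val_injective _ _ ?_ ?_ ?_
    · exact (SpecMap_fromSpecStalk_specializes _ _).mem_open (f ⁻¹ᵁ S₀).2 hxX₀
    · exact (SpecMap_fromSpecStalk_specializes _ _).mem_open (f ⁻¹ᵁ S₀).2 hx₁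
    · have e1 := congrArg (· ≫ f) hl₁
      have e2 := congrArg (· ≫ f) hl₁'
      simp only [Category.assoc] at e1 e2
      exact e1.trans e2.symm
  have hll : l₁ = l₁' := Huniq V₁ l₁ l₁' hl₁ hl₁' hf
  -- `x₁ ⤳ x`
  have hcl : l₁'.base (closedPoint V₁) = x₁ := by
    change (Spec.map (CommRingCat.ofHom θ') ≫ X.fromSpecStalk x₁).base (closedPoint V₁) = x₁
    rw [Scheme.Hom.comp_apply]
    have h1 : Spec.map (CommRingCat.ofHom θ') (closedPoint V₁) =
        closedPoint (X.presheaf.stalk x₁) := IsLocalRing.comap_closedPoint θ'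
    rw [h1, Scheme.fromSpecStalk_closedPoint]
  have h₁ : x₁ ⤳ x := by
    rw [← hcl, ← hll]
    exact SpecMap_fromSpecStalk_specializes _ _
  -- the ring identity
  have hring : CommRingCat.ofHom θx' =
      X.presheaf.stalkSpecializes h₁ ≫ CommRingCat.ofHom θ' := by
    apply Spec.map_injective
    apply (cancel_mono (X.fromSpecStalk x)).1
    rw [Spec.map_comp, Category.assoc, Scheme.SpecMap_stalkSpecializes_fromSpecStalk]
    exact hll
  have hval : ∀ a : X.presheaf.stalk x, θx' a = θ' ((X.presheaf.stalkSpecializes h₁).hom a) :=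
    fun a => congr($hring a)
  have hkey : ∀ a : X.presheaf.stalk x,
      residue V₁ (θx' a) = ι ((X.presheaf.stalkSpecializes h₁ ≫ X.residue x₁) a) := by
    intro a
    rw [hval]
    exact (hιres _).symm
  have hdom := mem_of_map_mem ι W W' hW'mem hW'loc
  refine hasCenterIn_of_stalk h₁ hxX₀ (fun a => ?_) (fun a ha => ?_)
  · apply (hdom _).1
    rw [← hkey]
    obtain ⟨h, hr⟩ := (CompVal.mem_comp_iff V₁ W').mp (hxmem a)
    exact hr
  · apply (hdom _).2
    rw [← hkey]
    exact CompVal.valuation_residue_lt_one V₁ W' (hxlt a ha) (hxmemV₁ a)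



/-- Lifts in valuative squares over an affine open `S₀`, given centres of all valuation rings of
all residue fields over `S₀`. -/
theorem hasLift_of_forall_hasCenterIn (f : X ⟶ S) {S₀ : S.Opens}
    (hS₀ : IsAffineOpen S₀)
    (Hc : ∀ (x₁ : X) (hx₁ : x₁ ∈ f ⁻¹ᵁ S₀) (W : ValuationSubring (X.residueField x₁)),
      (∀ c, baseEval f S₀ x₁ hx₁ c ∈ W) → HasCenterIn (f ⁻¹ᵁ S₀) x₁ W)
    (Sq : ValuativeCommSq f) (hs₀ : Sq.i₂.base (closedPoint Sq.R) ∈ S₀) : Sq.commSq.HasLift := by
  let R := Sq.R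
  let K := Sq.K
  set x₁ : X := Sq.i₁.base (closedPoint K) with hx₁def
  let φ : X.residueField x₁ ⟶ CommRingCat.of K :=
    Scheme.descResidueField (Scheme.stalkClosedPointTo Sq.i₁)
  have hφ : Spec.map φ ≫ X.fromSpecResidueField x₁ = Sq.i₁ :=
    Scheme.descResidueField_stalkClosedPointTo_fromSpecResidueField K X Sq.i₁
  have hw := Sq.commSq.w
  have hx₁ : x₁ ∈ f ⁻¹ᵁ S₀ := by
    change (Sq.i₁ ≫ f).base (closedPoint K) ∈ S₀
    rw [hw, Scheme.Hom.comp_apply]
    exact ((IsLocalRing.specializes_closedPoint _).map Sq.i₂.continuous).mem_open S₀.2 hs₀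
  have hrange : Set.range Sq.i₂.base ⊆ Set.range hS₀.fromSpec.base := by
    rintro _ ⟨p, rfl⟩
    rw [hS₀.range_fromSpec]
    exact ((IsLocalRing.specializes_closedPoint p).map Sq.i₂.continuous).mem_open S₀.2 hs₀
  let i₂' := IsOpenImmersion.lift hS₀.fromSpec Sq.i₂ hrange
  have hi₂' : i₂' ≫ hS₀.fromSpec = Sq.i₂ := IsOpenImmersion.lift_fac _ _ _
  let τ : Γ(S, S₀) ⟶ CommRingCat.of R := Spec.preimage i₂'
  have hτ : Spec.map τ ≫ hS₀.fromSpec = Sq.i₂ := by rw [Spec.map_preimage, hi₂']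
  have hτφ : baseEval f S₀ x₁ hx₁ ≫ φ = τ ≫ CommRingCat.ofHom (algebraMap R K) := by
    apply Spec.map_injective
    apply (cancel_mono hS₀.fromSpec).1
    rw [Spec.map_comp, Category.assoc, SpecMap_baseEval_fromSpec f hS₀ x₁ hx₁, ← Category.assoc,
      hφ, hw, Spec.map_comp, Category.assoc, hτ]
  let RK : ValuationSubring K := (ValuationRing.valuation R K).valuationSubring
  have hRK : ∀ z : K, z ∈ RK ↔ ∃ r : R, algebraMap R K r = z := fun z =>
    ValuationRing.mem_integer_iff R K z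
  let W : ValuationSubring (X.residueField x₁) := RK.comap φ.hom
  have hW : ∀ c, baseEval f S₀ x₁ hx₁ c ∈ W := by
    intro c
    change φ.hom (baseEval f S₀ x₁ hx₁ c) ∈ RK
    rw [hRK]
    exact ⟨τ.hom c, (congr($hτφ c)).symm⟩
  have hcen : HasCenterIn (f ⁻¹ᵁ S₀) x₁ W := Hc x₁ hx₁ W hW
  obtain ⟨lW, hlW, hlWcl⟩ := hcen
  have hWint : ∀ w : W, (φ.hom.comp W.subtype) w ∈ (ValuationRing.valuation R K).integer :=
    fun w => w.2
  let ω : W →+* R := (ValuationRing.equivInteger R K).symm.toRingHom.comp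
    ((φ.hom.comp W.subtype).codRestrict (ValuationRing.valuation R K).integer hWint)
  have hω : ∀ w : W, algebraMap R K (ω w) = φ.hom (w : X.residueField x₁) := by
    intro w
    have h1 : ValuationRing.equivInteger R K (ω w) =
        ((φ.hom.comp W.subtype).codRestrict (ValuationRing.valuation R K).integer hWint) w :=
      (ValuationRing.equivInteger R K).apply_symm_apply _
    exact congrArg Subtype.val h1
  have hωc : CommRingCat.ofHom ω ≫ CommRingCat.ofHom (algebraMap R K) =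
      CommRingCat.ofHom W.subtype ≫ φ := by
    ext w
    exact hω w
  let l : Spec (CommRingCat.of R) ⟶ X := Spec.map (CommRingCat.ofHom ω) ≫ lW
  have hfac₁ : Spec.map (CommRingCat.ofHom (algebraMap R K)) ≫ l = Sq.i₁ := by
    change _ ≫ Spec.map _ ≫ lW = _
    rw [← Category.assoc, ← Spec.map_comp, hωc, Spec.map_comp, Category.assoc, hlW, hφ]
  have hfac₂ : l ≫ f = Sq.i₂ := by
    refine eq_of_comp_eq_of_isAffineOpen hS₀ (algebraMap R K) (IsFractionRing.injective R K)
      _ _ ?_ hs₀ ?_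
    · change (Spec.map (CommRingCat.ofHom ω) ≫ lW).base (closedPoint R) ∈ f ⁻¹ᵁ S₀
      rw [Scheme.Hom.comp_apply]
      exact ((IsLocalRing.specializes_closedPoint _).map lW.continuous).mem_open
        (f ⁻¹ᵁ S₀).2 hlWcl
    · have e1 := congrArg (· ≫ f) hfac₁
      simp only [Category.assoc] at e1
      rw [e1, hw]
  exact ⟨⟨{ l := l, fac_left := hfac₁, fac_right := hfac₂ }⟩⟩



/-- If every valuative square of `f` whose top morphism factors through a quasi-compact morphism
`h : U ⟶ X` with dense range has a unique lift, then `f` is universally closed. -/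
theorem universallyClosed_of_dense_unique_lifts {U : Scheme.{u}} (f : X ⟶ S) (h : U ⟶ X)
    [QuasiCompact f] [QuasiCompact h] (hd : DenseRange h.base)
    (H : ∀ sq : ValuativeCommSq f, (∃ i : Spec (.of sq.K) ⟶ U, i ≫ h = sq.i₁) →
      Nonempty (Unique sq.commSq.LiftStruct)) : UniversallyClosed f := by
  refine UniversallyClosed.of_valuativeCriterion f (fun Sq => ?_)
  obtain ⟨S₀, hS₀, hs₀, -⟩ := exists_isAffineOpen_mem_and_subset
    (show Sq.i₂.base (closedPoint Sq.R) ∈ (⊤ : S.Opens) from trivial)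
  refine hasLift_of_forall_hasCenterIn f hS₀ (fun x₁ hx₁ W hW => ?_) Sq hs₀
  obtain ⟨u, hsp⟩ := Groth.Agent.Lib.Helper41.exists_specializes_of_mem_closure_range h x₁ (hd x₁)
  have hξ : h.base u ∈ f ⁻¹ᵁ S₀ := hsp.mem_open (f ⁻¹ᵁ S₀).2 hx₁
  let ψ : X.residueField (h.base u) ⟶ U.residueField u := h.residueFieldMap u
  have hres : U.fromSpecResidueField u ≫ h =
      Spec.map ψ ≫ X.fromSpecResidueField (h.base u) :=
    (Scheme.Hom.SpecMap_residueFieldMap_fromSpecResidueField h u).symm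
  refine hasCenterIn_of_specializes' f hS₀ hsp hx₁ ?_ ?_ W hW
  · -- uniqueness
    intro V₁ l₁ l₁' hl₁ hl₁' hf
    obtain ⟨R', hmem, hloc⟩ := IsLocalRing.exists_factor_valuationRing (ψ.hom.comp V₁.subtype)
    let ι : V₁ →+* R' := (ψ.hom.comp V₁.subtype).codRestrict R'.toSubring hmem
    haveI : IsLocalHom ι := hloc
    have hιinj : Function.Injective ι := by
      intro a b hab
      have h1 : ψ.hom (a : X.residueField (h.base u)) = ψ.hom (b : X.residueField (h.base u)) :=
        congrArg Subtype.val hab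
      exact Subtype.ext (ψ.hom.injective h1)
    have hιc : CommRingCat.ofHom ι ≫ CommRingCat.ofHom R'.subtype =
        CommRingCat.ofHom V₁.subtype ≫ ψ := rfl
    have hfac : ∀ l : Spec (CommRingCat.of V₁) ⟶ X,
        Spec.map (CommRingCat.ofHom V₁.subtype) ≫ l = X.fromSpecResidueField (h.base u) →
        Spec.map (CommRingCat.ofHom (algebraMap R' (U.residueField u))) ≫
          Spec.map (CommRingCat.ofHom ι) ≫ l = U.fromSpecResidueField u ≫ h := by
      intro l hl
      change Spec.map (CommRingCat.ofHom R'.subtype) ≫ _ = _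
      rw [← Category.assoc, ← Spec.map_comp, hιc, Spec.map_comp, Category.assoc, hl, hres]
    have hc : CommSq (U.fromSpecResidueField u ≫ h)
        (Spec.map (CommRingCat.ofHom (algebraMap R' (U.residueField u)))) f
        (Spec.map (CommRingCat.ofHom ι) ≫ l₁ ≫ f) := by
      refine ⟨?_⟩
      have := congrArg (· ≫ f) (hfac l₁ hl₁)
      simp only [Category.assoc] at this
      exact this.symm
    let sq' : ValuativeCommSq f := { R := R', K := U.residueField u, commSq := hc, .. }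
    obtain ⟨huniq⟩ := H sq' ⟨U.fromSpecResidueField u, rfl⟩
    let a : sq'.commSq.LiftStruct :=
      ⟨Spec.map (CommRingCat.ofHom ι) ≫ l₁, hfac l₁ hl₁, by rw [Category.assoc]⟩
    let b : sq'.commSq.LiftStruct :=
      ⟨Spec.map (CommRingCat.ofHom ι) ≫ l₁', hfac l₁' hl₁', by rw [Category.assoc, ← hf]⟩
    have hab : Spec.map (CommRingCat.ofHom ι) ≫ l₁ = Spec.map (CommRingCat.ofHom ι) ≫ l₁' :=
      congrArg CommSq.LiftStruct.l ((huniq.uniq a).trans (huniq.uniq b).symm)
    have hcl : Spec.map (CommRingCat.ofHom ι) (closedPoint R') = closedPoint V₁ :=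
      IsLocalRing.comap_closedPoint ι
    have hpt : l₁.base (closedPoint V₁) = l₁'.base (closedPoint V₁) := by
      have := congrArg (fun q => q.base (closedPoint R')) hab
      simp only [Scheme.Hom.comp_apply] at this
      rwa [hcl] at this
    obtain ⟨W', hW', hxW', -⟩ := exists_isAffineOpen_mem_and_subset
      (show l₁.base (closedPoint V₁) ∈ (⊤ : X.Opens) from trivial)
    exact eq_of_comp_eq_of_isAffineOpen hW' ι hιinj l₁ l₁' hxW' (hpt ▸ hxW') hab
  · -- existence
    intro V hV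
    obtain ⟨y, hy, hyS₀⟩ := exists_structure_morphism f hS₀ (h.base u) hξ V hV
    obtain ⟨R', hmem, hloc⟩ := IsLocalRing.exists_factor_valuationRing (ψ.hom.comp V.subtype)
    let ι : V →+* R' := (ψ.hom.comp V.subtype).codRestrict R'.toSubring hmem
    haveI : IsLocalHom ι := hloc
    have hιc : CommRingCat.ofHom ι ≫ CommRingCat.ofHom R'.subtype =
        CommRingCat.ofHom V.subtype ≫ ψ := rfl
    have hc : CommSq (U.fromSpecResidueField u ≫ h)
        (Spec.map (CommRingCat.ofHom (algebraMap R' (U.residueField u)))) f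
        (Spec.map (CommRingCat.ofHom ι) ≫ y) := by
      refine ⟨?_⟩
      calc (U.fromSpecResidueField u ≫ h) ≫ f
          = (Spec.map ψ ≫ X.fromSpecResidueField (h.base u)) ≫ f := by rw [hres]
        _ = Spec.map ψ ≫ Spec.map (CommRingCat.ofHom V.subtype) ≫ y := by
            rw [Category.assoc, ← hy]
            first | done | rfl
        _ = Spec.map (CommRingCat.ofHom ι ≫ CommRingCat.ofHom R'.subtype) ≫ y := by
            rw [hιc, Spec.map_comp, Category.assoc]
            first | done | rfl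
        _ = Spec.map (CommRingCat.ofHom R'.subtype) ≫ Spec.map (CommRingCat.ofHom ι) ≫ y := by
            rw [Spec.map_comp, Category.assoc]
    let sq' : ValuativeCommSq f := { R := R', K := U.residueField u, commSq := hc, .. }
    obtain ⟨huniq⟩ := H sq' ⟨U.fromSpecResidueField u, rfl⟩
    let l' : sq'.commSq.LiftStruct := huniq.default
    have hl' : Spec.map (CommRingCat.ofHom R'.subtype) ≫ l'.l =
        Spec.map ψ ≫ X.fromSpecResidueField (h.base u) := l'.fac_left.trans hres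
    have hX₀ : l'.l.base (closedPoint R') ∈ f ⁻¹ᵁ S₀ := by
      change (l'.l ≫ f).base (closedPoint R') ∈ S₀
      rw [l'.fac_right]
      exact hyS₀ _
    exact hasCenterIn_of_extension ψ V R' hmem hloc l'.l hl' (f ⁻¹ᵁ S₀) hX₀

end Groth.Agent.Lib.Helper41.ValCenter
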