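import Mathlib.RingTheory.Valuation.ValuationSubring
import Mathlib.RingTheory.Valuation.LocalSubring
import Mathlib.RingTheory.Ideal.Prime
import Groth.Agent.Lib.Helper41.CompVal

/-!
# A finitary spreading-out lemma for centres of valuation rings

`exists_localization_of_forall`: let `ρ : C → K` be a ring map to a field, `𝔭` a prime of `C` and
`G j` finitely many finite subsets of `K`.  If every valuation subring of `K` containing the image
of the localization `C_𝔭` contains one of the `G j`, then the same holds for every valuation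
subring containing the image of `C[1/t]`, for a suitable `t ∉ 𝔭`.
-/

set_option autoImplicit false

namespace Groth.Agent.Lib.Helper41.ValSpread

open IsLocalRing

section CompVal

variable {K : Type*} [Field K] (V₁ : ValuationSubring K) (W : ValuationSubring (ResidueField V₁))

theorem valuation_comp_lt_one_iff {x : K} (h : x ∈ V₁) :
    (CompVal.comp V₁ W).valuation x < 1 ↔ W.valuation (residue V₁ ⟨x, h⟩) < 1 := by
  refine ⟨fun hx => CompVal.valuation_residue_lt_one V₁ W hx h, fun hx => ?_⟩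
  have hmem : x ∈ CompVal.comp V₁ W :=
    (CompVal.mem_comp_iff V₁ W).mpr ⟨h, (W.valuation_le_one_iff _).mp hx.le⟩
  by_contra hge
  have h1 : (CompVal.comp V₁ W).valuation x = 1 :=
    le_antisymm (((CompVal.comp V₁ W).valuation_le_one_iff x).mpr hmem) (not_lt.mp hge)
  have hx0 : x ≠ 0 := by
    rintro rfl
    rw [map_zero] at h1
    exact zero_ne_one h1
  have hinv : x⁻¹ ∈ CompVal.comp V₁ W := by
    rw [← (CompVal.comp V₁ W).valuation_le_one_iff, map_inv₀, h1, inv_one]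
  obtain ⟨h', hr'⟩ := (CompVal.mem_comp_iff V₁ W).mp hinv
  have h2 : residue V₁ ⟨x, h⟩ * residue V₁ ⟨x⁻¹, h'⟩ = 1 := by
    rw [← map_mul]
    have : (⟨x, h⟩ : V₁) * ⟨x⁻¹, h'⟩ = 1 := Subtype.ext (mul_inv_cancel₀ hx0)
    rw [this, map_one]
  have h3 : W.valuation (residue V₁ ⟨x, h⟩) * W.valuation (residue V₁ ⟨x⁻¹, h'⟩) = 1 := by
    rw [← map_mul, h2, map_one]
  have h4 : W.valuation (residue V₁ ⟨x⁻¹, h'⟩) ≤ 1 := (W.valuation_le_one_iff _).mpr hr'
  have h5 : W.valuation (residue V₁ ⟨x, h⟩) * W.valuation (residue V₁ ⟨x⁻¹, h'⟩) < 1 := by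
    calc _ ≤ W.valuation (residue V₁ ⟨x, h⟩) * 1 := mul_le_mul_right h4 _
      _ = W.valuation (residue V₁ ⟨x, h⟩) := mul_one _
      _ < 1 := hx
  exact (ne_of_lt h5) h3

end CompVal


section Spread

variable {K : Type*} [Field K] {C : Type*} [CommRing C] (ρ : C →+* K) (𝔭 : Ideal C) [𝔭.IsPrime]
variable {J : Type*} (β : J → K)

/-- The subring generated by the image of `C`, the inverse of `ρ t` and the `β j`. -/
def genSubring (t : C) : Subring K :=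
  Subring.closure (Set.range ρ ∪ {(ρ t)⁻¹} ∪ Set.range β)

/-- The subring generated by the image of `C`, the inverses of the `ρ s`, `s ∉ 𝔭`, and the
`β j`. -/
def locSubring : Subring K :=
  Subring.closure (Set.range ρ ∪ {z | ∃ s, s ∉ 𝔭 ∧ z = (ρ s)⁻¹} ∪ Set.range β)

omit [𝔭.IsPrime] in
theorem genSubring_le_mul (hρ : ∀ s, s ∉ 𝔭 → ρ s ≠ 0) {t t' : C} (ht' : t' ∉ 𝔭) :
    genSubring ρ β t ≤ genSubring ρ β (t * t') := by
  rw [genSubring, Subring.closure_le]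
  rintro z ((⟨c, rfl⟩ | hz) | ⟨j, rfl⟩)
  · exact Subring.subset_closure (Or.inl (Or.inl ⟨c, rfl⟩))
  · rw [Set.mem_singleton_iff] at hz
    have h1 : z = (ρ (t * t'))⁻¹ * ρ t' := by
      rw [hz, map_mul, mul_inv, mul_assoc, inv_mul_cancel₀ (hρ t' ht'), mul_one]
    rw [h1]
    exact mul_mem (Subring.subset_closure (Or.inl (Or.inr rfl)))
      (Subring.subset_closure (Or.inl (Or.inl ⟨t', rfl⟩)))
  · exact Subring.subset_closure (Or.inr ⟨j, rfl⟩)

omit [𝔭.IsPrime] in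
theorem genSubring_le_mul' (hρ : ∀ s, s ∉ 𝔭 → ρ s ≠ 0) {t t' : C} (ht : t ∉ 𝔭) :
    genSubring ρ β t' ≤ genSubring ρ β (t * t') := by
  rw [mul_comm]
  exact genSubring_le_mul ρ 𝔭 β hρ ht

theorem exists_mem_genSubring (hρ : ∀ s, s ∉ 𝔭 → ρ s ≠ 0) {d : K}
    (hd : d ∈ locSubring ρ 𝔭 β) : ∃ t, t ∉ 𝔭 ∧ d ∈ genSubring ρ β t := by
  have h1 : (1 : C) ∉ 𝔭 := (Ideal.ne_top_iff_one 𝔭).mp (Ideal.IsPrime.ne_top ‹_›)
  have hmul : ∀ {a b : C}, a ∉ 𝔭 → b ∉ 𝔭 → a * b ∉ 𝔭 := fun ha hb h =>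
    (Ideal.IsPrime.mem_or_mem ‹_› h).elim ha hb
  induction hd using Subring.closure_induction with
  | mem x hx =>
    rcases hx with (⟨c, rfl⟩ | ⟨s, hs, rfl⟩) | ⟨j, rfl⟩
    · exact ⟨1, h1, Subring.subset_closure (Or.inl (Or.inl ⟨c, rfl⟩))⟩
    · exact ⟨s, hs, Subring.subset_closure (Or.inl (Or.inr rfl))⟩
    · exact ⟨1, h1, Subring.subset_closure (Or.inr ⟨j, rfl⟩)⟩
  | zero => exact ⟨1, h1, zero_mem _⟩
  | one => exact ⟨1, h1, one_mem _⟩
  | add x y _ _ hx hy =>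
    obtain ⟨t₁, ht₁, hx⟩ := hx
    obtain ⟨t₂, ht₂, hy⟩ := hy
    exact ⟨t₁ * t₂, hmul ht₁ ht₂, add_mem (genSubring_le_mul ρ 𝔭 β hρ ht₂ hx)
      (genSubring_le_mul' ρ 𝔭 β hρ ht₁ hy)⟩
  | neg x _ hx =>
    obtain ⟨t₁, ht₁, hx⟩ := hx
    exact ⟨t₁, ht₁, neg_mem hx⟩
  | mul x y _ _ hx hy =>
    obtain ⟨t₁, ht₁, hx⟩ := hx
    obtain ⟨t₂, ht₂, hy⟩ := hy
    exact ⟨t₁ * t₂, hmul ht₁ ht₂, mul_mem (genSubring_le_mul ρ 𝔭 β hρ ht₂ hx)
      (genSubring_le_mul' ρ 𝔭 β hρ ht₁ hy)⟩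

theorem prod_notMem {ι : Type*} (s : Finset ι) (T : ι → C) (hT : ∀ i ∈ s, T i ∉ 𝔭) :
    ∏ i ∈ s, T i ∉ 𝔭 := by
  classical
  induction s using Finset.induction_on with
  | empty =>
    rw [Finset.prod_empty]
    exact (Ideal.ne_top_iff_one 𝔭).mp (Ideal.IsPrime.ne_top ‹_›)
  | insert a s ha ih =>
    rw [Finset.prod_insert ha]
    intro h
    rcases Ideal.IsPrime.mem_or_mem ‹_› h with h | h
    · exact hT a (Finset.mem_insert_self a s) h
    · exact ih (fun i hi => hT i (Finset.mem_insert_of_mem hi)) h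

theorem genSubring_le_prod (hρ : ∀ s, s ∉ 𝔭 → ρ s ≠ 0) {ι : Type*} [DecidableEq ι]
    (s : Finset ι) (T : ι → C) (hT : ∀ i ∈ s, T i ∉ 𝔭) {i : ι} (hi : i ∈ s) :
    genSubring ρ β (T i) ≤ genSubring ρ β (∏ i ∈ s, T i) := by
  rw [← Finset.mul_prod_erase s T hi]
  exact genSubring_le_mul ρ 𝔭 β hρ
    (prod_notMem 𝔭 _ T (fun k hk => hT k (Finset.mem_of_mem_erase hk)))

theorem inv_mem_of_prod (hρ : ∀ s, s ∉ 𝔭 → ρ s ≠ 0) {ι : Type*} [DecidableEq ι]
    (s : Finset ι) (T : ι → C) (hT : ∀ i ∈ s, T i ∉ 𝔭) {i : ι} (hi : i ∈ s)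
    (V : ValuationSubring K) (hV : ∀ c, ρ c ∈ V) (h : (ρ (∏ i ∈ s, T i))⁻¹ ∈ V) :
    (ρ (T i))⁻¹ ∈ V := by
  have h1 : (ρ (T i))⁻¹ = (ρ (∏ i ∈ s, T i))⁻¹ * ρ (∏ k ∈ s.erase i, T k) := by
    rw [← Finset.mul_prod_erase s T hi, map_mul, mul_inv, mul_assoc, inv_mul_cancel₀, mul_one]
    exact hρ _ (prod_notMem 𝔭 _ T (fun k hk => hT k (Finset.mem_of_mem_erase hk)))
  rw [h1]
  exact V.mul_mem _ _ h (hV _)


/-- Key claim for a single choice of elements `i j ∈ K`. -/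
theorem exists_notMem_of_choice (hρ : ∀ s, s ∉ 𝔭 → ρ s ≠ 0) [Finite J] (i : J → K)
    (H : ∀ V : ValuationSubring K, (∀ c, ρ c ∈ V) → (∀ s, s ∉ 𝔭 → (ρ s)⁻¹ ∈ V) →
      ∃ j, i j ∈ V) :
    ∃ t, t ∉ 𝔭 ∧ ∀ V : ValuationSubring K, (∀ c, ρ c ∈ V) → (ρ t)⁻¹ ∈ V → ∃ j, i j ∈ V := by
  classical
  cases nonempty_fintype J
  have h1 : (1 : C) ∉ 𝔭 := (Ideal.ne_top_iff_one 𝔭).mp (Ideal.IsPrime.ne_top ‹_›)
  by_cases h0 : ∃ j, i j = 0
  · obtain ⟨j, hj⟩ := h0
    exact ⟨1, h1, fun V _ _ => ⟨j, hj ▸ V.zero_mem⟩⟩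
  push Not at h0
  let β : J → K := fun j => (i j)⁻¹
  let D : Subring K := locSubring ρ 𝔭 β
  let βD : J → D := fun j => ⟨β j, Subring.subset_closure (Or.inr ⟨j, rfl⟩)⟩
  let I : Ideal D := Ideal.span (Set.range βD)
  by_cases hI : I = ⊤
  · have h1I : (1 : D) ∈ I := by rw [hI]; trivial
    obtain ⟨d, hd⟩ := Ideal.mem_span_range_iff_exists_fun.mp h1I
    have hdK : ∑ j, (d j : K) * β j = 1 := by
      have := congrArg (fun z : D => (z : K)) hd
      simpa using this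
    have hex : ∀ j, ∃ t, t ∉ 𝔭 ∧ (d j : K) ∈ genSubring ρ β t := fun j =>
      exists_mem_genSubring ρ 𝔭 β hρ (d j).2
    choose T hT hdT using hex
    refine ⟨∏ j, T j, prod_notMem 𝔭 _ T (fun j _ => hT j), fun V hV hinv => ?_⟩
    by_contra hno
    push Not at hno
    have hβV : ∀ j, V.valuation (β j) < 1 := by
      intro j
      have h2 : ¬ V.valuation (i j) ≤ 1 := fun h => hno j ((V.valuation_le_one_iff _).mp h)
      rw [not_le] at h2
      change V.valuation ((i j)⁻¹) < 1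
      rw [map_inv₀]
      exact inv_lt_one_of_one_lt₀ h2
    have hle : genSubring ρ β (∏ j, T j) ≤ V.toSubring := by
      rw [genSubring, Subring.closure_le]
      rintro z ((⟨c, rfl⟩ | hz) | ⟨j, rfl⟩)
      · exact hV c
      · rw [Set.mem_singleton_iff] at hz
        rw [hz]
        exact hinv
      · exact (V.valuation_le_one_iff _).mp (hβV j).le
    have hdV : ∀ j, V.valuation (d j : K) ≤ 1 := fun j =>
      (V.valuation_le_one_iff _).mpr
        (hle (genSubring_le_prod ρ 𝔭 β hρ Finset.univ T (fun j _ => hT j) (Finset.mem_univ j)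
          (hdT j)))
    have hlt : V.valuation (∑ j, (d j : K) * β j) < 1 := by
      refine V.valuation.map_sum_lt one_ne_zero (fun j _ => ?_)
      rw [map_mul]
      calc V.valuation (d j : K) * V.valuation (β j) ≤ 1 * V.valuation (β j) :=
            mul_le_mul_left (hdV j) _
        _ = V.valuation (β j) := one_mul _
        _ < 1 := hβV j
    rw [hdK, map_one] at hlt
    exact lt_irrefl _ hlt
  · exfalso
    obtain ⟨V, hDV, hnu⟩ := Ideal.image_subset_nonunits_valuationSubring I hI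
    obtain ⟨j, hj⟩ := H V (fun c => hDV (Subring.subset_closure (Or.inl (Or.inl ⟨c, rfl⟩))))
      (fun s hs => hDV (Subring.subset_closure (Or.inl (Or.inr ⟨s, hs, rfl⟩))))
    have h2 : β j ∈ V.nonunits := hnu ⟨βD j, Ideal.subset_span ⟨j, rfl⟩, rfl⟩
    rw [ValuationSubring.mem_nonunits_iff] at h2
    change V.valuation ((i j)⁻¹) < 1 at h2
    rw [map_inv₀] at h2
    have h3 : V.valuation (i j) ≤ 1 := (V.valuation_le_one_iff _).mpr hj
    have h4 : V.valuation (i j) ≠ 0 := by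
      rw [ne_eq, map_eq_zero]; exact h0 j
    have h5 : 1 ≤ (V.valuation (i j))⁻¹ := (one_le_inv₀ (zero_lt_iff.mpr h4)).mpr h3
    exact absurd h2 (not_lt.mpr h5)

/-- Finitary spreading out: if every valuation subring over the localization `C_𝔭` contains one
of the finite sets `G j`, the same holds over `C[1/t]` for some `t ∉ 𝔭`. -/
theorem exists_localization_of_forall (hρ : ∀ s, s ∉ 𝔭 → ρ s ≠ 0) [Finite J] (G : J → Finset K)
    (H : ∀ V : ValuationSubring K, (∀ c, ρ c ∈ V) → (∀ s, s ∉ 𝔭 → (ρ s)⁻¹ ∈ V) →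
      ∃ j, ∀ g ∈ G j, g ∈ V) :
    ∃ t, t ∉ 𝔭 ∧ ∀ V : ValuationSubring K, (∀ c, ρ c ∈ V) → (ρ t)⁻¹ ∈ V →
      ∃ j, ∀ g ∈ G j, g ∈ V := by
  classical
  cases nonempty_fintype J
  have hex : ∀ i : (∀ j : J, {g : K // g ∈ G j}), ∃ t, t ∉ 𝔭 ∧
      ∀ V : ValuationSubring K, (∀ c, ρ c ∈ V) → (ρ t)⁻¹ ∈ V → ∃ j, ((i j : K)) ∈ V := by
    intro i
    refine exists_notMem_of_choice ρ 𝔭 hρ (fun j => (i j : K)) (fun V hV hinv => ?_)
    obtain ⟨j, hj⟩ := H V hV hinv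
    exact ⟨j, hj _ (i j).2⟩
  choose T hT hTV using hex
  refine ⟨∏ i, T i, prod_notMem 𝔭 _ T (fun i _ => hT i), fun V hV hinv => ?_⟩
  by_contra hno
  push Not at hno
  choose g hgG hgV using hno
  let i : ∀ j : J, {g : K // g ∈ G j} := fun j => ⟨g j, hgG j⟩
  have hinv' : (ρ (T i))⁻¹ ∈ V :=
    inv_mem_of_prod ρ 𝔭 hρ Finset.univ T (fun k _ => hT k) (Finset.mem_univ i) V hV hinv
  obtain ⟨j, hj⟩ := hTV i V hV hinv'
  exact hgV j hj

end Spread

end Groth.Agent.Lib.Helper41.ValSpread
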