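import Groth.Agent.Lib.Helper41.ValCenterExt
import Groth.Agent.Lib.Helper41.ValSpread
import Mathlib.AlgebraicGeometry.Morphisms.Proper

/-!
# Centres of valuation rings: properness over an affine open of the base
-/

set_option autoImplicit false
universe u

open CategoryTheory CategoryTheory.Limits AlgebraicGeometry IsLocalRing

namespace Groth.Agent.Lib.Helper41.ValCenter

variable {X S : Scheme.{u}}

/-- The stalk data of a centre, at the image of the closed point. -/
theorem stalk_of_lift {ξ : X} {V : ValuationSubring (X.residueField ξ)}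
    (l : Spec (CommRingCat.of V) ⟶ X)
    (hl : Spec.map (CommRingCat.ofHom V.subtype) ≫ l = X.fromSpecResidueField ξ) :
    ∃ (hx : ξ ⤳ l.base (closedPoint V)),
      (∀ a, (X.presheaf.stalkSpecializes hx ≫ X.residue ξ) a ∈ V) ∧
      (∀ a ∈ maximalIdeal (X.presheaf.stalk (l.base (closedPoint V))),
        V.valuation ((X.presheaf.stalkSpecializes hx ≫ X.residue ξ) a) < 1) := by
  set x := l.base (closedPoint V) with hxdef
  have hξl : ξ = l.base ((Spec.map (CommRingCat.ofHom V.subtype)).base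
      (closedPoint (X.residueField ξ))) := by
    have := congrArg (fun q => q.base (closedPoint (X.residueField ξ))) hl
    exact (this.trans (Scheme.fromSpecResidueField_apply ξ _)).symm
  have hx : ξ ⤳ x := by
    rw [hξl]
    exact (IsLocalRing.specializes_closedPoint _).map l.continuous
  let σ : X.presheaf.stalk x ⟶ CommRingCat.of V := Scheme.stalkClosedPointTo l
  have hσ : Spec.map σ ≫ X.fromSpecStalk x = l := Scheme.Spec_stalkClosedPointTo_fromSpecStalk l
  have hring : σ ≫ CommRingCat.ofHom V.subtype = X.presheaf.stalkSpecializes hx ≫ X.residue ξ := by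
    apply Spec.map_injective
    apply (cancel_mono (X.fromSpecStalk x)).1
    rw [Spec.map_comp, Category.assoc, hσ, hl, Spec.map_comp, Category.assoc,
      Scheme.SpecMap_stalkSpecializes_fromSpecStalk, Scheme.fromSpecResidueField]
  refine ⟨hx, fun a => ?_, fun a ha => ?_⟩
  · rw [← hring]
    exact (σ.hom a).2
  · rw [← hring]
    have hloc : IsLocalHom σ.hom := inferInstanceAs (IsLocalHom (Scheme.stalkClosedPointTo l).hom)
    have h1 : σ.hom a ∈ maximalIdeal V := by
      rw [mem_maximalIdeal, mem_nonunits_iff] at ha ⊢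
      exact fun hu => ha (hloc.map_nonunit a hu)
    exact (V.valuation_lt_one_iff _).mp h1

/-- Lifts in valuative squares over an affine open `S₀` of the base, given centres of all valuation
rings over `S₀` at suitable generizations. -/
theorem hasLift_of_hasCenterIn (f : X ⟶ S) [IsSeparated f] {S₀ : S.Opens}
    (hS₀ : IsAffineOpen S₀)
    (Hc : ∀ (x₁ : X) (hx₁ : x₁ ∈ f ⁻¹ᵁ S₀), ∃ (ξ : X) (hsp : ξ ⤳ x₁),
      ∀ V : ValuationSubring (X.residueField ξ),
        (∀ c, baseEval f S₀ ξ (hsp.mem_open (f ⁻¹ᵁ S₀).2 hx₁) c ∈ V) →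
          HasCenterIn (f ⁻¹ᵁ S₀) ξ V)
    (Sq : ValuativeCommSq f) (hs₀ : Sq.i₂.base (closedPoint Sq.R) ∈ S₀) : Sq.commSq.HasLift := by
  let R := Sq.R
  let K := Sq.K
  set x₁ : X := Sq.i₁.base (closedPoint K) with hx₁def
  let φ : X.residueField x₁ ⟶ CommRingCat.of K :=
    Scheme.descResidueField (Scheme.stalkClosedPointTo Sq.i₁)
  have hφ : Spec.map φ ≫ X.fromSpecResidueField x₁ = Sq.i₁ :=
    Scheme.descResidueField_stalkClosedPointTo_fromSpecResidueField K X Sq.i₁
  have hw := Sq.commSq.w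
  have hx₁ : x₁ ∈ f ⁻¹ᵁ S₀ := by
    change (Sq.i₁ ≫ f).base (closedPoint K) ∈ S₀
    rw [hw, Scheme.Hom.comp_apply]
    exact ((IsLocalRing.specializes_closedPoint _).map Sq.i₂.continuous).mem_open S₀.2 hs₀
  have hrange : Set.range Sq.i₂.base ⊆ Set.range hS₀.fromSpec.base := by
    rintro _ ⟨p, rfl⟩
    rw [hS₀.range_fromSpec]
    exact ((IsLocalRing.specializes_closedPoint p).map Sq.i₂.continuous).mem_open S₀.2 hs₀
  let i₂' := IsOpenImmersion.lift hS₀.fromSpec Sq.i₂ hrange
  have hi₂' : i₂' ≫ hS₀.fromSpec = Sq.i₂ := IsOpenImmersion.lift_fac _ _ _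
  let τ : Γ(S, S₀) ⟶ CommRingCat.of R := Spec.preimage i₂'
  have hτ : Spec.map τ ≫ hS₀.fromSpec = Sq.i₂ := by rw [Spec.map_preimage, hi₂']
  have hτφ : baseEval f S₀ x₁ hx₁ ≫ φ = τ ≫ CommRingCat.ofHom (algebraMap R K) := by
    apply Spec.map_injective
    apply (cancel_mono hS₀.fromSpec).1
    rw [Spec.map_comp, Category.assoc, SpecMap_baseEval_fromSpec f hS₀ x₁ hx₁, ← Category.assoc,
      hφ, hw, Spec.map_comp, Category.assoc, hτ]
  let RK : ValuationSubring K := (ValuationRing.valuation R K).valuationSubring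
  have hRK : ∀ z : K, z ∈ RK ↔ ∃ r : R, algebraMap R K r = z := fun z =>
    ValuationRing.mem_integer_iff R K z
  let W : ValuationSubring (X.residueField x₁) := RK.comap φ.hom
  have hW : ∀ c, baseEval f S₀ x₁ hx₁ c ∈ W := by
    intro c
    change φ.hom (baseEval f S₀ x₁ hx₁ c) ∈ RK
    rw [hRK]
    exact ⟨τ.hom c, (congr($hτφ c)).symm⟩
  obtain ⟨ξ, hsp, Hξ⟩ := Hc x₁ hx₁
  have hcen : HasCenterIn (f ⁻¹ᵁ S₀) x₁ W :=
    hasCenterIn_of_specializes f hS₀ hsp hx₁ Hξ W hW
  obtain ⟨lW, hlW, hlWcl⟩ := hcen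
  have hWint : ∀ w : W, (φ.hom.comp W.subtype) w ∈ (ValuationRing.valuation R K).integer :=
    fun w => w.2
  let ω : W →+* R := (ValuationRing.equivInteger R K).symm.toRingHom.comp
    ((φ.hom.comp W.subtype).codRestrict (ValuationRing.valuation R K).integer hWint)
  have hω : ∀ w : W, algebraMap R K (ω w) = φ.hom (w : X.residueField x₁) := by
    intro w
    have h1 : ValuationRing.equivInteger R K (ω w) =
        ((φ.hom.comp W.subtype).codRestrict (ValuationRing.valuation R K).integer hWint) w :=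
      (ValuationRing.equivInteger R K).apply_symm_apply _
    exact congrArg Subtype.val h1
  have hωc : CommRingCat.ofHom ω ≫ CommRingCat.ofHom (algebraMap R K) =
      CommRingCat.ofHom W.subtype ≫ φ := by
    ext w
    exact hω w
  let l : Spec (CommRingCat.of R) ⟶ X := Spec.map (CommRingCat.ofHom ω) ≫ lW
  have hfac₁ : Spec.map (CommRingCat.ofHom (algebraMap R K)) ≫ l = Sq.i₁ := by
    change _ ≫ Spec.map _ ≫ lW = _
    rw [← Category.assoc, ← Spec.map_comp, hωc, Spec.map_comp, Category.assoc, hlW, hφ]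
  have hfac₂ : l ≫ f = Sq.i₂ := by
    refine eq_of_comp_eq_of_isAffineOpen hS₀ (algebraMap R K) (IsFractionRing.injective R K)
      _ _ ?_ hs₀ ?_
    · change (Spec.map (CommRingCat.ofHom ω) ≫ lW).base (closedPoint R) ∈ f ⁻¹ᵁ S₀
      rw [Scheme.Hom.comp_apply]
      exact ((IsLocalRing.specializes_closedPoint _).map lW.continuous).mem_open
        (f ⁻¹ᵁ S₀).2 hlWcl
    · have e1 := congrArg (· ≫ f) hfac₁
      simp only [Category.assoc] at e1
      rw [e1, hw]
  exact ⟨⟨{ l := l, fac_left := hfac₁, fac_right := hfac₂ }⟩⟩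

/-- Existence part of the valuative criterion for a restriction `f ∣_ U`, from lifts for the squares
of `f` lying over `U`. -/
theorem existence_morphismRestrict (f : X ⟶ S) (U : S.Opens)
    (H : ∀ Sq : ValuativeCommSq f, Sq.i₂.base (closedPoint Sq.R) ∈ U → Sq.commSq.HasLift) :
    ValuativeCriterion.Existence (f ∣_ U) := by
  intro Sq'
  have hc : CommSq (Sq'.i₁ ≫ (f ⁻¹ᵁ U).ι)
      (Spec.map (CommRingCat.ofHom (algebraMap Sq'.R Sq'.K))) f (Sq'.i₂ ≫ U.ι) := by
    refine ⟨?_⟩
    rw [Category.assoc, ← morphismRestrict_ι, ← Category.assoc, Sq'.commSq.w, Category.assoc]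
  let Sq : ValuativeCommSq f := { R := Sq'.R, K := Sq'.K, commSq := hc, .. }
  obtain ⟨⟨l⟩⟩ := H Sq (by
    change (Sq'.i₂ ≫ U.ι).base (closedPoint Sq'.R) ∈ U
    rw [Scheme.Hom.comp_apply]
    exact (Sq'.i₂.base (closedPoint Sq'.R)).2)
  have hpb := isPullback_morphismRestrict f U
  refine ⟨⟨{ l := hpb.lift Sq'.i₂ l.l l.fac_right.symm, fac_left := ?_, fac_right := ?_ }⟩⟩
  · apply hpb.hom_ext
    · rw [Category.assoc, hpb.lift_fst, Sq'.commSq.w]
    · rw [Category.assoc, hpb.lift_snd]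
      exact l.fac_left
  · exact hpb.lift_fst _ _ _

theorem isProper_morphismRestrict_of_hasCenterIn (f : X ⟶ S) [IsSeparated f]
    [LocallyOfFiniteType f] [QuasiCompact f] {S₀ : S.Opens} (hS₀ : IsAffineOpen S₀)
    (Hc : ∀ (x₁ : X) (hx₁ : x₁ ∈ f ⁻¹ᵁ S₀), ∃ (ξ : X) (hsp : ξ ⤳ x₁),
      ∀ V : ValuationSubring (X.residueField ξ),
        (∀ c, baseEval f S₀ ξ (hsp.mem_open (f ⁻¹ᵁ S₀).2 hx₁) c ∈ V) →
          HasCenterIn (f ⁻¹ᵁ S₀) ξ V) : IsProper (f ∣_ S₀) := by
  haveI : UniversallyClosed (f ∣_ S₀) :=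
    UniversallyClosed.of_valuativeCriterion (f ∣_ S₀)
      (existence_morphismRestrict f S₀ (fun Sq hs₀ => hasLift_of_hasCenterIn f hS₀ Hc Sq hs₀))
  exact {}

end Groth.Agent.Lib.Helper41.ValCenter
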