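import Groth.Agent.Lib.Helper41.ValCenterPoint
import Mathlib.Topology.NoetherianSpace

/-!
# Centres of valuation rings: properness over a neighbourhood of a point of the base

If discrete valuation rings of the residue fields of the maximal points of `X`, centred at a point
`y` of the base, have centres on `X`, then `f` is proper over a neighbourhood of `y`.
-/

set_option autoImplicit false
universe u

open CategoryTheory CategoryTheory.Limits AlgebraicGeometry IsLocalRing TopologicalSpace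

namespace Groth.Agent.Lib.Helper41.ValCenter

/-- In a Noetherian sober space there are finitely many maximal points, and every point is a
specialization of one of them. -/
theorem exists_finite_maximal_points (T : Type*) [TopologicalSpace T] [NoetherianSpace T]
    [QuasiSober T] [T0Space T] :
    ∃ Ξ : Set T, Ξ.Finite ∧ (∀ ξ ∈ Ξ, ∀ z, z ⤳ ξ → z = ξ) ∧ ∀ x, ∃ ξ ∈ Ξ, ξ ⤳ x := by
  have hfin : (irreducibleComponents T).Finite := NoetherianSpace.finite_irreducibleComponents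
  have hex : ∀ C, C ∈ irreducibleComponents T → ∃ ξ, IsGenericPoint ξ C := fun C hC =>
    QuasiSober.sober hC.1 (isClosed_of_mem_irreducibleComponents C hC)
  choose gp hgp using hex
  haveI : Finite ↥(irreducibleComponents T) := hfin.to_subtype
  refine ⟨Set.range (fun C : irreducibleComponents T => gp C.1 C.2), Set.finite_range _, ?_, ?_⟩
  · rintro _ ⟨⟨C, hC⟩, rfl⟩ z hz
    have h1 : C ≤ closure {z} := by
      rw [← (hgp C hC).def]
      exact closure_minimal (Set.singleton_subset_iff.mpr hz.mem_closure) isClosed_closure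
    have h2 : closure {z} ≤ C := hC.2 isIrreducible_singleton.closure h1
    have h3 : IsGenericPoint z C := (le_antisymm h2 h1 : closure {z} = C)
    exact h3.eq (hgp C hC)
  · intro x
    refine ⟨_, ⟨⟨_, irreducibleComponent_mem_irreducibleComponents x⟩, rfl⟩, ?_⟩
    rw [specializes_iff_mem_closure,
      (hgp _ (irreducibleComponent_mem_irreducibleComponents x)).def]
    exact mem_irreducibleComponent

variable {X S : Scheme.{u}}

/-- A centre above an affine open `U'` of a valuation ring over a smaller affine open `U` lies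
above `U`. -/
theorem HasCenterIn.of_le (f : X ⟶ S) {U U' : S.Opens} (hU : IsAffineOpen U)
    (hU' : IsAffineOpen U') (hUU' : U ≤ U') {ξ : X} (hξ : ξ ∈ f ⁻¹ᵁ U)
    {V : ValuationSubring (X.residueField ξ)} (hV : ∀ c, baseEval f U ξ hξ c ∈ V)
    (h : HasCenterIn (f ⁻¹ᵁ U') ξ V) : HasCenterIn (f ⁻¹ᵁ U) ξ V := by
  obtain ⟨l, hl, hlU'⟩ := h
  obtain ⟨b, hb, hbU⟩ := exists_structure_morphism f hU ξ hξ V hV
  have hab : l ≫ f = b :=
    eq_of_comp_eq_of_isAffineOpen hU' V.subtype Subtype.val_injective (l ≫ f) b hlU'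
      (hUU' (hbU _)) (by rw [← Category.assoc, hl, hb])
  refine ⟨l, hl, ?_⟩
  change (l ≫ f).base _ ∈ U
  rw [hab]
  exact hbU _

theorem basicOpen_le_of_dvd {U : S.Opens} {a b : Γ(S, U)} (h : a ∣ b) :
    S.basicOpen b ≤ S.basicOpen a := by
  obtain ⟨c, rfl⟩ := h
  rw [Scheme.basicOpen_mul]
  exact inf_le_left

theorem mem_basicOpen_prod {U : S.Opens} {ι : Type*} (s : Finset ι) (t : ι → Γ(S, U)) (y : S)
    (hyU : y ∈ U) (h : ∀ i ∈ s, y ∈ S.basicOpen (t i)) : y ∈ S.basicOpen (∏ i ∈ s, t i) := by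
  rw [Scheme.mem_basicOpen _ _ y hyU, map_prod]
  have : ∀ i ∈ s, IsUnit ((S.presheaf.germ U y hyU).hom (t i)) := fun i hi =>
    (Scheme.mem_basicOpen _ _ y hyU).mp (h i hi)
  exact Finset.prod_induction _ IsUnit (fun _ _ ha hb => ha.mul hb) isUnit_one this

/-- If discrete valuation rings of `κ(ξ)` centred at `y` on the base have centres on `X`, then all
valuation rings of `κ(ξ)` over a suitable basic open neighbourhood of `y` have centres on `X`. -/
theorem exists_basicOpen_hasCenterIn_of_dvr [IsLocallyNoetherian S] (f : X ⟶ S)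
    [LocallyOfFiniteType f] [QuasiCompact f] {S₀ : S.Opens} (hS₀ : IsAffineOpen S₀) (y : S)
    (hy : y ∈ S₀) (ξ : X) (hξ : ξ ∈ f ⁻¹ᵁ S₀)
    (H : ∀ A : ValuationSubring (X.residueField ξ), IsDiscreteValuationRing A →
      ∀ g : Spec (CommRingCat.of A) ⟶ S, g.base (closedPoint A) = y →
        Spec.map (CommRingCat.ofHom A.subtype) ≫ g = X.fromSpecResidueField ξ ≫ f →
        ∃ l : Spec (CommRingCat.of A) ⟶ X, l ≫ f = g ∧
          Spec.map (CommRingCat.ofHom A.subtype) ≫ l = X.fromSpecResidueField ξ) :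
    ∃ t : Γ(S, S₀), y ∈ S.basicOpen t ∧
      ∀ (hξt : ξ ∈ f ⁻¹ᵁ (S.basicOpen t)) (V : ValuationSubring (X.residueField ξ)),
        (∀ c, baseEval f (S.basicOpen t) ξ hξt c ∈ V) →
          HasCenterIn (f ⁻¹ᵁ (S.basicOpen t)) ξ V := by
  by_cases hsp : f.base ξ ⤳ y
  · let 𝔭 : Ideal Γ(S, S₀) :=
      Ideal.comap (S.presheaf.germ S₀ y hy).hom (maximalIdeal (S.presheaf.stalk y))
    haveI : 𝔭.IsPrime := Ideal.comap_isPrime _ _
    let θ' : S.presheaf.stalk y ⟶ X.residueField ξ :=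
      Groth.Agent.Lib.Helper50.specResMap f ξ y hsp
    have hρθ : baseEval f S₀ ξ hξ = S.presheaf.germ S₀ y hy ≫ θ' :=
      baseEval_eq_germ_specResMap f S₀ ξ hξ y hy hsp
    have hρ0 : ∀ s, s ∉ 𝔭 → baseEval f S₀ ξ hξ s ≠ 0 := by
      intro s hs
      have h1 : IsUnit ((S.presheaf.germ S₀ y hy).hom s) := by
        by_contra hnu
        exact hs hnu
      rw [hρθ]
      exact (h1.map θ'.hom).ne_zero
    have H12 : ∀ V : ValuationSubring (X.residueField ξ), (∀ c, baseEval f S₀ ξ hξ c ∈ V) →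
        (∀ c, V.valuation (baseEval f S₀ ξ hξ c) < 1 ↔ c ∈ 𝔭) →
        HasCenterIn (f ⁻¹ᵁ S₀) ξ V := by
      intro V hV hVc
      refine hasCenterIn_of_forall_dvr f hS₀ ξ hξ V hV (fun A hA hAmem hAc => ?_)
      let ψ : Γ(S, S₀) ⟶ CommRingCat.of A :=
        CommRingCat.ofHom ((baseEval f S₀ ξ hξ).hom.codRestrict A.toSubring hAmem)
      let g : Spec (CommRingCat.of A) ⟶ S := Spec.map ψ ≫ hS₀.fromSpec
      have hgcl : g.base (closedPoint A) = y := by
        have h1 : (Spec.map ψ).base (closedPoint A) = hS₀.primeIdealOf ⟨y, hy⟩ := by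
          rw [hS₀.primeIdealOf_eq_map_closedPoint]
          apply PrimeSpectrum.ext
          ext c
          change ψ.hom c ∈ maximalIdeal A ↔ c ∈ 𝔭
          rw [← hVc c, ← hAc c]
          exact (A.valuation_lt_one_iff _)
        change hS₀.fromSpec.base ((Spec.map ψ).base (closedPoint A)) = y
        rw [h1]
        exact hS₀.fromSpec_primeIdealOf ⟨y, hy⟩
      have hgK : Spec.map (CommRingCat.ofHom A.subtype) ≫ g = X.fromSpecResidueField ξ ≫ f := by
        change _ ≫ Spec.map ψ ≫ hS₀.fromSpec = _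
        rw [← Category.assoc, ← Spec.map_comp, ← SpecMap_baseEval_fromSpec f hS₀ ξ hξ]
        rfl
      obtain ⟨l, hl₁, hl₂⟩ := H A hA g hgcl hgK
      refine ⟨l, hl₂, ?_⟩
      change (l ≫ f).base _ ∈ S₀
      rw [hl₁, hgcl]
      exact hy
    have H3 := hasCenterIn_of_localization f ξ hξ 𝔭 hρ0 H12
    obtain ⟨t, ht, Ht⟩ := exists_basicOpen_hasCenterIn f hS₀ ξ hξ 𝔭 hρ0 H3
    refine ⟨t, ?_, Ht⟩
    rw [Scheme.mem_basicOpen _ t y hy]
    by_contra hnu
    exact ht hnu
  · have hy' : y ∈ (closure {f.base ξ})ᶜ := fun h => hsp (specializes_iff_mem_closure.mpr h)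
    let W : S.Opens := ⟨(closure {f.base ξ})ᶜ, isClosed_closure.isOpen_compl⟩
    obtain ⟨t, htW, hyt⟩ := hS₀.exists_basicOpen_le (⟨y, hy'⟩ : W) hy
    exact ⟨t, hyt, fun hξt => absurd (subset_closure (Set.mem_singleton _)) (htW hξt)⟩

/-- **Properness near a point from discrete valuation rings.** Let `f : X ⟶ S` be separated of
finite type over a locally Noetherian base and `y` a point of `S`. Suppose that every discrete
valuation ring of the residue field of a maximal point `ξ` of `X`, equipped with a morphism to `S`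
sending its closed point to `y` and compatible with `f`, has a centre on `X`. Then `f` is proper
over an open neighbourhood of `y`. -/
theorem exists_isProper_nhd_of_dvr [IsLocallyNoetherian S] (f : X ⟶ S) [IsSeparated f]
    [LocallyOfFiniteType f] [QuasiCompact f] (y : S)
    (H : ∀ ξ : X, (∀ z : X, z ⤳ ξ → z = ξ) →
      ∀ A : ValuationSubring (X.residueField ξ), IsDiscreteValuationRing A →
      ∀ g : Spec (CommRingCat.of A) ⟶ S, g.base (closedPoint A) = y →
        Spec.map (CommRingCat.ofHom A.subtype) ≫ g = X.fromSpecResidueField ξ ≫ f →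
        ∃ l : Spec (CommRingCat.of A) ⟶ X, l ≫ f = g ∧
          Spec.map (CommRingCat.ofHom A.subtype) ≫ l = X.fromSpecResidueField ξ) :
    ∃ U : S.Opens, y ∈ U ∧ IsProper (f ∣_ U) := by
  classical
  obtain ⟨S₀, hS₀, hyS₀, -⟩ := exists_isAffineOpen_mem_and_subset
    (show y ∈ (⊤ : S.Opens) from trivial)
  haveI : IsLocallyNoetherian X := LocallyOfFiniteType.isLocallyNoetherian f
  let V₀ : X.Opens := f ⁻¹ᵁ S₀
  haveI : CompactSpace (V₀ : Scheme.{u}) :=
    isCompact_iff_compactSpace.mp (QuasiCompact.isCompact_preimage (f := f) _ S₀.2 hS₀.isCompact)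
  haveI : IsNoetherian (V₀ : Scheme.{u}) := {}
  obtain ⟨Ξ, hΞfin, hΞmax, hΞgen⟩ := exists_finite_maximal_points (V₀ : Scheme.{u})
  have key : ∀ ξ : (V₀ : Scheme.{u}), ξ ∈ Ξ → ∃ t : Γ(S, S₀), y ∈ S.basicOpen t ∧
      ∀ (hξt : ξ.1 ∈ f ⁻¹ᵁ (S.basicOpen t)) (V : ValuationSubring (X.residueField ξ.1)),
        (∀ c, baseEval f (S.basicOpen t) ξ.1 hξt c ∈ V) →
          HasCenterIn (f ⁻¹ᵁ (S.basicOpen t)) ξ.1 V := by
    intro ξ hξ
    refine exists_basicOpen_hasCenterIn_of_dvr f hS₀ y hyS₀ ξ.1 ξ.2 (H ξ.1 ?_)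
    intro z hz
    have hzV₀ : z ∈ V₀ := hz.mem_open V₀.2 ξ.2
    have h1 : (⟨z, hzV₀⟩ : (V₀ : Scheme.{u})) ⤳ ξ :=
      (V₀.ι.isOpenEmbedding.isInducing.specializes_iff).mp hz
    exact congrArg Subtype.val (hΞmax ξ hξ ⟨z, hzV₀⟩ h1)
  choose! t ht1 ht2 using key
  let T : Γ(S, S₀) := ∏ ξ ∈ hΞfin.toFinset, t ξ
  have hyT : y ∈ S.basicOpen T :=
    mem_basicOpen_prod _ _ y hyS₀ (fun ξ hξ => ht1 ξ (hΞfin.mem_toFinset.mp hξ))
  refine ⟨S.basicOpen T, hyT,
    isProper_morphismRestrict_of_hasCenterIn f (hS₀.basicOpen T) (fun x₁ hx₁ => ?_)⟩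
  have hx₁V₀ : x₁ ∈ V₀ := S.basicOpen_le T hx₁
  obtain ⟨ξ, hξΞ, hξx₁⟩ := hΞgen ⟨x₁, hx₁V₀⟩
  have hsp : ξ.1 ⤳ x₁ := hξx₁.map V₀.ι.continuous
  refine ⟨ξ.1, hsp, fun V hV => ?_⟩
  have hξT : ξ.1 ∈ f ⁻¹ᵁ (S.basicOpen T) := hsp.mem_open (f ⁻¹ᵁ _).2 hx₁
  have hTt : S.basicOpen T ≤ S.basicOpen (t ξ) :=
    basicOpen_le_of_dvd (Finset.dvd_prod_of_mem _ (hΞfin.mem_toFinset.mpr hξΞ))
  have hξt : ξ.1 ∈ f ⁻¹ᵁ (S.basicOpen (t ξ)) := hTt hξT
  have hV' : ∀ c, baseEval f (S.basicOpen (t ξ)) ξ.1 hξt c ∈ V := by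
    intro c
    have h1 := congr($(baseEval_res f hTt ξ.1 hξT) c)
    have h2 : baseEval f (S.basicOpen (t ξ)) ξ.1 hξt c =
        baseEval f (S.basicOpen T) ξ.1 hξT (S.presheaf.map (homOfLE hTt).op c) := h1.symm
    rw [h2]
    exact hV _
  exact HasCenterIn.of_le f (hS₀.basicOpen T) (hS₀.basicOpen (t ξ)) hTt hξT hV
    (ht2 ξ hξΞ hξt V hV')

end Groth.Agent.Lib.Helper41.ValCenter
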