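import Groth.Agent.Lib.Helper41.ValCenterLocal

/-!
# Centres of valuation rings: spreading out from a point of the base
-/

set_option autoImplicit false
universe u

open CategoryTheory CategoryTheory.Limits AlgebraicGeometry IsLocalRing

namespace Groth.Agent.Lib.Helper41.ValCenter

variable {X S : Scheme.{u}}

theorem baseEval_eq_germ_specResMap (f : X ⟶ S) (S₀ : S.Opens) (ξ : X) (hξ : ξ ∈ f ⁻¹ᵁ S₀)
    (y : S) (hy : y ∈ S₀) (hsp : f.base ξ ⤳ y) :
    baseEval f S₀ ξ hξ =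
      S.presheaf.germ S₀ y hy ≫ Groth.Agent.Lib.Helper50.specResMap f ξ y hsp := by
  rw [Groth.Agent.Lib.Helper50.specResMap, ← Category.assoc, ← Category.assoc,
    TopCat.Presheaf.germ_stalkSpecializes, Scheme.Hom.germ_stalkMap, Category.assoc]
  rfl

theorem baseEval_res (f : X ⟶ S) {S₀ U : S.Opens} (hU : U ≤ S₀) (ξ : X) (hξ : ξ ∈ f ⁻¹ᵁ U) :
    S.presheaf.map (homOfLE hU).op ≫ baseEval f U ξ hξ = baseEval f S₀ ξ (hU hξ) := by
  rw [baseEval, baseEval, ← Category.assoc, Scheme.Hom.naturality, Category.assoc]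
  congr 1
  rw [Scheme.evaluation, Scheme.evaluation, ← Category.assoc, TopCat.Presheaf.germ_res]

/-- The value at `ξ` of a function on `S₀`, through the stalk of `X` at a specialization `x`. -/
theorem baseEval_eq_stalkMap (f : X ⟶ S) (S₀ : S.Opens) {ξ x : X} (hx : ξ ⤳ x)
    (hxS₀ : x ∈ f ⁻¹ᵁ S₀) :
    baseEval f S₀ ξ (hx.mem_open (f ⁻¹ᵁ S₀).2 hxS₀) =
      S.presheaf.germ S₀ (f.base x) hxS₀ ≫ f.stalkMap x ≫
        X.presheaf.stalkSpecializes hx ≫ X.residue ξ := by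
  rw [← Category.assoc, Scheme.Hom.germ_stalkMap, Category.assoc,
    ← Category.assoc (X.presheaf.germ _ _ _), TopCat.Presheaf.germ_stalkSpecializes]
  rfl


/-- Finitely many finite subsets of `κ(ξ)` testing whether a valuation ring over `S₀` has a centre
on `X` above `S₀`. -/
theorem exists_finite_test_sets (f : X ⟶ S) [LocallyOfFiniteType f] [QuasiCompact f]
    {S₀ : S.Opens} (hS₀ : IsAffineOpen S₀) (ξ : X) (hξ : ξ ∈ f ⁻¹ᵁ S₀) :
    ∃ (J : Type u) (_ : Finite J) (G : J → Finset (X.residueField ξ)),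
      (∀ V : ValuationSubring (X.residueField ξ), HasCenterIn (f ⁻¹ᵁ S₀) ξ V →
        ∃ j, ∀ g ∈ G j, g ∈ V) ∧
      (∀ V : ValuationSubring (X.residueField ξ), (∀ c, baseEval f S₀ ξ hξ c ∈ V) →
        (∃ j, ∀ g ∈ G j, g ∈ V) → HasCenterIn (f ⁻¹ᵁ S₀) ξ V) := by
  classical
  have hcpt : IsCompact ((f ⁻¹ᵁ S₀ : X.Opens) : Set X) :=
    QuasiCompact.isCompact_preimage (f := f) _ S₀.2 hS₀.isCompact
  obtain ⟨s, hs, hsU⟩ := isCompact_and_isOpen_iff_finite_and_eq_biUnion_affineOpens.mp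
    ⟨hcpt, (f ⁻¹ᵁ S₀).2⟩
  have hle : ∀ U ∈ s, (U : X.Opens) ≤ f ⁻¹ᵁ S₀ := by
    intro U hU x hx
    change x ∈ ((f ⁻¹ᵁ S₀ : X.Opens) : Set X)
    rw [hsU]
    exact Set.mem_biUnion hU hx
  let J : Type u := {U : X.affineOpens // U ∈ s ∧ ξ ∈ (U : X.Opens)}
  haveI : Finite ↥s := hs.to_subtype
  have hJ : Finite J := Finite.of_injective (fun j : J => (⟨j.1, j.2.1⟩ : ↥s))
    (fun a b hab => Subtype.ext (congrArg (fun t : ↥s => t.1) hab))
  have hgen : ∀ j : J, ∃ F : Finset Γ(X, j.1),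
      ∀ V : ValuationSubring (X.residueField ξ), (∀ c, baseEval f S₀ ξ hξ c ∈ V) →
        (∀ b ∈ F, X.evaluation j.1 ξ j.2.2 b ∈ V) → ∀ b, X.evaluation j.1 ξ j.2.2 b ∈ V := by
    intro j
    have hft := f.finiteType_appLE hS₀ j.1.2 (hle j.1 j.2.1)
    let _ := (f.appLE S₀ j.1 (hle j.1 j.2.1)).hom.toAlgebra
    obtain ⟨F, hF⟩ : (⊤ : Subalgebra Γ(S, S₀) Γ(X, j.1)).FG := hft.out
    refine ⟨F, fun V hV hFV b => ?_⟩
    have hb : b ∈ Algebra.adjoin Γ(S, S₀) (F : Set Γ(X, j.1)) := by rw [hF]; trivial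
    induction hb using Algebra.adjoin_induction with
    | mem a ha => exact hFV a ha
    | algebraMap r =>
      have h1 : X.evaluation j.1 ξ j.2.2 (algebraMap Γ(S, S₀) Γ(X, j.1) r) =
          baseEval f S₀ ξ hξ r := by
        rw [baseEval_eq_appLE f S₀ ξ hξ j.2.2 (hle j.1 j.2.1)]
        rfl
      rw [h1]
      exact hV r
    | add a b _ _ iha ihb => rw [map_add]; exact V.add_mem _ _ iha ihb
    | mul a b _ _ iha ihb => rw [map_mul]; exact V.mul_mem _ _ iha ihb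
  choose F hF using hgen
  refine ⟨J, hJ, fun j => (F j).image (X.evaluation j.1 ξ j.2.2), fun V hcen => ?_,
    fun V hV hex => ?_⟩
  · obtain ⟨x, hx, hxX₀, hxmem, -⟩ := hcen.exists_stalk
    have hxmem' : x ∈ ((f ⁻¹ᵁ S₀ : X.Opens) : Set X) := hxX₀
    rw [hsU] at hxmem'
    obtain ⟨U, hU, hxU⟩ := Set.mem_iUnion₂.mp hxmem'
    have hξU : ξ ∈ (U : X.Opens) := hx.mem_open (U : X.Opens).2 hxU
    refine ⟨⟨U, hU, hξU⟩, fun g hg => ?_⟩
    obtain ⟨b, -, rfl⟩ := Finset.mem_image.mp hg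
    have h2 : X.evaluation U ξ hξU =
        X.presheaf.germ U x hxU ≫ X.presheaf.stalkSpecializes hx ≫ X.residue ξ := by
      rw [← Category.assoc, TopCat.Presheaf.germ_stalkSpecializes]
      rfl
    change X.evaluation U ξ hξU b ∈ V
    rw [h2]
    exact hxmem _
  · obtain ⟨j, hj⟩ := hex
    refine hasCenterIn_of_evaluation_mem j.1.2 j.2.2 (hle j.1 j.2.1)
      (hF j V hV (fun b hb => hj _ (Finset.mem_image_of_mem _ hb)))


/-- If every valuation ring over `S₀` whose centre on `S₀` is the prime `𝔭` has a centre on `X`,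
then so does every valuation ring over the localization of `Γ(S, S₀)` at `𝔭`. -/
theorem hasCenterIn_of_localization (f : X ⟶ S) {S₀ : S.Opens} (ξ : X) (hξ : ξ ∈ f ⁻¹ᵁ S₀)
    (𝔭 : Ideal Γ(S, S₀)) [𝔭.IsPrime] (hρ : ∀ s, s ∉ 𝔭 → baseEval f S₀ ξ hξ s ≠ 0)
    (H12 : ∀ V : ValuationSubring (X.residueField ξ), (∀ c, baseEval f S₀ ξ hξ c ∈ V) →
      (∀ c, V.valuation (baseEval f S₀ ξ hξ c) < 1 ↔ c ∈ 𝔭) → HasCenterIn (f ⁻¹ᵁ S₀) ξ V)
    (V : ValuationSubring (X.residueField ξ)) (hV : ∀ c, baseEval f S₀ ξ hξ c ∈ V)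
    (hinv : ∀ s, s ∉ 𝔭 → (baseEval f S₀ ξ hξ s)⁻¹ ∈ V) : HasCenterIn (f ⁻¹ᵁ S₀) ξ V := by
  let ρ : Γ(S, S₀) →+* X.residueField ξ := (baseEval f S₀ ξ hξ).hom
  let ρV : Γ(S, S₀) →+* V := ρ.codRestrict V.toSubring hV
  have hunit : ∀ s : 𝔭.primeCompl, IsUnit (ρV s) := by
    intro s
    rw [isUnit_iff_exists_inv]
    exact ⟨⟨(ρ s)⁻¹, hinv s s.2⟩, Subtype.ext (mul_inv_cancel₀ (hρ s s.2))⟩
  let B := Localization.AtPrime 𝔭
  let lam : B →+* V := IsLocalization.lift (M := 𝔭.primeCompl) (g := ρV) hunit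
  have hlam : ∀ c, lam (algebraMap Γ(S, S₀) B c) = ρV c := fun c => IsLocalization.lift_eq _ _
  let μ : B →+* ResidueField V := (residue V).comp lam
  obtain ⟨W', hμW', hloc⟩ := IsLocalRing.exists_factor_valuationRing μ
  let V' := CompVal.comp V W'
  have hres : ∀ c, residue V ⟨ρ c, hV c⟩ = μ (algebraMap Γ(S, S₀) B c) := by
    intro c
    change _ = residue V (lam (algebraMap Γ(S, S₀) B c))
    rw [hlam]
    rfl
  have hV' : ∀ c, baseEval f S₀ ξ hξ c ∈ V' := by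
    intro c
    rw [CompVal.mem_comp_iff]
    refine ⟨hV c, ?_⟩
    have := hres c
    rw [this]
    exact hμW' _
  have hcenter : ∀ c, V'.valuation (baseEval f S₀ ξ hξ c) < 1 ↔ c ∈ 𝔭 := by
    intro c
    rw [ValSpread.valuation_comp_lt_one_iff V W' (hV c)]
    have h1 := hres c
    rw [h1, ← IsLocalization.AtPrime.to_map_mem_maximal_iff B 𝔭 c]
    let μ' : B →+* W' := μ.codRestrict W'.toSubring hμW'
    have h2 : W'.valuation (μ (algebraMap Γ(S, S₀) B c)) < 1 ↔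
        μ' (algebraMap Γ(S, S₀) B c) ∈ maximalIdeal W' :=
      (W'.valuation_lt_one_iff (μ' (algebraMap Γ(S, S₀) B c))).symm
    rw [h2, mem_maximalIdeal, mem_nonunits_iff, mem_maximalIdeal, mem_nonunits_iff]
    haveI : IsLocalHom μ' := hloc
    rw [isUnit_map_iff μ']
  exact (H12 V' hV' hcenter).mono (CompVal.comp_le V W')


/-- Spreading out: if all valuation rings over the localization at `𝔭` have centres on `X`, then
there is `t ∉ 𝔭` such that all valuation rings over `D(t)` have centres on `X` above `D(t)`. -/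
theorem exists_basicOpen_hasCenterIn (f : X ⟶ S) [LocallyOfFiniteType f] [QuasiCompact f]
    {S₀ : S.Opens} (hS₀ : IsAffineOpen S₀) (ξ : X) (hξ : ξ ∈ f ⁻¹ᵁ S₀)
    (𝔭 : Ideal Γ(S, S₀)) [𝔭.IsPrime] (hρ : ∀ s, s ∉ 𝔭 → baseEval f S₀ ξ hξ s ≠ 0)
    (H3 : ∀ V : ValuationSubring (X.residueField ξ), (∀ c, baseEval f S₀ ξ hξ c ∈ V) →
      (∀ s, s ∉ 𝔭 → (baseEval f S₀ ξ hξ s)⁻¹ ∈ V) → HasCenterIn (f ⁻¹ᵁ S₀) ξ V) :
    ∃ t : Γ(S, S₀), t ∉ 𝔭 ∧ ∀ (hξt : ξ ∈ f ⁻¹ᵁ (S.basicOpen t))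
      (V : ValuationSubring (X.residueField ξ)),
      (∀ c, baseEval f (S.basicOpen t) ξ hξt c ∈ V) →
        HasCenterIn (f ⁻¹ᵁ (S.basicOpen t)) ξ V := by
  obtain ⟨J, hJ, G, hG1, hG2⟩ := exists_finite_test_sets f hS₀ ξ hξ
  obtain ⟨t, ht, hF⟩ := ValSpread.exists_localization_of_forall (baseEval f S₀ ξ hξ).hom 𝔭 hρ G
    (fun V hV hinv => hG1 V (H3 V hV hinv))
  refine ⟨t, ht, fun hξt V hV => ?_⟩
  have hUS₀ : S.basicOpen t ≤ S₀ := S.basicOpen_le t
  have hres : ∀ c, baseEval f S₀ ξ hξ c =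
      baseEval f (S.basicOpen t) ξ hξt (S.presheaf.map (homOfLE hUS₀).op c) := fun c =>
    (congr($(baseEval_res f hUS₀ ξ hξt) c)).symm
  have hVC : ∀ c, baseEval f S₀ ξ hξ c ∈ V := by
    intro c
    rw [hres]
    exact hV _
  have hinvt : ((baseEval f S₀ ξ hξ).hom t)⁻¹ ∈ V := by
    have hunit : IsUnit (S.presheaf.map (homOfLE hUS₀).op t) :=
      S.toRingedSpace.isUnit_res_basicOpen t
    obtain ⟨u, hu⟩ := hunit.exists_right_inv
    have h1 : (baseEval f S₀ ξ hξ).hom t * (baseEval f (S.basicOpen t) ξ hξt).hom u = 1 := by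
      have := hres t
      rw [show (baseEval f S₀ ξ hξ).hom t = baseEval f S₀ ξ hξ t from rfl, this]
      change (baseEval f (S.basicOpen t) ξ hξt).hom _ * _ = 1
      rw [← map_mul]
      have h2 : S.presheaf.map (homOfLE hUS₀).op t * u = 1 := hu
      rw [h2, map_one]
    rw [inv_eq_of_mul_eq_one_right h1]
    exact hV u
  obtain ⟨j, hj⟩ := hF V hVC hinvt
  have hcen := hG2 V hVC ⟨j, hj⟩
  obtain ⟨x, hx, hxX₀, hxmem, hxlt⟩ := hcen.exists_stalk
  have hxU : x ∈ f ⁻¹ᵁ (S.basicOpen t) := by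
    change f.base x ∈ S.basicOpen t
    rw [Scheme.mem_basicOpen _ t (f.base x) hxX₀]
    by_contra hnu
    have h1 : S.presheaf.germ S₀ (f.base x) hxX₀ t ∈ maximalIdeal (S.presheaf.stalk (f.base x)) :=
      hnu
    have h2 : (f.stalkMap x).hom (S.presheaf.germ S₀ (f.base x) hxX₀ t) ∈
        maximalIdeal (X.presheaf.stalk x) := by
      rw [mem_maximalIdeal, mem_nonunits_iff] at h1 ⊢
      exact fun hu => h1 (isUnit_of_map_unit (f.stalkMap x).hom _ hu)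
    have h3 := hxlt _ h2
    have h4 : (X.presheaf.stalkSpecializes hx ≫ X.residue ξ)
        ((f.stalkMap x).hom (S.presheaf.germ S₀ (f.base x) hxX₀ t)) =
        (baseEval f S₀ ξ hξ).hom t := (congr($(baseEval_eq_stalkMap f S₀ hx hxX₀) t)).symm
    rw [h4] at h3
    have h5 : V.valuation ((baseEval f S₀ ξ hξ).hom t) *
        V.valuation (((baseEval f S₀ ξ hξ).hom t)⁻¹) = 1 := by
      rw [← map_mul, mul_inv_cancel₀ (hρ t ht), map_one]
    have h6 : V.valuation (((baseEval f S₀ ξ hξ).hom t)⁻¹) ≤ 1 :=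
      (V.valuation_le_one_iff _).mpr hinvt
    have h7 : V.valuation ((baseEval f S₀ ξ hξ).hom t) *
        V.valuation (((baseEval f S₀ ξ hξ).hom t)⁻¹) < 1 := by
      calc _ ≤ V.valuation ((baseEval f S₀ ξ hξ).hom t) * 1 := mul_le_mul_right h6 _
        _ = V.valuation ((baseEval f S₀ ξ hξ).hom t) := mul_one _
        _ < 1 := h3
    exact (ne_of_lt h7) h5
  exact hasCenterIn_of_stalk hx hxU hxmem hxlt

end Groth.Agent.Lib.Helper41.ValCenter
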