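import Groth.Agent.Lib.Helper41.ValCenterLocal

/-!
# The valuative criterion tested at generizations (all valuation rings, no Noetherian hypothesis)
-/

set_option autoImplicit false
universe u

open CategoryTheory CategoryTheory.Limits AlgebraicGeometry IsLocalRing

namespace Groth.Agent.Lib.Helper41.ValCenter

variable {X S : Scheme.{u}}

/-- The lifting property for all valuation rings of the residue field at `ξ`. -/
def ValLiftAt (f : X ⟶ S) (ξ : X) : Prop :=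
  ∀ V : ValuationSubring (X.residueField ξ),
    ∀ y : Spec (CommRingCat.of V) ⟶ S,
      Spec.map (CommRingCat.ofHom V.subtype) ≫ y = X.fromSpecResidueField ξ ≫ f →
      ∃ l : Spec (CommRingCat.of V) ⟶ X, l ≫ f = y ∧
        Spec.map (CommRingCat.ofHom V.subtype) ≫ l = X.fromSpecResidueField ξ

theorem ValLiftAt.hasCenterIn {f : X ⟶ S} {ξ : X} (H : ValLiftAt f ξ) {S₀ : S.Opens}
    (hS₀ : IsAffineOpen S₀) (hξ : ξ ∈ f ⁻¹ᵁ S₀) (V : ValuationSubring (X.residueField ξ))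
    (hV : ∀ c, baseEval f S₀ ξ hξ c ∈ V) : HasCenterIn (f ⁻¹ᵁ S₀) ξ V := by
  obtain ⟨y, hy, hyS₀⟩ := exists_structure_morphism f hS₀ ξ hξ V hV
  obtain ⟨l, hl₁, hl₂⟩ := H V y hy
  refine ⟨l, hl₂, ?_⟩
  change (l ≫ f).base (closedPoint V) ∈ S₀
  rw [hl₁]
  exact hyS₀ _

theorem valuativeCriterion_existence_of_valLiftAt (f : X ⟶ S) [IsSeparated f]
    (H : ∀ x₁ : X, ∃ ξ : X, ξ ⤳ x₁ ∧ ValLiftAt f ξ) : ValuativeCriterion.Existence f := by
  intro Sq
  obtain ⟨S₀, hS₀, hs₀, -⟩ := exists_isAffineOpen_mem_and_subset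
    (show Sq.i₂.base (closedPoint Sq.R) ∈ (⊤ : S.Opens) from trivial)
  refine hasLift_of_hasCenterIn f hS₀ (fun x₁ hx₁ => ?_) Sq hs₀
  obtain ⟨ξ, hsp, Hξ⟩ := H x₁
  exact ⟨ξ, hsp, fun V hV => Hξ.hasCenterIn hS₀ _ V hV⟩

theorem isProper_of_valLiftAt (f : X ⟶ S) [IsSeparated f] [LocallyOfFiniteType f]
    [QuasiCompact f] (H : ∀ x₁ : X, ∃ ξ : X, ξ ⤳ x₁ ∧ ValLiftAt f ξ) : IsProper f := by
  haveI : UniversallyClosed f :=
    UniversallyClosed.of_valuativeCriterion f (valuativeCriterion_existence_of_valLiftAt f H)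
  exact {}

end Groth.Agent.Lib.Helper41.ValCenter
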