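import Mathlib.RingTheory.Valuation.ValuationSubring
import Mathlib.RingTheory.DiscreteValuationRing.Basic

/-!
# Transport of valuation subrings along a field isomorphism
-/

set_option autoImplicit false

namespace Groth.Agent.Lib.Helper41.ValComap

variable {K L : Type*} [Field K] [Field L]

theorem valuation_comap_lt_one_iff (e : K →+* L) (A : ValuationSubring L) (z : K) :
    (A.comap e).valuation z < 1 ↔ A.valuation (e z) < 1 := by
  rw [← ValuationSubring.mem_nonunits_iff, ← ValuationSubring.mem_nonunits_iff,
    ValuationSubring.mem_nonunits_iff_or, ValuationSubring.mem_nonunits_iff_or,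
    ValuationSubring.mem_comap, map_inv₀, map_eq_zero]

/-- The ring isomorphism between the comap of a valuation subring along a bijective field
homomorphism and the valuation subring. -/
noncomputable def comapEquiv (e : K →+* L) (he : Function.Bijective e) (A : ValuationSubring L) :
    (A.comap e) ≃+* A :=
  RingEquiv.ofBijective ((e.comp (A.comap e).subtype).codRestrict A.toSubring (fun r => r.2))
    ⟨fun a b hab => Subtype.ext (he.1 (congrArg Subtype.val hab)), fun a => by
      obtain ⟨z, hz⟩ := he.2 a.1
      exact ⟨⟨z, by rw [ValuationSubring.mem_comap, hz]; exact a.2⟩, Subtype.ext hz⟩⟩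

theorem isDiscreteValuationRing_comap (e : K →+* L) (he : Function.Bijective e)
    (A : ValuationSubring L) [IsDiscreteValuationRing A] :
    IsDiscreteValuationRing (A.comap e) :=
  IsDiscreteValuationRing.RingEquivClass.isDiscreteValuationRing (comapEquiv e he A).symm

end Groth.Agent.Lib.Helper41.ValComap
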