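import Mathlib
import Groth.Agent.Lib.Helper41.HensCouple

/-!
# Flat proper generically finite schemes over a valuation ring have finite fibres (helper41)
-/

set_option autoImplicit false
universe u
open CategoryTheory CategoryTheory.Limits AlgebraicGeometry TopologicalSpace

namespace Groth.Agent.Lib.Helper41.ValFinFib

set_option maxHeartbeats 800000 in
/-- Over a valuation ring with algebraically closed fraction field, a flat proper scheme with finite
generic fibre has finite fibres. -/
theorem finite_fibres_of_algClosed {V Kb : Type u} [CommRing V] [IsDomain V] [ValuationRing V]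
    [Field Kb] [Algebra V Kb] [IsFractionRing V Kb] [IsAlgClosed Kb] {W : Scheme.{u}}
    (h : W ⟶ Spec (CommRingCat.of V)) [Flat h] [IsProper h]
    (hgen : IsFinite (pullback.snd h (Spec.map (CommRingCat.ofHom (algebraMap V Kb)))))
    (s : Spec (CommRingCat.of V)) : (h ⁻¹' {s}).Finite := by
  set ι := Spec.map (CommRingCat.ofHom (algebraMap V Kb)) with hι
  let G := pullback h ι
  let sn : G ⟶ Spec (.of Kb) := pullback.snd h ι
  let fs : G ⟶ W := pullback.fst h ι
  haveI : IsFinite sn := hgen
  let pt : Spec (CommRingCat.of Kb) := IsLocalRing.closedPoint Kb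
  have hpre : sn ⁻¹' {pt} = Set.univ := by
    ext ζ
    simp only [Set.mem_preimage, Set.mem_singleton_iff, Set.mem_univ, iff_true]
    exact Subsingleton.elim _ _
  have hfin : (Set.univ : Set G).Finite := by
    rw [← hpre]; exact sn.finite_preimage_singleton pt
  haveI : Finite G := Set.finite_univ_iff.mp hfin
  haveI : DiscreteTopology G := by
    rw [← isDiscrete_univ_iff, ← hpre]
    exact sn.isDiscrete_preimage_singleton pt
  have hcl : ∀ ζ : G, IsClosed ({ζ} : Set G) := fun ζ => isClosed_discrete _
  have hex : ValuativeCriterion.Existence h := by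
    have : UniversallyClosed h := inferInstance
    rw [UniversallyClosed.eq_valuativeCriterion] at this
    exact this.1
  have hsec : ∀ ζ : G, ∃ σ : Spec (.of V) ⟶ W, σ ≫ h = 𝟙 _ ∧
      ι ≫ σ = pointOfClosedPoint sn ζ (hcl ζ) ≫ fs := by
    intro ζ
    let S : ValuativeCommSq h :=
      { R := V, K := Kb, i₁ := pointOfClosedPoint sn ζ (hcl ζ) ≫ fs, i₂ := 𝟙 _,
        commSq := ⟨by
          rw [Category.assoc, Category.comp_id]
          change _ ≫ pullback.fst h ι ≫ h = _
          rw [pullback.condition, ← Category.assoc]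
          change (pointOfClosedPoint sn ζ (hcl ζ) ≫ sn) ≫ ι = _
          rw [pointOfClosedPoint_comp, Category.id_comp]⟩ }
    obtain ⟨⟨l⟩⟩ := hex S
    exact ⟨l.l, l.fac_right, l.fac_left⟩
  choose σ hσ1 hσ2 using hsec
  -- every point lies on a section
  have hcover : ∀ w : W, ∃ ζ : G, w ∈ Set.range (σ ζ) := by
    intro w
    have hgenz : (⟨⊥, Ideal.isPrime_bot⟩ : PrimeSpectrum V) ⤳ h w := by
      rw [← PrimeSpectrum.le_iff_specializes]
      exact bot_le
    obtain ⟨w', hw'w, hw'⟩ := (Flat.generalizingMap h) hgenz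
    have hιpt : ι pt = (⟨⊥, Ideal.isPrime_bot⟩ : PrimeSpectrum V) := by
      apply PrimeSpectrum.ext
      change Ideal.comap (algebraMap V Kb) _ = ⊥
      ext x
      simp only [Ideal.mem_comap, Ideal.mem_bot]
      constructor
      · intro hx
        have : algebraMap V Kb x = 0 := by
          have h0 : (IsLocalRing.closedPoint Kb).asIdeal = ⊥ := by
            rw [IsLocalRing.closedPoint]
            exact IsLocalRing.maximalIdeal_eq_bot
          rw [h0] at hx
          exact hx
        exact (IsFractionRing.injective V Kb) (by rw [this, map_zero])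
      · rintro rfl
        rw [map_zero]; exact Ideal.zero_mem _
    have hw'r : w' ∈ Set.range fs := by
      change w' ∈ Set.range (pullback.fst h ι)
      rw [Scheme.Pullback.range_fst]
      exact ⟨pt, by rw [hιpt]; exact hw'.symm⟩
    obtain ⟨ζ, rfl⟩ := hw'r
    refine ⟨ζ, ?_⟩
    haveI : IsClosedImmersion (σ ζ) :=
      HensCouple.isClosedImmersion_of_section h (σ ζ) (hσ1 ζ)
    have hmem : fs ζ ∈ Set.range (σ ζ) := by
      refine ⟨ι pt, ?_⟩
      rw [← Scheme.Hom.comp_apply, hσ2 ζ, Scheme.Hom.comp_apply, pointOfClosedPoint_apply]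
    exact hw'w.mem_closed (σ ζ).isClosedEmbedding.isClosed_range hmem
  refine (Set.finite_range (fun ζ : G => σ ζ s)).subset ?_
  intro w hw
  obtain ⟨ζ, t, rfl⟩ := hcover w
  refine ⟨ζ, ?_⟩
  have : h (σ ζ t) = s := hw
  rw [← Scheme.Hom.comp_apply, hσ1 ζ] at this
  have this' : t = s := this
  rw [this']

set_option maxHeartbeats 800000 in
/-- Fibres of a flat proper generically finite scheme over a valuation ring are finite. -/
theorem finite_fibre {R : Type u} [CommRing R] [IsDomain R] [ValuationRing R] {Y : Scheme.{u}}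
    (f : Y ⟶ Spec (CommRingCat.of R)) [Flat f] [IsProper f]
    (hgen : IsFinite (pullback.snd f
      (Spec.map (CommRingCat.ofHom (algebraMap R (FractionRing R))))))
    (p : Spec (CommRingCat.of R)) : (f ⁻¹' {p}).Finite := by
  let K := FractionRing R
  let Kb := AlgebraicClosure K
  let R' := Localization.AtPrime p.asIdeal
  let g₀ : R →+* Kb := (algebraMap K Kb).comp (algebraMap R K)
  have hg₀inj : Function.Injective g₀ :=
    (algebraMap K Kb).injective.comp (IsFractionRing.injective R K)
  have hg₀ : ∀ y : p.asIdeal.primeCompl, IsUnit (g₀ y) := by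
    intro y
    have hy : (y : R) ≠ 0 := fun h0 => y.2 (by rw [h0]; exact Ideal.zero_mem _)
    exact (isUnit_iff_ne_zero).mpr (fun h0 => hy (hg₀inj (by rw [h0, map_zero])))
  let φ : R' →+* Kb := IsLocalization.lift (M := p.asIdeal.primeCompl) hg₀
  have hφ : ∀ r : R, φ (algebraMap R R' r) = g₀ r := fun r => IsLocalization.lift_eq hg₀ r
  obtain ⟨A, hA, hloc⟩ := IsLocalRing.exists_factor_valuationRing φ
  let ψ' : R' →+* A := φ.codRestrict A.toSubring hA
  let ψ : R →+* A := ψ'.comp (algebraMap R R')
  have hψ : (algebraMap A Kb).comp ψ = g₀ := by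
    ext r
    exact hφ r
  let g : Spec (CommRingCat.of A) ⟶ Spec (CommRingCat.of R) := Spec.map (CommRingCat.ofHom ψ)
  let cp : Spec (CommRingCat.of A) := IsLocalRing.closedPoint A
  have hgcp : g cp = p := by
    apply PrimeSpectrum.ext
    change Ideal.comap ψ (IsLocalRing.maximalIdeal A) = p.asIdeal
    ext r
    rw [Ideal.mem_comap, IsLocalRing.mem_maximalIdeal, mem_nonunits_iff]
    have h1 : IsUnit (ψ r) ↔ IsUnit (algebraMap R R' r) :=
      ⟨fun hu => hloc.map_nonunit _ hu, fun hu => hu.map ψ'⟩
    rw [h1, IsLocalization.AtPrime.isUnit_to_map_iff R' p.asIdeal]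
    simp [Ideal.primeCompl]
  let ιK := Spec.map (CommRingCat.ofHom (algebraMap R K))
  let ιKb : Spec (CommRingCat.of Kb) ⟶ Spec (CommRingCat.of K) :=
    Spec.map (CommRingCat.ofHom (algebraMap K Kb))
  let ιA : Spec (CommRingCat.of Kb) ⟶ Spec (CommRingCat.of A) :=
    Spec.map (CommRingCat.ofHom (algebraMap A Kb))
  have hcomp : ιKb ≫ ιK = ιA ≫ g := by
    change Spec.map _ ≫ Spec.map _ = Spec.map _ ≫ Spec.map _
    rw [← Spec.map_comp, ← Spec.map_comp, ← CommRingCat.ofHom_comp, ← CommRingCat.ofHom_comp, hψ]
  let h := pullback.snd f g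
  haveI : IsFinite (pullback.snd f ιK) := hgen
  have hfin1 : IsFinite (pullback.snd f (ιKb ≫ ιK)) := by
    have e := pullbackLeftPullbackSndIso_inv_snd_snd f ιK ιKb
    rw [← e]
    infer_instance
  rw [hcomp] at hfin1
  have hfin2 : IsFinite (pullback.snd h ιA) := by
    have e := pullbackLeftPullbackSndIso_hom_snd f g ιA
    rw [← e]
    infer_instance
  have key := finite_fibres_of_algClosed (V := A) (Kb := Kb) h hfin2 cp
  refine (key.image (pullback.fst f g)).subset ?_
  intro y hy
  have hy' : f y = g cp := by rw [hgcp]; exact hy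
  obtain ⟨z, hz1, hz2⟩ := Scheme.Pullback.exists_preimage_pullback y cp hy'
  exact ⟨z, hz2, hz1⟩

/-- A flat proper generically finite scheme over a valuation ring is finite. -/
theorem isFinite_of_flat_proper {R : Type u} [CommRing R] [IsDomain R] [ValuationRing R]
    {Y : Scheme.{u}} (f : Y ⟶ Spec (CommRingCat.of R)) [Flat f] [IsProper f]
    (hgen : IsFinite (pullback.snd f
      (Spec.map (CommRingCat.ofHom (algebraMap R (FractionRing R)))))) : IsFinite f := by
  haveI : LocallyQuasiFinite f :=
    LocallyQuasiFinite.of_finite_preimage_singleton f (fun p => finite_fibre f hgen p)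
  exact IsFinite.of_isProper_of_locallyQuasiFinite f

end Groth.Agent.Lib.Helper41.ValFinFib
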